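import Mathlib
import Groth.Prelude.Def_AGF

set_option autoImplicit false
set_option linter.style.haveILetI false
set_option linter.unusedSectionVars false
universe u
open CategoryTheory MonoidalCategory CartesianMonoidalCategory MonObj AlgebraicGeometry Limits

namespace Groth.Agent.Lib.Helper81.GrpQuotDesc

variable {S : Scheme.{u}} {G X : Over S} [GrpObj G] (a : AlgGrp.Action G X)

theorem orbit_apply (o : 𝟙_ (Over S) ⟶ X) {T : Over S} (t : T ⟶ G) :
    t ≫ a.orbitMap o = lift t (toUnit T ≫ o) ≫ a.act := by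
  unfold AlgGrp.Action.orbitMap
  rw [← Category.assoc, comp_lift, Category.comp_id, ← Category.assoc, comp_toUnit]

theorem mul_act' {T : Over S} (g g' : T ⟶ G) (x : T ⟶ X) :
    lift (lift g g' ≫ μ[G]) x ≫ a.act = lift g (lift g' x ≫ a.act) ≫ a.act := by
  have e1 : lift (lift g g' ≫ μ[G]) x = lift (lift g g') x ≫ (μ[G] ▷ X) := by
    rw [lift_whiskerRight]
  have e2 : lift g (lift g' x ≫ a.act) = lift g (lift g' x) ≫ (G ◁ a.act) := by
    rw [lift_whiskerLeft]
  rw [e1, e2, Category.assoc, a.mul_act, ← Category.assoc, lift_lift_associator_hom,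
    Category.assoc]

theorem orbit_equivariant (o : 𝟙_ (Over S) ⟶ X) :
    (G ◁ a.orbitMap o) ≫ a.act = μ[G] ≫ a.orbitMap o := by
  have e1 : G ◁ a.orbitMap o = lift (fst G G) (snd G G ≫ a.orbitMap o) := by
    apply CartesianMonoidalCategory.hom_ext
    · rw [whiskerLeft_fst, lift_fst]
    · rw [whiskerLeft_snd, lift_snd]
  rw [e1, orbit_apply, ← mul_act', ← orbit_apply, lift_fst_snd, Category.id_comp]

theorem orbit_coset {H X' : Over S} [GrpObj H] (i : H ⟶ G) (a' : AlgGrp.Action G X')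
    (o' : 𝟙_ (Over S) ⟶ X')
    (ho' : ∀ (T : Over S) (h : T ⟶ H),
      lift (h ≫ i) (toUnit T ≫ o') ≫ a'.act = toUnit T ≫ o') :
    fst G H ≫ a'.orbitMap o' = ((G ◁ i) ≫ μ[G]) ≫ a'.orbitMap o' := by
  have e1 : G ◁ i = lift (fst G H) (snd G H ≫ i) := by
    apply CartesianMonoidalCategory.hom_ext
    · rw [whiskerLeft_fst, lift_fst]
    · rw [whiskerLeft_snd, lift_snd]
  rw [e1, orbit_apply, orbit_apply, mul_act', ho']

theorem exists_desc {G' X₁ X' K : Over S} (π : G' ⟶ X₁) [EffectiveEpi π.left]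
    (p₁ p₂ : K ⟶ G') (hk : IsPullback p₁ p₂ π π) (f' : G' ⟶ X') (hf' : p₁ ≫ f' = p₂ ≫ f') :
    ∃ f : X₁ ⟶ X', π ≫ f = f' := by
  have hk' : IsPullback p₁.left p₂.left π.left π.left := hk.map (Over.forget S)
  have hcond : ∀ {Z : Scheme.{u}} (g₁ g₂ : Z ⟶ G'.left), g₁ ≫ π.left = g₂ ≫ π.left →
      g₁ ≫ f'.left = g₂ ≫ f'.left := by
    intro Z g₁ g₂ h
    have h1 : hk'.lift g₁ g₂ h ≫ p₁.left = g₁ := hk'.lift_fst _ _ _
    have h2 : hk'.lift g₁ g₂ h ≫ p₂.left = g₂ := hk'.lift_snd _ _ _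
    have h3 : p₁.left ≫ f'.left = p₂.left ≫ f'.left := congrArg (fun φ => φ.left) hf'
    rw [← h1, Category.assoc, h3, ← Category.assoc, h2]
  have hu : π.left ≫ EffectiveEpi.desc π.left f'.left hcond = f'.left :=
    EffectiveEpi.fac π.left f'.left hcond
  haveI : Epi π.left := inferInstance
  refine ⟨Over.homMk (EffectiveEpi.desc π.left f'.left hcond) ?_, ?_⟩
  · rw [← cancel_epi π.left, ← Category.assoc, hu, Over.w, Over.w]
  · ext
    exact hu

theorem epi_whiskerLeft {A B : Over S} (G' : Over S) (π : A ⟶ B) [Flat π.left]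
    [Surjective π.left] : Epi (G' ◁ π) := by
  have hw : π.left ≫ B.hom = A.hom := Over.w π
  have t : IsPullback (pullback.fst G'.hom B.hom) (pullback.snd G'.hom B.hom) G'.hom B.hom :=
    IsPullback.of_hasPullback _ _
  have big : IsPullback ((G' ◁ π).left ≫ pullback.fst G'.hom B.hom) (pullback.snd G'.hom A.hom)
      G'.hom (π.left ≫ B.hom) := by
    rw [Over.whiskerLeft_left_fst, hw]
    exact IsPullback.of_hasPullback _ _
  have sq : IsPullback (G' ◁ π).left (pullback.snd G'.hom A.hom) (pullback.snd G'.hom B.hom)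
      π.left := IsPullback.of_right big (Over.whiskerLeft_left_snd π) t
  haveI : Flat (G' ◁ π).left := MorphismProperty.of_isPullback sq.flip inferInstance
  haveI : Surjective (G' ◁ π).left := MorphismProperty.of_isPullback sq.flip inferInstance
  haveI : Epi (G' ◁ π).left := Flat.epi_of_flat_of_surjective _
  exact (Over.forget S).epi_of_epi_map (by exact this)

theorem main {H X' : Over S} [GrpObj H] (i : H ⟶ G) (o : 𝟙_ (Over S) ⟶ X)
    (hX : AGF.IsQuotient i X a o) (hqc : QuasiCompact (a.orbitMap o).left)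
    (a' : AlgGrp.Action G X') (o' : 𝟙_ (Over S) ⟶ X')
    (ho' : ∀ (T : Over S) (h : T ⟶ H),
      lift (h ≫ i) (toUnit T ≫ o') ≫ a'.act = toUnit T ≫ o') :
    ∃! f : X ⟶ X', (G ◁ f) ≫ a'.act = a.act ≫ f ∧ a.orbitMap o ≫ f = a'.orbitMap o' := by
  obtain ⟨-, hflat, hsurj, hk⟩ := hX
  haveI := hflat
  haveI := hsurj
  haveI := hqc
  haveI : EffectiveEpi (a.orbitMap o).left := inferInstance
  obtain ⟨f, hf⟩ := exists_desc (a.orbitMap o) (fst G H) ((G ◁ i) ≫ μ[G]) hk (a'.orbitMap o')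
    (orbit_coset i a' o' ho')
  haveI : Epi (a.orbitMap o) :=
    (Over.forget S).epi_of_epi_map (inferInstance : Epi (a.orbitMap o).left)
  refine ⟨f, ⟨?_, hf⟩, fun f₂ hf₂ => ?_⟩
  · haveI := epi_whiskerLeft G (a.orbitMap o)
    rw [← cancel_epi (G ◁ a.orbitMap o), ← Category.assoc, ← MonoidalCategory.whiskerLeft_comp, hf,
      orbit_equivariant, ← Category.assoc, orbit_equivariant, Category.assoc, hf]
  · rw [← cancel_epi (a.orbitMap o), hf₂.2, hf]

end Groth.Agent.Lib.Helper81.GrpQuotDesc
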