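import Mathlib
import Groth.Prelude.Def_AlgGrp
import Groth.Agent.Lib.Helper72.SepPoint
import Groth.Agent.Lib.Helper30.SmoothReduced
import Groth.Agent.Lib.Helper62.GrpSeparated
import Groth.Agent.Lib.Helper72.GrpdSep

set_option autoImplicit false
set_option linter.style.haveILetI false
set_option linter.unusedSectionVars false
universe u
open CategoryTheory MonoidalCategory CartesianMonoidalCategory MonObj AlgebraicGeometry Limits

namespace Groth.Agent.Lib.Helper81.KPointsDense

theorem isIso_of_kpoints (k K : Type u) [Field k] [Field K] [Algebra k K] [IsSepClosed K]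
    {W E : Scheme.{u}} (w : W ⟶ Spec (CommRingCat.of k)) [Smooth w] (j : E ⟶ W)
    [IsClosedImmersion j]
    (h : ∀ p : Spec (CommRingCat.of K) ⟶ W,
      p ≫ w = Spec.map (CommRingCat.ofHom (algebraMap k K)) →
      ∃ p' : Spec (CommRingCat.of K) ⟶ E, p' ≫ j = p) : IsIso j := by
  haveI : IsReduced W := Groth.Agent.Lib.Helper30.SmoothReduced.isReduced_of_smooth_scheme w
  haveI : Surjective j := by
    refine ⟨fun x => ?_⟩
    by_contra hx
    let O : W.Opens := ⟨(Set.range j.base)ᶜ, j.isClosedEmbedding.isClosed_range.isOpen_compl⟩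
    have hxO : x ∈ O := hx
    haveI : Smooth (O.ι ≫ w) := inferInstance
    let φ := Spec.map (CommRingCat.ofHom (algebraMap k K))
    haveI : Subsingleton (Spec (CommRingCat.of k)) :=
      inferInstanceAs (Subsingleton (PrimeSpectrum k))
    have pt : Spec (CommRingCat.of K) := (inferInstance : Nonempty (PrimeSpectrum K)).some
    obtain ⟨z, -, -⟩ := Scheme.Pullback.exists_preimage_pullback (f := O.ι ≫ w) (g := φ)
      (⟨x, hxO⟩ : O.toScheme) pt (Subsingleton.elim _ _)
    haveI : Nonempty ↥(pullback (O.ι ≫ w) φ) := ⟨z⟩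
    haveI : Smooth (pullback.snd (O.ι ≫ w) φ) := inferInstance
    obtain ⟨s, hs⟩ := Groth.Agent.Lib.Helper72.SepPoint.exists_section_of_smooth
      (pullback.snd (O.ι ≫ w) φ)
    have hp : (s ≫ pullback.fst (O.ι ≫ w) φ ≫ O.ι) ≫ w = φ := by
      rw [Category.assoc, Category.assoc, pullback.condition, ← Category.assoc, hs,
        Category.id_comp]
    obtain ⟨p', hp'⟩ := h _ hp
    have h1 : (s ≫ pullback.fst (O.ι ≫ w) φ ≫ O.ι).base pt ∈ Set.range j.base := by
      rw [← hp']
      exact ⟨p'.base pt, rfl⟩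
    have h2 : (s ≫ pullback.fst (O.ι ≫ w) φ ≫ O.ι).base pt ∈ O :=
      ((s ≫ pullback.fst (O.ι ≫ w) φ).base pt).2
    exact h2 h1
  exact isIso_of_isClosedImmersion_of_surjective j

noncomputable abbrev SpK (k K : Type u) [Field k] [Field K] [Algebra k K] : Over (Spec (CommRingCat.of k)) :=
  Over.mk (Spec.map (CommRingCat.ofHom (algebraMap k K)))

theorem isIso_over_of_kpoints (k K : Type u) [Field k] [Field K] [Algebra k K] [IsSepClosed K]
    {W E : Over (Spec (CommRingCat.of k))} [Smooth W.hom] (c : E ⟶ W) [IsClosedImmersion c.left]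
    (h : ∀ p : SpK k K ⟶ W, ∃ p' : SpK k K ⟶ E, p' ≫ c = p) : IsIso c := by
  haveI : IsIso ((Over.forget (Spec (CommRingCat.of k))).map c) := by
    change IsIso c.left
    apply isIso_of_kpoints k K W.hom c.left
    intro p hp
    obtain ⟨p', hp'⟩ := h (Over.homMk p hp)
    exact ⟨p'.left, congrArg (fun φ => φ.left) hp'⟩
  exact isIso_of_reflects_iso c (Over.forget _)

theorem isSeparated_grp (k : Type u) [Field k] (G : Over (Spec (CommRingCat.of k))) [GrpObj G] :
    IsSeparated G.hom := by
  apply Groth.Agent.Lib.Helper62.isSeparated_of_isClosedImmersion_unit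
  haveI : Subsingleton ↥(𝟙_ (Over (Spec (CommRingCat.of k)))).left :=
    inferInstanceAs (Subsingleton (PrimeSpectrum k))
  haveI : IsAffine (𝟙_ (Over (Spec (CommRingCat.of k)))).left :=
    inferInstanceAs (IsAffine (Spec (CommRingCat.of k)))
  exact Groth.Agent.Lib.Helper72.GrpdPts.isClosedImmersion_of_section (η[G]).left G.hom
    (Over.w η[G])

end Groth.Agent.Lib.Helper81.KPointsDense
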