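import Mathlib

set_option autoImplicit false
set_option linter.style.haveILetI false
universe u
open CategoryTheory CategoryTheory.Limits AlgebraicGeometry TopologicalSpace

namespace Groth.Agent.Lib.Helper81.LocalIsoInj

variable {X Y : Scheme.{u}} (f : X ⟶ Y)

theorem exists_mem {ι : Type*} (U : ι → X.Opens) (hU : ⨆ i, U i = ⊤) (x : X) : ∃ i, x ∈ U i := by
  have : x ∈ (⨆ i, U i : X.Opens) := by rw [hU]; trivial
  exact Opens.mem_iSup.mp this

theorem isOpenImmersion_of_injective {ι : Type*} (U : ι → X.Opens) (hU : ⨆ i, U i = ⊤)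
    (h : ∀ i, IsOpenImmersion ((U i).ι ≫ f)) (hinj : Function.Injective f.base) :
    IsOpenImmersion f := by
  have hcov := exists_mem U hU
  have hopen : IsOpenMap f.base := by
    intro s hs
    have e : f.base '' s = ⋃ i, ((U i).ι ≫ f).base '' ((U i).ι.base ⁻¹' s) := by
      ext y
      constructor
      · rintro ⟨x, hx, rfl⟩
        obtain ⟨i, hi⟩ := hcov x
        exact Set.mem_iUnion.mpr ⟨i, ⟨⟨x, hi⟩, hx, rfl⟩⟩
      · intro hy
        obtain ⟨i, x', hx', rfl⟩ := Set.mem_iUnion.mp hy
        exact ⟨(U i).ι.base x', hx', rfl⟩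
    rw [e]
    exact isOpen_iUnion fun i => (h i).base_open.isOpenMap _ (hs.preimage (U i).ι.continuous)
  have hemb : Topology.IsOpenEmbedding f.base :=
    Topology.IsOpenEmbedding.of_continuous_injective_isOpenMap f.continuous hinj hopen
  have key : ∀ (i : ι) (x' : (U i).toScheme), IsIso (f.stalkMap ((U i).ι.base x')) := by
    intro i x'
    haveI := h i
    have e := Scheme.Hom.stalkMap_comp (U i).ι f x'
    have h1 : IsIso (((U i).ι ≫ f).stalkMap x') := inferInstance
    rw [e] at h1
    exact @IsIso.of_isIso_comp_right _ _ _ _ _ (f.stalkMap ((U i).ι.base x'))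
      ((U i).ι.stalkMap x') inferInstance h1
  haveI : ∀ x, IsIso (f.stalkMap x) := by
    intro x
    obtain ⟨i, hi⟩ := hcov x
    exact key i ⟨x, hi⟩
  exact IsOpenImmersion.of_isIso_stalkMap f hemb

theorem injective_of_separated [IsSeparated f] {ι : Type*} (U : ι → X.Opens)
    (hU : ⨆ i, U i = ⊤) (hd : ∀ i, Dense (U i : Set X))
    (h : ∀ i, IsOpenImmersion ((U i).ι ≫ f)) : Function.Injective f.base := by
  have hcov := exists_mem U hU
  intro x x' hxx'
  obtain ⟨i, hi⟩ := hcov x
  obtain ⟨j, hj⟩ := hcov x'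
  haveI := h i
  haveI := h j
  let W : Y.Opens := ((U i).ι ≫ f).opensRange ⊓ ((U j).ι ≫ f).opensRange
  have hWi : Set.range W.ι.base ⊆ Set.range ((U i).ι ≫ f).base := by
    rw [Scheme.Opens.range_ι]
    exact fun y hy => hy.1
  have hWj : Set.range W.ι.base ⊆ Set.range ((U j).ι ≫ f).base := by
    rw [Scheme.Opens.range_ι]
    exact fun y hy => hy.2
  let a' : W.toScheme ⟶ (U i).toScheme := IsOpenImmersion.lift ((U i).ι ≫ f) W.ι hWi
  have ha' : a' ≫ (U i).ι ≫ f = W.ι := IsOpenImmersion.lift_fac _ _ _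
  let b' : W.toScheme ⟶ (U j).toScheme := IsOpenImmersion.lift ((U j).ι ≫ f) W.ι hWj
  have hb' : b' ≫ (U j).ι ≫ f = W.ι := IsOpenImmersion.lift_fac _ _ _
  haveI : IsOpenImmersion (a' ≫ (U i).ι ≫ f) := by rw [ha']; infer_instance
  haveI : IsOpenImmersion a' := IsOpenImmersion.of_comp a' ((U i).ι ≫ f)
  let a : W.toScheme ⟶ X := a' ≫ (U i).ι
  let b : W.toScheme ⟶ X := b' ≫ (U j).ι
  have haf : a ≫ f = W.ι := by rw [Category.assoc]; exact ha'
  have hbf : b ≫ f = W.ι := by rw [Category.assoc]; exact hb'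
  let ab : W.toScheme ⟶ pullback f f := pullback.lift a b (haf.trans hbf.symm)
  have hΔ : IsClosed (Set.range (pullback.diagonal f).base) :=
    (pullback.diagonal f).isClosedEmbedding.isClosed_range
  let E : Set W.toScheme := ab.base ⁻¹' Set.range (pullback.diagonal f).base
  have hE : IsClosed E := hΔ.preimage ab.continuous
  let D : W.toScheme.Opens := a ⁻¹ᵁ (U j)
  have hDdense : Dense (D : Set W.toScheme) := (hd j).preimage a.isOpenEmbedding.isOpenMap
  have hDE : (D : Set W.toScheme) ⊆ E := by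
    intro w hw
    have hr : Set.range (D.ι ≫ a).base ⊆ Set.range (U j).ι.base := by
      rintro _ ⟨d, rfl⟩
      rw [Scheme.Opens.range_ι]
      exact d.2
    let a'' : D.toScheme ⟶ (U j).toScheme := IsOpenImmersion.lift (U j).ι (D.ι ≫ a) hr
    have ha'' : a'' ≫ (U j).ι = D.ι ≫ a := IsOpenImmersion.lift_fac _ _ _
    have e1 : a'' = D.ι ≫ b' := by
      rw [← cancel_mono ((U j).ι ≫ f), ← Category.assoc, ha'', Category.assoc, haf,
        Category.assoc, hb']
    have key : D.ι ≫ a = D.ι ≫ b := by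
      rw [← ha'', e1, Category.assoc]
    have e2 : D.ι ≫ ab = (D.ι ≫ a) ≫ pullback.diagonal f := by
      apply pullback.hom_ext
      · simp only [ab, Category.assoc, pullback.lift_fst, pullback.diagonal_fst, Category.comp_id]
      · simp only [ab, Category.assoc, pullback.lift_snd, pullback.diagonal_snd, Category.comp_id]
        exact key.symm
    refine ⟨(D.ι ≫ a).base ⟨w, hw⟩, ?_⟩
    rw [← Scheme.Hom.comp_apply, ← e2]
    rfl
  have hEall : ∀ w : W.toScheme, w ∈ E := by
    intro w
    have h1 : Dense E := hDdense.mono hDE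
    have h2 := h1.closure_eq
    rw [hE.closure_eq] at h2
    rw [h2]
    trivial
  have hy : f.base x ∈ W := ⟨⟨⟨x, hi⟩, rfl⟩, ⟨⟨x', hj⟩, hxx'.symm⟩⟩
  let w : W.toScheme := ⟨f.base x, hy⟩
  have haw : a.base w = x := by
    have h1 : ((U i).ι ≫ f).base (a'.base w) = ((U i).ι ≫ f).base ⟨x, hi⟩ := by
      have := congrArg (fun φ => φ.base w) ha'
      simp only [Scheme.Hom.comp_apply] at this ⊢
      exact this
    have h2 := ((U i).ι ≫ f).isOpenEmbedding.injective h1
    show (U i).ι.base (a'.base w) = x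
    rw [h2]
    rfl
  have hbw : b.base w = x' := by
    have h1 : ((U j).ι ≫ f).base (b'.base w) = ((U j).ι ≫ f).base ⟨x', hj⟩ := by
      have := congrArg (fun φ => φ.base w) hb'
      simp only [Scheme.Hom.comp_apply] at this ⊢
      exact this.trans hxx'
    have h2 := ((U j).ι ≫ f).isOpenEmbedding.injective h1
    show (U j).ι.base (b'.base w) = x'
    rw [h2]
    rfl
  obtain ⟨z, hz⟩ := hEall w
  have h1 : a.base w = z := by
    have := congrArg (pullback.fst f f).base hz
    rw [← Scheme.Hom.comp_apply, ← Scheme.Hom.comp_apply, pullback.diagonal_fst,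
      pullback.lift_fst] at this
    exact this.symm
  have h2 : b.base w = z := by
    have := congrArg (pullback.snd f f).base hz
    rw [← Scheme.Hom.comp_apply, ← Scheme.Hom.comp_apply, pullback.diagonal_snd,
      pullback.lift_snd] at this
    exact this.symm
  rw [← haw, ← hbw, h1, h2]

theorem isOpenImmersion_of_dense [IsSeparated f] {ι : Type*} (U : ι → X.Opens)
    (hU : ⨆ i, U i = ⊤) (hd : ∀ i, Dense (U i : Set X))
    (h : ∀ i, IsOpenImmersion ((U i).ι ≫ f)) : IsOpenImmersion f :=
  isOpenImmersion_of_injective f U hU h (injective_of_separated f U hU hd h)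

end Groth.Agent.Lib.Helper81.LocalIsoInj
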