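import Mathlib
import Groth.Agent.Lib.Helper96.GeomQuot

/-! Closed orbits in orbit closures for actions of affine algebraic groups over an algebraically
closed field, in the Hopf-algebra / rational-point language of `GLin`. -/

set_option autoImplicit false
set_option linter.style.haveILetI false

open TensorProduct WithConv
universe u
namespace Groth.Agent.Lib.Helper81

namespace ClosedOrbit

section Common
variable {k : Type u} [Field k] [IsAlgClosed k]
  {R A₁ A₂ : Type u} [CommRing R] [CommRing A₁] [CommRing A₂]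
  [Algebra k R] [Algebra k A₁] [Algebra k A₂]
  [Algebra.FiniteType k A₁] [Algebra.FiniteType k A₂]

/-- two primes over the same prime give a pair of rational points over the same point -/
theorem exists_common_point (φ₁ : R →ₐ[k] A₁) (φ₂ : R →ₐ[k] A₂)
    (q₁ : Ideal A₁) (q₂ : Ideal A₂) [q₁.IsPrime] [q₂.IsPrime]
    (h : q₁.comap φ₁ = q₂.comap φ₂) :
    ∃ (g₁ : A₁ →ₐ[k] k) (g₂ : A₂ →ₐ[k] k), g₁.comp φ₁ = g₂.comp φ₂ := by
  letI alg₁ : Algebra R A₁ := φ₁.toRingHom.toAlgebra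
  letI alg₂ : Algebra R A₂ := φ₂.toRingHom.toAlgebra
  haveI : IsScalarTower k R A₁ := IsScalarTower.of_algebraMap_eq' φ₁.comp_algebraMap.symm
  haveI : IsScalarTower k R A₂ := IsScalarTower.of_algebraMap_eq' φ₂.comp_algebraMap.symm
  let p : Ideal R := q₁.comap φ₁
  haveI hp : p.IsPrime := Ideal.comap_isPrime φ₁ q₁
  haveI : q₁.LiesOver p := ⟨rfl⟩
  haveI : q₂.LiesOver p := ⟨h⟩
  let T := (A₁ ⧸ q₁) ⊗[R ⧸ p] (A₂ ⧸ q₂)
  haveI : Nontrivial T :=
    Algebra.TensorProduct.nontrivial_of_algebraMap_injective_of_isDomain (R ⧸ p) (A₁ ⧸ q₁) (A₂ ⧸ q₂)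
      (FaithfulSMul.algebraMap_injective _ _) (FaithfulSMul.algebraMap_injective _ _)
  haveI : Algebra.FiniteType k (A₁ ⧸ q₁) :=
    Algebra.FiniteType.of_surjective (Ideal.Quotient.mkₐ k q₁) (Ideal.Quotient.mkₐ_surjective k q₁)
  haveI : Algebra.FiniteType k (A₂ ⧸ q₂) :=
    Algebra.FiniteType.of_surjective (Ideal.Quotient.mkₐ k q₂) (Ideal.Quotient.mkₐ_surjective k q₂)
  haveI : Algebra.FiniteType (R ⧸ p) (A₂ ⧸ q₂) :=
    Algebra.FiniteType.of_restrictScalars_finiteType k (R ⧸ p) (A₂ ⧸ q₂)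
  haveI : Algebra.FiniteType (A₁ ⧸ q₁) T := inferInstance
  haveI : Algebra.FiniteType k T :=
    Algebra.FiniteType.trans (R := k) (S := A₁ ⧸ q₁) (A := T) inferInstance inferInstance
  obtain ⟨w, -⟩ := Lib.Helper96.OrbitSep.exists_algHom_of_ne_top (k := k) (⊥ : Ideal T) bot_ne_top
  let i₁ : A₁ →ₐ[k] T :=
    (Algebra.TensorProduct.includeLeft (S := k)).comp (Ideal.Quotient.mkₐ k q₁)
  let i₂ : A₂ →ₐ[k] T :=
    ((Algebra.TensorProduct.includeRight (R := R ⧸ p) (A := A₁ ⧸ q₁) (B := A₂ ⧸ q₂)).restrictScalars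
      k).comp (Ideal.Quotient.mkₐ k q₂)
  refine ⟨w.comp i₁, w.comp i₂, ?_⟩
  apply AlgHom.ext
  intro r
  simp only [AlgHom.comp_apply]
  congr 1
  show (Ideal.Quotient.mk q₁ (φ₁ r)) ⊗ₜ[R ⧸ p] (1 : A₂ ⧸ q₂) =
    (1 : A₁ ⧸ q₁) ⊗ₜ[R ⧸ p] (Ideal.Quotient.mk q₂ (φ₂ r))
  have e1 : Ideal.Quotient.mk q₁ (φ₁ r) = (Ideal.Quotient.mk p r) • (1 : A₁ ⧸ q₁) := by
    rw [Algebra.smul_def, mul_one]
    rfl
  have e2 : Ideal.Quotient.mk q₂ (φ₂ r) = (Ideal.Quotient.mk p r) • (1 : A₂ ⧸ q₂) := by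
    rw [Algebra.smul_def, mul_one]
    rfl
  rw [e1, e2, TensorProduct.smul_tmul]

end Common

section Orbit
variable {k : Type u} [Field k] {A : Type u} [CommRing A] [HopfAlgebra k A]
variable {R : Type u} [CommRing R] [Algebra k R]
  [c : HopfRep.Comod k A R] [GLin.IsCoactAlg k A R]

variable (A) in
/-- the ideal of the (scheme-theoretic) orbit closure of a rational point -/
noncomputable def K (x : R →ₐ[k] k) : Ideal R := RingHom.ker (GLin.orbitHom k A x)

theorem mem_K_iff (x : R →ₐ[k] k) (f : R) :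
    f ∈ K A x ↔ Lib.Helper96.OrbitSep.orbMap c x f = 0 := by
  unfold K
  rw [RingHom.mem_ker, Lib.Helper96.GeomQuot.orbitHom_apply]

theorem K_le_ker (x : R →ₐ[k] k) : K A x ≤ RingHom.ker x := by
  intro f hf
  rw [mem_K_iff] at hf
  rw [RingHom.mem_ker, ← Lib.Helper96.OrbitSep.counit_orbMap c x, hf, map_zero]

theorem K_le_ker_actPt (g : A →ₐ[k] k) (x : R →ₐ[k] k) :
    K A x ≤ RingHom.ker (GLin.actPt k g x) := by
  intro f hf
  rw [mem_K_iff] at hf
  rw [RingHom.mem_ker, Lib.Helper96.GeomQuot.actPt_apply, hf, map_zero]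

theorem dual_orbMap (z : R →ₐ[k] k) (φ : Module.Dual k A) (y : R ⊗[k] A) :
    φ (TensorProduct.lid k A (z.toLinearMap.rTensor A y)) =
      z (Lib.Helper96.slice R φ y) := by
  induction y using TensorProduct.induction_on with
  | zero => simp
  | add a b ha hb => simp only [map_add, ha, hb]
  | tmul r a => simp [mul_comm]

/-- orbit closures are stable: a point of the orbit closure of `y` has its orbit closure inside -/
theorem K_mono {y z : R →ₐ[k] k} (h : K A y ≤ RingHom.ker z) : K A y ≤ K A z := by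
  intro f hf
  rw [mem_K_iff] at hf ⊢
  rw [← Module.forall_dual_apply_eq_zero_iff k]
  intro φ
  rw [Lib.Helper96.OrbitSep.orbMap_apply, dual_orbMap]
  have hsub := Lib.Helper96.OrbitSep.isSub_ker_orbMap c y
  rw [Lib.Helper96.isSub_iff_slice] at hsub
  have h1 := hsub f (LinearMap.mem_ker.mpr hf) φ
  have h2 : Lib.Helper96.slice R φ (c.coact f) ∈ K A y := by
    rw [mem_K_iff]
    exact LinearMap.mem_ker.mp h1
  exact (RingHom.mem_ker).mp (h h2)

theorem actPt_inv (g : A →ₐ[k] k) (x : R →ₐ[k] k) :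
    GLin.actPt k (g.comp (HopfAlgebra.antipodeAlgHom k A)) (GLin.actPt k g x) = x := by
  rw [Lib.Helper96.GeomQuot.actPt_actPt, Lib.Helper96.NormalInv.mul_inv,
    Lib.Helper96.GeomQuot.actPt_one]

theorem K_actPt (g : A →ₐ[k] k) (x : R →ₐ[k] k) : K A (GLin.actPt k g x) = K A x := by
  apply le_antisymm
  · have h := K_mono (K_le_ker_actPt (g.comp (HopfAlgebra.antipodeAlgHom k A)) (GLin.actPt k g x))
    rwa [actPt_inv] at h
  · exact K_mono (K_le_ker_actPt g x)

theorem K_ne_top (x : R →ₐ[k] k) : K A x ≠ ⊤ := by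
  intro h
  have h1 : (1 : R) ∈ RingHom.ker x := K_le_ker x (h ▸ Submodule.mem_top)
  rw [RingHom.mem_ker, map_one] at h1
  exact one_ne_zero h1

variable [IsAlgClosed k] [Algebra.FiniteType k A]

/-- two rational points with the same orbit closure are in the same orbit -/
theorem exists_actPt_of_K_eq {y z : R →ₐ[k] k} (h : K A y = K A z) :
    ∃ g : A →ₐ[k] k, z = GLin.actPt k g y := by
  obtain ⟨⟨p, hp⟩⟩ := Ideal.nonempty_minimalPrimes (K_ne_top (A := A) y)
  obtain ⟨q₁, hq₁, -, e₁⟩ :=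
    Ideal.exists_comap_eq_of_mem_minimalPrimes (I := ⊥) (GLin.orbitHom k A y).toRingHom p hp
  have hp' : p ∈ (K A z).minimalPrimes := h ▸ hp
  obtain ⟨q₂, hq₂, -, e₂⟩ :=
    Ideal.exists_comap_eq_of_mem_minimalPrimes (I := ⊥) (GLin.orbitHom k A z).toRingHom p hp'
  obtain ⟨g₁, g₂, hg⟩ := exists_common_point (GLin.orbitHom k A y) (GLin.orbitHom k A z) q₁ q₂
    (e₁.trans e₂.symm)
  have hg' : GLin.actPt k g₁ y = GLin.actPt k g₂ z := hg
  refine ⟨ofConv (toConv g₁ * toConv (g₂.comp (HopfAlgebra.antipodeAlgHom k A))), ?_⟩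
  rw [← Lib.Helper96.GeomQuot.actPt_actPt, hg', actPt_inv]

variable [Algebra.FiniteType k R]

/-- every orbit closure contains a closed orbit -/
theorem exists_closed_orbit (x : R →ₐ[k] k) :
    ∃ y : R →ₐ[k] k, K A x ≤ RingHom.ker y ∧
      ∀ z : R →ₐ[k] k, K A y ≤ RingHom.ker z → ∃ g : A →ₐ[k] k, z = GLin.actPt k g y := by
  haveI : IsNoetherianRing R := Algebra.FiniteType.isNoetherianRing k R
  let S : Set (Ideal R) := {I | ∃ y' : R →ₐ[k] k, K A x ≤ RingHom.ker y' ∧ I = K A y'}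
  have hS : S.Nonempty := ⟨K A x, x, K_le_ker x, rfl⟩
  obtain ⟨I, ⟨y, hy, rfl⟩, hmax⟩ := (wellFounded_gt (α := Ideal R)).has_min S hS
  refine ⟨y, hy, ?_⟩
  intro z hz
  have h1 : K A y ≤ K A z := K_mono hz
  have h2 : K A z ∈ S := ⟨z, ((K_mono hy).trans h1).trans (K_le_ker z), rfl⟩
  have h3 : K A y = K A z := eq_of_le_of_not_lt h1 (hmax _ h2)
  exact exists_actPt_of_K_eq h3

/-- the closure condition in terms of the action on functions -/
theorem forall_act_iff (y z : R →ₐ[k] k) :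
    (∀ f : R, (∀ g : A →ₐ[k] k, y (HopfRep.Comod.act k A R g f) = 0) → z f = 0) ↔
      K A y ≤ RingHom.ker z := by
  constructor
  · intro h f hf
    rw [mem_K_iff] at hf
    rw [RingHom.mem_ker]
    apply h
    intro g
    rw [Lib.Helper96.OrbitSep.eval_act, hf, map_zero]
  · intro h f hf
    have hnil : IsNilpotent (Lib.Helper96.OrbitSep.orbMap c y f) := by
      apply Lib.Helper96.OrbitSep.isNilpotent_of_forall_algHom (k := k)
      intro g
      rw [← Lib.Helper96.OrbitSep.eval_act]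
      exact hf g
    obtain ⟨N, hN⟩ := hnil
    have hmem : f ^ N ∈ K A y := by
      unfold K
      rw [RingHom.mem_ker, map_pow, Lib.Helper96.GeomQuot.orbitHom_apply]
      exact hN
    have := h hmem
    rw [RingHom.mem_ker, map_pow] at this
    exact eq_zero_of_pow_eq_zero this

theorem apply_act (y : R →ₐ[k] k) (g : A →ₐ[k] k) (f : R) :
    y (HopfRep.Comod.act k A R g f) = GLin.actPt k g y f := by
  rw [Lib.Helper96.OrbitSep.eval_act, Lib.Helper96.GeomQuot.actPt_apply]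

end Orbit

end ClosedOrbit

end Groth.Agent.Lib.Helper81
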