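import Mathlib
import Groth.Agent.Lib.Helper81.ClosedOrbit
import Groth.Agent.Lib.Helper72.ConstrJacobson

/-! Closed orbits: rational-point criterion for closedness in the prime spectrum, and behaviour
under finite equivariant maps (Hopf-algebra / rational-point language of `GLin`). -/

set_option autoImplicit false
set_option linter.style.haveILetI false
set_option linter.unusedSectionVars false

open TensorProduct WithConv Topology
universe u
namespace Groth.Agent.Lib.Helper81

namespace ClosedOrbit

section Pts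
variable {k : Type u} [Field k] [IsAlgClosed k] {R : Type u} [CommRing R] [Algebra k R]
  [Algebra.FiniteType k R]

theorem exists_algHom_ker_eq (m : Ideal R) (hm : m.IsMaximal) :
    ∃ z : R →ₐ[k] k, RingHom.ker z = m := by
  obtain ⟨z, hz⟩ := Lib.Helper96.OrbitSep.exists_algHom_of_ne_top (k := k) m hm.ne_top
  refine ⟨z, ?_⟩
  symm
  apply hm.eq_of_le (RingHom.ker_ne_top _)
  intro f hf
  exact hz f hf

end Pts

section Orbit
variable {k : Type u} [Field k] {A : Type u} [CommRing A] [HopfAlgebra k A]
variable {R : Type u} [CommRing R] [Algebra k R]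
  [c : HopfRep.Comod k A R] [GLin.IsCoactAlg k A R]
variable [IsAlgClosed k] [Algebra.FiniteType k A]

/-- two rational points whose orbit closures share an irreducible component are in the same
orbit -/
theorem exists_actPt_of_mem_minimalPrimes {y z : R →ₐ[k] k} {p : Ideal R}
    (hy : p ∈ (K A y).minimalPrimes) (hz : p ∈ (K A z).minimalPrimes) :
    ∃ g : A →ₐ[k] k, z = GLin.actPt k g y := by
  obtain ⟨q₁, hq₁, -, e₁⟩ :=
    Ideal.exists_comap_eq_of_mem_minimalPrimes (I := ⊥) (GLin.orbitHom k A y).toRingHom p hy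
  obtain ⟨q₂, hq₂, -, e₂⟩ :=
    Ideal.exists_comap_eq_of_mem_minimalPrimes (I := ⊥) (GLin.orbitHom k A z).toRingHom p hz
  obtain ⟨g₁, g₂, hg⟩ := exists_common_point (GLin.orbitHom k A y) (GLin.orbitHom k A z) q₁ q₂
    (e₁.trans e₂.symm)
  have hg' : GLin.actPt k g₁ y = GLin.actPt k g₂ z := hg
  refine ⟨ofConv (toConv g₁ * toConv (g₂.comp (HopfAlgebra.antipodeAlgHom k A))), ?_⟩
  rw [← Lib.Helper96.GeomQuot.actPt_actPt, hg', actPt_inv]

variable [Algebra.FiniteType k R]

/-- closedness of the orbit in the prime spectrum from the rational-point criterion -/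
theorem isClosedOrbit_of_forall (x : R →ₐ[k] k)
    (h : ∀ z : R →ₐ[k] k, K A x ≤ RingHom.ker z → ∃ g : A →ₐ[k] k, z = GLin.actPt k g x) :
    GLin.IsClosedOrbit k A x := by
  unfold GLin.IsClosedOrbit
  haveI : IsNoetherianRing R := Algebra.FiniteType.isNoetherianRing k R
  haveI : IsJacobsonRing R := isJacobsonRing_of_finiteType (A := k) (B := R)
  set φ : R →+* A := (GLin.orbitHom k A x).toRingHom with hφ
  have hsub : Set.range (PrimeSpectrum.comap φ) ⊆ PrimeSpectrum.zeroLocus (K A x) := by
    rintro _ ⟨q, rfl⟩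
    rw [PrimeSpectrum.mem_zeroLocus]
    intro f hf
    have hf' : φ f = 0 := hf
    show φ f ∈ q.asIdeal
    rw [hf']
    exact zero_mem _
  suffices hs : Set.range (PrimeSpectrum.comap φ) = PrimeSpectrum.zeroLocus (K A x) by
    rw [hs]
    exact PrimeSpectrum.isClosed_zeroLocus _
  apply hsub.antisymm
  have hft : φ.FiniteType := by
    apply RingHom.FiniteType.of_comp_finiteType (f := algebraMap k R)
    have e : φ.comp (algebraMap k R) = algebraMap k A := (GLin.orbitHom k A x).comp_algebraMap
    rw [e]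
    exact RingHom.finiteType_algebraMap.mpr inferInstance
  have hfp : φ.FinitePresentation := RingHom.FinitePresentation.of_finiteType.mp hft
  have hT : IsConstructible (Set.range (PrimeSpectrum.comap φ)) :=
    PrimeSpectrum.isConstructible_range_comap hfp
  have hV : IsConstructible (PrimeSpectrum.zeroLocus (K A x : Set R))ᶜ :=
    IsCompact.isConstructible (TopologicalSpace.NoetherianSpace.isCompact _)
      (PrimeSpectrum.isClosed_zeroLocus _).isOpen_compl
  have hU := Lib.Helper72.ConstrJacobson.eq_univ_of_closedPoints_subset (hT.union hV) ?_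
  · intro P hP
    have hP' : P ∈ Set.range (PrimeSpectrum.comap φ) ∪ (PrimeSpectrum.zeroLocus (K A x : Set R))ᶜ := by
      rw [hU]
      trivial
    rcases hP' with h1 | h2
    · exact h1
    · exact absurd hP h2
  · intro P hP
    rw [mem_closedPoints_iff, PrimeSpectrum.isClosed_singleton_iff_isMaximal] at hP
    by_cases hPK : K A x ≤ P.asIdeal
    · left
      obtain ⟨z, hz⟩ := exists_algHom_ker_eq (k := k) P.asIdeal hP
      obtain ⟨g, hg⟩ := h z (hz ▸ hPK)
      have hgmax : (RingHom.ker g).IsMaximal :=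
        RingHom.ker_isMaximal_of_surjective g (Lib.Helper96.GeomQuot.algHom_surjective g)
      refine ⟨⟨RingHom.ker g, hgmax.isPrime⟩, ?_⟩
      apply PrimeSpectrum.ext
      rw [← hz, hg]
      rfl
    · right
      intro hmem
      exact hPK ((PrimeSpectrum.mem_zeroLocus _ _).mp hmem)

theorem isClosedOrbit_iff (x : R →ₐ[k] k) :
    GLin.IsClosedOrbit k A x ↔
      ∀ z : R →ₐ[k] k, K A x ≤ RingHom.ker z → ∃ g : A →ₐ[k] k, z = GLin.actPt k g x :=
  ⟨fun h z hz => Lib.Helper96.GeomQuot.exists_actPt_of_isClosedOrbit x h z hz,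
    isClosedOrbit_of_forall x⟩

end Orbit

section Finite
variable {k : Type u} [Field k] {A : Type u} [CommRing A] [HopfAlgebra k A]
variable {S : Type u} [CommRing S] [Algebra k S] [HopfRep.Comod k A S] [GLin.IsCoactAlg k A S]
variable {R : Type u} [CommRing R] [Algebra k R] [HopfRep.Comod k A R] [GLin.IsCoactAlg k A R]
  [Algebra S R] [IsScalarTower k S R]

theorem orbitHom_comp
    (hequiv : ∀ s : S, HopfRep.Comod.coact (k := k) (A := A) (algebraMap S R s) =
      Algebra.TensorProduct.map (IsScalarTower.toAlgHom k S R) (AlgHom.id k A)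
        (HopfRep.Comod.coact (k := k) (A := A) s))
    (x : R →ₐ[k] k) :
    GLin.orbitHom k A (x.comp (IsScalarTower.toAlgHom k S R)) =
      (GLin.orbitHom k A x).comp (IsScalarTower.toAlgHom k S R) := by
  apply AlgHom.ext
  intro s
  unfold GLin.orbitHom
  simp only [AlgHom.comp_apply, GLin.coactAlgHom_apply, IsScalarTower.coe_toAlgHom']
  rw [hequiv s]
  congr 1
  generalize HopfRep.Comod.coact (k := k) (A := A) s = t
  induction t using TensorProduct.induction_on with
  | zero => simp
  | add a b ha hb => simp only [map_add, ha, hb]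
  | tmul r a => simp

theorem comap_K
    (hequiv : ∀ s : S, HopfRep.Comod.coact (k := k) (A := A) (algebraMap S R s) =
      Algebra.TensorProduct.map (IsScalarTower.toAlgHom k S R) (AlgHom.id k A)
        (HopfRep.Comod.coact (k := k) (A := A) s))
    (x : R →ₐ[k] k) :
    (K A x).comap (algebraMap S R) = K A (x.comp (IsScalarTower.toAlgHom k S R)) := by
  ext f
  unfold K
  rw [Ideal.mem_comap, RingHom.mem_ker, RingHom.mem_ker, orbitHom_comp hequiv x]
  rfl

variable [Module.Finite S R]

theorem isClosedOrbit_comp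
    (hequiv : ∀ s : S, HopfRep.Comod.coact (k := k) (A := A) (algebraMap S R s) =
      Algebra.TensorProduct.map (IsScalarTower.toAlgHom k S R) (AlgHom.id k A)
        (HopfRep.Comod.coact (k := k) (A := A) s))
    (x : R →ₐ[k] k) (h : GLin.IsClosedOrbit k A x) :
    GLin.IsClosedOrbit k A (x.comp (IsScalarTower.toAlgHom k S R)) := by
  unfold GLin.IsClosedOrbit at h ⊢
  have hint : (algebraMap S R).IsIntegral :=
    algebraMap_isIntegral_iff.mpr (Algebra.IsIntegral.of_finite S R)
  have hcl := PrimeSpectrum.isClosedMap_comap_of_isIntegral (algebraMap S R) hint _ h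
  convert hcl using 1
  rw [← Set.range_comp]
  congr 1
  rw [orbitHom_comp hequiv x]
  rfl

variable [IsAlgClosed k] [Algebra.FiniteType k A] [Algebra.FiniteType k S] [Algebra.FiniteType k R]

theorem isClosedOrbit_of_comp
    (hequiv : ∀ s : S, HopfRep.Comod.coact (k := k) (A := A) (algebraMap S R s) =
      Algebra.TensorProduct.map (IsScalarTower.toAlgHom k S R) (AlgHom.id k A)
        (HopfRep.Comod.coact (k := k) (A := A) s))
    (x : R →ₐ[k] k)
    (h : GLin.IsClosedOrbit k A (x.comp (IsScalarTower.toAlgHom k S R))) :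
    GLin.IsClosedOrbit k A x := by
  apply isClosedOrbit_of_forall
  intro z hz
  haveI : Algebra.IsIntegral S R := Algebra.IsIntegral.of_finite S R
  have hKxz : K A x ≤ K A z := K_mono hz
  have e1 := comap_K (A := A) hequiv x
  have e2 := comap_K (A := A) hequiv z
  have hyz : K A (x.comp (IsScalarTower.toAlgHom k S R)) ≤
      RingHom.ker (z.comp (IsScalarTower.toAlgHom k S R)) := by
    rw [← e1]
    intro f hf
    have := hz hf
    exact this
  obtain ⟨g, hg⟩ := Lib.Helper96.GeomQuot.exists_actPt_of_isClosedOrbit _ h _ hyz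
  have e3 : (K A x).comap (algebraMap S R) = (K A z).comap (algebraMap S R) := by
    rw [e1, e2, hg, K_actPt]
  have hne : (K A x).comap (algebraMap S R) ≠ ⊤ := by
    rw [e1]
    exact K_ne_top _
  obtain ⟨⟨p₀, hp₀⟩⟩ := Ideal.nonempty_minimalPrimes hne
  haveI := hp₀.1.1
  obtain ⟨P, hKzP, hPprime, hPcomap⟩ :=
    Ideal.exists_ideal_over_prime_of_isIntegral p₀ (K A z) (e3 ▸ hp₀.1.2)
  obtain ⟨P', hP', hP'P⟩ := Ideal.exists_minimalPrimes_le (hKxz.trans hKzP)
  haveI := hP'.1.1
  have hP'comap : P'.comap (algebraMap S R) = p₀ := by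
    apply le_antisymm
    · rw [← hPcomap]
      exact Ideal.comap_mono hP'P
    · exact hp₀.2 ⟨Ideal.comap_isPrime _ _, Ideal.comap_mono hP'.1.2⟩
        (hPcomap ▸ Ideal.comap_mono hP'P)
  have hPP' : P' = P := by
    by_contra hne'
    have hlt : P' < P := lt_of_le_of_ne hP'P hne'
    have := Ideal.IsIntegral.comap_lt_comap (R := S) hlt
    rw [hP'comap, hPcomap] at this
    exact lt_irrefl _ this
  subst hPP'
  have hPz : P' ∈ (K A z).minimalPrimes := by
    refine ⟨⟨hP'.1.1, hKzP⟩, ?_⟩
    intro Q hQ hQP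
    exact hP'.2 ⟨hQ.1, hKxz.trans hQ.2⟩ hQP
  exact exists_actPt_of_mem_minimalPrimes hP' hPz

end Finite

end ClosedOrbit

end Groth.Agent.Lib.Helper81
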