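import Mathlib
import Groth.Agent.Lib.Helper81.ClosedOrbit2
import Groth.Agent.Lib.Helper83.ComodOps
import Groth.Agent.Lib.Helper96.SSPts
import Groth.Agent.Lib.Helper72.OrbitDim

/-! Orbit dimension theory for actions of affine algebraic groups in the Hopf-algebra /
rational-point language of `GLin`, obtained from the scheme-theoretic dimension theory of
homogeneous morphisms. -/

set_option autoImplicit false
set_option linter.style.haveILetI false
set_option linter.unusedSectionVars false

open TensorProduct WithConv Topology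
universe u
namespace Groth.Agent.Lib.Helper81

namespace OrbitDimHopf

open ClosedOrbit

section Rho
variable {k : Type u} [Field k] {A : Type u} [CommRing A] [HopfAlgebra k A]
variable {R : Type u} [CommRing R] [Algebra k R] [c : HopfRep.Comod k A R] [GLin.IsCoactAlg k A R]

instance regularCoactAlg : GLin.IsCoactAlg k A A where
  coact_one := Bialgebra.comul_one
  coact_mul := Bialgebra.comul_mul

/-- the action of a rational point of the group as an algebra endomorphism of the coordinate
ring -/
noncomputable def rho (g : A →ₐ[k] k) : R →ₐ[k] R :=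
  (Algebra.TensorProduct.rid k k R).toAlgHom.comp
    ((Algebra.TensorProduct.map (AlgHom.id k R) g).comp (GLin.coactAlgHom k A R))

theorem rho_apply (g : A →ₐ[k] k) (f : R) : rho g f = HopfRep.Comod.act k A R g f := by
  unfold rho HopfRep.Comod.act
  simp only [AlgHom.comp_apply, GLin.coactAlgHom_apply, LinearMap.comp_apply]
  generalize HopfRep.Comod.coact (k := k) (A := A) f = t
  induction t using TensorProduct.induction_on with
  | zero => simp
  | add a b ha hb => simp only [map_add, ha, hb]
  | tmul r a => simp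

theorem rho_apply' (g : A →ₐ[k] k) (f : R) :
    rho g f = Lib.Helper83.ComodOps.T (A := A) g.toLinearMap f := rho_apply g f

theorem comp_rho (z : R →ₐ[k] k) (g : A →ₐ[k] k) : z.comp (rho g) = GLin.actPt k g z := by
  apply AlgHom.ext
  intro f
  rw [AlgHom.comp_apply, rho_apply, Lib.Helper96.OrbitSep.eval_act,
    Lib.Helper96.GeomQuot.actPt_apply]

theorem convMul_toLinearMap (g h : A →ₐ[k] k) :
    (ofConv (toConv g * toConv h)).toLinearMap =
      g.toLinearMap ∘ₗ Lib.Helper83.ComodOps.Rt h.toLinearMap := by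
  apply LinearMap.ext
  intro a
  rw [AlgHom.convMul_def]
  unfold Lib.Helper83.ComodOps.Rt
  simp only [ofConv_toConv, AlgHom.toLinearMap_apply, AlgHom.comp_apply,
    Bialgebra.comulAlgHom_apply, LinearMap.comp_apply]
  generalize Coalgebra.comul (R := k) a = w
  induction w using TensorProduct.induction_on with
  | zero => simp
  | add a b ha hb => simp only [map_add, ha, hb]
  | tmul a b => simp [mul_comm]

theorem rho_rho (g h : A →ₐ[k] k) (f : R) :
    rho g (rho h f) = rho (ofConv (toConv g * toConv h)) f := by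
  rw [rho_apply', rho_apply', rho_apply', Lib.Helper83.ComodOps.T_T, convMul_toLinearMap]

theorem rho_one (f : R) : rho (ofConv (1 : WithConv (A →ₐ[k] k))) f = f := by
  rw [rho_apply']
  have e : (ofConv (1 : WithConv (A →ₐ[k] k))).toLinearMap = Coalgebra.counit (R := k) (A := A) := by
    apply LinearMap.ext
    intro a
    rw [AlgHom.convOne_def]
    simp
  rw [e, Lib.Helper83.ComodOps.T_counit]

/-- the action of a rational point as an algebra automorphism -/
noncomputable def rhoEquiv (g : A →ₐ[k] k) : R ≃ₐ[k] R :=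
  AlgEquiv.ofAlgHom (rho g) (rho (ofConv (toConv g)⁻¹))
    (by
      apply AlgHom.ext
      intro f
      rw [AlgHom.comp_apply, rho_rho, mul_inv_cancel, rho_one]
      rfl)
    (by
      apply AlgHom.ext
      intro f
      rw [AlgHom.comp_apply, rho_rho, toConv_ofConv, inv_mul_cancel, rho_one]
      rfl)

theorem rhoEquiv_apply (g : A →ₐ[k] k) (f : R) : rhoEquiv g f = rho g f := rfl

theorem isHom_orbMap (x : R →ₐ[k] k) :
    Lib.Helper96.IsHom c (HopfRep.Comod.regular k A) (Lib.Helper96.OrbitSep.orbMap c x) := by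
  apply LinearMap.ext
  intro f
  exact (Lib.Helper96.OrbitSep.orbMap_comodHom c x f).symm

theorem orbitHom_rho (x : R →ₐ[k] k) (g : A →ₐ[k] k) (f : R) :
    GLin.orbitHom k A x (rho g f) = rho (R := A) g (GLin.orbitHom k A x f) := by
  rw [rho_apply, rho_apply, Lib.Helper96.GeomQuot.orbitHom_apply,
    Lib.Helper96.GeomQuot.orbitHom_apply]
  exact (Lib.Helper96.SSPts.act_hom (isHom_orbMap x) g f).symm

theorem actPt_regular (g c' : A →ₐ[k] k) :
    GLin.actPt k g c' = ofConv (toConv c' * toConv g) := by
  apply AlgHom.ext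
  intro a
  rw [Lib.Helper96.GeomQuot.actPt_apply, Lib.Helper96.OrbitSep.orbMap_apply, AlgHom.convMul_def]
  simp only [AlgHom.comp_apply, Bialgebra.comulAlgHom_apply]
  show g ((TensorProduct.lid k A) ((LinearMap.rTensor A c'.toLinearMap)
    (Coalgebra.comul (R := k) a))) = _
  generalize Coalgebra.comul (R := k) a = w
  induction w using TensorProduct.induction_on with
  | zero => simp
  | add a b ha hb => simp only [map_add, ha, hb]
  | tmul a b => simp

end Rho

section Sch
open AlgebraicGeometry CategoryTheory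

variable {k : Type u} [Field k] [IsAlgClosed k] {A : Type u} [CommRing A] [HopfAlgebra k A]
  [Algebra.FiniteType k A]
variable {R : Type u} [CommRing R] [Algebra k R] [Algebra.FiniteType k R]
  [c : HopfRep.Comod k A R] [GLin.IsCoactAlg k A R]

variable (k R) in
/-- structure morphism of the spectrum of an algebra -/
noncomputable abbrev str : Spec (CommRingCat.of R) ⟶ Spec (CommRingCat.of k) :=
  Spec.map (CommRingCat.ofHom (algebraMap k R))

instance : LocallyOfFiniteType (str k R) := by
  rw [HasRingHomProperty.Spec_iff (P := @LocallyOfFiniteType)]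
  exact RingHom.finiteType_algebraMap.mpr inferInstance

/-- the orbit morphism of a rational point -/
noncomputable abbrev alpha (x : R →ₐ[k] k) : Spec (CommRingCat.of A) ⟶ Spec (CommRingCat.of R) :=
  Spec.map (CommRingCat.ofHom (GLin.orbitHom k A x).toRingHom)

theorem alpha_str (x : R →ₐ[k] k) : alpha (A := A) x ≫ str k R = str k A := by
  rw [← Spec.map_comp]
  congr 1
  ext a
  simp

/-- translation by a rational point, as an automorphism of the spectrum -/
noncomputable abbrev tr (g : A →ₐ[k] k) : Spec (CommRingCat.of R) ⟶ Spec (CommRingCat.of R) :=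
  Spec.map (rhoEquiv (R := R) g).toRingEquiv.toCommRingCatIso.hom

theorem tr_str (g : A →ₐ[k] k) : tr (R := R) g ≫ str k R = str k R := by
  rw [← Spec.map_comp]
  congr 1
  ext a
  simp [rhoEquiv_apply]

theorem tr_alpha (x : R →ₐ[k] k) (g : A →ₐ[k] k) :
    tr (R := A) g ≫ alpha x = alpha x ≫ tr (R := R) g := by
  rw [← Spec.map_comp, ← Spec.map_comp]
  congr 1
  ext f
  simp only [CommRingCat.hom_comp, CommRingCat.hom_ofHom, RingHom.coe_comp, Function.comp_apply,
    RingEquiv.toCommRingCatIso_hom]
  exact (orbitHom_rho x g f).symm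

/-- the point of the spectrum defined by a rational point -/
noncomputable def pt (z : R →ₐ[k] k) : Spec (CommRingCat.of R) :=
  ⟨RingHom.ker z, (RingHom.ker_isMaximal_of_surjective z
    (Lib.Helper96.GeomQuot.algHom_surjective z)).isPrime⟩

theorem pt_asIdeal (z : R →ₐ[k] k) : (pt z).asIdeal = RingHom.ker z := rfl

theorem isClosed_pt (z : R →ₐ[k] k) : IsClosed ({pt z} : Set (Spec (CommRingCat.of R))) :=
  (PrimeSpectrum.isClosed_singleton_iff_isMaximal _).mpr
    (RingHom.ker_isMaximal_of_surjective z (Lib.Helper96.GeomQuot.algHom_surjective z))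

theorem exists_pt_eq (p : Spec (CommRingCat.of R)) (hp : IsClosed ({p} : Set (Spec (CommRingCat.of R)))) :
    ∃ z : R →ₐ[k] k, pt z = p := by
  have hmax : p.asIdeal.IsMaximal := (PrimeSpectrum.isClosed_singleton_iff_isMaximal _).mp hp
  obtain ⟨z, hz⟩ := exists_algHom_ker_eq (k := k) p.asIdeal hmax
  exact ⟨z, PrimeSpectrum.ext hz⟩

theorem pt_injective {z z' : R →ₐ[k] k} (h : pt z = pt z') : z = z' := by
  apply Lib.Helper96.GeomQuot.algHom_eq_of_ker_le
  have := congrArg PrimeSpectrum.asIdeal h
  exact le_of_eq this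

theorem specMap_pt {S : Type u} [CommRing S] [Algebra k S] (φ : R →ₐ[k] S) (z : S →ₐ[k] k) :
    (Spec.map (CommRingCat.ofHom φ.toRingHom)) (pt z) = pt (z.comp φ) := by
  apply PrimeSpectrum.ext
  rfl

theorem alpha_pt (x : R →ₐ[k] k) (g : A →ₐ[k] k) : (alpha x) (pt g) = pt (GLin.actPt k g x) :=
  specMap_pt (GLin.orbitHom k A x) g

theorem tr_pt (g : A →ₐ[k] k) (z : R →ₐ[k] k) : (tr (R := R) g) (pt z) = pt (GLin.actPt k g z) := by
  rw [← comp_rho]
  apply PrimeSpectrum.ext
  rfl

theorem homog (x : R →ₐ[k] k) :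
    Lib.Helper72.OrbitDim.Homog (str k A) (str k R) (alpha x) := by
  intro p v hp hv
  obtain ⟨gp, rfl⟩ := exists_pt_eq (k := k) p hp
  obtain ⟨gv, rfl⟩ := exists_pt_eq (k := k) v hv
  let g : A →ₐ[k] k := ofConv ((toConv gp)⁻¹ * toConv gv)
  refine ⟨tr (R := A) g, tr (R := R) g, inferInstance, inferInstance, tr_str g, tr_str g,
    tr_alpha x g, ?_⟩
  rw [tr_pt, actPt_regular]
  congr 1
  show ofConv (toConv gp * toConv (ofConv ((toConv gp)⁻¹ * toConv gv))) = gv
  rw [toConv_ofConv, mul_inv_cancel_left, ofConv_toConv]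

end Sch

section Main
open AlgebraicGeometry CategoryTheory

variable {k : Type u} [Field k] [IsAlgClosed k] {A : Type u} [CommRing A] [HopfAlgebra k A]
  [Algebra.FiniteType k A]
variable {R : Type u} [CommRing R] [Algebra k R] [Algebra.FiniteType k R]
  [c : HopfRep.Comod k A R] [GLin.IsCoactAlg k A R]

theorem range_alpha_subset_closure {x y : R →ₐ[k] k} (hxy : K A y ≤ K A x) :
    Set.range (alpha (A := A) x) ⊆ closure (Set.range (alpha (A := A) y)) := by
  rintro _ ⟨q, rfl⟩
  have hcl : closure (Set.range (alpha (A := A) y)) =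
      PrimeSpectrum.zeroLocus (RingHom.ker (GLin.orbitHom k A y).toRingHom : Set R) :=
    PrimeSpectrum.closure_range_comap (GLin.orbitHom k A y).toRingHom
  rw [hcl]
  refine (PrimeSpectrum.mem_zeroLocus _ _).mpr ?_
  intro f hf
  have hf' : (GLin.orbitHom k A x) f = 0 := hxy hf
  show (GLin.orbitHom k A x) f ∈ q.asIdeal
  rw [hf']
  exact zero_mem _

theorem disjoint_range_alpha {x y : R →ₐ[k] k} (hno : ∀ g : A →ₐ[k] k, y ≠ GLin.actPt k g x) :
    Disjoint (Set.range (alpha (A := A) x)) (Set.range (alpha (A := A) y)) := by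
  rw [Set.disjoint_left]
  rintro _ ⟨q₁, rfl⟩ ⟨q₂, hq⟩
  have e : q₁.asIdeal.comap (GLin.orbitHom k A x) = q₂.asIdeal.comap (GLin.orbitHom k A y) :=
    (congrArg PrimeSpectrum.asIdeal hq).symm
  haveI := q₁.isPrime
  haveI := q₂.isPrime
  obtain ⟨g₁, g₂, hg⟩ := exists_common_point (GLin.orbitHom k A x) (GLin.orbitHom k A y)
    q₁.asIdeal q₂.asIdeal e
  have hg' : GLin.actPt k g₁ x = GLin.actPt k g₂ y := hg
  apply hno (ofConv (toConv g₁ * toConv (g₂.comp (HopfAlgebra.antipodeAlgHom k A))))
  rw [← Lib.Helper96.GeomQuot.actPt_actPt, hg', actPt_inv]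

theorem dim_fibre_le (x : R →ₐ[k] k)
    (hfin : {g : A →ₐ[k] k | GLin.actPt k g x = x}.Finite) :
    topologicalKrullDim ↥((alpha (A := A) x).base ⁻¹' {pt x}) ≤ 0 := by
  haveI : IsJacobsonRing A := isJacobsonRing_of_finiteType (A := k) (B := A)
  set Z : Set (Spec (CommRingCat.of A)) := (alpha (A := A) x).base ⁻¹' {pt x} with hZ
  have hZcl : IsClosed Z := (isClosed_pt x).preimage (alpha (A := A) x).continuous
  set F : Set (Spec (CommRingCat.of A)) := pt '' {g : A →ₐ[k] k | GLin.actPt k g x = x} with hF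
  have hFfin : F.Finite := hfin.image _
  have hFcp : F ⊆ closedPoints (Spec (CommRingCat.of A)) := by
    rintro _ ⟨g, -, rfl⟩
    exact isClosed_pt g
  have hFcl : IsClosed F := by
    have : F = ⋃ p ∈ F, {p} := by simp
    rw [this]
    exact hFfin.isClosed_biUnion fun p hp => hFcp hp
  have hsub : Z ∩ closedPoints (Spec (CommRingCat.of A)) ⊆ F := by
    rintro p ⟨hpZ, hpc⟩
    obtain ⟨g, rfl⟩ := exists_pt_eq (k := k) p hpc
    refine ⟨g, ?_, rfl⟩
    have h1 : (alpha (A := A) x) (pt g) = pt x := hpZ
    rw [alpha_pt] at h1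
    exact pt_injective h1
  have hZF : Z ⊆ F := by
    rw [← closure_inter_closedPoints hZcl]
    exact closure_minimal hsub hFcl
  have hZfin : Z.Finite := hFfin.subset hZF
  haveI : DiscreteTopology ↥Z :=
    (hZfin.isDiscrete_of_subset_closedPoints (hZF.trans hFcp)).to_subtype
  exact topologicalKrullDim_zero_of_discreteTopology _

/-- a point with finite stabiliser lying in the closure of an orbit lies in that orbit -/
theorem exists_actPt_of_le_of_finite {x y : R →ₐ[k] k} (hxy : K A y ≤ K A x)
    (hfin : {g : A →ₐ[k] k | GLin.actPt k g x = x}.Finite) :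
    ∃ g : A →ₐ[k] k, y = GLin.actPt k g x := by
  by_contra hno
  push Not at hno
  let e : A →ₐ[k] k := ofConv (1 : WithConv (A →ₐ[k] k))
  have hex : (alpha (A := A) x) (pt e) = pt x := by
    rw [alpha_pt, Lib.Helper96.GeomQuot.actPt_one]
  have hey : (alpha (A := A) y) (pt e) = pt y := by
    rw [alpha_pt, Lib.Helper96.GeomQuot.actPt_one]
  have h1 := Lib.Helper72.OrbitDim.dim_eq_add (str k A) (str k R) (alpha x) (alpha_str x)
    (homog x) (pt e) (pt x) (isClosed_pt x) hex
  have h2 := Lib.Helper72.OrbitDim.dim_eq_add (str k A) (str k R) (alpha y) (alpha_str y)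
    (homog y) (pt e) (pt y) (isClosed_pt y) hey
  have h3 := Lib.Helper72.OrbitDim.dim_boundary_lt (str k A) (str k R) (alpha y) (alpha_str y)
    (homog y) (pt e)
  have hfx := dim_fibre_le x hfin
  have hfy : 0 ≤ topologicalKrullDim ↥((alpha (A := A) y).base ⁻¹' {pt y}) := by
    haveI : Nonempty (TopologicalSpace.IrreducibleCloseds ↥((alpha (A := A) y).base ⁻¹' {pt y})) :=
      ⟨⟨closure {⟨pt e, hey⟩}, isIrreducible_singleton.closure, isClosed_closure⟩⟩
    exact Order.krullDim_nonneg
  have hsub : Set.range (alpha (A := A) x) ⊆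
      closure (Set.range (alpha (A := A) y)) \ Set.range (alpha (A := A) y) := by
    intro p hp
    exact ⟨range_alpha_subset_closure hxy hp, fun hp' =>
      Set.disjoint_left.mp (disjoint_range_alpha hno) hp hp'⟩
  have h4 : topologicalKrullDim ↥(Set.range (alpha (A := A) x)) ≤
      topologicalKrullDim ↥(closure (Set.range (alpha (A := A) y)) \ Set.range (alpha (A := A) y)) :=
    (Topology.IsEmbedding.inclusion hsub).isInducing.topologicalKrullDim_le
  have h5 : topologicalKrullDim ↥(Spec (CommRingCat.of A)) ≤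
      topologicalKrullDim ↥(Set.range (alpha (A := A) x)) := by
    rw [h1]
    calc _ ≤ topologicalKrullDim ↥(Set.range (alpha (A := A) x)) + 0 := by gcongr
      _ = _ := add_zero _
  have h6 : topologicalKrullDim ↥(Set.range (alpha (A := A) y)) ≤
      topologicalKrullDim ↥(Spec (CommRingCat.of A)) := by
    rw [h2]
    exact le_add_of_nonneg_right hfy
  exact lt_irrefl _ (lt_of_le_of_lt (h5.trans h4) (lt_of_lt_of_le h3 h6))

end Main

end OrbitDimHopf

end Groth.Agent.Lib.Helper81
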