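import Mathlib
import Groth.Agent.Lib.Helper81.OrbitDimHopf

/-! Openness of the locus of rational points with finite stabiliser, for an action of an affine
algebraic group on an affine scheme of finite type over an algebraically closed field (Hopf-algebra
language), via openness of the quasi-finite locus of `(z, g) ↦ (z, g z)`. -/

set_option autoImplicit false
set_option linter.style.haveILetI false
set_option linter.unusedSectionVars false

open TensorProduct WithConv Topology
universe u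
namespace Groth.Agent.Lib.Helper81

namespace StabOpen

open ClosedOrbit OrbitDimHopf

section Pair
variable {k : Type u} [Field k] {R A : Type u} [CommRing R] [CommRing A] [Algebra k R] [Algebra k A]

/-- the rational point of a product given by a pair of rational points -/
noncomputable def pair (z : R →ₐ[k] k) (g : A →ₐ[k] k) : R ⊗[k] A →ₐ[k] k :=
  Algebra.TensorProduct.productMap z g

@[simp] theorem pair_tmul (z : R →ₐ[k] k) (g : A →ₐ[k] k) (r : R) (a : A) :
    pair z g (r ⊗ₜ[k] a) = z r * g a := by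
  simp [pair]

theorem pair_comp_includeLeft (z : R →ₐ[k] k) (g : A →ₐ[k] k) :
    (pair z g).comp Algebra.TensorProduct.includeLeft = z := by
  apply AlgHom.ext
  intro r
  simp

theorem pair_comp_includeRight (z : R →ₐ[k] k) (g : A →ₐ[k] k) :
    (pair z g).comp Algebra.TensorProduct.includeRight = g := by
  apply AlgHom.ext
  intro a
  simp

theorem pair_injective {z z' : R →ₐ[k] k} {g g' : A →ₐ[k] k} (h : pair z g = pair z' g') :
    z = z' ∧ g = g' := by
  constructor
  · rw [← pair_comp_includeLeft z g, h, pair_comp_includeLeft]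
  · rw [← pair_comp_includeRight z g, h, pair_comp_includeRight]

theorem eq_pair (w : R ⊗[k] A →ₐ[k] k) :
    w = pair (w.comp Algebra.TensorProduct.includeLeft)
      (w.comp Algebra.TensorProduct.includeRight) := by
  apply Algebra.TensorProduct.ext'
  intro r a
  rw [pair_tmul, AlgHom.comp_apply, AlgHom.comp_apply, ← map_mul]
  simp

instance [Algebra.FiniteType k R] [Algebra.FiniteType k A] : Algebra.FiniteType k (R ⊗[k] A) :=
  Algebra.FiniteType.trans (R := k) (S := R) (A := R ⊗[k] A) inferInstance inferInstance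

end Pair

section Theta
variable {k : Type u} [Field k] {A : Type u} [CommRing A] [HopfAlgebra k A]
variable {R : Type u} [CommRing R] [Algebra k R] [c : HopfRep.Comod k A R] [GLin.IsCoactAlg k A R]

variable (A) in
/-- the ring map of `(z, g) ↦ (z, g z)` -/
noncomputable def theta : R ⊗[k] R →ₐ[k] R ⊗[k] A :=
  Algebra.TensorProduct.productMap Algebra.TensorProduct.includeLeft (GLin.coactAlgHom k A R)

theorem pair_coact (z : R →ₐ[k] k) (g : A →ₐ[k] k) (r : R) :
    pair z g (HopfRep.Comod.coact (k := k) (A := A) r) = GLin.actPt k g z r := by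
  rw [Lib.Helper96.GeomQuot.actPt_apply, Lib.Helper96.OrbitSep.orbMap_apply]
  generalize HopfRep.Comod.coact (k := k) (A := A) r = t
  induction t using TensorProduct.induction_on with
  | zero => simp
  | add a b ha hb => simp only [map_add, ha, hb]
  | tmul r a => simp

theorem pair_comp_theta (z : R →ₐ[k] k) (g : A →ₐ[k] k) :
    (pair z g).comp (theta A) = pair z (GLin.actPt k g z) := by
  apply Algebra.TensorProduct.ext'
  intro r r'
  simp [theta, pair_coact]

end Theta

section Top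

/-- a singleton of a subspace is open iff it is cut out by an ambient open set -/
theorem isOpen_singleton_subtype_iff {X : Type*} [TopologicalSpace X] (F : Set X) (p : X)
    (hp : p ∈ F) :
    IsOpen ({⟨p, hp⟩} : Set ↥F) ↔ ∃ U : Set X, IsOpen U ∧ U ∩ F = {p} := by
  rw [isOpen_induced_iff]
  constructor
  · rintro ⟨U, hU, hUe⟩
    refine ⟨U, hU, ?_⟩
    ext q
    constructor
    · rintro ⟨hqU, hqF⟩
      have : (⟨q, hqF⟩ : ↥F) ∈ Subtype.val ⁻¹' U := hqU
      rw [hUe] at this
      exact congrArg Subtype.val this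
    · rintro rfl
      have : (⟨q, hp⟩ : ↥F) ∈ Subtype.val ⁻¹' U := by rw [hUe]; rfl
      exact ⟨this, hp⟩
  · rintro ⟨U, hU, hUe⟩
    refine ⟨U, hU, ?_⟩
    ext ⟨q, hq⟩
    simp only [Set.mem_preimage, Set.mem_singleton_iff, Subtype.mk.injEq]
    constructor
    · intro hqU
      have : q ∈ U ∩ F := ⟨hqU, hq⟩
      rw [hUe] at this
      exact this
    · rintro rfl
      have : q ∈ U ∩ F := by rw [hUe]; rfl
      exact this.1

end Top

section Fib
open AlgebraicGeometry CategoryTheory

variable {k : Type u} [Field k] [IsAlgClosed k] {A : Type u} [CommRing A] [HopfAlgebra k A]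
  [Algebra.FiniteType k A]
variable {R : Type u} [CommRing R] [Algebra k R] [Algebra.FiniteType k R]
  [c : HopfRep.Comod k A R] [GLin.IsCoactAlg k A R]

variable (k A R) in
/-- the morphism `(z, g) ↦ (z, g z)` -/
noncomputable abbrev P : Spec (CommRingCat.of (R ⊗[k] A)) ⟶ Spec (CommRingCat.of (R ⊗[k] R)) :=
  Spec.map (CommRingCat.ofHom (theta (k := k) (R := R) A).toRingHom)

instance : LocallyOfFiniteType (P k A R) := by
  have h : P k A R ≫ str k (R ⊗[k] R) = str k (R ⊗[k] A) := by
    rw [← Spec.map_comp]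
    congr 1
    ext a
    simp
  have : LocallyOfFiniteType (P k A R ≫ str k (R ⊗[k] R)) := by
    rw [h]
    infer_instance
  exact locallyOfFiniteType_of_comp (P k A R) (str k (R ⊗[k] R))

theorem P_pt (z : R →ₐ[k] k) (g : A →ₐ[k] k) :
    (P k A R) (pt (pair z g)) = pt (pair z (GLin.actPt k g z)) := by
  rw [specMap_pt, pair_comp_theta]

variable (A) in
/-- the set-theoretic fibre of `(z, g) ↦ (z, g z)` over `(z, z)`: the stabiliser of `z` -/
def Fib (z : R →ₐ[k] k) : Set (Spec (CommRingCat.of (R ⊗[k] A))) :=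
  (P k A R).base ⁻¹' {pt (pair z z)}

theorem isClosed_Fib (z : R →ₐ[k] k) : IsClosed (Fib A z) :=
  (isClosed_pt (pair z z)).preimage (P k A R).continuous

theorem mem_Fib_iff (z z' : R →ₐ[k] k) (g' : A →ₐ[k] k) :
    pt (pair z' g') ∈ Fib A z ↔ z' = z ∧ GLin.actPt k g' z = z := by
  unfold Fib
  rw [Set.mem_preimage, Set.mem_singleton_iff]
  have : (P k A R).base (pt (pair z' g')) = pt (pair z' (GLin.actPt k g' z')) := P_pt z' g'
  rw [this]
  constructor
  · intro h
    obtain ⟨h1, h2⟩ := pair_injective (pt_injective h)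
    subst h1
    exact ⟨rfl, h2⟩
  · rintro ⟨rfl, h2⟩
    rw [h2]

/-- the stabiliser of a rational point, as a set of rational points of the group -/
def Stab (A : Type u) [CommRing A] [HopfAlgebra k A] [HopfRep.Comod k A R] [GLin.IsCoactAlg k A R]
    (z : R →ₐ[k] k) : Set (A →ₐ[k] k) := {g | GLin.actPt k g z = z}

theorem Fib_inter_closedPoints (z : R →ₐ[k] k) :
    Fib A z ∩ closedPoints (Spec (CommRingCat.of (R ⊗[k] A))) =
      (fun g => pt (pair z g)) '' Stab A z := by
  ext p
  constructor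
  · rintro ⟨hpF, hpc⟩
    obtain ⟨w, rfl⟩ := exists_pt_eq (k := k) p hpc
    rw [eq_pair w] at hpF ⊢
    obtain ⟨h1, h2⟩ := (mem_Fib_iff z _ _).mp hpF
    exact ⟨_, h2, by rw [h1]⟩
  · rintro ⟨g, hg, rfl⟩
    exact ⟨(mem_Fib_iff z z g).mpr ⟨rfl, hg⟩, isClosed_pt _⟩

/-- a closed subset of the spectrum with finitely many closed points is that finite set -/
theorem eq_of_finite_closedPoints {B : Type u} [CommRing B] [Algebra k B] [Algebra.FiniteType k B]
    (Z : Set (Spec (CommRingCat.of B))) (hZ : IsClosed Z)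
    (hfin : (Z ∩ closedPoints (Spec (CommRingCat.of B))).Finite) :
    Z = Z ∩ closedPoints (Spec (CommRingCat.of B)) := by
  haveI : IsJacobsonRing B := isJacobsonRing_of_finiteType (A := k) (B := B)
  have hcl : IsClosed (Z ∩ closedPoints (Spec (CommRingCat.of B))) := by
    have : Z ∩ closedPoints (Spec (CommRingCat.of B)) =
        ⋃ p ∈ Z ∩ closedPoints (Spec (CommRingCat.of B)), {p} :=
      (Set.biUnion_of_singleton _).symm
    rw [this]
    exact hfin.isClosed_biUnion fun p hp => hp.2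
  conv_lhs => rw [← closure_inter_closedPoints hZ]
  exact hcl.closure_eq

theorem quasiFiniteAt_of_finite (z : R →ₐ[k] k) (hfin : (Stab A z).Finite) :
    (P k A R).QuasiFiniteAt (pt (pair z (ofConv (1 : WithConv (A →ₐ[k] k))))) := by
  set e : A →ₐ[k] k := ofConv (1 : WithConv (A →ₐ[k] k)) with he
  have hez : GLin.actPt k e z = z := Lib.Helper96.GeomQuot.actPt_one z
  have hPe : (P k A R) (pt (pair z e)) = pt (pair z z) := by rw [P_pt, hez]
  rw [Scheme.Hom.quasiFiniteAt_iff_isOpen_singleton_asFiber,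
    ← ((P k A R).fiberHomeo _).isOpen_image]
  simp only [Set.image_singleton, Scheme.Hom.asFiber, Homeomorph.apply_symm_apply]
  refine (isOpen_singleton_subtype_iff ((P k A R) ⁻¹' {(P k A R) (pt (pair z e))})
    (pt (pair z e)) rfl).mpr ?_
  have hF : (P k A R) ⁻¹' {(P k A R) (pt (pair z e))} = Fib A z := by
    rw [hPe]
    rfl
  rw [hF]
  have hfin' : (Fib A z ∩ closedPoints (Spec (CommRingCat.of (R ⊗[k] A)))).Finite := by
    rw [Fib_inter_closedPoints]
    exact hfin.image _
  have hFeq := eq_of_finite_closedPoints (k := k) (Fib A z) (isClosed_Fib z) hfin'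
  have hFfin : (Fib A z).Finite := by rw [hFeq]; exact hfin'
  have hFcp : Fib A z ⊆ closedPoints (Spec (CommRingCat.of (R ⊗[k] A))) := by
    rw [hFeq]
    exact Set.inter_subset_right
  have hrest : IsClosed (Fib A z \ {pt (pair z e)}) := by
    have hsub : Fib A z \ {pt (pair z e)} ⊆ Fib A z := Set.diff_subset
    have : Fib A z \ {pt (pair z e)} = ⋃ p ∈ Fib A z \ {pt (pair z e)}, {p} :=
      (Set.biUnion_of_singleton _).symm
    rw [this]
    exact (hFfin.subset hsub).isClosed_biUnion fun p hp => hFcp (hsub hp)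
  refine ⟨(Fib A z \ {pt (pair z e)})ᶜ, hrest.isOpen_compl, ?_⟩
  ext q
  simp only [Set.mem_inter_iff, Set.mem_compl_iff, Set.mem_diff, Set.mem_singleton_iff, not_and,
    not_not]
  constructor
  · rintro ⟨h1, h2⟩
    exact h1 h2
  · rintro rfl
    exact ⟨fun _ => rfl, (mem_Fib_iff z z e).mpr ⟨rfl, hez⟩⟩

end Fib

section Transl
open AlgebraicGeometry CategoryTheory

variable {k : Type u} [Field k] [IsAlgClosed k] {A : Type u} [CommRing A] [HopfAlgebra k A]
  [Algebra.FiniteType k A]
variable {R : Type u} [CommRing R] [Algebra k R] [Algebra.FiniteType k R]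
  [c : HopfRep.Comod k A R] [GLin.IsCoactAlg k A R]

variable (R) in
/-- right translation by a rational point of the group on the product -/
noncomputable def TgEquiv (g : A →ₐ[k] k) : (R ⊗[k] A) ≃ₐ[k] (R ⊗[k] A) :=
  Algebra.TensorProduct.congr (AlgEquiv.refl : R ≃ₐ[k] R) (rhoEquiv (R := A) g)

variable (R) in
/-- right translation, as an automorphism of the spectrum of the product -/
noncomputable abbrev Tg (g : A →ₐ[k] k) :
    Spec (CommRingCat.of (R ⊗[k] A)) ⟶ Spec (CommRingCat.of (R ⊗[k] A)) :=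
  Spec.map (TgEquiv R g).toRingEquiv.toCommRingCatIso.hom

theorem pair_comp_TgEquiv (g : A →ₐ[k] k) (z' : R →ₐ[k] k) (g' : A →ₐ[k] k) :
    (pair z' g').comp (TgEquiv R g).toAlgHom = pair z' (ofConv (toConv g' * toConv g)) := by
  apply Algebra.TensorProduct.ext'
  intro r a
  have h1 : g' (rho (R := A) g a) = (ofConv (toConv g' * toConv g)) a := by
    rw [← actPt_regular, ← comp_rho]
    rfl
  simp [TgEquiv, rhoEquiv_apply, h1]

theorem Tg_pt (g : A →ₐ[k] k) (z' : R →ₐ[k] k) (g' : A →ₐ[k] k) :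
    (Tg R g) (pt (pair z' g')) = pt (pair z' (ofConv (toConv g' * toConv g))) := by
  rw [← pair_comp_TgEquiv]
  apply PrimeSpectrum.ext
  rfl

/-- the homeomorphism underlying right translation -/
noncomputable def TgHomeo (g : A →ₐ[k] k) :
    Spec (CommRingCat.of (R ⊗[k] A)) ≃ₜ Spec (CommRingCat.of (R ⊗[k] A)) :=
  Scheme.homeoOfIso (asIso (Tg R g))

theorem TgHomeo_pt (g : A →ₐ[k] k) (z' : R →ₐ[k] k) (g' : A →ₐ[k] k) :
    TgHomeo g (pt (pair z' g')) = pt (pair z' (ofConv (toConv g' * toConv g))) :=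
  Tg_pt g z' g'

theorem TgHomeo_symm_pt (g : A →ₐ[k] k) (z' : R →ₐ[k] k) (g' : A →ₐ[k] k) :
    (TgHomeo g).symm (pt (pair z' g')) = pt (pair z' (ofConv (toConv g' * (toConv g)⁻¹))) := by
  rw [Homeomorph.symm_apply_eq, TgHomeo_pt, toConv_ofConv, inv_mul_cancel_right, ofConv_toConv]

theorem mem_Stab_mul {z : R →ₐ[k] k} {g g' : A →ₐ[k] k} (hg : g ∈ Stab A z)
    (hg' : g' ∈ Stab A z) : ofConv (toConv g' * toConv g) ∈ Stab A z := by
  show GLin.actPt k _ z = z
  rw [← Lib.Helper96.GeomQuot.actPt_actPt, hg', hg]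

theorem mem_Stab_inv {z : R →ₐ[k] k} {g : A →ₐ[k] k} (hg : g ∈ Stab A z) :
    ofConv ((toConv g)⁻¹) ∈ Stab A z := by
  show GLin.actPt k _ z = z
  have h := actPt_inv g z
  rw [hg] at h
  exact h

theorem mapsTo_Fib (z : R →ₐ[k] k) (τ : Spec (CommRingCat.of (R ⊗[k] A)) → Spec (CommRingCat.of (R ⊗[k] A)))
    (hτ : Continuous τ) (g : A →ₐ[k] k) (hg : g ∈ Stab A z)
    (hpt : ∀ g' : A →ₐ[k] k, τ (pt (pair z g')) = pt (pair z (ofConv (toConv g' * toConv g)))) :
    Set.MapsTo τ (Fib A z) (Fib A z) := by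
  haveI : IsJacobsonRing (R ⊗[k] A) := isJacobsonRing_of_finiteType (A := k) (B := R ⊗[k] A)
  intro p hp
  rw [← closure_inter_closedPoints (isClosed_Fib (A := A) z)] at hp
  have h1 : τ p ∈ closure (Fib A z) := by
    refine map_mem_closure hτ hp ?_
    intro q hq
    rw [Fib_inter_closedPoints] at hq
    obtain ⟨g', hg', rfl⟩ := hq
    show τ (pt (pair z g')) ∈ Fib A z
    rw [hpt]
    exact (mem_Fib_iff z z _).mpr ⟨rfl, mem_Stab_mul hg hg'⟩
  rwa [(isClosed_Fib z).closure_eq] at h1

theorem finite_of_quasiFiniteAt (z : R →ₐ[k] k)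
    (h : (P k A R).QuasiFiniteAt (pt (pair z (ofConv (1 : WithConv (A →ₐ[k] k)))))) :
    (Stab A z).Finite := by
  haveI : IsJacobsonRing (R ⊗[k] A) := isJacobsonRing_of_finiteType (A := k) (B := R ⊗[k] A)
  set e : A →ₐ[k] k := ofConv (1 : WithConv (A →ₐ[k] k)) with he
  have hez : GLin.actPt k e z = z := Lib.Helper96.GeomQuot.actPt_one z
  have hPe : (P k A R) (pt (pair z e)) = pt (pair z z) := by rw [P_pt, hez]
  rw [Scheme.Hom.quasiFiniteAt_iff_isOpen_singleton_asFiber,
    ← ((P k A R).fiberHomeo _).isOpen_image] at h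
  simp only [Set.image_singleton, Scheme.Hom.asFiber, Homeomorph.apply_symm_apply] at h
  obtain ⟨U₀, hU₀, hU₀e⟩ := (isOpen_singleton_subtype_iff
    ((P k A R) ⁻¹' {(P k A R) (pt (pair z e))}) (pt (pair z e)) rfl).mp h
  have hF : (P k A R) ⁻¹' {(P k A R) (pt (pair z e))} = Fib A z := by
    rw [hPe]
    rfl
  rw [hF] at hU₀e
  have hiso : ∀ g ∈ Stab A z, ∃ U, IsOpen U ∧ U ∩ Fib A z = {pt (pair z g)} := by
    intro g hg
    refine ⟨TgHomeo g '' U₀, (TgHomeo g).isOpenMap _ hU₀, ?_⟩
    have h1 : Set.MapsTo (TgHomeo g) (Fib A z) (Fib A z) :=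
      mapsTo_Fib z _ (TgHomeo g).continuous g hg (fun g' => TgHomeo_pt g z g')
    have h2 : Set.MapsTo (TgHomeo g).symm (Fib A z) (Fib A z) := by
      refine mapsTo_Fib z _ (TgHomeo g).symm.continuous _ (mem_Stab_inv hg) (fun g' => ?_)
      rw [TgHomeo_symm_pt, toConv_ofConv]
    have hge : TgHomeo g (pt (pair z e)) = pt (pair z g) := by
      rw [TgHomeo_pt, he, toConv_ofConv, one_mul, ofConv_toConv]
    ext q
    constructor
    · rintro ⟨⟨u, hu, rfl⟩, hq⟩
      have hu' : u ∈ Fib A z := by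
        have := h2 hq
        rwa [Homeomorph.symm_apply_apply] at this
      have : u ∈ U₀ ∩ Fib A z := ⟨hu, hu'⟩
      rw [hU₀e] at this
      rw [Set.mem_singleton_iff] at this ⊢
      rw [this, hge]
    · intro hq
      rw [Set.mem_singleton_iff] at hq
      subst hq
      have hmem : pt (pair z e) ∈ U₀ ∩ Fib A z := by rw [hU₀e]; rfl
      refine ⟨⟨_, hmem.1, hge⟩, ?_⟩
      rw [← hge]
      exact h1 hmem.2
  have hFcp : Fib A z ⊆ closedPoints (Spec (CommRingCat.of (R ⊗[k] A))) := by
    by_contra hne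
    rw [Set.not_subset] at hne
    obtain ⟨p₀, hp₀F, hp₀c⟩ := hne
    choose! U hUo hUe using hiso
    set V : Set (Spec (CommRingCat.of (R ⊗[k] A))) := ⋃ g ∈ Stab A z, U g with hV
    have hVo : IsOpen V := isOpen_biUnion fun g hg => hUo g hg
    have hZ : IsClosed (Fib A z ∩ Vᶜ) := (isClosed_Fib z).inter hVo.isClosed_compl
    have hp₀ : p₀ ∈ Fib A z ∩ Vᶜ := by
      refine ⟨hp₀F, ?_⟩
      intro hp₀V
      rw [hV, Set.mem_iUnion₂] at hp₀V
      obtain ⟨g, hg, hpU⟩ := hp₀V
      have : p₀ ∈ U g ∩ Fib A z := ⟨hpU, hp₀F⟩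
      rw [hUe g hg, Set.mem_singleton_iff] at this
      apply hp₀c
      rw [this]
      exact isClosed_pt _
    obtain ⟨q, hqZ, hqc⟩ := nonempty_inter_closedPoints ⟨p₀, hp₀⟩ hZ.isLocallyClosed
    have hq' : q ∈ Fib A z ∩ closedPoints (Spec (CommRingCat.of (R ⊗[k] A))) := ⟨hqZ.1, hqc⟩
    rw [Fib_inter_closedPoints] at hq'
    obtain ⟨g, hg, rfl⟩ := hq'
    apply hqZ.2
    rw [hV, Set.mem_iUnion₂]
    refine ⟨g, hg, ?_⟩
    have : pt (pair z g) ∈ U g ∩ Fib A z := by rw [hUe g hg]; rfl
    exact this.1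
  have hdisc : _root_.IsDiscrete (Fib A z) := by
    rw [isDiscrete_iff_forall_mem_exists_isOpen]
    intro p hp
    have hp' : p ∈ Fib A z ∩ closedPoints (Spec (CommRingCat.of (R ⊗[k] A))) := ⟨hp, hFcp hp⟩
    rw [Fib_inter_closedPoints] at hp'
    obtain ⟨g, hg, rfl⟩ := hp'
    exact hiso g hg
  have hfinF : (Fib A z).Finite := (isClosed_Fib z).isCompact.finite hdisc
  refine Set.Finite.of_finite_image (f := fun g => pt (pair z g)) (hfinF.subset ?_) ?_
  · rintro _ ⟨g, hg, rfl⟩
    exact (mem_Fib_iff z z g).mpr ⟨rfl, hg⟩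
  · intro g _ g' _ hgg'
    exact (pair_injective (pt_injective hgg')).2

end Transl

section Open
open AlgebraicGeometry CategoryTheory

variable {k : Type u} [Field k] [IsAlgClosed k] {A : Type u} [CommRing A] [HopfAlgebra k A]
  [Algebra.FiniteType k A]
variable {R : Type u} [CommRing R] [Algebra k R] [Algebra.FiniteType k R]
  [c : HopfRep.Comod k A R] [GLin.IsCoactAlg k A R]

variable (A R) in
/-- the ring map of the identity section `z ↦ (z, e)` -/
noncomputable def sigma : R ⊗[k] A →ₐ[k] R :=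
  Algebra.TensorProduct.productMap (AlgHom.id k R)
    ((Algebra.ofId k R).comp (Bialgebra.counitAlgHom k A))

theorem comp_sigma (z : R →ₐ[k] k) :
    z.comp (sigma A R) = pair z (ofConv (1 : WithConv (A →ₐ[k] k))) := by
  apply Algebra.TensorProduct.ext'
  intro r a
  rw [AlgHom.convOne_def]
  simp [sigma, Algebra.ofId_apply]

/-- the locus of rational points with finite stabiliser is open -/
theorem exists_open_finite_stab (x : R →ₐ[k] k) (hfin : (Stab A x).Finite) :
    ∃ h : R, x h ≠ 0 ∧ ∀ z : R →ₐ[k] k, z h ≠ 0 → (Stab A z).Finite := by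
  let s : Spec (CommRingCat.of R) ⟶ Spec (CommRingCat.of (R ⊗[k] A)) :=
    Spec.map (CommRingCat.ofHom (sigma A R).toRingHom)
  have hs : ∀ z : R →ₐ[k] k, s (pt z) = pt (pair z (ofConv (1 : WithConv (A →ₐ[k] k)))) := by
    intro z
    rw [← comp_sigma]
    exact specMap_pt (sigma A R) z
  have hU : IsOpen {p | (P k A R).QuasiFiniteAt p} := (P k A R).isOpen_quasiFiniteAt
  have hU' : IsOpen (s.base ⁻¹' {p | (P k A R).QuasiFiniteAt p}) := hU.preimage s.continuous
  have hx : pt x ∈ s.base ⁻¹' {p | (P k A R).QuasiFiniteAt p} := by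
    show (P k A R).QuasiFiniteAt (s (pt x))
    rw [hs]
    exact quasiFiniteAt_of_finite x hfin
  obtain ⟨_, ⟨h, rfl⟩, hxh, hsub⟩ :=
    PrimeSpectrum.isTopologicalBasis_basic_opens.exists_subset_of_mem_open hx hU'
  refine ⟨h, ?_, ?_⟩
  · intro hx0
    exact hxh ((RingHom.mem_ker).mpr hx0)
  · intro z hz
    apply finite_of_quasiFiniteAt
    have hmem : pt z ∈ (PrimeSpectrum.basicOpen h : Set (PrimeSpectrum R)) := by
      intro hz0
      exact hz ((RingHom.mem_ker).mp hz0)
    have := hsub hmem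
    have h2 : (P k A R).QuasiFiniteAt (s (pt z)) := this
    rwa [hs] at h2

end Open

end StabOpen

end Groth.Agent.Lib.Helper81
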