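import Mathlib
import Groth.Agent.Lib.Helper81.OrbitDimHopf
import Groth.Agent.S11794

/-! Stable points of actions of linearly reductive groups on affine varieties: the fibre of the
quotient map through a stable point is its orbit (Hopf-algebra / rational-point language). -/

set_option autoImplicit false
set_option linter.style.haveILetI false
set_option linter.unusedSectionVars false

open TensorProduct WithConv Topology
universe u
namespace Groth.Agent.Lib.Helper81

namespace StableFibre

open ClosedOrbit OrbitDimHopf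

section
variable {k : Type u} [Field k] [IsAlgClosed k] {A : Type u} [CommRing A] [HopfAlgebra k A]
  [Algebra.FiniteType k A]
variable {R : Type u} [CommRing R] [Algebra k R] [Algebra.FiniteType k R]
  [c : HopfRep.Comod k A R] [GLin.IsCoactAlg k A R]

theorem stab_eq (x : R →ₐ[k] k) :
    {g : A →ₐ[k] k | ∀ f : R, x (HopfRep.Comod.act k A R g f) = x f} =
      {g : A →ₐ[k] k | GLin.actPt k g x = x} := by
  ext g
  simp only [Set.mem_ofPred_eq, Set.mem_setOf_eq]
  constructor
  · intro h
    apply AlgHom.ext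
    intro f
    rw [← apply_act]
    exact h f
  · intro h f
    rw [apply_act, h]

theorem closed_iff (x : R →ₐ[k] k) :
    (∀ z : R →ₐ[k] k,
      (∀ f : R, (∀ g : A →ₐ[k] k, x (HopfRep.Comod.act k A R g f) = 0) → z f = 0) →
        ∃ g : A →ₐ[k] k, ∀ f : R, z f = x (HopfRep.Comod.act k A R g f)) ↔
      ∀ z : R →ₐ[k] k, K A x ≤ RingHom.ker z → ∃ g : A →ₐ[k] k, z = GLin.actPt k g x := by
  constructor
  · intro h z hz
    obtain ⟨g, hg⟩ := h z ((forall_act_iff x z).mpr hz)
    exact ⟨g, AlgHom.ext fun f => by rw [hg f, apply_act]⟩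
  · intro h z hz
    obtain ⟨g, hg⟩ := h z ((forall_act_iff x z).mp hz)
    exact ⟨g, fun f => by rw [hg, apply_act]⟩

/-- stabilisers along an orbit are conjugate, hence simultaneously finite -/
theorem finite_stab_actPt (x : R →ₐ[k] k) (g : A →ₐ[k] k)
    (hfin : {h : A →ₐ[k] k | GLin.actPt k h x = x}.Finite) :
    {h : A →ₐ[k] k | GLin.actPt k h (GLin.actPt k g x) = GLin.actPt k g x}.Finite := by
  let φ : (A →ₐ[k] k) → (A →ₐ[k] k) := fun h => ofConv (toConv g * toConv h * (toConv g)⁻¹)
  have hφ : Function.Injective φ := by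
    intro h h' e
    have e' : toConv g * toConv h * (toConv g)⁻¹ = toConv g * toConv h' * (toConv g)⁻¹ :=
      congrArg toConv e
    have e'' : toConv h = toConv h' := by
      have := mul_right_cancel e'
      exact mul_left_cancel this
    exact congrArg ofConv e''
  refine (hfin.preimage (hφ.injOn)).subset ?_
  intro h hh
  simp only [Set.mem_setOf_eq, Set.mem_preimage] at hh ⊢
  show GLin.actPt k (ofConv (toConv g * toConv h * (toConv g)⁻¹)) x = x
  have h1 : GLin.actPt k (ofConv ((toConv g)⁻¹)) (GLin.actPt k h (GLin.actPt k g x)) = x := by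
    rw [hh]
    exact actPt_inv g x
  rw [Lib.Helper96.GeomQuot.actPt_actPt, Lib.Helper96.GeomQuot.actPt_actPt] at h1
  simp only [toConv_ofConv] at h1
  rw [mul_assoc]
  exact h1

variable [IsDomain R] [CharZero k]

/-- invariants are constant on orbit closures -/
theorem invariants_eq_of_le (hG : HopfRep.IsLinearlyReductive k A) {x y : R →ₐ[k] k}
    (h : K A x ≤ RingHom.ker y) : ∀ f ∈ HopfRep.fixedPts k A R, x f = y f := by
  rw [Groth.Agent.S11794.result k A hG R (GLin.IsCoactAlg.coact_mul (k := k) (A := A))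
    (GLin.IsCoactAlg.coact_one (k := k) (A := A)) x y]
  refine ⟨y, ?_, ?_⟩
  · rw [forall_act_iff]
    exact h
  · rw [forall_act_iff]
    exact K_le_ker y

/-- points with the same invariants have intersecting orbit closures -/
theorem exists_common (hG : HopfRep.IsLinearlyReductive k A) {x y : R →ₐ[k] k}
    (h : ∀ f ∈ HopfRep.fixedPts k A R, x f = y f) :
    ∃ z : R →ₐ[k] k, K A x ≤ RingHom.ker z ∧ K A y ≤ RingHom.ker z := by
  obtain ⟨z, hz1, hz2⟩ := (Groth.Agent.S11794.result k A hG R
    (GLin.IsCoactAlg.coact_mul (k := k) (A := A))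
    (GLin.IsCoactAlg.coact_one (k := k) (A := A)) x y).mp h
  rw [forall_act_iff] at hz1 hz2
  exact ⟨z, hz1, hz2⟩

/-- the fibre of the quotient map through a stable point is its orbit -/
theorem exists_actPt_of_stable (hG : HopfRep.IsLinearlyReductive k A) (x : R →ₐ[k] k)
    (hcl : ∀ z : R →ₐ[k] k, K A x ≤ RingHom.ker z → ∃ g : A →ₐ[k] k, z = GLin.actPt k g x)
    (hfin : {g : A →ₐ[k] k | GLin.actPt k g x = x}.Finite)
    (y : R →ₐ[k] k) (hinv : ∀ f ∈ HopfRep.fixedPts k A R, x f = y f) :
    ∃ g : A →ₐ[k] k, y = GLin.actPt k g x := by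
  obtain ⟨z, hz1, hz2⟩ := exists_common hG hinv
  obtain ⟨g, hg⟩ := hcl z hz1
  have hKy : K A y ≤ K A x := by
    have := K_mono hz2
    rwa [hg, K_actPt] at this
  exact exists_actPt_of_le_of_finite hKy hfin

/-- a point all of whose fibre-mates have finite stabilisers has a closed orbit -/
theorem closed_of_forall_finite (hG : HopfRep.IsLinearlyReductive k A) (x : R →ₐ[k] k)
    (hall : ∀ z : R →ₐ[k] k, (∀ f ∈ HopfRep.fixedPts k A R, z f = x f) →
      {g : A →ₐ[k] k | GLin.actPt k g z = z}.Finite) :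
    ∀ z : R →ₐ[k] k, K A x ≤ RingHom.ker z → ∃ g : A →ₐ[k] k, z = GLin.actPt k g x := by
  obtain ⟨y₀, hxy₀, hy₀cl⟩ := exists_closed_orbit (A := A) x
  have hinv := invariants_eq_of_le hG hxy₀
  have hfin₀ := hall y₀ (fun f hf => (hinv f hf).symm)
  obtain ⟨g, hg⟩ := exists_actPt_of_le_of_finite (K_mono hxy₀) hfin₀
  intro z hz
  have hK : K A x = K A y₀ := by rw [hg, K_actPt]
  obtain ⟨h, hh⟩ := hy₀cl z (hK ▸ hz)
  have hy₀ : y₀ = GLin.actPt k (g.comp (HopfAlgebra.antipodeAlgHom k A)) x := by
    rw [hg, actPt_inv]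
  refine ⟨ofConv (toConv (g.comp (HopfAlgebra.antipodeAlgHom k A)) * toConv h), ?_⟩
  rw [← Lib.Helper96.GeomQuot.actPt_actPt, ← hy₀, hh]

end

end StableFibre

end Groth.Agent.Lib.Helper81
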