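import Mathlib
import Groth.Agent.Lib.Helper81.StabOpen
import Groth.Agent.Lib.Helper81.StableFibre
import Groth.Agent.Lib.Helper96.LinRed
import Groth.Agent.Lib.Helper96.Reynolds

/-! The stable locus of an action of a linearly reductive group on an affine scheme of finite type
is cut out by invariants (Hopf-algebra / rational-point language). -/

set_option autoImplicit false
set_option linter.style.haveILetI false
set_option linter.unusedSectionVars false

open TensorProduct WithConv Topology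
universe u
namespace Groth.Agent.Lib.Helper81

namespace StableOpen

open ClosedOrbit OrbitDimHopf StabOpen

section
variable {k : Type u} [Field k] [IsAlgClosed k] {A : Type u} [CommRing A] [HopfAlgebra k A]
  [Algebra.FiniteType k A]
variable {R : Type u} [CommRing R] [Algebra k R] [Algebra.FiniteType k R]
  [c : HopfRep.Comod k A R] [GLin.IsCoactAlg k A R]

theorem apply_reyn (α : A →ₗ[k] k) (z : R →ₐ[k] k) (a : R) :
    z (Lib.Helper96.reyn c α a) =
      (α ∘ₗ (HopfAlgebra.antipode k (A := A))) (Lib.Helper96.OrbitSep.orbMap c z a) := by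
  rw [Lib.Helper96.reyn_apply, Lib.Helper96.OrbitSep.orbMap_apply, dual_orbMap]

theorem invariants_eq_of_le {x y : R →ₐ[k] k} (h : K A x ≤ RingHom.ker y) :
    ∀ f ∈ HopfRep.fixedPts k A R, x f = y f := by
  intro f hf
  have hf' : c.coact f = f ⊗ₜ[k] (1 : A) := hf
  have hone : c.coact (1 : R) = 1 := GLin.IsCoactAlg.coact_one (k := k) (A := A)
  have h0 : f - algebraMap k R (x f) ∈ K A x := by
    rw [mem_K_iff, map_sub, Lib.Helper96.OrbitSep.orbMap_fixed c x hf',
      Algebra.algebraMap_eq_smul_one, map_smul, Lib.Helper96.OrbitSep.orbMap_one c hone, sub_self]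
  have h1 := h h0
  rw [RingHom.mem_ker, map_sub, AlgHom.commutes, sub_eq_zero] at h1
  simpa using h1.symm

variable (α : A →ₗ[k] k)
  (hα : @Hoch.IsComodHom k _ A _ _ _ A _ _ _ k _ _ (HopfRep.Comod.trivial k A k) α) (h1 : α 1 = 1)

include hα h1 in
theorem exists_common {x y : R →ₐ[k] k} (h : ∀ f ∈ HopfRep.fixedPts k A R, x f = y f) :
    ∃ z : R →ₐ[k] k, K A x ≤ RingHom.ker z ∧ K A y ≤ RingHom.ker z := by
  by_contra hno
  push Not at hno
  have htop : K A x ⊔ K A y = ⊤ := by
    by_contra hne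
    obtain ⟨z, hz⟩ := Lib.Helper96.OrbitSep.exists_algHom_of_ne_top (k := k) _ hne
    exact hno z (fun f hf => hz f ((le_sup_left : K A x ≤ _) hf))
      (fun f hf => hz f ((le_sup_right : K A y ≤ K A x ⊔ K A y) hf))
  have h1mem : (1 : R) ∈ K A x ⊔ K A y := by rw [htop]; trivial
  obtain ⟨a, ha, b, hb, hab⟩ := Submodule.mem_sup.mp h1mem
  have hone : c.coact (1 : R) = 1 := GLin.IsCoactAlg.coact_one (k := k) (A := A)
  have hone' : c.coact (1 : R) = (1 : R) ⊗ₜ[k] (1 : A) := by
    rw [hone, Algebra.TensorProduct.one_def]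
  have hE1 : Lib.Helper96.reyn c α 1 = 1 := Lib.Helper96.reyn_of_fixed c α h1 hone'
  have hsum : Lib.Helper96.reyn c α a + Lib.Helper96.reyn c α b = 1 := by
    rw [← map_add, hab, hE1]
  have hx0 : x (Lib.Helper96.reyn c α a) = 0 := by
    rw [apply_reyn, (mem_K_iff x a).mp ha, map_zero]
  have hy0 : y (Lib.Helper96.reyn c α b) = 0 := by
    rw [apply_reyn, (mem_K_iff y b).mp hb, map_zero]
  have hy1 : y (Lib.Helper96.reyn c α a) = 1 := by
    have := congrArg y hsum
    rw [map_add, hy0, add_zero, map_one] at this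
    exact this
  have := h (Lib.Helper96.reyn c α a) (Lib.Helper96.coact_reyn c α hα a)
  rw [hx0, hy1] at this
  exact zero_ne_one this

include hα h1 in
/-- the fibre of the quotient map through a stable point is its orbit -/
theorem exists_actPt_of_stable (x : R →ₐ[k] k)
    (hcl : ∀ z : R →ₐ[k] k, K A x ≤ RingHom.ker z → ∃ g : A →ₐ[k] k, z = GLin.actPt k g x)
    (hfin : (Stab A x).Finite)
    (y : R →ₐ[k] k) (hinv : ∀ f ∈ HopfRep.fixedPts k A R, x f = y f) :
    ∃ g : A →ₐ[k] k, y = GLin.actPt k g x := by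
  obtain ⟨z, hz1, hz2⟩ := exists_common α hα h1 hinv
  obtain ⟨g, hg⟩ := hcl z hz1
  have hKy : K A y ≤ K A x := by
    have := K_mono hz2
    rwa [hg, K_actPt] at this
  exact exists_actPt_of_le_of_finite hKy hfin

/-- a point all of whose fibre-mates have finite stabilisers has a closed orbit -/
theorem closed_of_forall_finite (x : R →ₐ[k] k)
    (hall : ∀ z : R →ₐ[k] k, (∀ f ∈ HopfRep.fixedPts k A R, z f = x f) → (Stab A z).Finite) :
    ∀ z : R →ₐ[k] k, K A x ≤ RingHom.ker z → ∃ g : A →ₐ[k] k, z = GLin.actPt k g x := by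
  obtain ⟨y₀, hxy₀, hy₀cl⟩ := exists_closed_orbit (A := A) x
  have hinv := invariants_eq_of_le hxy₀
  have hfin₀ := hall y₀ (fun f hf => (hinv f hf).symm)
  obtain ⟨g, hg⟩ := exists_actPt_of_le_of_finite (K_mono hxy₀) hfin₀
  intro z hz
  have hK : K A x = K A y₀ := by rw [hg, K_actPt]
  obtain ⟨h, hh⟩ := hy₀cl z (hK ▸ hz)
  have hy₀ : y₀ = GLin.actPt k (g.comp (HopfAlgebra.antipodeAlgHom k A)) x := by
    rw [hg, actPt_inv]
  refine ⟨ofConv (toConv (g.comp (HopfAlgebra.antipodeAlgHom k A)) * toConv h), ?_⟩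
  rw [← Lib.Helper96.GeomQuot.actPt_actPt, ← hy₀, hh]

theorem finite_stab_of_actPt (z : R →ₐ[k] k) (g : A →ₐ[k] k)
    (h : (Stab A (GLin.actPt k g z)).Finite) : (Stab A z).Finite := by
  have := StableFibre.finite_stab_actPt (GLin.actPt k g z)
    (g.comp (HopfAlgebra.antipodeAlgHom k A)) h
  rwa [actPt_inv] at this

include hα h1 in
/-- the stable locus is cut out by invariants -/
theorem stable_iff_exists [IsReduced A] :
    ∃ S : Set R, S ⊆ (HopfRep.fixedPts k A R : Set R) ∧
      ∀ x : R →ₐ[k] k,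
        ((∀ z : R →ₐ[k] k, K A x ≤ RingHom.ker z → ∃ g : A →ₐ[k] k, z = GLin.actPt k g x) ∧
          (Stab A x).Finite) ↔ ∃ f ∈ S, x f ≠ 0 := by
  refine ⟨{f | f ∈ HopfRep.fixedPts k A R ∧ ∀ z : R →ₐ[k] k, ¬ (Stab A z).Finite → z f = 0},
    fun f hf => hf.1, ?_⟩
  intro x
  constructor
  · rintro ⟨hcl, hfin⟩
    let J : Ideal R := ⨅ z : {z : R →ₐ[k] k // ¬ (Stab A z).Finite}, RingHom.ker z.1
    have hJ : ∀ f : R, f ∈ J ↔ ∀ z : R →ₐ[k] k, ¬ (Stab A z).Finite → z f = 0 := by
      intro f
      simp only [J, Ideal.mem_iInf, RingHom.mem_ker, Subtype.forall]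
    have htop : J ⊔ K A x = ⊤ := by
      by_contra hne
      obtain ⟨w, hw⟩ := Lib.Helper96.OrbitSep.exists_algHom_of_ne_top (k := k) _ hne
      obtain ⟨g, hg⟩ := hcl w (fun f hf => hw f ((le_sup_right : K A x ≤ J ⊔ K A x) hf))
      have hwfin : (Stab A w).Finite := by
        rw [hg]
        exact StableFibre.finite_stab_actPt x g hfin
      obtain ⟨h, hwh, hh⟩ := exists_open_finite_stab w hwfin
      apply hwh
      apply hw h
      apply (le_sup_left : J ≤ J ⊔ K A x)
      rw [hJ]
      intro z hz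
      by_contra hzh
      exact hz (hh z hzh)
    have h1mem : (1 : R) ∈ J ⊔ K A x := by rw [htop]; trivial
    obtain ⟨a, ha, b, hb, hab⟩ := Submodule.mem_sup.mp h1mem
    have hone : c.coact (1 : R) = 1 := GLin.IsCoactAlg.coact_one (k := k) (A := A)
    have hone' : c.coact (1 : R) = (1 : R) ⊗ₜ[k] (1 : A) := by
      rw [hone, Algebra.TensorProduct.one_def]
    have hE1 : Lib.Helper96.reyn c α 1 = 1 := Lib.Helper96.reyn_of_fixed c α h1 hone'
    refine ⟨Lib.Helper96.reyn c α a, ⟨Lib.Helper96.coact_reyn c α hα a, ?_⟩, ?_⟩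
    · intro z hz
      rw [apply_reyn]
      have h0 : Lib.Helper96.OrbitSep.orbMap c z a = 0 := by
        apply IsNilpotent.eq_zero
        apply Lib.Helper96.OrbitSep.isNilpotent_of_forall_algHom (k := k)
        intro g
        rw [← Lib.Helper96.GeomQuot.actPt_apply]
        apply (hJ a).mp ha
        intro hfin'
        exact hz (finite_stab_of_actPt z g hfin')
      rw [h0, map_zero]
    · have hb0 : x (Lib.Helper96.reyn c α b) = 0 := by
        rw [apply_reyn, (mem_K_iff x b).mp hb, map_zero]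
      have hsum : Lib.Helper96.reyn c α a + Lib.Helper96.reyn c α b = 1 := by
        rw [← map_add, hab, hE1]
      have := congrArg x hsum
      rw [map_add, hb0, add_zero, map_one] at this
      rw [this]
      exact one_ne_zero
  · rintro ⟨f, ⟨hfinv, hfZ⟩, hxf⟩
    have hall : ∀ z : R →ₐ[k] k, (∀ f ∈ HopfRep.fixedPts k A R, z f = x f) →
        (Stab A z).Finite := by
      intro z hz
      by_contra hzfin
      have := hfZ z hzfin
      rw [hz f hfinv] at this
      exact hxf this
    exact ⟨closed_of_forall_finite x hall, hall x (fun f _ => rfl)⟩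

end

end StableOpen

end Groth.Agent.Lib.Helper81
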