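import Groth.Agent.Lib.Helper81.IsQuotBasis

set_option autoImplicit false
set_option linter.style.haveILetI false
set_option linter.unusedSectionVars false
universe u
open CategoryTheory CategoryTheory.Limits AlgebraicGeometry Opposite TopologicalSpace

namespace Groth.Agent.Lib.Helper81.Quot

variable {X Y W V : Scheme.{u}} {G : Type u} [Group G]

section LiftAut

variable (ρ : G →* Aut X) (k : W ⟶ X) [IsOpenImmersion k]
  (hstab : ∀ g : G, Set.range (k ≫ (ρ g).hom).base ⊆ Set.range k.base)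

noncomputable def liftHom (g : G) : W ⟶ W :=
  IsOpenImmersion.lift k (k ≫ (ρ g).hom) (hstab g)

theorem liftHom_fac (g : G) : liftHom ρ k hstab g ≫ k = k ≫ (ρ g).hom :=
  IsOpenImmersion.lift_fac _ _ _

theorem liftHom_one : liftHom ρ k hstab 1 = 𝟙 W := by
  rw [← cancel_mono k, liftHom_fac, map_one]
  simp
  rfl

theorem liftHom_mul (g h : G) :
    liftHom ρ k hstab (g * h) = liftHom ρ k hstab h ≫ liftHom ρ k hstab g := by
  rw [← cancel_mono k, liftHom_fac, Category.assoc, liftHom_fac, reassoc_of% (liftHom_fac ρ k hstab h),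
    map_mul]
  rfl

noncomputable def liftIso (g : G) : W ≅ W where
  hom := liftHom ρ k hstab g
  inv := liftHom ρ k hstab g⁻¹
  hom_inv_id := by rw [← liftHom_mul, inv_mul_cancel, liftHom_one]
  inv_hom_id := by rw [← liftHom_mul, mul_inv_cancel, liftHom_one]

noncomputable def liftAut : G →* Aut W where
  toFun g := liftIso ρ k hstab g
  map_one' := Iso.ext (liftHom_one ρ k hstab)
  map_mul' g h := Iso.ext (liftHom_mul ρ k hstab g h)

theorem liftAut_hom_fac (g : G) : ((liftAut ρ k hstab) g).hom ≫ k = k ≫ (ρ g).hom :=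
  liftHom_fac ρ k hstab g

theorem liftAut_inv_fac (g : G) : ((liftAut ρ k hstab) g).inv ≫ k = k ≫ (ρ g).inv := by
  have h1 : ((liftAut ρ k hstab) g).inv = liftHom ρ k hstab g⁻¹ := rfl
  rw [h1, liftHom_fac, map_inv]
  rfl

end LiftAut

section Chart

variable (ρ : G →* Aut X) (p : X ⟶ Y) (hinv : ∀ g : G, (ρ g).hom ≫ p = p)
  (k : W ⟶ X) (j : V ⟶ Y) [IsOpenImmersion k] [IsOpenImmersion j] (q : W ⟶ V)
  (hsq : k ≫ p = q ≫ j) (hrange : k.opensRange = p ⁻¹ᵁ j.opensRange)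
  (ρ' : G →* Aut W) (hρ' : ∀ g, (ρ' g).hom ≫ k = k ≫ (ρ g).hom)
  (hq : SGA1.IsQuot ρ' q) (U : Y.Opens) (hU : U ≤ j.opensRange)

include hsq in
theorem chart_le : q ⁻¹ᵁ (j ⁻¹ᵁ U) ≤ k ⁻¹ᵁ (p ⁻¹ᵁ U) := by
  rw [← Scheme.Hom.comp_preimage, ← Scheme.Hom.comp_preimage, hsq]

include hsq in
theorem chart_eq : q ⁻¹ᵁ (j ⁻¹ᵁ U) = k ⁻¹ᵁ (p ⁻¹ᵁ U) := by
  rw [← Scheme.Hom.comp_preimage, ← Scheme.Hom.comp_preimage, hsq]

include hsq in
theorem chart_square :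
    p.app U ≫ k.appLE (p ⁻¹ᵁ U) (q ⁻¹ᵁ (j ⁻¹ᵁ U)) (chart_le p k j q hsq U) =
      j.app U ≫ q.app (j ⁻¹ᵁ U) := by
  rw [← Scheme.Hom.comp_appLE, appLE_congr_hom hsq]
  exact (Scheme.Hom.appLE_eq_app (f := q ≫ j) (U := U)).trans (Scheme.Hom.comp_app q j U)

include hsq hrange hU in
theorem chart_gamma_injective :
    Function.Injective
      (k.appLE (p ⁻¹ᵁ U) (q ⁻¹ᵁ (j ⁻¹ᵁ U)) (chart_le p k j q hsq U)).hom := by
  have hle : p ⁻¹ᵁ U ≤ k.opensRange := by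
    rw [hrange]
    exact ((Opens.map p.base).map (homOfLE hU)).le
  haveI : IsIso (k.app (p ⁻¹ᵁ U)) := Scheme.Hom.isIso_app k _ hle
  have e := chart_eq p k j q hsq U
  have h2 : homOfLE (chart_le p k j q hsq U) = eqToHom e := Subsingleton.elim _ _
  haveI : IsIso (k.appLE (p ⁻¹ᵁ U) (q ⁻¹ᵁ (j ⁻¹ᵁ U)) (chart_le p k j q hsq U)) := by
    rw [Scheme.Hom.appLE, h2]
    infer_instance
  exact (ConcreteCategory.bijective_of_isIso _).injective

include hsq hrange hU hq in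
theorem chart_injective : Function.Injective (p.app U).hom := by
  haveI : IsIso (j.app U) := Scheme.Hom.isIso_app j U hU
  have h1 : Function.Injective (j.app U ≫ q.app (j ⁻¹ᵁ U)).hom := by
    rw [CommRingCat.hom_comp, RingHom.coe_comp]
    exact (hq.injective _).comp (ConcreteCategory.bijective_of_isIso (j.app U)).injective
  rw [← chart_square p k j q hsq U, CommRingCat.hom_comp, RingHom.coe_comp] at h1
  exact Function.Injective.of_comp h1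

include hsq hrange hU hq hρ' in
theorem chart_mem_range (s : Γ(X, p ⁻¹ᵁ U))
    (hs : ∀ g, (sec ρ (p ⁻¹ᵁ U) (fun g => SGA1.preimage_le_of_inv ρ p hinv g U) g).hom s = s) :
    s ∈ Set.range (p.app U).hom := by
  haveI : IsIso (j.app U) := Scheme.Hom.isIso_app j U hU
  obtain ⟨γ, hγ⟩ : ∃ γ, γ = k.appLE (p ⁻¹ᵁ U) (q ⁻¹ᵁ (j ⁻¹ᵁ U)) (chart_le p k j q hsq U) :=
    ⟨_, rfl⟩
  have hγinj : Function.Injective γ.hom := by
    rw [hγ]; exact chart_gamma_injective p k j q hsq hrange U hU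
  have hsq' : p.app U ≫ γ = j.app U ≫ q.app (j ⁻¹ᵁ U) := by
    rw [hγ]; exact chart_square p k j q hsq U
  have hs'' : ∀ g, ((ρ' g).hom.appLE (q ⁻¹ᵁ (j ⁻¹ᵁ U)) (q ⁻¹ᵁ (j ⁻¹ᵁ U))
      (SGA1.preimage_le_of_inv ρ' q hq.inv g (j ⁻¹ᵁ U))).hom (γ.hom s) = γ.hom s := by
    intro g
    have h1 : γ ≫ (ρ' g).hom.appLE (q ⁻¹ᵁ (j ⁻¹ᵁ U)) (q ⁻¹ᵁ (j ⁻¹ᵁ U))
        (SGA1.preimage_le_of_inv ρ' q hq.inv g (j ⁻¹ᵁ U)) =
        sec ρ (p ⁻¹ᵁ U) (fun g => SGA1.preimage_le_of_inv ρ p hinv g U) g ≫ γ := by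
      rw [hγ]
      unfold sec
      rw [Scheme.Hom.appLE_comp_appLE, Scheme.Hom.appLE_comp_appLE]
      exact appLE_congr_hom (hρ' g) _ _ _
    have h2 := congrArg (fun φ => φ.hom s) h1
    simp only [CommRingCat.hom_comp, RingHom.coe_comp, Function.comp_apply] at h2
    rw [h2, hs g]
  obtain ⟨t', ht'⟩ := (hq.range_iff (j ⁻¹ᵁ U) (γ.hom s)).mpr hs''
  obtain ⟨t, rfl⟩ := (ConcreteCategory.bijective_of_isIso (j.app U)).surjective t'
  refine ⟨t, hγinj ?_⟩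
  have h3 := congrArg (fun φ => φ.hom t) hsq'
  simp only [CommRingCat.hom_comp, RingHom.coe_comp, Function.comp_apply] at h3
  rw [h3]
  exact ht'

end Chart

section Charts

variable (ρ : G →* Aut X) (p : X ⟶ Y) (hinv : ∀ g : G, (ρ g).hom ≫ p = p)
  {I : Type*} (Wi Vi : I → Scheme.{u}) (k : ∀ i, Wi i ⟶ X) (j : ∀ i, Vi i ⟶ Y)
  [∀ i, IsOpenImmersion (k i)] [∀ i, IsOpenImmersion (j i)] (q : ∀ i, Wi i ⟶ Vi i)
  (hsq : ∀ i, k i ≫ p = q i ≫ j i) (hrange : ∀ i, (k i).opensRange = p ⁻¹ᵁ (j i).opensRange)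
  (ρ' : ∀ i, G →* Aut (Wi i)) (hρ' : ∀ i g, ((ρ' i) g).hom ≫ k i = k i ≫ (ρ g).hom)
  (hq : ∀ i, SGA1.IsQuot (ρ' i) (q i)) (hcov : ∀ y : Y, ∃ i, y ∈ (j i).opensRange)

include hcov in
theorem isBasis_charts : Opens.IsBasis {U : Y.Opens | ∃ i, U ≤ (j i).opensRange} := by
  rw [Opens.isBasis_iff_nbhd]
  intro U x hx
  obtain ⟨i, hi⟩ := hcov x
  exact ⟨U ⊓ (j i).opensRange, ⟨i, inf_le_right⟩, ⟨hx, hi⟩, inf_le_left⟩

include hinv hsq hrange hρ' hq hcov in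
theorem isQuot_of_charts [IsAffineHom p] : SGA1.IsQuot ρ p := by
  have hbasis := isBasis_charts (Y := Y) Vi j hcov
  have hinjB : ∀ U ∈ {U : Y.Opens | ∃ i, U ≤ (j i).opensRange},
      Function.Injective (p.app U).hom := by
    rintro U ⟨i, hU⟩
    exact chart_injective p (k i) (j i) (q i) (hsq i) (hrange i) (ρ' i) (hq i) U hU
  have hrangeB : ∀ U ∈ {U : Y.Opens | ∃ i, U ≤ (j i).opensRange}, ∀ s : Γ(X, p ⁻¹ᵁ U),
      (∀ g, (sec ρ (p ⁻¹ᵁ U) (fun g => SGA1.preimage_le_of_inv ρ p hinv g U) g).hom s = s) →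
        s ∈ Set.range (p.app U).hom := by
    rintro U ⟨i, hU⟩ s hs
    exact chart_mem_range ρ p hinv (k i) (j i) (q i) (hsq i) (hrange i) (ρ' i) (hρ' i) (hq i) U hU
      s hs
  refine ⟨inferInstance, hinv, injective_of_basis p _ hbasis hinjB, fun U s =>
    ⟨?_, mem_range_of_basis ρ p hinv _ hbasis hinjB hrangeB U s⟩⟩
  rintro ⟨t, rfl⟩ g
  exact sec_app ρ p hinv U g t

end Charts

end Groth.Agent.Lib.Helper81.Quot
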