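import Groth.Agent.Lib.Helper81.InvBaseChange
import Mathlib.Algebra.Category.Ring.Constructions
import Mathlib.RingTheory.RingHom.Flat
import Mathlib.Tactic.Algebraize

set_option autoImplicit false
universe u
open TensorProduct CategoryTheory CategoryTheory.Limits

namespace Groth.Agent.Lib.Helper81.InvBaseChange

theorem lTensor_algebraLinearMap_eq {A B C : Type*} [CommRing A] [CommRing B] [CommRing C]
    [Algebra A B] [Algebra A C] (v : B ⊗[A] A) :
    (Algebra.linearMap A C).lTensor B v = (TensorProduct.rid A B v) ⊗ₜ[A] (1 : C) := by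
  induction v using TensorProduct.induction_on with
  | zero => simp
  | tmul b a =>
    simp only [LinearMap.lTensor_tmul, Algebra.linearMap_apply, TensorProduct.rid_tmul]
    rw [Algebra.algebraMap_eq_smul_one, TensorProduct.tmul_smul, TensorProduct.smul_tmul']
  | add v₁ v₂ h₁ h₂ => rw [map_add, map_add, h₁, h₂, TensorProduct.add_tmul]

theorem isPushout_invariants {A B C P : CommRingCat.{u}} {φ : A ⟶ C} {ψ : A ⟶ B} {i₁ : C ⟶ P}
    {i₂ : B ⟶ P} (H : IsPushout φ ψ i₁ i₂) (hflat : ψ.hom.Flat) {G : Type*} [Finite G]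
    (σ : G → (C ⟶ C)) (hσφ : ∀ g, φ ≫ σ g = φ) (σ' : G → (P ⟶ P))
    (h₁ : ∀ g, i₁ ≫ σ' g = σ g ≫ i₁) (h₂ : ∀ g, i₂ ≫ σ' g = i₂)
    (hinj : Function.Injective φ.hom)
    (hinv : ∀ c : C, (∀ g, (σ g).hom c = c) → c ∈ Set.range φ.hom) :
    Function.Injective i₂.hom ∧
      ∀ z : P, (∀ g, (σ' g).hom z = z) → z ∈ Set.range i₂.hom := by
  algebraize [φ.hom, ψ.hom]
  obtain ⟨e, he⟩ : ∃ e : CommRingCat.of (B ⊗[A] C) ≅ P,
      e = (CommRingCat.isPushout_tensorProduct A B C).isoIsPushout B C
        (H.flip : IsPushout (CommRingCat.ofHom (algebraMap A B))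
          (CommRingCat.ofHom (algebraMap A C)) i₂ i₁) := ⟨_, rfl⟩
  have hel : CommRingCat.ofHom (S := B ⊗[A] C) Algebra.TensorProduct.includeLeftRingHom ≫ e.hom =
      i₂ := by rw [he]; exact IsPushout.inl_isoIsPushout_hom _ _ _ _
  have her : CommRingCat.ofHom (S := B ⊗[A] C) Algebra.TensorProduct.includeRight.toRingHom ≫
      e.hom = i₁ := by rw [he]; exact IsPushout.inr_isoIsPushout_hom _ _ _ _
  have hel' : ∀ b : B, e.hom.hom (b ⊗ₜ[A] (1 : C)) = i₂.hom b := fun b =>
    congrArg (fun θ => θ.hom b) hel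
  have her' : ∀ c : C, e.hom.hom ((1 : B) ⊗ₜ[A] c) = i₁.hom c := fun c =>
    congrArg (fun θ => θ.hom c) her
  have heinj : Function.Injective e.hom.hom := by
    intro x y hxy
    have := congrArg e.inv.hom hxy
    simpa using this
  have heinv : ∀ z : P, e.hom.hom (e.inv.hom z) = z := fun z => by simp
  constructor
  · intro b b' hbb'
    rw [← hel' b, ← hel' b'] at hbb'
    have h1 := heinj hbb'
    have h2 : (Algebra.linearMap A C).lTensor B ((TensorProduct.rid A B).symm b) =
        (Algebra.linearMap A C).lTensor B ((TensorProduct.rid A B).symm b') := by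
      rw [lTensor_algebraLinearMap_eq, lTensor_algebraLinearMap_eq,
        LinearEquiv.apply_symm_apply, LinearEquiv.apply_symm_apply]
      exact h1
    have h3 := Module.Flat.lTensor_preserves_injective_linearMap (M := B)
      (Algebra.linearMap A C) hinj h2
    exact (TensorProduct.rid A B).symm.injective h3
  · intro z hz
    obtain ⟨τ, hτ⟩ : ∃ τ : G → (C →ₗ[A] C), ∀ g c, τ g c = (σ g).hom c := by
      refine ⟨fun g => { toFun := (σ g).hom, map_add' := map_add _, map_smul' := ?_ }, fun _ _ => rfl⟩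
      intro a c
      have h1 : (σ g).hom (φ.hom a) = φ.hom a := congrArg (fun θ => θ.hom a) (hσφ g)
      simp only [Algebra.smul_def, map_mul, RingHom.id_apply]
      rw [show algebraMap A C a = φ.hom a from rfl, h1]
    have key : ∀ g, (τ g).lTensor B (e.inv.hom z) = e.inv.hom z := by
      intro g
      apply heinj
      rw [heinv]
      have hcomp : ∀ w : B ⊗[A] C, e.hom.hom ((τ g).lTensor B w) = (σ' g).hom (e.hom.hom w) := by
        intro w
        induction w using TensorProduct.induction_on with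
        | zero => simp
        | tmul b c =>
          have hbc : b ⊗ₜ[A] c = (b ⊗ₜ[A] (1 : C)) * ((1 : B) ⊗ₜ[A] c) := by
            rw [Algebra.TensorProduct.tmul_mul_tmul, mul_one, one_mul]
          have hbc' : b ⊗ₜ[A] (τ g c) = (b ⊗ₜ[A] (1 : C)) * ((1 : B) ⊗ₜ[A] (τ g c)) := by
            rw [Algebra.TensorProduct.tmul_mul_tmul, mul_one, one_mul]
          rw [LinearMap.lTensor_tmul, hbc', hbc, map_mul, map_mul, map_mul, hel', her' (τ g c),
            her' c, hτ]
          have e1 : (σ' g).hom (i₂.hom b) = i₂.hom b := congrArg (fun θ => θ.hom b) (h₂ g)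
          have e2 : (σ' g).hom (i₁.hom c) = i₁.hom ((σ g).hom c) :=
            congrArg (fun θ => θ.hom c) (h₁ g)
          rw [e1, e2]
        | add w₁ w₂ hw₁ hw₂ => rw [map_add, map_add, map_add, map_add, hw₁, hw₂]
      rw [hcomp, heinv, hz g]
    have hmem := mem_range_lTensor_of_fixed B (Algebra.linearMap A C) τ
      (fun c hc => by
        obtain ⟨a, ha⟩ := hinv c (fun g => by rw [← hτ]; exact hc g)
        exact ⟨a, ha⟩)
      (fun a g => by
        rw [hτ]
        exact congrArg (fun θ => θ.hom a) (hσφ g))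
      (e.inv.hom z) key
    obtain ⟨v, hv⟩ := hmem
    refine ⟨TensorProduct.rid A B v, ?_⟩
    rw [← hel', ← lTensor_algebraLinearMap_eq, hv, heinv]

end Groth.Agent.Lib.Helper81.InvBaseChange
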