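import Mathlib

set_option autoImplicit false
universe u

namespace Groth.Agent.Lib.Helper81.EtaleInv

open TensorProduct

theorem flat_of_tower (A B C : Type u) [CommRing A] [CommRing B] [CommRing C] [Algebra A B]
    [Algebra B C] [Algebra A C] [IsScalarTower A B C] [Module.Flat A C]
    [Module.FaithfullyFlat B C] : Module.Flat A B := by
  rw [Module.Flat.iff_lTensor_preserves_injective_linearMap]
  intro N N' _ _ _ _ f hf
  have h1 : Function.Injective (TensorProduct.AlgebraTensorModule.lTensor B B f) := by
    rw [← Module.FaithfullyFlat.lTensor_injective_iff_injective B C]
    have hC : Function.Injective (TensorProduct.AlgebraTensorModule.lTensor B C f) :=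
      Module.Flat.lTensor_preserves_injective_linearMap (M := C) f hf
    have key := TensorProduct.AlgebraTensorModule.lTensor_comp_cancelBaseChange
      (R := A) (A := B) (B := B) (M := C) f
    intro x y hxy
    apply (TensorProduct.AlgebraTensorModule.cancelBaseChange A B B C N).injective
    apply hC
    have hx := LinearMap.congr_fun key x
    have hy := LinearMap.congr_fun key y
    simp only [LinearMap.comp_apply, LinearEquiv.coe_coe] at hx hy
    rw [hx, hy]
    exact congrArg _ hxy
  exact h1

end Groth.Agent.Lib.Helper81.EtaleInv
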