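import Groth.Agent.Lib.Helper81.GaloisAlg
import Mathlib.RingTheory.Unramified.Basic
import Mathlib.RingTheory.Kaehler.Basic

set_option autoImplicit false
set_option linter.style.haveILetI false
set_option linter.unusedSectionVars false

namespace Groth.Agent.Lib.Helper81.Galois

open TensorProduct

universe v w

variable (A : Type v) {B : Type w} {G : Type*} [CommRing A] [CommRing B] [Algebra A B] [Group G]
  [MulSemiringAction G B] [SMulCommClass G A B] [Fintype G] [Algebra.IsInvariant A B G]
  [FaithfulSMul A B]

theorem psi_one_apply (w : B ⊗[A] B) : psi A B G 1 w = Algebra.TensorProduct.lmul' A w := by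
  induction w using TensorProduct.induction_on with
  | zero => simp
  | tmul x y => simp
  | add x y hx hy => simp only [map_add, hx, hy]

theorem mul_z_eq_zero (hfree : Free B G) {z : B ⊗[A] B}
    (hz0 : ∀ g : G, g ≠ 1 → psi A B G g z = 0) (w : B ⊗[A] B) (hw : psi A B G 1 w = 0) :
    w * z = 0 := by
  apply (psi_bijective A hfree).1
  funext g
  simp only [map_mul, map_zero]
  by_cases hg : g = 1
  · subst hg; rw [hw, zero_mul]
  · rw [hz0 g hg, mul_zero]

theorem formallyUnramified (hfree : Free B G) : Algebra.FormallyUnramified A B := by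
  obtain ⟨z, hz1, hz0⟩ := exists_z A hfree
  constructor
  show Subsingleton (KaehlerDifferential.ideal A B).Cotangent
  rw [Ideal.cotangent_subsingleton_iff]
  refine le_antisymm Ideal.mul_le_right ?_
  intro w hw
  have hw' : psi A B G 1 w = 0 := by rw [psi_one_apply]; exact hw
  have h1 : w = w * (1 - z) := by rw [mul_sub, mul_one, mul_z_eq_zero A hfree hz0 w hw', sub_zero]
  rw [h1]
  refine Ideal.mul_mem_mul hw ?_
  show Algebra.TensorProduct.lmul' A (1 - z) = 0
  rw [← psi_one_apply A (G := G), map_sub, map_one, hz1, sub_self]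

theorem exists_smul_of_hom (hfree : Free B G) {K : Type*} [Field K] (χ χ' : B →+* K)
    (h : χ.comp (algebraMap A B) = χ'.comp (algebraMap A B)) :
    ∃ g : G, ∀ b : B, χ' b = χ (g • b) := by
  classical
  letI : Algebra A K := (χ.comp (algebraMap A B)).toAlgebra
  let χa : B →ₐ[A] K := ⟨χ, fun a => rfl⟩
  let χa' : B →ₐ[A] K := ⟨χ', fun a => (congrArg (fun f => f a) h).symm⟩
  let θ : B ⊗[A] B →ₐ[A] K := Algebra.TensorProduct.lift χa χa' (fun _ _ => Commute.all _ _)
  have hθ : ∀ b b' : B, θ (b ⊗ₜ b') = χ b * χ' b' := fun b b' => by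
    simp [θ, χa, χa']
  obtain ⟨hinj, hsurj⟩ := psi_bijective A hfree
  choose e he using fun g : G => hsurj (Pi.single g 1)
  have he' : ∀ g h : G, psi A B G h (e g) = if h = g then 1 else 0 := by
    intro g h
    have := congrFun (he g) h
    simp only [Pi.single_apply] at this
    exact this
  have hsum : ∑ g : G, e g = 1 := by
    apply hinj
    funext h
    simp only [map_sum, map_one, he']
    simp
  have hθ1 : θ (∑ g : G, e g) ≠ 0 := by rw [hsum, map_one]; exact one_ne_zero
  rw [map_sum] at hθ1
  obtain ⟨g, -, hg⟩ := Finset.exists_ne_zero_of_sum_ne_zero hθ1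
  refine ⟨g, fun b => ?_⟩
  have hzero : ((1 : B) ⊗ₜ[A] b - (g • b) ⊗ₜ[A] (1 : B)) * e g = 0 := by
    apply hinj
    funext h
    simp only [map_mul, map_sub, map_zero, psi_tmul, he', one_mul, smul_one, mul_one]
    by_cases hh : h = g
    · subst hh; simp
    · simp [hh]
  have := congrArg θ hzero
  rw [map_mul, map_sub, hθ, hθ, map_one, map_one, one_mul, mul_one, map_zero] at this
  rcases mul_eq_zero.mp this with h0 | h0
  · exact sub_eq_zero.mp h0
  · exact absurd h0 hg

end Groth.Agent.Lib.Helper81.Galois
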