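import Mathlib.RingTheory.Invariant.Basic
import Mathlib.RingTheory.TensorProduct.Maps
import Mathlib.LinearAlgebra.TensorProduct.Finiteness
import Mathlib.Algebra.Module.Projective
import Mathlib.RingTheory.Flat.Basic
import Mathlib.Tactic

set_option autoImplicit false
set_option linter.style.haveILetI false

namespace Groth.Agent.Lib.Helper81.Galois

open TensorProduct

variable (A B G : Type*) [CommRing A] [CommRing B] [Algebra A B] [Group G]
  [MulSemiringAction G B] [SMulCommClass G A B]

noncomputable def psi (g : G) : B ⊗[A] B →ₐ[A] B :=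
  Algebra.TensorProduct.lift (AlgHom.id A B) (MulSemiringAction.toAlgHom A B g)
    (fun _ _ => Commute.all _ _)

@[simp] theorem psi_tmul (g : G) (b b' : B) : psi A B G g (b ⊗ₜ b') = b * g • b' := by
  simp [psi]

def Free : Prop := ∀ g : G, g ≠ 1 → Ideal.span (Set.range fun b : B => g • b - b) = ⊤

variable {B G}

theorem exists_z [Finite G] (hfree : Free B G) :
    ∃ z : B ⊗[A] B, psi A B G 1 z = 1 ∧ ∀ g : G, g ≠ 1 → psi A B G g z = 0 := by
  classical
  cases nonempty_fintype G
  have surj : Function.Surjective (psi A B G 1 : B ⊗[A] B →+* B) := fun b => ⟨b ⊗ₜ 1, by simp⟩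
  have key : ∀ g : G, g ≠ 1 → ∃ z : B ⊗[A] B, psi A B G g z = 0 ∧ psi A B G 1 z = 1 := by
    intro g hg
    have htop : Ideal.map (psi A B G 1 : B ⊗[A] B →+* B)
        (RingHom.ker (psi A B G g : B ⊗[A] B →+* B)) = ⊤ := by
      rw [eq_top_iff, ← hfree g hg, Ideal.span_le]
      rintro _ ⟨b, rfl⟩
      have hmem : ((g • b) ⊗ₜ[A] (1 : B) - (1 : B) ⊗ₜ[A] b) ∈
          RingHom.ker (psi A B G g : B ⊗[A] B →+* B) := by
        rw [RingHom.mem_ker]
        simp
      have := Ideal.mem_map_of_mem (psi A B G 1 : B ⊗[A] B →+* B) hmem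
      simpa using this
    have h1 : (1 : B) ∈ Ideal.map (psi A B G 1 : B ⊗[A] B →+* B)
        (RingHom.ker (psi A B G g : B ⊗[A] B →+* B)) := by rw [htop]; trivial
    obtain ⟨z, hz, hz1⟩ := (Ideal.mem_map_iff_of_surjective _ surj).mp h1
    exact ⟨z, hz, hz1⟩
  choose zf hzf0 hzf1 using key
  let zf' : G → B ⊗[A] B := fun g => if h : g = 1 then 1 else zf g h
  refine ⟨∏ g ∈ Finset.univ.erase (1 : G), zf' g, ?_, ?_⟩
  · rw [map_prod]
    apply Finset.prod_eq_one
    intro g hg
    have hg1 : g ≠ 1 := Finset.ne_of_mem_erase hg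
    simp only [zf', dif_neg hg1]
    exact hzf1 g hg1
  · intro g hg1
    rw [map_prod]
    apply Finset.prod_eq_zero (Finset.mem_erase.mpr ⟨hg1, Finset.mem_univ g⟩)
    simp only [zf', dif_neg hg1]
    exact hzf0 g hg1

section Trace

variable [Fintype G] [Algebra.IsInvariant A B G] [FaithfulSMul A B]

theorem smul_sum_perm (c : B) (h : G) : h • (∑ g : G, g • c) = ∑ g : G, g • c := by
  rw [Finset.smul_sum]
  simp_rw [smul_smul]
  exact Fintype.sum_bijective (fun g => h * g) (Group.mulLeft_bijective h) _ _ (fun _ => rfl)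

theorem exists_tr (c : B) : ∃ a : A, algebraMap A B a = ∑ g : G, g • c :=
  Algebra.IsInvariant.isInvariant (A := A) (G := G) _ (smul_sum_perm c)

variable (G) in
noncomputable def tr : B →ₗ[A] A where
  toFun c := (exists_tr (A := A) (G := G) c).choose
  map_add' c c' := by
    apply FaithfulSMul.algebraMap_injective A B
    rw [map_add, (exists_tr (A := A) (G := G) c).choose_spec,
      (exists_tr (A := A) (G := G) c').choose_spec,
      (exists_tr (A := A) (G := G) (c + c')).choose_spec]
    simp [Finset.sum_add_distrib]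
  map_smul' a c := by
    apply FaithfulSMul.algebraMap_injective A B
    rw [RingHom.id_apply, smul_eq_mul, map_mul, (exists_tr (A := A) (G := G) c).choose_spec,
      (exists_tr (A := A) (G := G) (a • c)).choose_spec, Finset.mul_sum]
    refine Finset.sum_congr rfl (fun g _ => ?_)
    rw [smul_comm, Algebra.smul_def]

theorem algebraMap_tr (c : B) : algebraMap A B (tr A G c) = ∑ g : G, g • c :=
  (exists_tr (A := A) (G := G) c).choose_spec

theorem dual_basis (S : Finset (B × B))
    (h1 : psi A B G 1 (S.sum fun i => i.1 ⊗ₜ[A] i.2) = 1)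
    (h0 : ∀ g : G, g ≠ 1 → psi A B G g (S.sum fun i => i.1 ⊗ₜ[A] i.2) = 0) (b : B) :
    ∑ i ∈ S, tr A G (i.2 * b) • i.1 = b := by
  classical
  simp_rw [Algebra.smul_def, algebraMap_tr, smul_mul', Finset.sum_mul]
  rw [Finset.sum_comm]
  have : ∀ g : G, ∑ i ∈ S, g • i.2 * g • b * i.1 =
      psi A B G g (S.sum fun i => i.1 ⊗ₜ[A] i.2) * g • b := by
    intro g
    rw [map_sum, Finset.sum_mul]
    refine Finset.sum_congr rfl (fun i _ => ?_)
    rw [psi_tmul]; ring
  simp_rw [this]
  rw [Finset.sum_eq_single (1 : G)]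
  · rw [h1, one_smul, one_mul]
  · intro g _ hg
    rw [h0 g hg, zero_mul]
  · intro h; exact absurd (Finset.mem_univ _) h

theorem projective_finite (hfree : Free B G) : Module.Projective A B ∧ Module.Finite A B := by
  classical
  obtain ⟨z, hz1, hz0⟩ := exists_z A hfree
  obtain ⟨S, rfl⟩ := TensorProduct.exists_finset z
  let i : B →ₗ[A] (↥S → A) := LinearMap.pi (fun i => (tr A G).comp (LinearMap.mulLeft A i.1.2))
  let s : (↥S → A) →ₗ[A] B := ∑ i : ↥S, (LinearMap.proj i).smulRight i.1.1
  have H : s.comp i = LinearMap.id := by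
    ext b
    simp only [s, i, LinearMap.comp_apply, LinearMap.sum_apply, LinearMap.smulRight_apply,
      LinearMap.proj_apply, LinearMap.pi_apply, LinearMap.mulLeft_apply, LinearMap.id_apply]
    rw [Finset.sum_coe_sort S (fun i => tr A G (i.2 * b) • i.1)]
    exact dual_basis A S hz1 hz0 b
  refine ⟨Module.Projective.of_split i s H, ?_⟩
  refine Module.Finite.of_surjective s (fun b => ⟨i b, ?_⟩)
  exact congrArg (fun f => f b) H

theorem psi_map (g h : G) (w : B ⊗[A] B) :
    psi A B G h (Algebra.TensorProduct.map (AlgHom.id A B) (MulSemiringAction.toAlgHom A B g) w) =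
      psi A B G (h * g) w := by
  induction w using TensorProduct.induction_on with
  | zero => simp
  | tmul x y => simp [mul_smul]
  | add x y hx hy => simp only [map_add, hx, hy]

theorem psi_bijective (hfree : Free B G) :
    Function.Bijective (fun (w : B ⊗[A] B) (g : G) => psi A B G g w) := by
  classical
  obtain ⟨z, hz1, hz0⟩ := exists_z A hfree
  constructor
  · obtain ⟨S, rfl⟩ := TensorProduct.exists_finset z
    let Φ : (G → B) →ₗ[A] B ⊗[A] B := ∑ i ∈ S, ((TensorProduct.mk A B B).flip i.1).comp
      (∑ g : G, (LinearMap.mulRight A (g • i.2)).comp (LinearMap.proj g))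
    have hΦ : ∀ w : B ⊗[A] B, Φ (fun g => psi A B G g w) = w := by
      intro w
      induction w using TensorProduct.induction_on with
      | zero =>
        have : (fun g => psi A B G g (0 : B ⊗[A] B)) = 0 := by funext g; simp
        rw [this, map_zero]
      | tmul u v =>
        simp only [Φ, LinearMap.sum_apply, LinearMap.comp_apply, LinearMap.flip_apply,
          TensorProduct.mk_apply, LinearMap.proj_apply, LinearMap.mulRight_apply, psi_tmul]
        have h2 : ∀ i : B × B, (∑ g : G, u * g • v * g • i.2) = tr A G (i.2 * v) • u := by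
          intro i
          rw [Algebra.smul_def, algebraMap_tr, Finset.sum_mul]
          refine Finset.sum_congr rfl (fun g _ => ?_)
          rw [smul_mul']; ring
        simp_rw [h2, TensorProduct.smul_tmul]
        rw [← TensorProduct.tmul_sum]
        congr 1
        exact dual_basis A S hz1 hz0 v
      | add x y hx hy =>
        have : (fun g => psi A B G g (x + y)) =
            (fun g => psi A B G g x) + (fun g => psi A B G g y) := by
          funext g; simp
        rw [this, map_add, hx, hy]
    intro w w' hww'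
    rw [← hΦ w, ← hΦ w']
    exact congrArg Φ hww'
  · intro c
    refine ⟨∑ g : G, (c g⁻¹ ⊗ₜ[A] (1 : B)) *
      Algebra.TensorProduct.map (AlgHom.id A B) (MulSemiringAction.toAlgHom A B g) z, ?_⟩
    funext h
    simp only [map_sum, map_mul, psi_tmul, smul_one, mul_one, psi_map]
    rw [Finset.sum_eq_single (h⁻¹ : G)]
    · rw [mul_inv_cancel, hz1, mul_one, inv_inv]
    · intro g _ hg
      rw [hz0 (h * g) (fun e => hg (eq_inv_of_mul_eq_one_right e)), mul_zero]
    · intro hh; exact absurd (Finset.mem_univ _) hh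

end Trace

end Groth.Agent.Lib.Helper81.Galois
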