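import Mathlib
import Groth.Agent.Lib.Helper81.GaloisAlg

set_option autoImplicit false
set_option linter.style.haveILetI false
universe u

namespace Groth.Agent.Lib.Helper81.EtaleInv

open TensorProduct Groth.Agent.Lib.Helper81

section Idem

variable {C G : Type*} [CommRing C] [Group G] [MulSemiringAction G C]

def dI (g : G) : Ideal C := Ideal.span (Set.range fun c : C => g • c - c)

theorem sub_mem_dI (g : G) (c : C) : g • c - c ∈ dI (C := C) g := Ideal.subset_span ⟨c, rfl⟩

theorem smul_inv_mem_dI (g : G) {x : C} (hx : x ∈ dI (C := C) g) : g⁻¹ • x ∈ dI (C := C) g := by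
  unfold dI at hx
  induction hx using Submodule.span_induction with
  | mem x hx =>
    obtain ⟨c, rfl⟩ := hx
    have : g⁻¹ • (g • c - c) = g • (g⁻¹ • c) - g⁻¹ • c := by
      rw [smul_sub, inv_smul_smul, smul_inv_smul]
    rw [this]
    exact sub_mem_dI g _
  | zero => rw [smul_zero]; exact zero_mem _
  | add x y _ _ hx hy => rw [smul_add]; exact add_mem hx hy
  | smul r x _ hx => rw [smul_eq_mul, smul_mul']; exact Ideal.mul_mem_left _ _ hx

structure IsInertiaIdem (g : G) (e : C) : Prop where
  ann : ∀ c : C, (g • c - c) * e = 0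
  mem : 1 - e ∈ dI (C := C) g

namespace IsInertiaIdem

variable {g : G} {e : C} (he : IsInertiaIdem g e)
include he

theorem mul_eq_zero_of_mem {x : C} (hx : x ∈ dI (C := C) g) : x * e = 0 := by
  unfold dI at hx
  induction hx using Submodule.span_induction with
  | mem x hx => obtain ⟨c, rfl⟩ := hx; exact he.ann c
  | zero => rw [zero_mul]
  | add x y _ _ hx hy => rw [add_mul, hx, hy, add_zero]
  | smul r x _ hx => rw [smul_eq_mul, mul_assoc, hx, mul_zero]

theorem one_sub_mul : (1 - e) * e = 0 := he.mul_eq_zero_of_mem he.mem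

theorem idem : e * e = e := by
  have := he.one_sub_mul
  linear_combination -this

theorem one_sub_idem : (1 - e) * (1 - e) = 1 - e := by
  have := he.one_sub_mul
  linear_combination -this

end IsInertiaIdem

theorem exists_isInertiaIdem (R : Type*) [CommRing R] [Algebra R C] [SMulCommClass G R C]
    [Algebra.FormallyUnramified R C] [Algebra.EssFiniteType R C] (g : G) :
    ∃ e : C, IsInertiaIdem g e := by
  obtain ⟨t, ht, ht1⟩ := Algebra.FormallyUnramified.iff_exists_tensorProduct.mp
    (inferInstance : Algebra.FormallyUnramified R C)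
  refine ⟨Galois.psi R C G g t, ⟨fun c => ?_, ?_⟩⟩
  · have := congrArg (Galois.psi R C G g) (ht c)
    simpa [map_mul, map_sub] using this
  · have key : ∀ w : C ⊗[R] C,
        Algebra.TensorProduct.lmul' R w - Galois.psi R C G g w ∈ dI (C := C) g := by
      intro w
      induction w using TensorProduct.induction_on with
      | zero => simp
      | tmul x y =>
        have : Algebra.TensorProduct.lmul' R (x ⊗ₜ[R] y) - Galois.psi R C G g (x ⊗ₜ[R] y) =
            -(x * (g • y - y)) := by
          simp only [Algebra.TensorProduct.lmul'_apply_tmul, Galois.psi_tmul]; ring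
        rw [this]
        exact neg_mem (Ideal.mul_mem_left _ _ (sub_mem_dI g y))
      | add a b ha hb =>
        have := add_mem ha hb
        simp only [map_add]
        convert this using 1
        ring
    have := key t
    rwa [ht1] at this

end Idem

section Prime

variable {C G : Type*} [CommRing C] [Group G] [MulSemiringAction G C] [Fintype G]
  (e : G → C) (he : ∀ g, IsInertiaIdem g (e g)) (Q : Ideal C) [hQ : Q.IsPrime]

open Classical in
noncomputable def fac (g : G) : C := if g ∈ Q.inertia G then e g else 1 - e g

noncomputable def uu : C := ∏ g : G, fac e Q g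

include he

theorem fac_notMem (g : G) : fac e Q g ∉ Q := by
  classical
  unfold fac
  split_ifs with h
  · intro hmem
    have h1 : 1 - e g ∈ Q := by
      have hle : dI (C := C) g ≤ Q := by
        unfold dI
        rw [Ideal.span_le]
        rintro _ ⟨c, rfl⟩
        exact h c
      exact hle (he g).mem
    have : (1 : C) ∈ Q := by
      have := add_mem h1 hmem
      simpa using this
    exact hQ.ne_top ((Ideal.eq_top_iff_one _).mpr this)
  · intro hmem
    have hex : ∃ c : C, g • c - c ∉ Q := by
      by_contra hcon
      push Not at hcon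
      exact h hcon
    obtain ⟨c, hc⟩ := hex
    have h0 : (g • c - c) * e g ∈ Q := by rw [(he g).ann c]; exact zero_mem _
    rcases hQ.mem_or_mem h0 with h1 | h1
    · exact hc h1
    · have : (1 : C) ∈ Q := by
        have := add_mem hmem h1
        simpa using this
      exact hQ.ne_top ((Ideal.eq_top_iff_one _).mpr this)

theorem fac_idem (g : G) : fac e Q g * fac e Q g = fac e Q g := by
  classical
  unfold fac
  split_ifs
  · exact (he g).idem
  · exact (he g).one_sub_idem

theorem uu_notMem : uu e Q ∉ Q := by
  intro h
  obtain ⟨g, -, hg⟩ := (hQ.prod_mem_iff).mp h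
  exact fac_notMem e he Q g hg

theorem uu_idem : uu e Q * uu e Q = uu e Q := by
  unfold uu
  rw [← Finset.prod_mul_distrib]
  exact Finset.prod_congr rfl (fun g _ => fac_idem e he Q g)

theorem uu_mul_fac (g : G) : uu e Q * fac e Q g = uu e Q := by
  classical
  unfold uu
  rw [← Finset.mul_prod_erase Finset.univ _ (Finset.mem_univ g)]
  rw [mul_comm, ← mul_assoc, fac_idem e he Q g]

theorem uu_mem_dI (g : G) (hg : g ∉ Q.inertia G) : uu e Q ∈ dI (C := C) g := by
  classical
  have h := uu_mul_fac e he Q g
  have hf : fac e Q g = 1 - e g := by unfold fac; rw [if_neg hg]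
  rw [hf] at h
  rw [← h]
  exact Ideal.mul_mem_left _ _ (he g).mem

theorem smul_uu_mul (g : G) (hg : g ∈ Q.inertia G) (c : C) :
    g • (uu e Q * c) = uu e Q * c := by
  classical
  have h := uu_mul_fac e he Q g
  have hf : fac e Q g = e g := by unfold fac; rw [if_pos hg]
  rw [hf] at h
  obtain ⟨c', hc'⟩ : ∃ c', c' = uu e Q * c := ⟨_, rfl⟩
  rw [← hc']
  have h1 : (g • c' - c') * e g = 0 := (he g).ann c'
  have h2 : c' * (1 - e g) = 0 := by
    rw [hc', ← h]
    have := (he g).one_sub_mul
    linear_combination (uu e Q * c) * this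
  have hx : g⁻¹ • (1 - e g) ∈ dI (C := C) g := smul_inv_mem_dI g (he g).mem
  have h3 : (g⁻¹ • (1 - e g)) * e g = 0 := (he g).mul_eq_zero_of_mem hx
  have h4 : c' * (g⁻¹ • (1 - e g)) = 0 := by
    rw [hc', ← h]
    linear_combination (uu e Q * c) * h3
  have h5 : (g • c') * (1 - e g) = 0 := by
    have := congrArg (fun y => g • y) h4
    simp only [smul_mul', smul_inv_smul, smul_zero] at this
    exact this
  have : g • c' - c' = (g • c' - c') * e g + (g • c') * (1 - e g) - c' * (1 - e g) := by ring
  rw [h1, h5, h2] at this
  exact sub_eq_zero.mp (by rw [this]; ring)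

end Prime

end Groth.Agent.Lib.Helper81.EtaleInv
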