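import Mathlib
import Groth.Agent.Lib.Helper81.GaloisAlg
import Groth.Agent.Lib.Helper81.EtaleInvProj

set_option autoImplicit false
set_option linter.style.haveILetI false
set_option linter.unusedSectionVars false
universe u

namespace Groth.Agent.Lib.Helper81.EtaleInv

open TensorProduct Groth.Agent.Lib.Helper81

section Rel

variable (B : Type u) {C G : Type u} [CommRing B] [CommRing C] [Algebra B C] [Group G] [Finite G]
  [MulSemiringAction G C] [SMulCommClass G B C]
  (u : C) (T : Subgroup G) (hu : u * u = u)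
  (hP1 : ∀ g ∈ T, ∀ c : C, g • (u * c) = u * c)
  (hP2 : ∀ g, g ∉ T → u ∈ dI (C := C) g)

include hP1 in
theorem smul_u (g : G) (hg : g ∈ T) : g • u = u := by simpa using hP1 g hg 1

include hP1 in
theorem u_mul_smul (g : G) (hg : g ∈ T) (y : C) : u * g • y = u * y := by
  have := hP1 g hg y
  rw [smul_mul', smul_u u T hP1 g hg] at this
  exact this

include hP1 in
theorem u_mul_psi (h : G) (hh : h ∈ T) (w : C ⊗[B] C) :
    u * Galois.psi B C G h w = u * Galois.psi B C G 1 w := by
  induction w using TensorProduct.induction_on with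
  | zero => simp
  | tmul x y =>
    simp only [Galois.psi_tmul, one_smul]
    have := u_mul_smul u T hP1 h hh y
    linear_combination x * this
  | add a b ha hb => simp only [map_add, mul_add, ha, hb]

include hP2 in
theorem exists_w (g : G) (hg : g ∉ T) :
    ∃ w : C ⊗[B] C, Galois.psi B C G g w = 0 ∧ Galois.psi B C G 1 w = u := by
  have surj : Function.Surjective (Galois.psi B C G 1 : C ⊗[B] C →+* C) :=
    fun b => ⟨b ⊗ₜ 1, by simp⟩
  have hle : dI (C := C) g ≤ Ideal.map (Galois.psi B C G 1 : C ⊗[B] C →+* C)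
      (RingHom.ker (Galois.psi B C G g : C ⊗[B] C →+* C)) := by
    unfold dI
    rw [Ideal.span_le]
    rintro _ ⟨b, rfl⟩
    have hmem : ((g • b) ⊗ₜ[B] (1 : C) - (1 : C) ⊗ₜ[B] b) ∈
        RingHom.ker (Galois.psi B C G g : C ⊗[B] C →+* C) := by
      rw [RingHom.mem_ker]
      simp
    have := Ideal.mem_map_of_mem (Galois.psi B C G 1 : C ⊗[B] C →+* C) hmem
    simpa using this
  obtain ⟨z, hz, hz1⟩ := (Ideal.mem_map_iff_of_surjective _ surj).mp (hle (hP2 g hg))
  exact ⟨z, hz, hz1⟩

include hu hP1 hP2 in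
theorem exists_z : ∃ z : C ⊗[B] C,
    (∀ h ∈ T, Galois.psi B C G h z = u) ∧ (∀ h, h ∉ T → Galois.psi B C G h z = 0) := by
  classical
  cases nonempty_fintype G
  choose wf hwf0 hwf1 using exists_w B u T hP2
  let wf' : G → C ⊗[B] C := fun g => if h : g ∈ T then 1 else wf g h
  refine ⟨(u ⊗ₜ 1) * ∏ g ∈ Finset.univ.filter (· ∉ T), wf' g, ?_, ?_⟩
  · intro h hh
    rw [map_mul, map_prod, Galois.psi_tmul, smul_one, mul_one]
    have key : ∀ S : Finset G, (∀ g ∈ S, g ∉ T) →
        u * ∏ g ∈ S, Galois.psi B C G h (wf' g) = u := by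
      intro S
      induction S using Finset.induction_on with
      | empty => intro _; simp
      | insert a S ha ih =>
        intro hS
        rw [Finset.prod_insert ha, ← mul_assoc]
        have haT : a ∉ T := hS a (Finset.mem_insert_self _ _)
        have : u * Galois.psi B C G h (wf' a) = u := by
          rw [u_mul_psi B u T hP1 h hh]
          simp only [wf', dif_neg haT]
          rw [hwf1 a haT]
          exact hu
        rw [this]
        exact ih (fun g hg => hS g (Finset.mem_insert_of_mem hg))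
    exact key _ (fun g hg => (Finset.mem_filter.mp hg).2)
  · intro h hh
    rw [map_mul, map_prod]
    rw [Finset.prod_eq_zero (Finset.mem_filter.mpr ⟨Finset.mem_univ h, hh⟩), mul_zero]
    simp only [wf', dif_neg hh]
    exact hwf0 h hh

section Trace

variable [Algebra.IsInvariant B C G] [FaithfulSMul B C]

attribute [local instance] Fintype.ofFinite

noncomputable def cosetSum (c : C) : C := ∑ q : G ⧸ T, q.out • (u * c)

include hP1 in
theorem out_smul (g : G) (q : G ⧸ T) (c : C) :
    (g • q).out • (u * c) = (g * q.out) • (u * c) := by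
  have h1 : g • q = QuotientGroup.mk (g * q.out) := by
    conv_lhs => rw [← QuotientGroup.out_eq' q]
    rfl
  obtain ⟨t, ht⟩ := QuotientGroup.mk_out_eq_mul T (g * q.out)
  rw [h1, ht, mul_smul (g * q.out) (t : G), hP1 t t.2]

include hP1 in
theorem smul_cosetSum (g : G) (c : C) : g • cosetSum u T c = cosetSum u T c := by
  unfold cosetSum
  rw [Finset.smul_sum]
  have : ∀ q : G ⧸ T, g • q.out • (u * c) = (g • q).out • (u * c) := by
    intro q
    rw [out_smul u T hP1, mul_smul]
  simp_rw [this]
  exact Equiv.sum_comp (MulAction.toPerm g) (fun q : G ⧸ T => q.out • (u * c))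

include hP1 in
theorem exists_tr (c : C) : ∃ b : B, algebraMap B C b = cosetSum u T c :=
  Algebra.IsInvariant.isInvariant (A := B) (G := G) _ (fun g => smul_cosetSum u T hP1 g c)

theorem cosetSum_add (c c' : C) : cosetSum u T (c + c') = cosetSum u T c + cosetSum u T c' := by
  unfold cosetSum
  simp only [mul_add, smul_add, Finset.sum_add_distrib]

theorem cosetSum_smul (b : B) (c : C) : cosetSum u T (b • c) = b • cosetSum u T c := by
  unfold cosetSum
  rw [Finset.smul_sum]
  refine Finset.sum_congr rfl (fun q _ => ?_)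
  rw [mul_smul_comm, smul_comm]

noncomputable def trT : C →ₗ[B] B where
  toFun c := (exists_tr B u T hP1 c).choose
  map_add' c c' := by
    apply FaithfulSMul.algebraMap_injective B C
    rw [map_add, (exists_tr B u T hP1 c).choose_spec, (exists_tr B u T hP1 c').choose_spec,
      (exists_tr B u T hP1 (c + c')).choose_spec, cosetSum_add]
  map_smul' b c := by
    apply FaithfulSMul.algebraMap_injective B C
    rw [RingHom.id_apply, smul_eq_mul, map_mul, (exists_tr B u T hP1 c).choose_spec,
      (exists_tr B u T hP1 (b • c)).choose_spec, cosetSum_smul, Algebra.smul_def]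

theorem algebraMap_trT (c : C) : algebraMap B C (trT B u T hP1 c) = cosetSum u T c :=
  (exists_tr B u T hP1 c).choose_spec

include hu in
theorem dual_basis (S : Finset (C × C))
    (hT : ∀ h ∈ T, Galois.psi B C G h (S.sum fun i => i.1 ⊗ₜ[B] i.2) = u)
    (h0 : ∀ h, h ∉ T → Galois.psi B C G h (S.sum fun i => i.1 ⊗ₜ[B] i.2) = 0) (c : C) :
    ∑ i ∈ S, trT B u T hP1 (i.2 * c) • i.1 = u * c := by
  simp_rw [Algebra.smul_def, algebraMap_trT, cosetSum, Finset.sum_mul]
  rw [Finset.sum_comm]
  have : ∀ q : G ⧸ T, ∑ i ∈ S, q.out • (u * (i.2 * c)) * i.1 =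
      Galois.psi B C G q.out (S.sum fun i => i.1 ⊗ₜ[B] i.2) * q.out • (u * c) := by
    intro q
    rw [map_sum, Finset.sum_mul]
    refine Finset.sum_congr rfl (fun i _ => ?_)
    rw [Galois.psi_tmul]
    have : u * (i.2 * c) = i.2 * (u * c) := by ring
    rw [this, smul_mul']
    ring
  simp_rw [this]
  rw [Finset.sum_eq_single (QuotientGroup.mk 1 : G ⧸ T)]
  · have h1 : ((QuotientGroup.mk 1 : G ⧸ T).out) ∈ T := by
      have := QuotientGroup.eq.mp (QuotientGroup.out_eq' (QuotientGroup.mk 1 : G ⧸ T))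
      rw [mul_one] at this
      exact inv_mem_iff.mp this
    rw [hT _ h1, hP1 _ h1, ← mul_assoc, hu]
  · intro q _ hq
    have : q.out ∉ T := fun hmem => hq (by
      rw [← QuotientGroup.out_eq' q]
      apply QuotientGroup.eq.mpr
      rw [mul_one]
      exact inv_mem hmem)
    rw [h0 _ this, zero_mul]
  · intro h; exact absurd (Finset.mem_univ _) h

include hu hP1 hP2 in
theorem exists_factor : ∃ (ι : Type u) (_ : Fintype ι) (α : C →ₗ[B] (ι → B))
    (β : (ι → B) →ₗ[B] C), ∀ c, β (α c) = u * c := by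
  classical
  obtain ⟨z, hzT, hz0⟩ := exists_z B u T hu hP1 hP2
  obtain ⟨S, rfl⟩ := TensorProduct.exists_finset z
  let i : C →ₗ[B] (↥S → B) :=
    LinearMap.pi (fun i => (trT B u T hP1).comp (LinearMap.mulLeft B i.1.2))
  let s : (↥S → B) →ₗ[B] C := ∑ i : ↥S, (LinearMap.proj i).smulRight i.1.1
  refine ⟨↥S, inferInstance, i, s, fun c => ?_⟩
  simp only [s, i, LinearMap.sum_apply, LinearMap.smulRight_apply,
    LinearMap.proj_apply, LinearMap.pi_apply, LinearMap.comp_apply, LinearMap.mulLeft_apply]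
  rw [Finset.sum_coe_sort S (fun i => trT B u T hP1 (i.2 * c) • i.1)]
  exact dual_basis B u T hu hP1 S hzT hz0 c

end Trace

end Rel

section JJ

variable (B C : Type u) [CommRing B] [CommRing C] [Algebra B C]

def JJ : Ideal C where
  carrier := {c₀ | ∃ (ι : Type u) (_ : Fintype ι) (α : C →ₗ[B] (ι → B))
    (β : (ι → B) →ₗ[B] C), ∀ c, β (α c) = c₀ * c}
  zero_mem' := ⟨PEmpty, inferInstance, 0, 0, fun c => by simp⟩
  add_mem' := by
    rintro a b ⟨ι₁, _, α₁, β₁, h₁⟩ ⟨ι₂, _, α₂, β₂, h₂⟩
    refine ⟨ι₁ ⊕ ι₂, inferInstance,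
      LinearMap.pi (fun i => Sum.rec (fun i₁ => (LinearMap.proj i₁).comp α₁)
        (fun i₂ => (LinearMap.proj i₂).comp α₂) i),
      β₁.comp (LinearMap.funLeft B B Sum.inl) + β₂.comp (LinearMap.funLeft B B Sum.inr),
      fun c => ?_⟩
    simp only [LinearMap.add_apply, LinearMap.comp_apply]
    have e1 : LinearMap.funLeft B B Sum.inl (LinearMap.pi (fun i : ι₁ ⊕ ι₂ =>
        Sum.rec (motive := fun _ => C →ₗ[B] B) (fun i₁ => (LinearMap.proj i₁).comp α₁)
        (fun i₂ => (LinearMap.proj i₂).comp α₂) i) c) = α₁ c := by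
      ext i; simp [LinearMap.funLeft_apply]
    have e2 : LinearMap.funLeft B B Sum.inr (LinearMap.pi (fun i : ι₁ ⊕ ι₂ =>
        Sum.rec (motive := fun _ => C →ₗ[B] B) (fun i₁ => (LinearMap.proj i₁).comp α₁)
        (fun i₂ => (LinearMap.proj i₂).comp α₂) i) c) = α₂ c := by
      ext i; simp [LinearMap.funLeft_apply]
    rw [e1, e2, h₁, h₂, add_mul]
  smul_mem' := by
    rintro r a ⟨ι, hι, α, β, h⟩
    exact ⟨ι, hι, α, (LinearMap.mulLeft B r).comp β, fun c => by simp [h, mul_assoc]⟩

theorem mem_JJ {c₀ : C} : c₀ ∈ JJ B C ↔ ∃ (ι : Type u) (_ : Fintype ι) (α : C →ₗ[B] (ι → B))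
    (β : (ι → B) →ₗ[B] C), ∀ c, β (α c) = c₀ * c := Iff.rfl

end JJ

theorem projective_finite (R B C G : Type u) [CommRing R] [CommRing B] [CommRing C]
    [Algebra R B] [Algebra B C] [Algebra R C] [IsScalarTower R B C] [Group G] [Finite G]
    [MulSemiringAction G C] [SMulCommClass G B C] [Algebra.IsInvariant B C G] [FaithfulSMul B C]
    [Algebra.FormallyUnramified R C] [Algebra.EssFiniteType R C] :
    Module.Projective B C ∧ Module.Finite B C := by
  classical
  letI := Fintype.ofFinite G
  haveI : SMulCommClass G R C := ⟨fun g r c => by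
    rw [algebra_compatible_smul B r c, smul_comm, ← algebra_compatible_smul]⟩
  choose e he using exists_isInertiaIdem (C := C) (G := G) R
  have htop : JJ B C = ⊤ := by
    by_contra hne
    obtain ⟨M, hM, hle⟩ := Ideal.exists_le_maximal _ hne
    haveI := hM.isPrime
    have hmem : uu e M ∈ JJ B C := by
      rw [mem_JJ]
      exact exists_factor B (uu e M) (M.inertia G) (uu_idem e he M)
        (fun g hg c => smul_uu_mul e he M g hg c) (fun g hg => uu_mem_dI e he M g hg)
    exact uu_notMem e he M (hle hmem)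
  have h1 : (1 : C) ∈ JJ B C := by rw [htop]; trivial
  obtain ⟨ι, _, α, β, h⟩ := (mem_JJ B C).mp h1
  have H : β.comp α = LinearMap.id := by
    ext c
    simp [h]
  refine ⟨Module.Projective.of_split α β H, ?_⟩
  refine Module.Finite.of_surjective β (fun c => ⟨α c, ?_⟩)
  exact congrArg (fun f => f c) H

end Groth.Agent.Lib.Helper81.EtaleInv
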