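import Mathlib
import Groth.Agent.Lib.Helper81.EtaleInvFlat
import Groth.Agent.Lib.Helper81.EtaleInvRel

set_option autoImplicit false
set_option linter.style.haveILetI false
universe u

namespace Groth.Agent.Lib.Helper81.EtaleInv

open TensorProduct

theorem etale_of_isInvariant (R B C G : Type u) [CommRing R] [CommRing B] [CommRing C]
    [Algebra R B] [Algebra B C] [Algebra R C] [IsScalarTower R B C] [Group G] [Finite G]
    [MulSemiringAction G C] [SMulCommClass G B C] [Algebra.IsInvariant B C G] [FaithfulSMul B C]
    [IsNoetherianRing R] [Algebra.Etale R C] : Algebra.Etale R B := by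
  haveI : Algebra.FinitePresentation R C := Algebra.Etale.finitePresentation
  haveI : Algebra.FiniteType R C := inferInstance
  haveI : Algebra.EssFiniteType R C := inferInstance
  haveI : Algebra.FormallyUnramified R C := inferInstance
  obtain ⟨hproj, hfin⟩ := projective_finite R B C G
  haveI : Module.Flat B C := inferInstance
  haveI : Algebra.IsIntegral B C := Algebra.IsInvariant.isIntegral B C G
  haveI : Module.FaithfullyFlat B C :=
    Module.FaithfullyFlat.of_comap_surjective (Algebra.IsIntegral.comap_surjective B C)
  haveI : Module.Flat R C := inferInstance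
  haveI : Module.Flat R B := flat_of_tower R B C
  haveI : Algebra.FiniteType R B :=
    ⟨fg_of_fg_of_fg R B C Algebra.FiniteType.out hfin.fg_top (FaithfulSMul.algebraMap_injective B C)⟩
  haveI : Algebra.FinitePresentation R B := Algebra.FinitePresentation.of_finiteType.mp inferInstance
  haveI : IsNoetherianRing B := Algebra.FiniteType.isNoetherianRing R B
  haveI : Algebra.FiniteType B C := Algebra.FiniteType.of_restrictScalars_finiteType R B C
  haveI : Algebra.FinitePresentation B C := Algebra.FinitePresentation.of_finiteType.mp inferInstance
  haveI : Algebra.FormallyUnramified B C := Algebra.FormallyUnramified.of_restrictScalars R B C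
  haveI : Algebra.Etale B C := Algebra.Etale.of_formallyUnramified_of_flat
  haveI : Algebra.FormallyUnramified R B := by
    constructor
    have e := KaehlerDifferential.tensorKaehlerEquivOfFormallyEtale R B C
    haveI : Subsingleton (Ω[C⁄R]) := inferInstance
    haveI : Subsingleton (C ⊗[B] Ω[B⁄R]) := e.subsingleton
    exact Module.FaithfullyFlat.lTensor_reflects_triviality B C _
  exact Algebra.Etale.of_formallyUnramified_of_flat

end Groth.Agent.Lib.Helper81.EtaleInv
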