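import Groth.Agent.Lib.Helper81.IsQuotBasis

set_option autoImplicit false
set_option linter.style.haveILetI false
universe u
open CategoryTheory CategoryTheory.Limits AlgebraicGeometry Opposite TopologicalSpace

namespace Groth.Agent.Lib.Helper81.Quot

variable {X Y : Scheme.{u}} {G : Type u} [Group G] {ρ : G →* Aut X} {p : X ⟶ Y}

theorem epi [Finite G] (hp : SGA1.IsQuot ρ p) : Epi p :=
  epi_of_surjective_of_app_injective p (surjective hp) hp.injective

theorem existsUnique_desc [Finite G] (hp : SGA1.IsQuot ρ p) (Z : Scheme.{u}) (h : X ⟶ Z)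
    (hh : ∀ g : G, (ρ g).hom ≫ h = h) : ∃! h' : Y ⟶ Z, p ≫ h' = h := by
  have hepi : Epi p := epi hp
  obtain ⟨h', hh'⟩ := exists_desc p h (isQuotientMap hp) hp.injective
    (by
      intro x x' hx
      obtain ⟨g, rfl⟩ := exists_eq_of_base_eq hp x x' hx
      have := congr(($(hh g)).base x)
      simpa using this.symm)
    (by
      intro U W e t
      rw [mem_range_iff hp]
      intro g
      unfold sec
      rw [← CommRingCat.comp_apply, Scheme.Hom.appLE_comp_appLE, appLE_congr_hom (hh g)])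
  exact ⟨h', hh', fun h'' hh'' => by rw [← cancel_epi p, hh', hh'']⟩

theorem isQuot_toSpecΓ [Finite G] (hp : SGA1.IsQuot ρ p) [IsAffine X] :
    SGA1.IsQuot ρ (p ≫ Y.toSpecΓ) := by
  have hinv : ∀ g : G, (ρ g).hom ≫ p ≫ Y.toSpecΓ = p ≫ Y.toSpecΓ := fun g => by
    rw [reassoc_of% (hp.inv g)]
  have hbij : Function.Bijective (Y.toSpecΓ.app ⊤).hom := by
    have : Y.toSpecΓ.app ⊤ = (Scheme.ΓSpecIso Γ(Y, ⊤)).hom := Y.toSpecΓ_appTop
    rw [this]
    exact ConcreteCategory.bijective_of_isIso (Scheme.ΓSpecIso Γ(Y, ⊤)).hom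
  refine isQuot_of_top ρ (p ≫ Y.toSpecΓ) hinv ?_ ?_
  · intro t t' htt'
    exact hbij.injective (hp.injective ⊤ htt')
  · intro s hs
    obtain ⟨t, ht⟩ := (mem_range_iff hp ⊤ s).mpr hs
    obtain ⟨t', rfl⟩ := hbij.surjective t
    exact ⟨t', ht⟩

theorem isAffine_of_isAffine [Finite G] (hp : SGA1.IsQuot ρ p) [IsAffine X] : IsAffine Y := by
  have hπ := isQuot_toSpecΓ hp
  have hepi : Epi p := epi hp
  have hepi' : Epi (p ≫ Y.toSpecΓ) := epi hπ
  obtain ⟨ψ, hψ, -⟩ := existsUnique_desc hπ Y p hp.inv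
  have h1 : Y.toSpecΓ ≫ ψ = 𝟙 Y := by
    rw [← cancel_epi p, ← Category.assoc, hψ, Category.comp_id]
  have h2 : ψ ≫ Y.toSpecΓ = 𝟙 _ := by
    rw [← cancel_epi (p ≫ Y.toSpecΓ), ← Category.assoc, hψ, Category.comp_id]
  exact ⟨⟨ψ, h1, h2⟩⟩

theorem isAffineOpen_of_preimage [Finite G] (hp : SGA1.IsQuot ρ p) (U : Y.Opens)
    (hV : IsAffineOpen (p ⁻¹ᵁ U)) : IsAffineOpen U := by
  haveI : IsAffine (p ⁻¹ᵁ U).toScheme := hV
  exact isAffine_of_isAffine (restrictAut_isQuot hp U)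

end Groth.Agent.Lib.Helper81.Quot
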