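import Mathlib.RingTheory.Localization.Away.Basic
import Mathlib.Tactic

set_option autoImplicit false

namespace Groth.Agent.Lib.Helper81

section

variable {A B A' B' : Type*} [CommRing A] [CommRing B] [CommRing A'] [CommRing B']
  [Algebra A A'] [Algebra B B'] (φ : A →+* B) (φ' : A' →+* B') (a : A)
  [IsLocalization.Away a A'] [IsLocalization.Away (φ a) B']

include a in
theorem away_injective
    (hcomm : ∀ x, φ' (algebraMap A A' x) = algebraMap B B' (φ x))
    (hφ : Function.Injective φ) : Function.Injective φ' := by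
  rw [injective_iff_map_eq_zero]
  intro t ht
  obtain ⟨n, c, hc⟩ := IsLocalization.Away.surj a t
  have h1 : algebraMap B B' (φ c) = algebraMap B B' 0 := by
    rw [← hcomm, ← hc, map_mul, ht, zero_mul, map_zero]
  obtain ⟨m, hm⟩ := IsLocalization.Away.exists_of_eq (φ a) h1
  rw [mul_zero, ← map_pow, ← map_mul] at hm
  have h2 : a ^ m * c = 0 := hφ (by rw [hm, map_zero])
  have h3 : algebraMap A A' c = 0 := by
    have hu := IsLocalization.Away.algebraMap_pow_isUnit a (S := A') m
    have : algebraMap A A' a ^ m * algebraMap A A' c = 0 := by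
      rw [← map_pow, ← map_mul, h2, map_zero]
    exact (hu.mul_right_eq_zero).mp this
  have hu := IsLocalization.Away.algebraMap_pow_isUnit a (S := A') n
  rw [h3] at hc
  exact (hu.mul_left_eq_zero).mp hc

include a in
theorem away_mem_range {ι : Type*} [Finite ι] (σ : ι → B →+* B) (σ' : ι → B' →+* B')
    (hcomm : ∀ x, φ' (algebraMap A A' x) = algebraMap B B' (φ x))
    (hσ : ∀ g x, σ' g (algebraMap B B' x) = algebraMap B B' (σ g x))
    (hσφ : ∀ g x, σ g (φ x) = φ x)
    (hinvar : ∀ b, (∀ g, σ g b = b) → b ∈ Set.range φ)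
    (s : B') (hs : ∀ g, σ' g s = s) : s ∈ Set.range φ' := by
  obtain ⟨n, b, hb⟩ := IsLocalization.Away.surj (φ a) s
  have h1 : ∀ g, algebraMap B B' (σ g b) = algebraMap B B' b := by
    intro g
    rw [← hσ, ← hb, map_mul, map_pow, hs g, hσ, hσφ]
  have h2 : ∀ g, ∃ m, (φ a) ^ m * σ g b = (φ a) ^ m * b :=
    fun g => IsLocalization.Away.exists_of_eq (φ a) (h1 g)
  choose mf hmf using h2
  cases nonempty_fintype ι
  let m := Finset.univ.sup mf
  have h3 : ∀ g, (φ a) ^ m * σ g b = (φ a) ^ m * b := by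
    intro g
    have hle : mf g ≤ m := Finset.le_sup (Finset.mem_univ g)
    obtain ⟨k, hk⟩ := Nat.exists_eq_add_of_le hle
    rw [hk, pow_add, mul_comm (φ a ^ mf g), mul_assoc, hmf g, mul_assoc]
  have h4 : ∀ g, σ g ((φ a) ^ m * b) = (φ a) ^ m * b := by
    intro g
    rw [map_mul, map_pow, hσφ, h3]
  obtain ⟨c, hc⟩ := hinvar _ h4
  obtain ⟨u, hu'⟩ := IsLocalization.Away.algebraMap_pow_isUnit a (S := A') (n + m)
  refine ⟨algebraMap A A' c * ↑u⁻¹, ?_⟩
  have hub : IsUnit (algebraMap B B' (φ a) ^ (n + m)) :=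
    IsLocalization.Away.algebraMap_pow_isUnit (φ a) (n + m)
  apply hub.mul_left_injective
  show φ' (algebraMap A A' c * ↑u⁻¹) * algebraMap B B' (φ a) ^ (n + m) =
    s * algebraMap B B' (φ a) ^ (n + m)
  calc φ' (algebraMap A A' c * ↑u⁻¹) * algebraMap B B' (φ a) ^ (n + m)
      = φ' (algebraMap A A' c * ↑u⁻¹ * algebraMap A A' a ^ (n + m)) := by
        rw [map_mul φ' _ (algebraMap A A' a ^ _), map_pow, hcomm]
    _ = φ' (algebraMap A A' c) := by rw [← hu', mul_assoc, Units.inv_mul, mul_one]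
    _ = algebraMap B B' (φ c) := hcomm c
    _ = algebraMap B B' ((φ a) ^ m * b) := by rw [hc]
    _ = s * algebraMap B B' (φ a) ^ (n + m) := by
        rw [map_mul, map_pow, ← hb, pow_add]; ring

end

end Groth.Agent.Lib.Helper81
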