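import Groth.Agent.Lib.Helper81.IsQuotRestrict
import Mathlib.Topology.Sheaves.SheafCondition.UniqueGluing
import Groth.Agent.Lib.Helper81.AwayInvariant

set_option autoImplicit false
set_option linter.style.haveILetI false
universe u
open CategoryTheory CategoryTheory.Limits AlgebraicGeometry Opposite TopologicalSpace

namespace Groth.Agent.Lib.Helper81.Quot

variable {X Y : Scheme.{u}} {G : Type u} [Group G]

section Basis

variable (ρ : G →* Aut X) (p : X ⟶ Y) (hinv : ∀ g : G, (ρ g).hom ≫ p = p)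

theorem sec_app (U : Y.Opens) (g : G) (t : Γ(Y, U)) :
    (sec ρ (p ⁻¹ᵁ U) (fun g => SGA1.preimage_le_of_inv ρ p hinv g U) g).hom ((p.app U).hom t) =
      (p.app U).hom t := by
  unfold sec
  rw [← CommRingCat.comp_apply, ← Scheme.Hom.comp_appLE, appLE_congr_hom (hinv g),
    Scheme.Hom.appLE_eq_app]

theorem sec_map (V V' : X.Opens) (hV : ∀ g : G, V ≤ (ρ g).hom ⁻¹ᵁ V)
    (hV' : ∀ g : G, V' ≤ (ρ g).hom ⁻¹ᵁ V') (hle : V' ≤ V) (g : G) :
    sec ρ V hV g ≫ X.presheaf.map (homOfLE hle).op =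
      X.presheaf.map (homOfLE hle).op ≫ sec ρ V' hV' g := by
  unfold sec
  rw [Scheme.Hom.appLE_map, Scheme.Hom.map_appLE]

omit ρ hinv in
theorem injective_of_basis (𝓑 : Set Y.Opens) (h𝓑 : Opens.IsBasis 𝓑)
    (hinj : ∀ U ∈ 𝓑, Function.Injective (p.app U).hom) (U : Y.Opens) :
    Function.Injective (p.app U).hom := by
  intro t t' htt'
  let ι := {U' : Y.Opens // U' ∈ 𝓑 ∧ U' ≤ U}
  have hcov : U ≤ iSup (fun i : ι => i.1) := by
    intro x hx
    obtain ⟨U', hU', hxU', hle⟩ := Opens.isBasis_iff_nbhd.mp h𝓑 hx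
    exact Opens.mem_iSup.mpr ⟨⟨U', hU', hle⟩, hxU'⟩
  refine Y.sheaf.eq_of_locally_eq' (fun i : ι => i.1) U (fun i => homOfLE i.2.2) hcov t t' ?_
  intro i
  apply hinj i.1 i.2.1
  have h1 := fun (t : Γ(Y, U)) => congrArg (fun φ => φ.hom t)
    (p.naturality (homOfLE i.2.2).op)
  simp only [CommRingCat.hom_comp, RingHom.coe_comp, Function.comp_apply] at h1
  exact (h1 t).trans ((congrArg _ htt').trans (h1 t').symm)

theorem map_map_apply {T : TopCat.{u}} (F : (Opens T)ᵒᵖ ⥤ CommRingCat.{u}) {A B C : (Opens T)ᵒᵖ}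
    (a : A ⟶ B) (b : B ⟶ C) (c : A ⟶ C) (s : F.obj A) :
    (F.map b).hom ((F.map a).hom s) = (F.map c).hom s := by
  rw [Subsingleton.elim c (a ≫ b), F.map_comp]
  rfl

theorem app_map_apply (U U' : Y.Opens) (hle : U' ≤ U) (t : Γ(Y, U)) :
    (p.app U').hom ((Y.presheaf.map (homOfLE hle).op).hom t) =
      (X.presheaf.map (homOfLE ((Opens.map p.base).map (homOfLE hle)).le).op).hom
        ((p.app U).hom t) := by
  have h1 := congrArg (fun φ => φ.hom t) (p.naturality (homOfLE hle).op)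
  simp only [CommRingCat.hom_comp, RingHom.coe_comp, Function.comp_apply] at h1
  exact h1

theorem mem_range_of_basis (𝓑 : Set Y.Opens) (h𝓑 : Opens.IsBasis 𝓑)
    (hinj : ∀ U ∈ 𝓑, Function.Injective (p.app U).hom)
    (hrange : ∀ U ∈ 𝓑, ∀ s : Γ(X, p ⁻¹ᵁ U),
      (∀ g, (sec ρ (p ⁻¹ᵁ U) (fun g => SGA1.preimage_le_of_inv ρ p hinv g U) g).hom s = s) →
        s ∈ Set.range (p.app U).hom)
    (U : Y.Opens) (s : Γ(X, p ⁻¹ᵁ U))
    (hs : ∀ g, (sec ρ (p ⁻¹ᵁ U) (fun g => SGA1.preimage_le_of_inv ρ p hinv g U) g).hom s = s) :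
    s ∈ Set.range (p.app U).hom := by
  let ι := {U' : Y.Opens // U' ∈ 𝓑 ∧ U' ≤ U}
  have hcov : U ≤ iSup (fun i : ι => i.1) := by
    intro x hx
    obtain ⟨U', hU', hxU', hle⟩ := Opens.isBasis_iff_nbhd.mp h𝓑 hx
    exact Opens.mem_iSup.mpr ⟨⟨U', hU', hle⟩, hxU'⟩
  have hallinj := injective_of_basis p 𝓑 h𝓑 hinj
  have hple : ∀ i : ι, p ⁻¹ᵁ i.1 ≤ p ⁻¹ᵁ U := fun i => ((Opens.map p.base).map (homOfLE i.2.2)).le
  let sres : ∀ i : ι, Γ(X, p ⁻¹ᵁ i.1) := fun i => (X.presheaf.map (homOfLE (hple i)).op).hom s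
  have hsres : ∀ (i : ι) (g : G),
      (sec ρ (p ⁻¹ᵁ i.1) (fun g => SGA1.preimage_le_of_inv ρ p hinv g i.1) g).hom (sres i) =
        sres i := by
    intro i g
    have := congrArg (fun φ => φ.hom s) (sec_map ρ (p ⁻¹ᵁ U) (p ⁻¹ᵁ i.1)
      (fun g => SGA1.preimage_le_of_inv ρ p hinv g U)
      (fun g => SGA1.preimage_le_of_inv ρ p hinv g i.1) (hple i) g)
    simp only [CommRingCat.hom_comp, RingHom.coe_comp, Function.comp_apply] at this
    rw [← this, hs g]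
  choose tf htf using fun i : ι => hrange i.1 i.2.1 (sres i) (hsres i)
  have hcompat : TopCat.Presheaf.IsCompatible Y.presheaf (fun i : ι => i.1) tf := by
    intro i j
    apply hallinj (i.1 ⊓ j.1)
    have e1 := app_map_apply p i.1 (i.1 ⊓ j.1) inf_le_left (tf i)
    have e2 := app_map_apply p j.1 (i.1 ⊓ j.1) inf_le_right (tf j)
    rw [htf i] at e1
    rw [htf j] at e2
    refine e1.trans (Eq.trans ?_ e2.symm)
    simp only [sres]
    have hc : p ⁻¹ᵁ (i.1 ⊓ j.1) ≤ p ⁻¹ᵁ U :=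
      le_trans ((Opens.map p.base).map (homOfLE (inf_le_left : i.1 ⊓ j.1 ≤ i.1))).le (hple i)
    exact (map_map_apply X.presheaf _ _ (homOfLE hc).op s).trans
      (map_map_apply X.presheaf _ _ (homOfLE hc).op s).symm
  obtain ⟨t, ht, -⟩ := Y.sheaf.existsUnique_gluing' (fun i : ι => i.1) U
    (fun i => homOfLE i.2.2) hcov tf hcompat
  refine ⟨t, ?_⟩
  have hcov' : p ⁻¹ᵁ U ≤ iSup (fun i : ι => p ⁻¹ᵁ i.1) := by
    intro x hx
    obtain ⟨i, hi⟩ := Opens.mem_iSup.mp (hcov hx)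
    exact Opens.mem_iSup.mpr ⟨i, hi⟩
  refine X.sheaf.eq_of_locally_eq' (fun i : ι => p ⁻¹ᵁ i.1) (p ⁻¹ᵁ U)
    (fun i => homOfLE (hple i)) hcov' _ _ ?_
  intro i
  have e1 := app_map_apply p U i.1 i.2.2 t
  have e2 : (Y.presheaf.map (homOfLE i.2.2).op).hom t = tf i := ht i
  rw [e2, htf i] at e1
  exact e1.symm

end Basis

section BasicOpen

variable (ρ : G →* Aut X) (p : X ⟶ Y) (hinv : ∀ g : G, (ρ g).hom ≫ p = p)
  (U : Y.Opens) (hU : IsAffineOpen U) (hVaff : IsAffineOpen (p ⁻¹ᵁ U)) (a : Γ(Y, U))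

include hU hVaff in
theorem basicOpen_injective (hinjU : Function.Injective (p.app U).hom) :
    Function.Injective (p.app (Y.basicOpen a)).hom := by
  have hle : p ⁻¹ᵁ (Y.basicOpen a) ≤ p ⁻¹ᵁ U :=
    ((Opens.map p.base).map (homOfLE (Y.basicOpen_le a))).le
  haveI := hU.isLocalization_basicOpen a
  letI : Algebra Γ(X, p ⁻¹ᵁ U) Γ(X, p ⁻¹ᵁ (Y.basicOpen a)) :=
    (X.presheaf.map (homOfLE hle).op).hom.toAlgebra
  haveI : IsLocalization.Away ((p.app U).hom a) Γ(X, p ⁻¹ᵁ (Y.basicOpen a)) :=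
    hVaff.isLocalization_of_eq_basicOpen _ (homOfLE hle) (Scheme.preimage_basicOpen p a)
  refine away_injective (p.app U).hom (p.app (Y.basicOpen a)).hom a ?_ hinjU
  intro x
  exact app_map_apply p U (Y.basicOpen a) (Y.basicOpen_le a) x

include hU hVaff in
theorem basicOpen_mem_range [Finite G]
    (hrangeU : ∀ s : Γ(X, p ⁻¹ᵁ U),
      (∀ g, (sec ρ (p ⁻¹ᵁ U) (fun g => SGA1.preimage_le_of_inv ρ p hinv g U) g).hom s = s) →
        s ∈ Set.range (p.app U).hom)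
    (s : Γ(X, p ⁻¹ᵁ (Y.basicOpen a)))
    (hs : ∀ g, (sec ρ (p ⁻¹ᵁ (Y.basicOpen a))
      (fun g => SGA1.preimage_le_of_inv ρ p hinv g (Y.basicOpen a)) g).hom s = s) :
    s ∈ Set.range (p.app (Y.basicOpen a)).hom := by
  have hle : p ⁻¹ᵁ (Y.basicOpen a) ≤ p ⁻¹ᵁ U :=
    ((Opens.map p.base).map (homOfLE (Y.basicOpen_le a))).le
  haveI := hU.isLocalization_basicOpen a
  letI : Algebra Γ(X, p ⁻¹ᵁ U) Γ(X, p ⁻¹ᵁ (Y.basicOpen a)) :=
    (X.presheaf.map (homOfLE hle).op).hom.toAlgebra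
  haveI : IsLocalization.Away ((p.app U).hom a) Γ(X, p ⁻¹ᵁ (Y.basicOpen a)) :=
    hVaff.isLocalization_of_eq_basicOpen _ (homOfLE hle) (Scheme.preimage_basicOpen p a)
  refine away_mem_range (p.app U).hom (p.app (Y.basicOpen a)).hom a
    (fun g => (sec ρ (p ⁻¹ᵁ U) (fun g => SGA1.preimage_le_of_inv ρ p hinv g U) g).hom)
    (fun g => (sec ρ (p ⁻¹ᵁ (Y.basicOpen a))
      (fun g => SGA1.preimage_le_of_inv ρ p hinv g (Y.basicOpen a)) g).hom)
    ?_ ?_ ?_ hrangeU s hs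
  · intro x
    exact app_map_apply p U (Y.basicOpen a) (Y.basicOpen_le a) x
  · intro g x
    have := congrArg (fun φ => φ.hom x) (sec_map ρ (p ⁻¹ᵁ U) (p ⁻¹ᵁ (Y.basicOpen a))
      (fun g => SGA1.preimage_le_of_inv ρ p hinv g U)
      (fun g => SGA1.preimage_le_of_inv ρ p hinv g (Y.basicOpen a)) hle g)
    simp only [CommRingCat.hom_comp, RingHom.coe_comp, Function.comp_apply] at this
    exact this.symm
  · intro g x
    exact sec_app ρ p hinv U g x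

theorem isQuot_of_top [Finite G] [IsAffine Y] [IsAffineHom p]
    (hinjT : Function.Injective (p.app ⊤).hom)
    (hrangeT : ∀ s : Γ(X, p ⁻¹ᵁ ⊤),
      (∀ g, (sec ρ (p ⁻¹ᵁ ⊤) (fun g => SGA1.preimage_le_of_inv ρ p hinv g ⊤) g).hom s = s) →
        s ∈ Set.range (p.app ⊤).hom) : SGA1.IsQuot ρ p := by
  have hbasis := isBasis_basicOpen Y
  have hVaff : IsAffineOpen (p ⁻¹ᵁ ⊤) := (isAffineOpen_top Y).preimage p
  have hinjB : ∀ U ∈ Set.range (Y.basicOpen : Γ(Y, ⊤) → Y.Opens),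
      Function.Injective (p.app U).hom := by
    rintro _ ⟨a, rfl⟩
    exact basicOpen_injective p ⊤ (isAffineOpen_top Y) hVaff a hinjT
  have hrangeB : ∀ U ∈ Set.range (Y.basicOpen : Γ(Y, ⊤) → Y.Opens), ∀ s : Γ(X, p ⁻¹ᵁ U),
      (∀ g, (sec ρ (p ⁻¹ᵁ U) (fun g => SGA1.preimage_le_of_inv ρ p hinv g U) g).hom s = s) →
        s ∈ Set.range (p.app U).hom := by
    rintro _ ⟨a, rfl⟩ s hs
    exact basicOpen_mem_range ρ p hinv ⊤ (isAffineOpen_top Y) hVaff a hrangeT s hs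
  refine ⟨inferInstance, hinv, injective_of_basis p _ hbasis hinjB, fun U s =>
    ⟨?_, mem_range_of_basis ρ p hinv _ hbasis hinjB hrangeB U s⟩⟩
  rintro ⟨t, rfl⟩ g
  exact sec_app ρ p hinv U g t

end BasicOpen

end Groth.Agent.Lib.Helper81.Quot
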