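import Mathlib.RingTheory.Invariant.Basic
import Mathlib.RingTheory.Invariant.Galois
import Mathlib.FieldTheory.Normal.Basic
import Mathlib.Tactic

set_option autoImplicit false
set_option linter.style.haveILetI false
set_option linter.unusedSectionVars false

namespace Groth.Agent.Lib.Helper81.InvTrans

variable {A B G : Type*} [CommRing A] [CommRing B] [Algebra A B] [Group G] [Finite G]
  [MulSemiringAction G B] [SMulCommClass G A B] [Algebra.IsInvariant A B G]

theorem exists_smul_of_ker_eq {K : Type*} [Field K] (χ χ' : B →+* K)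
    (h : χ.comp (algebraMap A B) = χ'.comp (algebraMap A B))
    (hker : RingHom.ker χ' = RingHom.ker χ) :
    ∃ g : G, ∀ b : B, χ' b = χ (g • b) := by
  let Q : Ideal B := RingHom.ker χ
  haveI hQ : Q.IsPrime := RingHom.ker_isPrime χ
  let P : Ideal A := Q.under A
  haveI : Q.LiesOver P := ⟨rfl⟩
  haveI : P.IsPrime := Ideal.IsPrime.under A Q
  let k := FractionRing (A ⧸ P)
  let L := FractionRing (B ⧸ Q)
  letI := FractionRing.liftAlgebra (A ⧸ P) (FractionRing (B ⧸ Q))
  let χb : B ⧸ Q →+* K := RingHom.kerLift χ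
  have hχb : Function.Injective χb := RingHom.kerLift_injective χ
  let χb' : B ⧸ Q →+* K := Ideal.Quotient.lift Q χ' (fun b hb => by
    have : b ∈ RingHom.ker χ' := by rw [hker]; exact hb
    exact this)
  have hχb' : Function.Injective χb' := by
    rw [injective_iff_map_eq_zero]
    intro x hx
    obtain ⟨b, rfl⟩ := Ideal.Quotient.mk_surjective x
    rw [Ideal.Quotient.eq_zero_iff_mem]
    have : χ' b = 0 := hx
    show b ∈ RingHom.ker χ
    rw [← hker]
    exact this
  let φ : L →+* K := IsFractionRing.lift hχb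
  let φ' : L →+* K := IsFractionRing.lift hχb'
  have hφ : ∀ x : B ⧸ Q, φ (algebraMap (B ⧸ Q) L x) = χb x := fun x =>
    IsFractionRing.lift_algebraMap hχb x
  have hφ' : ∀ x : B ⧸ Q, φ' (algebraMap (B ⧸ Q) L x) = χb' x := fun x =>
    IsFractionRing.lift_algebraMap hχb' x
  letI : Algebra L K := φ.toAlgebra
  letI : Algebra k K := (φ.comp (algebraMap k L)).toAlgebra
  haveI : IsScalarTower k L K := IsScalarTower.of_algebraMap_eq (fun x => rfl)
  have hagree : φ'.comp (algebraMap k L) = φ.comp (algebraMap k L) := by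
    apply IsLocalization.ringHom_ext (nonZeroDivisors (A ⧸ P))
    ext a
    simp only [RingHom.comp_apply]
    rw [← IsScalarTower.algebraMap_apply (A ⧸ P) k L,
      IsScalarTower.algebraMap_apply (A ⧸ P) (B ⧸ Q) L, hφ, hφ']
    have h1 : algebraMap (A ⧸ P) (B ⧸ Q) (Ideal.Quotient.mk P a) =
        Ideal.Quotient.mk Q (algebraMap A B a) := rfl
    rw [h1]
    show χ' (algebraMap A B a) = χ (algebraMap A B a)
    exact (congrArg (fun f => f a) h).symm
  let φa' : L →ₐ[k] K := ⟨φ', fun x => congrArg (fun f => f x) hagree⟩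
  haveI : Normal k L := Ideal.IsFractionRing.normal G P Q k L
  let τ : L →ₐ[k] L := φa'.restrictNormal L
  have hτ : ∀ x : L, φ (τ x) = φ' x := fun x => AlgHom.restrictNormal_commutes φa' L x
  have hbij : Function.Bijective τ := Algebra.IsAlgebraic.algHom_bijective τ
  let τe : L ≃ₐ[k] L := AlgEquiv.ofBijective τ hbij
  obtain ⟨g, hg⟩ := IsFractionRing.stabilizerHom_surjective G P Q k L τe
  refine ⟨g.val, fun b => ?_⟩
  have h1 : χ' b = φ' (algebraMap (B ⧸ Q) L (Ideal.Quotient.mk Q b)) := by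
    rw [hφ']; rfl
  have h2 : τ (algebraMap (B ⧸ Q) L (Ideal.Quotient.mk Q b)) =
      algebraMap (B ⧸ Q) L (Ideal.Quotient.mk Q (g.val • b)) := by
    have := IsFractionRing.stabilizerHom_apply_apply_mk G P Q k L g b
    rw [hg] at this
    exact this
  rw [h1, ← hτ, h2, hφ]
  rfl

theorem exists_smul_of_hom {K : Type*} [Field K] (χ χ' : B →+* K)
    (h : χ.comp (algebraMap A B) = χ'.comp (algebraMap A B)) :
    ∃ g : G, ∀ b : B, χ' b = χ (g • b) := by
  haveI hQ : (RingHom.ker χ).IsPrime := RingHom.ker_isPrime χ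
  haveI hQ' : (RingHom.ker χ').IsPrime := RingHom.ker_isPrime χ'
  have hunder : (RingHom.ker χ).under A = (RingHom.ker χ').under A := by
    ext a
    simp only [Ideal.under_def, Ideal.mem_comap, RingHom.mem_ker]
    have := congrArg (fun f => f a) h
    simp only [RingHom.comp_apply] at this
    rw [this]
  obtain ⟨g₀, hg₀⟩ := Algebra.IsInvariant.exists_smul_of_under_eq A B G _ _ hunder
  let χ₁ : B →+* K := χ.comp (MulSemiringAction.toRingHom G B g₀⁻¹)
  have hχ₁ : ∀ b, χ₁ b = χ (g₀⁻¹ • b) := fun b => rfl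
  have h1 : χ₁.comp (algebraMap A B) = χ'.comp (algebraMap A B) := by
    rw [← h]
    ext a
    simp only [RingHom.comp_apply, hχ₁, smul_algebraMap]
  have hker : RingHom.ker χ' = RingHom.ker χ₁ := by
    rw [hg₀]
    ext b
    rw [Ideal.mem_pointwise_smul_iff_inv_smul_mem, RingHom.mem_ker, RingHom.mem_ker, hχ₁]
  obtain ⟨g, hg⟩ := exists_smul_of_ker_eq (A := A) (G := G) χ₁ χ' h1 hker
  refine ⟨g₀⁻¹ * g, fun b => ?_⟩
  rw [hg b, hχ₁, mul_smul]

end Groth.Agent.Lib.Helper81.InvTrans
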