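import Groth.Agent.Lib.Helper81.FreeQuot
import Groth.Agent.Lib.Helper81.InvTrans
import Mathlib.AlgebraicGeometry.Morphisms.UniversallyInjective
import Mathlib.AlgebraicGeometry.Morphisms.UniversallyClosed
import Mathlib.AlgebraicGeometry.Morphisms.Flat

set_option autoImplicit false
set_option linter.style.haveILetI false
universe u
open CategoryTheory CategoryTheory.Limits AlgebraicGeometry Opposite TopologicalSpace

namespace Groth.Agent.Lib.Helper81.KTrans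

open Groth.Agent.Lib.Helper81 Groth.Agent.Lib.Helper81.FreeQuot

variable {X Y : Scheme.{u}} {G : Type u} [Group G]

def KTrans (ρ : G →* Aut X) (p : X ⟶ Y) : Prop :=
  ∀ (K : Type u) [Field K] (ξ ξ' : Spec (CommRingCat.of K) ⟶ X), ξ ≫ p = ξ' ≫ p →
    ∃ g : G, ξ' = ξ ≫ (ρ g).hom

variable {ρ : G →* Aut X} {p : X ⟶ Y}

theorem app_exists_smul [Finite G] (hp : SGA1.IsQuot ρ p) (U : Y.Opens)
    {K : Type u} [Field K] (χ χ' : Γ(X, p ⁻¹ᵁ U) →+* K)
    (h : χ.comp (p.app U).hom = χ'.comp (p.app U).hom) :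
    ∃ g : G, ∀ b, χ' b = χ ((Quot.sec ρ (p ⁻¹ᵁ U) (Quot.stable hp U) g).hom b) := by
  letI := Quot.action ρ (p ⁻¹ᵁ U) (Quot.stable hp U)
  letI := (p.app U).hom.toAlgebra
  haveI := Quot.isInvariant hp U
  haveI := Quot.smulCommClass hp U
  obtain ⟨g, hg⟩ := InvTrans.exists_smul_of_hom (A := Γ(Y, U)) (G := G) χ χ' h
  refine ⟨g⁻¹, fun b => ?_⟩
  rw [hg b, Quot.action_smul_def]

theorem kTrans_of_isQuot [Finite G] (hp : SGA1.IsQuot ρ p) : KTrans ρ p := by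
  intro K _ ξ ξ' hcond
  haveI := hp.affine
  have hs : Subsingleton (PrimeSpectrum K) := inferInstance
  obtain ⟨t⟩ : Nonempty (Spec (CommRingCat.of K)) := inferInstance
  obtain ⟨U, hU, hyU, -⟩ := Opens.isBasis_iff_nbhd.mp Y.isBasis_affineOpens
    (Opens.mem_top (p (ξ t)))
  have hV : IsAffineOpen (p ⁻¹ᵁ U) := hU.preimage p
  have hr : Set.range ξ ⊆ Set.range hV.fromSpec := by
    rw [hV.range_fromSpec]
    rintro _ ⟨s, rfl⟩
    have : s = t := hs.elim _ _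
    rw [this]
    exact hyU
  have hr' : Set.range ξ' ⊆ Set.range hV.fromSpec := by
    rw [hV.range_fromSpec]
    rintro _ ⟨s, rfl⟩
    have : s = t := hs.elim _ _
    rw [this]
    show p (ξ' t) ∈ U
    rw [← Scheme.Hom.comp_apply, ← hcond, Scheme.Hom.comp_apply]
    exact hyU
  let l := IsOpenImmersion.lift hV.fromSpec ξ hr
  let l' := IsOpenImmersion.lift hV.fromSpec ξ' hr'
  have hl : l ≫ hV.fromSpec = ξ := IsOpenImmersion.lift_fac _ _ _
  have hl' : l' ≫ hV.fromSpec = ξ' := IsOpenImmersion.lift_fac _ _ _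
  let χ : Γ(X, p ⁻¹ᵁ U) ⟶ CommRingCat.of K := Spec.preimage l
  let χ' : Γ(X, p ⁻¹ᵁ U) ⟶ CommRingCat.of K := Spec.preimage l'
  have hχ : Spec.map χ = l := Spec.map_preimage l
  have hχ' : Spec.map χ' = l' := Spec.map_preimage l'
  have hAgree : p.app U ≫ χ = p.app U ≫ χ' := by
    apply Spec.map_injective
    rw [← cancel_mono hU.fromSpec, Spec.map_comp, Spec.map_comp, Category.assoc, Category.assoc]
    have := IsAffineOpen.SpecMap_appLE_fromSpec p hU hV le_rfl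
    rw [← Scheme.Hom.app_eq_appLE] at this
    rw [this, hχ, hχ', ← Category.assoc, ← Category.assoc, hl, hl', hcond]
  obtain ⟨g, hg⟩ := app_exists_smul hp U χ.hom χ'.hom (by
    have := congrArg CommRingCat.Hom.hom hAgree
    simpa using this)
  have hχg : χ' = Quot.sec ρ (p ⁻¹ᵁ U) (Quot.stable hp U) g ≫ χ := by
    ext b
    exact hg b
  refine ⟨g, ?_⟩
  rw [← hl', ← hχ', hχg, Spec.map_comp, Category.assoc,
    ← fromSpec_comp_rho ρ _ hV (Quot.stable hp U), hχ, ← Category.assoc, hl]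

theorem epi_of_field {Z : Scheme.{u}} [Nonempty Z] (K : Type u) [Field K]
    (c : Z ⟶ Spec (CommRingCat.of K)) : Epi c := by
  haveI hs : Subsingleton (Spec (CommRingCat.of K)) :=
    (inferInstance : Subsingleton (PrimeSpectrum K))
  haveI : Flat c := inferInstance
  haveI : Surjective c := by
    obtain ⟨z⟩ : Nonempty Z := inferInstance
    exact ⟨fun y => ⟨z, hs.elim _ _⟩⟩
  exact Flat.epi_of_flat_of_surjective c

theorem universallyInjective_of_kTrans {Y' : Scheme.{u}} (hT : KTrans ρ p) (r : X ⟶ Y')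
    [Surjective r] (hr : ∀ g, (ρ g).hom ≫ r = r) (m : Y' ⟶ Y) (hm : r ≫ m = p) :
    UniversallyInjective m := by
  have h01 := (tfae_universallyInjective m).out 0 1
  refine h01.mpr ?_
  intro K _ a₁ a₂ ha
  have ha : a₁ ≫ m = a₂ ≫ m := ha
  let s₁ := pullback.snd r a₁
  let s₂ := pullback.snd r a₂
  obtain ⟨t⟩ : Nonempty (Spec (CommRingCat.of K)) := inferInstance
  obtain ⟨w₁, hw₁⟩ := s₁.surjective t
  obtain ⟨w₂, hw₂⟩ := s₂.surjective t
  obtain ⟨w, -, -⟩ := Scheme.Pullback.exists_preimage_pullback (f := s₁) (g := s₂) w₁ w₂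
    (hw₁.trans hw₂.symm)
  let W := pullback s₁ s₂
  let ω : Spec (W.residueField w) ⟶ W := W.fromSpecResidueField w
  obtain ⟨b₁, hb₁⟩ : ∃ b : Spec (W.residueField w) ⟶ X,
    b = ω ≫ pullback.fst s₁ s₂ ≫ pullback.fst r a₁ := ⟨_, rfl⟩
  obtain ⟨b₂, hb₂⟩ : ∃ b : Spec (W.residueField w) ⟶ X,
    b = ω ≫ pullback.snd s₁ s₂ ≫ pullback.fst r a₂ := ⟨_, rfl⟩
  obtain ⟨c, hc1⟩ : ∃ c : Spec (W.residueField w) ⟶ Spec (CommRingCat.of K),
    c = ω ≫ pullback.fst s₁ s₂ ≫ s₁ := ⟨_, rfl⟩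
  have hc2 : c = ω ≫ pullback.snd s₁ s₂ ≫ s₂ := by
    rw [hc1, pullback.condition (f := s₁) (g := s₂)]
  have h1 : b₁ ≫ r = c ≫ a₁ := by
    rw [hb₁, hc1, Category.assoc, Category.assoc, Category.assoc, Category.assoc,
      pullback.condition (f := r) (g := a₁)]
  have h2 : b₂ ≫ r = c ≫ a₂ := by
    rw [hb₂, hc2, Category.assoc, Category.assoc, Category.assoc, Category.assoc,
      pullback.condition (f := r) (g := a₂)]
  have h3 : b₁ ≫ p = b₂ ≫ p := by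
    calc b₁ ≫ p = (b₁ ≫ r) ≫ m := by rw [Category.assoc, hm]
      _ = c ≫ a₁ ≫ m := by rw [h1, Category.assoc]
      _ = c ≫ a₂ ≫ m := by rw [ha]
      _ = (b₂ ≫ r) ≫ m := by rw [h2, Category.assoc]
      _ = b₂ ≫ p := by rw [Category.assoc, hm]
  obtain ⟨g, hg⟩ := hT (W.residueField w) b₁ b₂ h3
  have h4 : c ≫ a₁ = c ≫ a₂ := by
    calc c ≫ a₁ = b₁ ≫ r := h1.symm
      _ = b₁ ≫ ((ρ g).hom ≫ r) := by rw [hr]
      _ = (b₁ ≫ (ρ g).hom) ≫ r := (Category.assoc _ _ _).symm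
      _ = b₂ ≫ r := by rw [hg]
      _ = c ≫ a₂ := h2
  haveI : Nonempty (Spec (W.residueField w)) :=
    (inferInstance : Nonempty (PrimeSpectrum (W.residueField w)))
  haveI := epi_of_field K c
  exact (cancel_epi c).mp h4

theorem kTrans_of_mono {W : Scheme.{u}} (hT : KTrans ρ p) (j : W ⟶ X) [Mono j]
    (ρW : G →* Aut W) (hρW : ∀ g, (ρW g).hom ≫ j = j ≫ (ρ g).hom) : KTrans ρW (j ≫ p) := by
  intro K _ ξ ξ' h
  obtain ⟨g, hg⟩ := hT K (ξ ≫ j) (ξ' ≫ j) (by simpa only [Category.assoc] using h)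
  refine ⟨g, ?_⟩
  rw [← cancel_mono j, hg, Category.assoc, Category.assoc, hρW]

theorem range_eq_of_comp {W WG : Scheme.{u}} (pW : W ⟶ WG) (hs : Function.Surjective pW)
    (j : W ⟶ X) (φ : WG ⟶ Y) (hφ : pW ≫ φ = j ≫ p) :
    Set.range φ = p '' Set.range j := by
  ext y
  constructor
  · rintro ⟨w', rfl⟩
    obtain ⟨w, rfl⟩ := hs w'
    refine ⟨j w, ⟨w, rfl⟩, ?_⟩
    rw [← Scheme.Hom.comp_apply, ← hφ, Scheme.Hom.comp_apply]
  · rintro ⟨_, ⟨w, rfl⟩, rfl⟩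
    refine ⟨pW w, ?_⟩
    rw [← Scheme.Hom.comp_apply, hφ, Scheme.Hom.comp_apply]

end Groth.Agent.Lib.Helper81.KTrans
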