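import Groth.Agent.Lib.Helper81.Submersive
import Groth.Agent.Lib.Helper81.KTrans
import Groth.Agent.Lib.Helper80.EqLocus
import Mathlib.AlgebraicGeometry.Morphisms.Etale
import Mathlib.AlgebraicGeometry.Morphisms.FlatMono
import Mathlib.AlgebraicGeometry.Morphisms.UniversallyInjective

set_option autoImplicit false
set_option linter.style.haveILetI false
universe u
open CategoryTheory CategoryTheory.Limits AlgebraicGeometry Opposite TopologicalSpace

namespace Groth.Agent.Lib.Helper81.EtDescent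

open Groth.Agent.Lib.Helper81 Groth.Agent.Lib.Helper80

theorem eq_of_comp_eq_of_surjective {X' X Y S : Scheme.{u}} (π : X' ⟶ X)
    (hπ : Function.Surjective π) (q : Y ⟶ S) [IsOpenImmersion (pullback.diagonal q)]
    (u₁ u₂ : X ⟶ Y) (hq : u₁ ≫ q = u₂ ≫ q) (h : π ≫ u₁ = π ≫ u₂) : u₁ = u₂ := by
  obtain ⟨U, hU1, hU2, -⟩ := exists_opens_eqLocus q u₁ u₂ hq
  have hsub := hU2 π h
  have hU : U = ⊤ := by
    rw [eq_top_iff]
    intro x _
    obtain ⟨x', rfl⟩ := hπ x
    exact hsub ⟨x', rfl⟩
  haveI : IsIso U.ι := by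
    apply isIso_of_isOpenImmersion_of_opensRange_eq_top
    rw [Scheme.Opens.opensRange_ι, hU]
  exact (cancel_epi U.ι).mp hU1

theorem isIso_of_etale_of_universallyInjective_of_surjective {X Y : Scheme.{u}} (h : X ⟶ Y)
    [Etale h] (h1 : UniversallyInjective h) (h2 : Surjective h) : IsIso h := by
  haveI : Surjective (pullback.diagonal h) := (UniversallyInjective.iff_diagonal h).mp h1
  haveI : IsIso (pullback.diagonal h) := by
    apply isIso_of_isOpenImmersion_of_opensRange_eq_top
    ext x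
    simp only [Scheme.Hom.coe_opensRange, Opens.coe_top, Set.mem_univ, iff_true]
    exact (pullback.diagonal h).surjective x
  haveI : Mono h := (pullback.isIso_diagonal_iff h).mp inferInstance
  haveI : IsOpenImmersion h := IsOpenImmersion.of_flat_of_mono h
  apply isIso_of_isOpenImmersion_of_opensRange_eq_top
  ext x
  simp only [Scheme.Hom.coe_opensRange, Opens.coe_top, Set.mem_univ, iff_true]
  exact h.surjective x

theorem nonempty_pullback_of_mem_range {A Z T₀ : Scheme.{u}} [Nonempty T₀] (φ : A ⟶ Z)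
    (z : T₀ ⟶ Z) (hz : ∀ t, z t ∈ Set.range φ) :
    Nonempty ↥(pullback φ z) := by
  obtain ⟨t⟩ : Nonempty T₀ := inferInstance
  obtain ⟨a, ha⟩ := hz t
  obtain ⟨w, -, -⟩ := Scheme.Pullback.exists_preimage_pullback (f := φ) (g := z) a t ha
  exact ⟨w⟩

theorem nonempty_pullback_of_subsingleton {T₁ T₂ B : Scheme.{u}} [Nonempty T₁] [Nonempty T₂]
    [Subsingleton B] (c₁ : T₁ ⟶ B) (c₂ : T₂ ⟶ B) :
    Nonempty ↥(pullback c₁ c₂) := by
  obtain ⟨t₁⟩ : Nonempty T₁ := inferInstance
  obtain ⟨t₂⟩ : Nonempty T₂ := inferInstance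
  obtain ⟨w, -, -⟩ := Scheme.Pullback.exists_preimage_pullback (f := c₁) (g := c₂) t₁ t₂
    (Subsingleton.elim _ _)
  exact ⟨w⟩

section Main

variable {X' X Y S : Scheme.{u}} (π : X' ⟶ X) (p : X ⟶ S) (q : Y ⟶ S) (F : X' ⟶ Y)
  (hF : F ≫ q = π ≫ p) (hcoc : pullback.fst π π ≫ F = pullback.snd π π ≫ F)

include hcoc in
theorem comp_eq_of_comp_eq {T : Scheme.{u}} (b₁ b₂ : T ⟶ X') (h : b₁ ≫ π = b₂ ≫ π) :
    b₁ ≫ F = b₂ ≫ F := by
  have h1 : pullback.lift b₁ b₂ h ≫ pullback.fst π π ≫ F =
      pullback.lift b₁ b₂ h ≫ pullback.snd π π ≫ F := by rw [hcoc]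
  rwa [pullback.lift_fst_assoc, pullback.lift_snd_assoc] at h1

noncomputable def graphMap : X' ⟶ pullback p q := pullback.lift π F hF.symm

@[reassoc (attr := simp)]
theorem graphMap_fst : graphMap π p q F hF ≫ pullback.fst p q = π := pullback.lift_fst _ _ _

@[reassoc (attr := simp)]
theorem graphMap_snd : graphMap π p q F hF ≫ pullback.snd p q = F := pullback.lift_snd _ _ _

include hcoc in
theorem isOpen_range_graphMap (hπ : SGA1.UnivSubmersive π) [IsOpenImmersion (pullback.diagonal q)] :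
    IsOpen (Set.range (graphMap π p q F hF)) := by
  have hω : Topology.IsQuotientMap (pullback.fst (pullback.fst p q) π) :=
    Submersive.isQuotientMap_of_isPullback (IsPullback.of_hasPullback (pullback.fst p q) π) hπ
  have he : (pullback.fst (pullback.fst p q) π ≫ pullback.snd p q) ≫ q =
      (pullback.snd (pullback.fst p q) π ≫ F) ≫ q := by
    rw [Category.assoc, Category.assoc, hF, ← pullback.condition (f := p) (g := q),
      ← Category.assoc, ← Category.assoc, pullback.condition (f := pullback.fst p q) (g := π)]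
  obtain ⟨R, hR1, hR2, -⟩ := exists_opens_eqLocus q _ _ he
  rw [← hω.isOpen_preimage]
  convert R.isOpen using 1
  ext w
  constructor
  · rintro ⟨x'₁, hx'₁⟩
    let ζ := (pullback (pullback.fst p q) π).fromSpecResidueField w
    have hzw : ∀ t, ζ t = w := fun t => Scheme.fromSpecResidueField_apply _ t
    haveI : Nonempty (Spec ((pullback (pullback.fst p q) π).residueField w)) :=
      (inferInstance : Nonempty (PrimeSpectrum ((pullback (pullback.fst p q) π).residueField w)))
    haveI : Nonempty ↥(pullback (graphMap π p q F hF) (ζ ≫ pullback.fst (pullback.fst p q) π)) := by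
      refine nonempty_pullback_of_mem_range _ _ (fun t => ⟨x'₁, ?_⟩)
      rw [hx'₁, Scheme.Hom.comp_apply, hzw]
    obtain ⟨b, c, hbc⟩ : ∃ (b : pullback (graphMap π p q F hF)
        (ζ ≫ pullback.fst (pullback.fst p q) π) ⟶ X')
        (c : pullback (graphMap π p q F hF) (ζ ≫ pullback.fst (pullback.fst p q) π) ⟶ _),
        b ≫ graphMap π p q F hF = c ≫ ζ ≫ pullback.fst (pullback.fst p q) π :=
      ⟨pullback.fst _ _, pullback.snd _ _, pullback.condition⟩
    have h1 : b ≫ π = (c ≫ ζ ≫ pullback.snd (pullback.fst p q) π) ≫ π := by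
      calc b ≫ π = (b ≫ graphMap π p q F hF) ≫ pullback.fst p q := by
            rw [Category.assoc, graphMap_fst]
        _ = (c ≫ ζ ≫ pullback.fst (pullback.fst p q) π) ≫ pullback.fst p q := by rw [hbc]
        _ = c ≫ ζ ≫ (pullback.fst (pullback.fst p q) π ≫ pullback.fst p q) := by
            simp only [Category.assoc]
        _ = c ≫ ζ ≫ (pullback.snd (pullback.fst p q) π ≫ π) := by
            rw [pullback.condition (f := pullback.fst p q) (g := π)]
        _ = (c ≫ ζ ≫ pullback.snd (pullback.fst p q) π) ≫ π := by simp only [Category.assoc]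
    have h2 := comp_eq_of_comp_eq π F hcoc _ _ h1
    have h3 : (c ≫ ζ) ≫ pullback.fst (pullback.fst p q) π ≫ pullback.snd p q =
        (c ≫ ζ) ≫ pullback.snd (pullback.fst p q) π ≫ F := by
      calc (c ≫ ζ) ≫ pullback.fst (pullback.fst p q) π ≫ pullback.snd p q
          = (c ≫ ζ ≫ pullback.fst (pullback.fst p q) π) ≫ pullback.snd p q := by
            simp only [Category.assoc]
        _ = (b ≫ graphMap π p q F hF) ≫ pullback.snd p q := by rw [hbc]
        _ = b ≫ F := by rw [Category.assoc, graphMap_snd]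
        _ = (c ≫ ζ ≫ pullback.snd (pullback.fst p q) π) ≫ F := h2
        _ = (c ≫ ζ) ≫ pullback.snd (pullback.fst p q) π ≫ F := by simp only [Category.assoc]
    have h4 := hR2 (c ≫ ζ) h3
    obtain ⟨t⟩ : Nonempty ↥(pullback (graphMap π p q F hF)
      (ζ ≫ pullback.fst (pullback.fst p q) π)) := inferInstance
    have : w = (c ≫ ζ) t := by rw [Scheme.Hom.comp_apply, hzw]
    rw [this]
    exact h4 ⟨t, rfl⟩
  · intro hw
    let ζ := (pullback (pullback.fst p q) π).fromSpecResidueField w
    have hzw : ∀ t, ζ t = w := fun t => Scheme.fromSpecResidueField_apply _ t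
    have hr : Set.range ζ ⊆ Set.range R.ι := by
      rintro _ ⟨t, rfl⟩
      rw [hzw, Scheme.Opens.range_ι]
      exact hw
    let l := IsOpenImmersion.lift R.ι ζ hr
    have hl : l ≫ R.ι = ζ := IsOpenImmersion.lift_fac _ _ _
    have h1 : ζ ≫ pullback.fst (pullback.fst p q) π ≫ pullback.snd p q =
        ζ ≫ pullback.snd (pullback.fst p q) π ≫ F := by
      rw [← hl, Category.assoc, Category.assoc, hR1]
    have h2 : ζ ≫ pullback.fst (pullback.fst p q) π =
        (ζ ≫ pullback.snd (pullback.fst p q) π) ≫ graphMap π p q F hF := by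
      apply pullback.hom_ext
      · simp only [Category.assoc, graphMap_fst]
        rw [pullback.condition (f := pullback.fst p q) (g := π)]
      · simp only [Category.assoc, graphMap_snd]
        exact h1
    obtain ⟨t⟩ : Nonempty (Spec ((pullback (pullback.fst p q) π).residueField w)) :=
      (inferInstance : Nonempty (PrimeSpectrum ((pullback (pullback.fst p q) π).residueField w)))
    refine ⟨(ζ ≫ pullback.snd (pullback.fst p q) π) t, ?_⟩
    rw [← Scheme.Hom.comp_apply, ← h2, Scheme.Hom.comp_apply, hzw]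

include hF hcoc in
theorem exists_unique_desc (hπ : SGA1.UnivSubmersive π) [Etale q] :
    ∃! u : X ⟶ Y, u ≫ q = p ∧ π ≫ u = F := by
  have hsurj : Function.Surjective π := (Submersive.isQuotientMap hπ).surjective
  refine existsUnique_of_exists_of_unique ?_ (fun u₁ u₂ h₁ h₂ =>
    eq_of_comp_eq_of_surjective π hsurj q u₁ u₂ (h₁.1.trans h₂.1.symm) (h₁.2.trans h₂.2.symm))
  let Γ : (pullback p q).Opens := ⟨Set.range (graphMap π p q F hF),
    isOpen_range_graphMap π p q F hF hcoc hπ⟩
  have hΓ : Set.range (graphMap π p q F hF) ⊆ Set.range Γ.ι := by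
    rw [Scheme.Opens.range_ι]; exact subset_rfl
  obtain ⟨φ₀, hφ₀⟩ : ∃ φ₀ : X' ⟶ Γ, φ₀ ≫ Γ.ι = graphMap π p q F hF :=
    ⟨IsOpenImmersion.lift Γ.ι (graphMap π p q F hF) hΓ, IsOpenImmersion.lift_fac _ _ _⟩
  obtain ⟨h, hh⟩ : ∃ h : (Γ : Scheme) ⟶ X, h = Γ.ι ≫ pullback.fst p q := ⟨_, rfl⟩
  haveI : Etale h := by rw [hh]; infer_instance
  have hφh : φ₀ ≫ h = π := by rw [hh, ← Category.assoc, hφ₀, graphMap_fst]
  have hs : Surjective h := ⟨fun x => by
    obtain ⟨x', rfl⟩ := hsurj x
    exact ⟨φ₀ x', by rw [← Scheme.Hom.comp_apply, hφh]⟩⟩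
  have hui : UniversallyInjective h := by
    have h01 := (tfae_universallyInjective h).out 0 1
    refine h01.mpr ?_
    intro K _ a₁ a₂ ha
    have ha : a₁ ≫ h = a₂ ≫ h := ha
    have hz : ∀ (a : Spec (CommRingCat.of K) ⟶ Γ) (t), (a ≫ Γ.ι) t ∈
        Set.range (graphMap π p q F hF) := by
      intro a t
      have : (a ≫ Γ.ι) t ∈ Set.range Γ.ι := ⟨a t, rfl⟩
      rw [Scheme.Opens.range_ι] at this
      exact this
    haveI : Nonempty (Spec (CommRingCat.of K)) := (inferInstance : Nonempty (PrimeSpectrum K))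
    haveI : Subsingleton (Spec (CommRingCat.of K)) :=
      (inferInstance : Subsingleton (PrimeSpectrum K))
    haveI := nonempty_pullback_of_mem_range (graphMap π p q F hF) (a₁ ≫ Γ.ι) (hz a₁)
    haveI := nonempty_pullback_of_mem_range (graphMap π p q F hF) (a₂ ≫ Γ.ι) (hz a₂)
    haveI := nonempty_pullback_of_subsingleton
      (pullback.snd (graphMap π p q F hF) (a₁ ≫ Γ.ι))
      (pullback.snd (graphMap π p q F hF) (a₂ ≫ Γ.ι))
    obtain ⟨T, _, b₁, b₂, c, hb₁, hb₂⟩ : ∃ (T : Scheme.{u}) (_ : Nonempty T) (b₁ b₂ : T ⟶ X')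
        (c : T ⟶ Spec (CommRingCat.of K)),
        b₁ ≫ graphMap π p q F hF = c ≫ a₁ ≫ Γ.ι ∧ b₂ ≫ graphMap π p q F hF = c ≫ a₂ ≫ Γ.ι := by
      refine ⟨pullback (pullback.snd (graphMap π p q F hF) (a₁ ≫ Γ.ι))
        (pullback.snd (graphMap π p q F hF) (a₂ ≫ Γ.ι)), inferInstance,
        pullback.fst _ _ ≫ pullback.fst _ _, pullback.snd _ _ ≫ pullback.fst _ _,
        pullback.fst _ _ ≫ pullback.snd _ _, ?_, ?_⟩
      · rw [Category.assoc, Category.assoc, pullback.condition]
      · rw [Category.assoc, pullback.condition, ← Category.assoc, ← pullback.condition,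
          Category.assoc]
    have h1 : b₁ ≫ π = b₂ ≫ π := by
      calc b₁ ≫ π = (b₁ ≫ graphMap π p q F hF) ≫ pullback.fst p q := by
            rw [Category.assoc, graphMap_fst]
        _ = c ≫ a₁ ≫ h := by rw [hb₁, hh]; simp only [Category.assoc]
        _ = c ≫ a₂ ≫ h := by rw [ha]
        _ = (b₂ ≫ graphMap π p q F hF) ≫ pullback.fst p q := by
            rw [hb₂, hh]; simp only [Category.assoc]
        _ = b₂ ≫ π := by rw [Category.assoc, graphMap_fst]
    have h2 := comp_eq_of_comp_eq π F hcoc b₁ b₂ h1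
    have h3 : c ≫ (a₁ ≫ Γ.ι) = c ≫ (a₂ ≫ Γ.ι) := by
      apply pullback.hom_ext
      · have : ∀ a : Spec (CommRingCat.of K) ⟶ Γ, (c ≫ a ≫ Γ.ι) ≫ pullback.fst p q = c ≫ a ≫ h := by
          intro a; rw [hh]; simp only [Category.assoc]
        rw [this, this, ha]
      · rw [← hb₁, ← hb₂, Category.assoc, Category.assoc, graphMap_snd, h2]
    haveI := KTrans.epi_of_field K c
    have h4 : a₁ ≫ Γ.ι = a₂ ≫ Γ.ι := (cancel_epi c).mp h3
    exact (cancel_mono Γ.ι).mp h4
  haveI : IsIso h := isIso_of_etale_of_universallyInjective_of_surjective h hui hs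
  refine ⟨inv h ≫ Γ.ι ≫ pullback.snd p q, ?_, ?_⟩
  · rw [Category.assoc, Category.assoc, ← pullback.condition, ← Category.assoc Γ.ι, ← hh,
      IsIso.inv_hom_id_assoc]
  · rw [← hφh, Category.assoc, IsIso.hom_inv_id_assoc, ← Category.assoc, hφ₀, graphMap_snd]

end Main

end Groth.Agent.Lib.Helper81.EtDescent
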