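import Groth.Prelude.Def_SGA1
import Mathlib.AlgebraicGeometry.PullbackCarrier
import Mathlib.AlgebraicGeometry.Morphisms.UniversallyOpen
import Mathlib.AlgebraicGeometry.Morphisms.UniversallyClosed
import Mathlib.AlgebraicGeometry.Morphisms.Separated
import Mathlib.AlgebraicGeometry.Morphisms.Immersion
import Mathlib.CategoryTheory.MorphismProperty.Descent

set_option autoImplicit false
set_option linter.style.haveILetI false
universe u
open CategoryTheory CategoryTheory.Limits AlgebraicGeometry MorphismProperty

namespace Groth.Agent.Lib.Helper81.Submersive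

section Cube

variable {C : Type*} [Category C] [HasPullbacks C]

theorem exists_cube {P X Y Z X_T T : C} {fst : P ⟶ X} {snd : P ⟶ Y} {f : X ⟶ Z} {g : Y ⟶ Z}
    (h : IsPullback fst snd f g) {f_T : X_T ⟶ T} {i₁ : X_T ⟶ X} {t : T ⟶ Z}
    (hpb : IsPullback f_T i₁ t f) :
    ∃ (P_T : C) (fst_T : P_T ⟶ X_T) (snd_T : P_T ⟶ pullback t g) (u : P_T ⟶ P),
      IsPullback fst_T snd_T f_T (pullback.fst t g) ∧
      IsPullback snd_T u (pullback.snd t g) snd := by
  let fst_T := pullback.fst f_T (pullback.fst t g)
  let snd_T := pullback.snd f_T (pullback.fst t g)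
  have hT := IsPullback.of_hasPullback f_T (pullback.fst t g)
  have hT' := IsPullback.of_hasPullback t g
  have hw : (fst_T ≫ i₁) ≫ f = (snd_T ≫ pullback.snd t g) ≫ g := by
    rw [Category.assoc, ← hpb.w, ← Category.assoc, hT.w, Category.assoc, Category.assoc,
      pullback.condition]
  let u := h.lift (fst_T ≫ i₁) (snd_T ≫ pullback.snd t g) hw
  have hu1 : u ≫ fst = fst_T ≫ i₁ := h.lift_fst _ _ _
  have hu2 : u ≫ snd = snd_T ≫ pullback.snd t g := h.lift_snd _ _ _
  refine ⟨_, fst_T, snd_T, u, hT, ?_⟩
  have h1 : IsPullback (snd_T ≫ pullback.snd t g) fst_T g (f_T ≫ t) :=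
    hT.flip.paste_horiz hT'.flip
  have h1' : IsPullback (u ≫ snd) fst_T g (i₁ ≫ f) := by
    rw [hu2, ← hpb.w]; exact h1
  have h2 : IsPullback u fst_T fst i₁ := IsPullback.of_right h1' hu1 h.flip
  have h3 : IsPullback (fst_T ≫ f_T) u t (fst ≫ f) := h2.flip.paste_horiz hpb
  have h3' : IsPullback (snd_T ≫ pullback.fst t g) u t (snd ≫ g) := by
    rw [← hT.w, ← h.w]; exact h3
  exact IsPullback.of_right h3' hu2.symm hT'

end Cube

section Top

variable {P X Y Z : Scheme.{u}} {fst : P ⟶ X} {snd : P ⟶ Y} {f : X ⟶ Z} {g : Y ⟶ Z}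

theorem isOpenMap_of_isPullback (h : IsPullback fst snd f g)
    (hg : Topology.IsQuotientMap g.base) (hsnd : IsOpenMap snd.base) : IsOpenMap f.base := by
  intro s hs
  rw [← hg.isOpen_preimage, ← Scheme.image_preimage_eq_of_isPullback h]
  exact hsnd _ (hs.preimage fst.continuous)

theorem isClosedMap_of_isPullback (h : IsPullback fst snd f g)
    (hg : Topology.IsQuotientMap g.base) (hsnd : IsClosedMap snd.base) : IsClosedMap f.base := by
  intro s hs
  rw [← hg.isClosed_preimage, ← Scheme.image_preimage_eq_of_isPullback h]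
  exact hsnd _ (hs.preimage fst.continuous)

theorem isQuotientMap_of_isPullback (h : IsPullback fst snd f g) (hg : SGA1.UnivSubmersive g) :
    Topology.IsQuotientMap fst.base :=
  hg snd f fst h

theorem univSubmersive_of_isPullback (h : IsPullback fst snd f g) (hg : SGA1.UnivSubmersive g) :
    SGA1.UnivSubmersive fst := by
  have : (SGA1.UnivSubmersive : MorphismProperty Scheme.{u}).IsStableUnderBaseChange := by
    unfold SGA1.UnivSubmersive; infer_instance
  exact MorphismProperty.of_isPullback (P := SGA1.UnivSubmersive) h.flip hg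

theorem universally_of_isPullback {Q₀ : MorphismProperty Scheme.{u}}
    (hQ₀ : ∀ {P X Y Z : Scheme.{u}} {fst : P ⟶ X} {snd : P ⟶ Y} {f : X ⟶ Z} {g : Y ⟶ Z},
      IsPullback fst snd f g → Topology.IsQuotientMap g.base → Q₀ snd → Q₀ f)
    (h : IsPullback fst snd f g) (hg : SGA1.UnivSubmersive g) (hsnd : universally Q₀ snd) :
    universally Q₀ f := by
  intro X_T T i₁ t f_T hpb
  obtain ⟨P_T, fst_T, snd_T, u, h1, h2⟩ := exists_cube h hpb
  exact hQ₀ h1 (hg (pullback.snd t g) t (pullback.fst t g) (IsPullback.of_hasPullback t g))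
    (hsnd u (pullback.snd t g) snd_T h2)

theorem universallyOpen_of_isPullback (h : IsPullback fst snd f g) (hg : SGA1.UnivSubmersive g)
    [hsnd : UniversallyOpen snd] : UniversallyOpen f :=
  ⟨universally_of_isPullback (Q₀ := topologically @IsOpenMap)
    (fun h hg hs => isOpenMap_of_isPullback h hg hs) h hg hsnd.1⟩

theorem universallyClosed_of_isPullback (h : IsPullback fst snd f g)
    (hg : SGA1.UnivSubmersive g) [hsnd : UniversallyClosed snd] : UniversallyClosed f :=
  ⟨universally_of_isPullback (Q₀ := topologically @IsClosedMap)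
    (fun h hg hs => isClosedMap_of_isPullback h hg hs) h hg hsnd.1⟩

theorem stableUnderBaseChange :
    (SGA1.UnivSubmersive : MorphismProperty Scheme.{u}).IsStableUnderBaseChange := by
  unfold SGA1.UnivSubmersive; infer_instance

theorem isQuotientMap (hg : SGA1.UnivSubmersive g) : Topology.IsQuotientMap g.base :=
  MorphismProperty.universally_le _ _ hg

theorem descendsAlong_isClosedMap :
    (topologically @IsClosedMap).DescendsAlong (SGA1.UnivSubmersive : MorphismProperty Scheme.{u}) :=
  ⟨fun h hf hfst => isClosedMap_of_isPullback h.flip (isQuotientMap hf) hfst⟩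

theorem isSeparated_of_isPullback (h : IsPullback fst snd f g) (hg : SGA1.UnivSubmersive g)
    [hsnd : IsSeparated snd] : IsSeparated f := by
  haveI := descendsAlong_isClosedMap.{u}
  haveI := stableUnderBaseChange.{u}
  have h1 : (topologically @IsClosedMap).diagonal snd := by
    rw [MorphismProperty.diagonal_iff]
    exact (pullback.diagonal snd).isClosedEmbedding.isClosedMap
  have h2 : (topologically @IsClosedMap).diagonal f :=
    MorphismProperty.of_isPullback_of_descendsAlong (P := (topologically @IsClosedMap).diagonal)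
      (Q := SGA1.UnivSubmersive) h.flip hg h1
  rw [MorphismProperty.diagonal_iff] at h2
  exact ⟨IsClosedImmersion.of_isPreimmersion _ (IsClosedMap.isClosed_range h2)⟩

end Top

end Groth.Agent.Lib.Helper81.Submersive
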