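import Mathlib
import Groth.Prelude.Def_W4bk4git07Quot
import Groth.Agent.Lib.Helper81.GrpQuotDesc

set_option autoImplicit false
set_option linter.style.haveILetI false
set_option linter.unusedSectionVars false
universe u
open CategoryTheory MonoidalCategory CartesianMonoidalCategory MonObj AlgebraicGeometry Limits Topology

namespace Groth.Agent.Lib.Helper81.GeomQuotOpen

theorem universallyOpen_of_orbit {GX X₀ Y₀ : Scheme.{u}} (σ p₂ : GX ⟶ X₀) (f : X₀ ⟶ Y₀)
    (hinv : σ ≫ f = p₂ ≫ f)
    (hΨ : Function.Surjective (pullback.lift σ p₂ hinv : GX ⟶ pullback f f).base)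
    [UniversallyOpen σ]
    (hsub : MorphismProperty.universally (topologically @IsQuotientMap) f) :
    UniversallyOpen f := by
  rw [UniversallyOpen.eq]
  intro X' Y' i₁ i₂ f' hpb
  have hq : IsQuotientMap f'.base := hsub _ _ _ hpb
  intro U' hU'
  rw [← hq.isOpen_preimage]
  let sW : pullback σ i₁ ⟶ X' := pullback.snd σ i₁
  have hw : (sW ≫ f') ≫ i₂ = (pullback.fst σ i₁ ≫ p₂) ≫ f := by
    rw [Category.assoc, hpb.w, ← Category.assoc, ← pullback.condition, Category.assoc,
      Category.assoc, hinv]
  let t : pullback σ i₁ ⟶ X' := hpb.lift (sW ≫ f') (pullback.fst σ i₁ ≫ p₂) hw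
  have ht1 : t ≫ f' = sW ≫ f' := hpb.lift_fst _ _ _
  have ht2 : t ≫ i₁ = pullback.fst σ i₁ ≫ p₂ := hpb.lift_snd _ _ _
  have key : f'.base ⁻¹' (f'.base '' U') = sW.base '' (t.base ⁻¹' U') := by
    ext x'
    constructor
    · rintro ⟨u', hu', hux⟩
      let Ψ : GX ⟶ pullback f f := pullback.lift σ p₂ hinv
      let m : pullback f' f' ⟶ pullback f f :=
        pullback.map f' f' f f i₁ i₁ i₂ hpb.w hpb.w
      obtain ⟨k, hk1, hk2⟩ := Scheme.Pullback.exists_preimage_pullback (f := f') (g := f') x' u'
        hux.symm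
      obtain ⟨gx, hgx⟩ := hΨ (m.base k)
      obtain ⟨p, hp1, hp2⟩ := Scheme.Pullback.exists_preimage_pullback (f := m) (g := Ψ) k gx
        hgx.symm
      have hω : pullback.snd m Ψ ≫ σ = (pullback.fst m Ψ ≫ pullback.fst f' f') ≫ i₁ := by
        have e1 : Ψ ≫ pullback.fst f f = σ := pullback.lift_fst _ _ _
        have e2 : m ≫ pullback.fst f f = pullback.fst f' f' ≫ i₁ := pullback.lift_fst _ _ _
        rw [← e1, ← Category.assoc, ← pullback.condition, Category.assoc, e2, Category.assoc]
      let ω : pullback m Ψ ⟶ pullback σ i₁ :=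
        pullback.lift (pullback.snd m Ψ) (pullback.fst m Ψ ≫ pullback.fst f' f') hω
      have hω1 : ω ≫ sW = pullback.fst m Ψ ≫ pullback.fst f' f' := pullback.lift_snd _ _ _
      have hω0 : ω ≫ pullback.fst σ i₁ = pullback.snd m Ψ := pullback.lift_fst _ _ _
      have hω2 : ω ≫ t = pullback.fst m Ψ ≫ pullback.snd f' f' := by
        apply hpb.hom_ext
        · rw [Category.assoc, ht1, ← Category.assoc, hω1, Category.assoc, Category.assoc,
            pullback.condition]
        · have e1 : Ψ ≫ pullback.snd f f = p₂ := pullback.lift_snd _ _ _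
          have e2 : m ≫ pullback.snd f f = pullback.snd f' f' ≫ i₁ := pullback.lift_snd _ _ _
          rw [Category.assoc, ht2, ← Category.assoc, hω0, Category.assoc, ← e2, ← Category.assoc,
            pullback.condition, Category.assoc, e1]
      refine ⟨ω.base p, ?_, ?_⟩
      · change (ω ≫ t).base p ∈ U'
        rw [hω2]
        change (pullback.snd f' f').base ((pullback.fst m Ψ).base p) ∈ U'
        rw [hp1, hk2]
        exact hu'
      · change (ω ≫ sW).base p = x'
        rw [hω1]
        change (pullback.fst f' f').base ((pullback.fst m Ψ).base p) = x'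
        rw [hp1, hk1]
    · rintro ⟨w, hw', rfl⟩
      refine ⟨t.base w, hw', ?_⟩
      change (t ≫ f').base w = (sW ≫ f').base w
      rw [ht1]
  rw [key]
  haveI : UniversallyOpen sW := inferInstance
  exact sW.isOpenMap _ (hU'.preimage t.base.hom.continuous)

variable {S : Scheme.{u}} {G X : Over S} [GrpObj G] (a : AlgGrp.Action G X)

theorem one_act' {T : Over S} (x : T ⟶ X) : lift (1 : T ⟶ G) x ≫ a.act = x := by
  rw [Hom.one_def]
  have e : lift (toUnit T ≫ η[G]) x = lift (toUnit T) x ≫ (η[G] ▷ X) := by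
    rw [lift_whiskerRight]
  rw [e, Category.assoc, a.one_act, leftUnitor_hom, lift_snd]

theorem act_act {T : Over S} (g g' : T ⟶ G) (x : T ⟶ X) :
    lift g (lift g' x ≫ a.act) ≫ a.act = lift (g * g') x ≫ a.act := by
  rw [Hom.mul_def, GrpQuotDesc.mul_act']

noncomputable def shear : G ⊗ X ⟶ G ⊗ X := lift (fst G X) a.act

noncomputable def shearInv : G ⊗ X ⟶ G ⊗ X :=
  lift (fst G X) (lift (fst G X)⁻¹ (snd G X) ≫ a.act)

theorem shear_shearInv : shear a ≫ shearInv a = 𝟙 _ := by
  unfold shear shearInv
  rw [comp_lift, lift_fst, ← Category.assoc, comp_lift, GrpObj.comp_inv, lift_fst, lift_snd]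
  have e : lift (fst G X)⁻¹ a.act ≫ a.act = snd G X := by
    have e0 : lift (fst G X)⁻¹ a.act =
        lift (fst G X)⁻¹ (lift (fst G X) (snd G X) ≫ a.act) := by
      rw [lift_fst_snd, Category.id_comp]
    rw [e0, act_act, inv_mul_cancel, one_act']
  rw [e, lift_fst_snd]

theorem shearInv_shear : shearInv a ≫ shear a = 𝟙 _ := by
  unfold shear shearInv
  rw [comp_lift, lift_fst, act_act, mul_inv_cancel, one_act', lift_fst_snd]

theorem act_eq : a.act = shear a ≫ snd G X := by
  unfold shear
  rw [lift_snd]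

instance universallyOpen_act [UniversallyOpen G.hom] : UniversallyOpen a.act.left := by
  haveI : IsIso (shear a) := ⟨shearInv a, shear_shearInv a, shearInv_shear a⟩
  haveI : IsIso (shear a).left := (Over.forget S).map_isIso (shear a)
  have e : a.act.left = (shear a).left ≫ pullback.snd G.hom X.hom := by
    conv_lhs => rw [act_eq a]
    rfl
  rw [e]
  infer_instance

theorem main {Y : Over S} [UniversallyOpen G.hom] (φ : X ⟶ Y) (h : GIT.IsGeomQuot a φ) :
    UniversallyOpen φ.left := by
  haveI := universallyOpen_act a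
  exact universallyOpen_of_orbit a.act.left (snd G X).left φ.left h.inv.left h.orbit h.subm

theorem universallyOpen_of_field (k : Type u) [Field k] {Z : Scheme.{u}}
    (g : Z ⟶ Spec (CommRingCat.of k)) [LocallyOfFiniteType g] : UniversallyOpen g := by
  haveI : LocallyOfFinitePresentation g :=
    LocallyOfFinitePresentation.iff_locallyOfFiniteType.mpr inferInstance
  haveI : Subsingleton (Spec (CommRingCat.of k)) :=
    inferInstanceAs (Subsingleton (PrimeSpectrum k))
  haveI : Flat g := inferInstance
  infer_instance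

end Groth.Agent.Lib.Helper81.GeomQuotOpen
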