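import Mathlib

set_option autoImplicit false
set_option linter.style.haveILetI false
set_option linter.unusedSectionVars false
universe u
open CategoryTheory AlgebraicGeometry Limits Opposite
open AlgebraicGeometry.AffineSpace

namespace Groth.Agent.Lib.Helper81.SecA1

noncomputable abbrev A1 : Scheme.{u} :=
  Spec (CommRingCat.of (MvPolynomial PUnit.{u + 1} (ULift.{u, 0} ℤ)))

noncomputable def sec {T : Scheme.{u}} (f : Γ(T, ⊤)) : T ⟶ A1.{u} :=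
  (toSpecMvPolyIntEquiv PUnit.{u + 1}).symm (fun _ => f)

theorem comp_sec {T' T : Scheme.{u}} (h : T' ⟶ T) (f : Γ(T, ⊤)) :
    h ≫ sec f = sec (h.appTop f) := by
  apply (toSpecMvPolyIntEquiv PUnit.{u + 1}).injective
  funext i
  rw [toSpecMvPolyIntEquiv_comp]
  unfold sec
  rw [Equiv.apply_symm_apply, Equiv.apply_symm_apply]

theorem sec_injective {T : Scheme.{u}} : Function.Injective (sec (T := T)) := by
  intro f f' h
  have := congrArg (fun φ => toSpecMvPolyIntEquiv PUnit.{u + 1} φ PUnit.unit) h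
  unfold sec at this
  simpa only [Equiv.apply_symm_apply] using this

theorem sec_surjective {T : Scheme.{u}} (φ : T ⟶ A1.{u}) : ∃ f : Γ(T, ⊤), sec f = φ := by
  refine ⟨toSpecMvPolyIntEquiv PUnit.{u + 1} φ PUnit.unit, ?_⟩
  unfold sec
  rw [Equiv.symm_apply_eq]

noncomputable def val {T Z : Scheme.{u}} {V : T.Opens} (h : Z ⟶ T) (e : ⊤ ≤ h ⁻¹ᵁ V)
    (f : Γ(T, V)) : Z ⟶ A1.{u} :=
  sec (h.appLE V ⊤ e f)

theorem comp_val {T Z Z' : Scheme.{u}} {V : T.Opens} (k : Z' ⟶ Z) (h : Z ⟶ T)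
    (e : ⊤ ≤ h ⁻¹ᵁ V) (e' : ⊤ ≤ (k ≫ h) ⁻¹ᵁ V) (f : Γ(T, V)) :
    k ≫ val h e f = val (k ≫ h) e' f := by
  unfold val
  rw [comp_sec]
  congr 1
  have h1 : k.appTop = k.appLE ⊤ ⊤ le_top := by
    rw [Scheme.Hom.appTop, Scheme.Hom.app_eq_appLE]
    rfl
  rw [h1, ← CommRingCat.comp_apply, Scheme.Hom.appLE_comp_appLE]

theorem val_congr {T Z : Scheme.{u}} {V : T.Opens} {h h' : Z ⟶ T} (hh : h = h')
    (e : ⊤ ≤ h ⁻¹ᵁ V) (e' : ⊤ ≤ h' ⁻¹ᵁ V) (f : Γ(T, V)) : val h e f = val h' e' f := by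
  subst hh
  rfl

theorem val_appLE {T T₂ Z : Scheme.{u}} {V : T.Opens} {W : T₂.Opens} (p : T₂ ⟶ T)
    (eW : W ≤ p ⁻¹ᵁ V) (h : Z ⟶ T₂) (e : ⊤ ≤ h ⁻¹ᵁ W) (e' : ⊤ ≤ (h ≫ p) ⁻¹ᵁ V) (f : Γ(T, V)) :
    val h e (p.appLE V W eW f) = val (h ≫ p) e' f := by
  unfold val
  congr 1
  rw [← CommRingCat.comp_apply, Scheme.Hom.appLE_comp_appLE]

theorem val_injective {T Z : Scheme.{u}} {V : T.Opens} (h : Z ⟶ T) (e : ⊤ ≤ h ⁻¹ᵁ V)
    (f f' : Γ(T, V)) (hv : val h e f = val h e f') : h.appLE V ⊤ e f = h.appLE V ⊤ e f' :=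
  sec_injective hv

theorem ι_appLE_injective {T : Scheme.{u}} (V : T.Opens) :
    Function.Injective (V.ι.appLE V ⊤ V.ι_preimage_self.ge) := by
  haveI : IsIso (V.ι.appLE V ⊤ V.ι_preimage_self.ge) := inferInstance
  exact ((ConcreteCategory.isIso_iff_bijective _).mp this).1

theorem ι_appLE_surjective {T : Scheme.{u}} (V : T.Opens) :
    Function.Surjective (V.ι.appLE V ⊤ V.ι_preimage_self.ge) := by
  haveI : IsIso (V.ι.appLE V ⊤ V.ι_preimage_self.ge) := inferInstance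
  exact ((ConcreteCategory.isIso_iff_bijective _).mp this).2

theorem val_ι_injective {T : Scheme.{u}} (V : T.Opens) (f f' : Γ(T, V))
    (hv : val V.ι V.ι_preimage_self.ge f = val V.ι V.ι_preimage_self.ge f') : f = f' :=
  ι_appLE_injective V (val_injective _ _ _ _ hv)

theorem exists_val_ι {T : Scheme.{u}} (V : T.Opens) (ψ : V.toScheme ⟶ A1.{u}) :
    ∃ g : Γ(T, V), val V.ι V.ι_preimage_self.ge g = ψ := by
  obtain ⟨g₀, hg₀⟩ := sec_surjective ψ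
  obtain ⟨g, hg⟩ := ι_appLE_surjective V g₀
  refine ⟨g, ?_⟩
  unfold val
  rw [hg, hg₀]

end Groth.Agent.Lib.Helper81.SecA1
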