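import Mathlib
import Groth.Prelude.Def_W4bk4git07Quot
import Groth.Prelude.Def_QuotSh
import Groth.Agent.Lib.Helper5.QuotShPre
import Groth.Agent.Lib.Helper5.AtlasQuot
import Groth.Agent.Lib.Helper5.QuotSchemes
import Groth.Agent.Lib.Helper81.GeomQuotOpen
import Groth.Agent.Lib.Helper81.SecA1

set_option autoImplicit false
set_option linter.style.haveILetI false
set_option linter.unusedSectionVars false
universe u
open CategoryTheory MonoidalCategory CartesianMonoidalCategory MonObj AlgebraicGeometry Limits Topology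

namespace Groth.Agent.Lib.Helper81.FppfGeomQuot

open Groth.Agent.Lib.Helper81.GeomQuotOpen Groth.Agent.Lib.Helper81.SecA1
open AlgSp Groth.Agent.Lib.Helper5

variable {S : Scheme.{u}} {G X Y : Over S} [GrpObj G] (a : AlgGrp.Action G X)

theorem lift_fst_snd' {T : Over S} (r : T ⟶ G ⊗ X) : lift (r ≫ fst G X) (r ≫ snd G X) = r := by
  apply CartesianMonoidalCategory.hom_ext
  · rw [lift_fst]
  · rw [lift_snd]

theorem preEqv (T : Over S) :
    Equivalence (fun x y : T ⟶ X => ∃ r : T ⟶ G ⊗ X, r ≫ snd G X = x ∧ r ≫ a.act = y) := by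
  refine ⟨fun x => ⟨lift 1 x, lift_snd _ _, one_act' a x⟩, ?_, ?_⟩
  · rintro x y ⟨r, h1, h2⟩
    refine ⟨lift (r ≫ fst G X)⁻¹ y, lift_snd _ _, ?_⟩
    have e : y = lift (r ≫ fst G X) (r ≫ snd G X) ≫ a.act := by rw [lift_fst_snd', h2]
    rw [e, act_act, inv_mul_cancel, one_act', h1]
  · rintro x y z ⟨r₁, h1, h2⟩ ⟨r₂, h3, h4⟩
    refine ⟨lift ((r₂ ≫ fst G X) * (r₁ ≫ fst G X)) x, lift_snd _ _, ?_⟩
    rw [← act_act, ← h1, lift_fst_snd', h2, ← h3, lift_fst_snd', h4]

variable {a} {q : X ⟶ Y}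

theorem epi_yon (hq : QuotSh.IsQuotient Scheme.fppfPrecoverage a.act (snd G X) q) :
    Epi ((yon S).map q) := by
  obtain ⟨w, hiso⟩ := hq
  haveI := hiso
  rw [← QuotSchemes.quotπ'_quotDesc a.act (snd G X) q w]
  infer_instance

theorem exists_lift (hq : QuotSh.IsQuotient Scheme.fppfPrecoverage a.act (snd G X) q)
    {T : Over S} (y₀ : T ⟶ Y) :
    ∃ (T' : Over S) (p : T' ⟶ T), Flat p.left ∧ Surjective p.left ∧
      LocallyOfFinitePresentation p.left ∧ ∃ x : T' ⟶ X, x ≫ q = p ≫ y₀ := by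
  haveI := epi_yon hq
  obtain ⟨T', p, h1, h2, h3, x, hx⟩ :=
    AtlasQuot.exists_single_fppf_lift ((yon S).map q) T ((yon S).map y₀)
  refine ⟨T', p, h1, h2, h3, x, ?_⟩
  apply (yon S).map_injective
  rw [Functor.map_comp, Functor.map_comp, hx]

theorem exists_rel (hq : QuotSh.IsQuotient Scheme.fppfPrecoverage a.act (snd G X) q)
    {T : Over S} (x y : T ⟶ X) (hxy : x ≫ q = y ≫ q) :
    ∃ (I : Type u) (Ti : I → Over S) (c : ∀ i, Ti i ⟶ T),
      (∀ i, Flat (c i).left) ∧ (∀ i, LocallyOfFinitePresentation (c i).left) ∧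
      (∀ v : ↥T.left, ∃ i, v ∈ Set.range (c i).left) ∧
      ∀ i, ∃ ρ : Ti i ⟶ G ⊗ X, ρ ≫ snd G X = c i ≫ x ∧ ρ ≫ a.act = c i ≫ y := by
  obtain ⟨w, hiso⟩ := hq
  haveI := hiso
  have hd := QuotSchemes.quotπ'_quotDesc a.act (snd G X) q w
  have hab : (yon S).map x ≫ quotπ' a.act (snd G X) = (yon S).map y ≫ quotπ' a.act (snd G X) := by
    rw [← cancel_mono (QuotSh.quotDesc Scheme.fppfPrecoverage q w ≫
      (QuotSh.repIsoUliftYoneda Scheme.fppfPrecoverage Y).hom), Category.assoc, Category.assoc, hd,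
      ← Functor.map_comp, ← Functor.map_comp, hxy]
  obtain ⟨R₀, hR₀, hrel⟩ := QuotShPre.exists_local_rel a.act (snd G X) (preEqv a) x y hab
  obtain ⟨I, Ti, c, hc, hfl, hlfp, hsurj⟩ := AtlasQuot.exists_fppf_family_of_mem_J R₀ hR₀
  exact ⟨I, Ti, c, hfl, hlfp, hsurj, fun i => hrel (c i) (hc i)⟩

theorem surj (hq : QuotSh.IsQuotient Scheme.fppfPrecoverage a.act (snd G X) q) :
    Function.Surjective q.left.base := by
  obtain ⟨T', p, -, hs, -, x, hx⟩ := exists_lift hq (𝟙 Y)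
  intro y
  obtain ⟨t', ht'⟩ := hs.surj y
  refine ⟨x.left.base t', ?_⟩
  have e : x.left ≫ q.left = p.left := by
    have := congrArg (fun φ => φ.left) hx
    simpa using this
  change (x.left ≫ q.left).base t' = y
  rw [e]
  exact ht'

theorem subm (hq : QuotSh.IsQuotient Scheme.fppfPrecoverage a.act (snd G X) q) :
    GIT.IsUnivSubmersive q.left := by
  intro X' Y' i₁ i₂ f' hpb
  let T : Over S := Over.mk (i₂ ≫ Y.hom)
  let y₀ : T ⟶ Y := Over.homMk i₂ rfl
  obtain ⟨T', p, hfl, hs, hlfp, x, hx⟩ := exists_lift hq y₀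
  haveI := hfl
  haveI := hlfp
  have e : p.left ≫ i₂ = x.left ≫ q.left := by
    have := congrArg (fun φ => φ.left) hx
    simpa [y₀] using this.symm
  let σ : T'.left ⟶ X' := hpb.lift p.left x.left e
  have hσ : σ ≫ f' = p.left := hpb.lift_fst _ _ _
  have hpq : IsQuotientMap p.left.base :=
    p.left.isOpenMap.isQuotientMap p.left.base.hom.continuous hs.surj
  change IsQuotientMap f'.base
  have hcomp : IsQuotientMap (f'.base ∘ σ.base) := by
    have e2 : (f'.base ∘ σ.base : T'.left → Y') = p.left.base := by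
      rw [← hσ]
      rfl
    rw [e2]
    exact hpq
  exact IsQuotientMap.of_comp σ.base.hom.continuous f'.base.hom.continuous hcomp

end Groth.Agent.Lib.Helper81.FppfGeomQuot
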