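import Mathlib
import Groth.Agent.Lib.Helper81.FppfGeomQuot

set_option autoImplicit false
set_option linter.style.haveILetI false
set_option linter.unusedSectionVars false
universe u
open CategoryTheory MonoidalCategory CartesianMonoidalCategory MonObj AlgebraicGeometry Limits Topology

namespace Groth.Agent.Lib.Helper81.FppfGeomQuot

open Groth.Agent.Lib.Helper81.GeomQuotOpen Groth.Agent.Lib.Helper81.SecA1
open AlgSp Groth.Agent.Lib.Helper5

variable {S : Scheme.{u}} {G X Y : Over S} [GrpObj G] {a : AlgGrp.Action G X} {q : X ⟶ Y}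

theorem exists_rel_left (hq : QuotSh.IsQuotient Scheme.fppfPrecoverage a.act (snd G X) q)
    {Z : Scheme.{u}} (x y : Z ⟶ X.left) (hxy : x ≫ q.left = y ≫ q.left) :
    ∃ (I : Type u) (Ti : I → Scheme.{u}) (c : ∀ i, Ti i ⟶ Z),
      (∀ i, Flat (c i)) ∧ (∀ v : ↥Z, ∃ i, v ∈ Set.range (c i)) ∧
      ∀ i, ∃ ρ : Ti i ⟶ (G ⊗ X).left, ρ ≫ (snd G X).left = c i ≫ x ∧
        ρ ≫ a.act.left = c i ≫ y := by
  let T : Over S := Over.mk (x ≫ X.hom)
  let xo : T ⟶ X := Over.homMk x rfl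
  have hy : y ≫ X.hom = x ≫ X.hom := by
    rw [← Over.w q, ← Category.assoc, ← hxy, Category.assoc]
  let yo : T ⟶ X := Over.homMk y hy
  have hxyo : xo ≫ q = yo ≫ q := Over.OverMorphism.ext hxy
  obtain ⟨I, Ti, c, hfl, -, hsurj, hrel⟩ := exists_rel hq xo yo hxyo
  refine ⟨I, fun i => (Ti i).left, fun i => (c i).left, hfl, hsurj, fun i => ?_⟩
  obtain ⟨ρ, h1, h2⟩ := hrel i
  exact ⟨ρ.left, congrArg (fun φ => φ.left) h1, congrArg (fun φ => φ.left) h2⟩

theorem orbit (hq : QuotSh.IsQuotient Scheme.fppfPrecoverage a.act (snd G X) q)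
    (hinv : GIT.IsInvariant a q) : Function.Surjective (GIT.PsiY a q hinv).base := by
  intro z
  obtain ⟨I, Ti, c, -, hsurj, hrel⟩ := exists_rel_left hq (pullback.snd q.left q.left)
    (pullback.fst q.left q.left) pullback.condition.symm
  obtain ⟨i, t, ht⟩ := hsurj z
  obtain ⟨ρ, hρ1, hρ2⟩ := hrel i
  refine ⟨ρ.base t, ?_⟩
  have e : ρ ≫ GIT.PsiY a q hinv = c i := by
    unfold GIT.PsiY
    apply pullback.hom_ext
    · rw [Category.assoc, pullback.lift_fst, hρ2]
    · rw [Category.assoc, pullback.lift_snd, hρ1]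
  change (ρ ≫ GIT.PsiY a q hinv).base t = z
  rw [e]
  exact ht

end Groth.Agent.Lib.Helper81.FppfGeomQuot
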