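import Mathlib
import Groth.Agent.Lib.Helper81.FppfGeomQuot2

set_option autoImplicit false
set_option linter.style.haveILetI false
set_option linter.unusedSectionVars false
universe u
open CategoryTheory MonoidalCategory CartesianMonoidalCategory MonObj AlgebraicGeometry Limits Topology

namespace Groth.Agent.Lib.Helper81.FppfGeomQuot

open Groth.Agent.Lib.Helper81.GeomQuotOpen Groth.Agent.Lib.Helper81.SecA1
open AlgSp Groth.Agent.Lib.Helper5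

theorem hom_ext_of_flat_family {Z A : Scheme.{u}} {I : Type u} (Ti : I → Scheme.{u})
    (c : ∀ i, Ti i ⟶ Z) (hfl : ∀ i, Flat (c i)) (hsurj : ∀ v : ↥Z, ∃ i, v ∈ Set.range (c i))
    (φ₁ φ₂ : Z ⟶ A) (h : ∀ i, c i ≫ φ₁ = c i ≫ φ₂) : φ₁ = φ₂ := by
  haveI : Flat (Sigma.desc c) := inferInstance
  haveI : Surjective (Sigma.desc c) := by
    refine ⟨fun z => ?_⟩
    obtain ⟨i, t, ht⟩ := hsurj z
    refine ⟨(Sigma.ι Ti i).base t, ?_⟩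
    change (Sigma.ι Ti i ≫ Sigma.desc c).base t = z
    rw [Sigma.ι_desc]
    exact ht
  haveI : Epi (Sigma.desc c) := Flat.epi_of_flat_of_surjective _
  rw [← cancel_epi (Sigma.desc c)]
  apply Sigma.hom_ext
  intro i
  rw [← Category.assoc, ← Category.assoc, Sigma.ι_desc]
  exact h i

variable {S : Scheme.{u}} {G X Y : Over S} [GrpObj G] {a : AlgGrp.Action G X} {q : X ⟶ Y}

theorem inv_val {U : Y.left.Opens} {f : Γ(X.left, q.left ⁻¹ᵁ U)} (hf : GIT.IsInvSection a q U f)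
    {Z : Scheme.{u}} (ρ : Z ⟶ (G ⊗ X).left)
    (e1 : ⊤ ≤ (ρ ≫ a.act.left) ⁻¹ᵁ (q.left ⁻¹ᵁ U))
    (e2 : ⊤ ≤ (ρ ≫ (snd G X).left) ⁻¹ᵁ (q.left ⁻¹ᵁ U)) :
    val (ρ ≫ a.act.left) e1 f = val (ρ ≫ (snd G X).left) e2 f := by
  have eW : ⊤ ≤ ρ ⁻¹ᵁ (a.act.left ⁻¹ᵁ (q.left ⁻¹ᵁ U) ⊓ (snd G X).left ⁻¹ᵁ (q.left ⁻¹ᵁ U)) := by
    intro z _
    exact ⟨e1 (Set.mem_univ z), e2 (Set.mem_univ z)⟩
  rw [← val_appLE a.act.left inf_le_left ρ eW e1 f, ← val_appLE (snd G X).left inf_le_right ρ eW e2 f]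
  congr 1

theorem val_eq_of_inv (hq : QuotSh.IsQuotient Scheme.fppfPrecoverage a.act (snd G X) q)
    {U : Y.left.Opens} {f : Γ(X.left, q.left ⁻¹ᵁ U)} (hf : GIT.IsInvSection a q U f)
    {Z : Scheme.{u}} (x y : Z ⟶ X.left) (ex : ⊤ ≤ x ⁻¹ᵁ (q.left ⁻¹ᵁ U))
    (ey : ⊤ ≤ y ⁻¹ᵁ (q.left ⁻¹ᵁ U)) (hxy : x ≫ q.left = y ≫ q.left) :
    val x ex f = val y ey f := by
  obtain ⟨I, Ti, c, hfl, hsurj, hrel⟩ := exists_rel_left hq x y hxy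
  apply hom_ext_of_flat_family Ti c hfl hsurj
  intro i
  obtain ⟨ρ, h1, h2⟩ := hrel i
  have ecx : ⊤ ≤ (c i ≫ x) ⁻¹ᵁ (q.left ⁻¹ᵁ U) := fun z _ => ex (Set.mem_univ ((c i).base z))
  have ecy : ⊤ ≤ (c i ≫ y) ⁻¹ᵁ (q.left ⁻¹ᵁ U) := fun z _ => ey (Set.mem_univ ((c i).base z))
  rw [comp_val (c i) x ex ecx f, comp_val (c i) y ey ecy f]
  have e2 : ⊤ ≤ (ρ ≫ (snd G X).left) ⁻¹ᵁ (q.left ⁻¹ᵁ U) := by rw [h1]; exact ecx
  have e1 : ⊤ ≤ (ρ ≫ a.act.left) ⁻¹ᵁ (q.left ⁻¹ᵁ U) := by rw [h2]; exact ecy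
  rw [val_congr h1.symm ecx e2 f, val_congr h2.symm ecy e1 f]
  exact (inv_val hf ρ e1 e2).symm

end Groth.Agent.Lib.Helper81.FppfGeomQuot
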