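import Mathlib
import Groth.Agent.Lib.Helper81.FppfGeomQuot3

set_option autoImplicit false
set_option linter.style.haveILetI false
set_option linter.unusedSectionVars false
universe u
open CategoryTheory MonoidalCategory CartesianMonoidalCategory MonObj AlgebraicGeometry Limits Topology

namespace Groth.Agent.Lib.Helper81.FppfGeomQuot

open Groth.Agent.Lib.Helper81.GeomQuotOpen Groth.Agent.Lib.Helper81.SecA1
open AlgSp Groth.Agent.Lib.Helper5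

theorem val_ι_app {X₀ Y₀ : Scheme.{u}} (q₀ : X₀ ⟶ Y₀) (U : Y₀.Opens) (g : Γ(Y₀, U)) :
    val (q₀ ⁻¹ᵁ U).ι (q₀ ⁻¹ᵁ U).ι_preimage_self.ge (q₀.app U g) =
      (q₀ ∣_ U) ≫ val U.ι U.ι_preimage_self.ge g := by
  have e' : ⊤ ≤ ((q₀ ⁻¹ᵁ U).ι ≫ q₀) ⁻¹ᵁ U := by
    intro z _
    exact z.2
  have e'' : ⊤ ≤ ((q₀ ∣_ U) ≫ U.ι) ⁻¹ᵁ U := by
    rw [morphismRestrict_ι]
    exact e'
  rw [comp_val (q₀ ∣_ U) U.ι U.ι_preimage_self.ge e'' g, Scheme.Hom.app_eq_appLE,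
    val_appLE q₀ le_rfl (q₀ ⁻¹ᵁ U).ι (q₀ ⁻¹ᵁ U).ι_preimage_self.ge e' g]
  exact val_congr (morphismRestrict_ι q₀ U).symm e' e'' g

theorem appLE_congr_hom {X₀ Y₀ : Scheme.{u}} {h h' : X₀ ⟶ Y₀} (hh : h = h') (U : Y₀.Opens)
    (W : X₀.Opens) (e : W ≤ h ⁻¹ᵁ U) (e' : W ≤ h' ⁻¹ᵁ U) : h.appLE U W e = h'.appLE U W e' := by
  subst hh
  rfl

variable {S : Scheme.{u}} {G X Y : Over S} [GrpObj G] {a : AlgGrp.Action G X} {q : X ⟶ Y}

theorem isInvSection_app (hinv : GIT.IsInvariant a q) (U : Y.left.Opens) (g : Γ(Y.left, U)) :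
    GIT.IsInvSection a q U (q.left.app U g) := by
  unfold GIT.IsInvSection
  rw [Scheme.Hom.app_eq_appLE, ← CommRingCat.comp_apply, ← CommRingCat.comp_apply,
    Scheme.Hom.appLE_comp_appLE, Scheme.Hom.appLE_comp_appLE]
  congr 2
  exact appLE_congr_hom hinv.left U _ _ _

theorem sections (hq : QuotSh.IsQuotient Scheme.fppfPrecoverage a.act (snd G X) q)
    (hinv : GIT.IsInvariant a q) (U : Y.left.Opens) :
    Function.Injective (q.left.app U) ∧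
      Set.range (q.left.app U) = {f | GIT.IsInvSection a q U f} := by
  obtain ⟨T', p, hfl, hs, hlfp, x, hx⟩ := exists_lift hq (𝟙 Y)
  haveI := hfl
  haveI := hs
  haveI := hlfp
  have hxq : x.left ≫ q.left = p.left := by
    have := congrArg (fun φ => φ.left) hx
    simpa using this
  obtain ⟨c, hc⟩ : ∃ c : T'.left ⟶ Y.left, c = p.left := ⟨_, rfl⟩
  obtain ⟨x₀, hx₀⟩ : ∃ x₀ : T'.left ⟶ X.left, x₀ = x.left := ⟨_, rfl⟩
  rw [← hc, ← hx₀] at hxq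
  haveI : Flat c := hc ▸ hfl
  haveI : Surjective c := hc ▸ hs
  haveI : LocallyOfFinitePresentation c := hc ▸ hlfp
  haveI : Surjective (c ∣_ U) :=
    IsZariskiLocalAtTarget.restrict (P := @Surjective) inferInstance U
  haveI : Epi (c ∣_ U) := Flat.epi_of_flat_of_surjective _
  have hrange : Set.range ((c ⁻¹ᵁ U).ι ≫ x₀) ⊆ Set.range (q.left ⁻¹ᵁ U).ι := by
    rintro _ ⟨z, rfl⟩
    rw [Scheme.Opens.range_ι]
    change q.left.base (x₀.base z.1) ∈ U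
    have h1 : q.left.base (x₀.base z.1) = c.base z.1 :=
      congrArg (fun φ : T'.left ⟶ Y.left => φ.base z.1) hxq
    rw [h1]
    exact z.2
  let xU : (c ⁻¹ᵁ U).toScheme ⟶ (q.left ⁻¹ᵁ U).toScheme :=
    IsOpenImmersion.lift (q.left ⁻¹ᵁ U).ι ((c ⁻¹ᵁ U).ι ≫ x₀) hrange
  have hxU : xU ≫ (q.left ⁻¹ᵁ U).ι = (c ⁻¹ᵁ U).ι ≫ x₀ := IsOpenImmersion.lift_fac _ _ _
  have hxqU : xU ≫ (q.left ∣_ U) = c ∣_ U := by
    rw [← cancel_mono U.ι, Category.assoc, morphismRestrict_ι, ← Category.assoc, hxU,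
      Category.assoc, hxq, morphismRestrict_ι]
  haveI : Epi (q.left ∣_ U) := epi_of_epi_fac hxqU
  refine ⟨?_, ?_⟩
  · intro g₁ g₂ h12
    apply val_ι_injective U
    rw [← cancel_epi (q.left ∣_ U), ← val_ι_app, ← val_ι_app, h12]
  · apply Set.Subset.antisymm
    · rintro _ ⟨g, rfl⟩
      exact isInvSection_app hinv U g
    · intro f hf
      have eV := (q.left ⁻¹ᵁ U).ι_preimage_self.ge
      have hcond : ∀ {Z : Scheme.{u}} (g₁ g₂ : Z ⟶ (c ⁻¹ᵁ U).toScheme),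
          g₁ ≫ (c ∣_ U) = g₂ ≫ (c ∣_ U) →
          g₁ ≫ xU ≫ val (q.left ⁻¹ᵁ U).ι eV f = g₂ ≫ xU ≫ val (q.left ⁻¹ᵁ U).ι eV f := by
        intro Z g₁ g₂ h12
        have e1 : ⊤ ≤ ((g₁ ≫ xU) ≫ (q.left ⁻¹ᵁ U).ι) ⁻¹ᵁ (q.left ⁻¹ᵁ U) := by
          intro z _
          exact ((g₁ ≫ xU).base z).2
        have e2 : ⊤ ≤ ((g₂ ≫ xU) ≫ (q.left ⁻¹ᵁ U).ι) ⁻¹ᵁ (q.left ⁻¹ᵁ U) := by
          intro z _
          exact ((g₂ ≫ xU).base z).2
        rw [← Category.assoc, ← Category.assoc, comp_val (g₁ ≫ xU) _ eV e1 f,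
          comp_val (g₂ ≫ xU) _ eV e2 f]
        apply val_eq_of_inv hq hf
        rw [Category.assoc, Category.assoc, Category.assoc, Category.assoc,
          ← morphismRestrict_ι, ← Category.assoc xU, hxqU, ← Category.assoc, h12, Category.assoc]
      let ψ : U.toScheme ⟶ A1.{u} :=
        EffectiveEpi.desc (c ∣_ U) (xU ≫ val (q.left ⁻¹ᵁ U).ι eV f) hcond
      have hψ : (c ∣_ U) ≫ ψ = xU ≫ val (q.left ⁻¹ᵁ U).ι eV f := EffectiveEpi.fac _ _ _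
      obtain ⟨g, hg⟩ := exists_val_ι U ψ
      refine ⟨g, ?_⟩
      apply val_ι_injective (q.left ⁻¹ᵁ U)
      rw [val_ι_app, hg]
      haveI : Flat (pullback.fst (q.left ∣_ U) (c ∣_ U)) := inferInstance
      haveI : Surjective (pullback.fst (q.left ∣_ U) (c ∣_ U)) := inferInstance
      haveI : Epi (pullback.fst (q.left ∣_ U) (c ∣_ U)) := Flat.epi_of_flat_of_surjective _
      rw [← cancel_epi (pullback.fst (q.left ∣_ U) (c ∣_ U)), ← Category.assoc,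
        pullback.condition, Category.assoc, hψ]
      have e1 : ⊤ ≤ ((pullback.snd (q.left ∣_ U) (c ∣_ U) ≫ xU) ≫ (q.left ⁻¹ᵁ U).ι) ⁻¹ᵁ
          (q.left ⁻¹ᵁ U) := by
        intro z _
        exact ((pullback.snd (q.left ∣_ U) (c ∣_ U) ≫ xU).base z).2
      have e2 : ⊤ ≤ (pullback.fst (q.left ∣_ U) (c ∣_ U) ≫ (q.left ⁻¹ᵁ U).ι) ⁻¹ᵁ
          (q.left ⁻¹ᵁ U) := by
        intro z _
        exact ((pullback.fst (q.left ∣_ U) (c ∣_ U)).base z).2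
      rw [← Category.assoc, comp_val (pullback.snd (q.left ∣_ U) (c ∣_ U) ≫ xU) _ eV e1 f,
        comp_val (pullback.fst (q.left ∣_ U) (c ∣_ U)) _ eV e2 f]
      apply val_eq_of_inv hq hf
      rw [Category.assoc, Category.assoc, Category.assoc, ← morphismRestrict_ι,
        ← Category.assoc xU, hxqU, ← Category.assoc, ← pullback.condition, Category.assoc]

end Groth.Agent.Lib.Helper81.FppfGeomQuot
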