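import Mathlib.CategoryTheory.Subobject.Lattice
import Mathlib.CategoryTheory.Subobject.Limits
import Mathlib.CategoryTheory.Abelian.Basic

set_option autoImplicit false
universe v u
open CategoryTheory CategoryTheory.Limits

namespace Groth.Agent.Lib.Helper81

variable {A : Type u} [Category.{v} A] [Abelian A]

/-- The image of an epi-mono factorisation. -/
lemma imageSubobject_eq_mk_of_epi_mono {X I Y : A} (f : X ⟶ Y) (e : X ⟶ I) (m : I ⟶ Y) [Epi e] [Mono m]
    (comm : e ≫ m = f) : imageSubobject f = Subobject.mk m := by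
  haveI : StrongEpi e := strongEpi_of_epi e
  refine Subobject.mk_eq_mk_of_comm _ _ (image.isoStrongEpiMono e m comm).symm ?_
  simp

lemma imageSubobject_comp_mono {X Y Z : A} (h : X ⟶ Y) (g : Y ⟶ Z) [Mono g] :
    imageSubobject (h ≫ g) = (Subobject.map g).obj (imageSubobject h) := by
  rw [Subobject.map_mk]
  exact imageSubobject_eq_mk_of_epi_mono (h ≫ g) (factorThruImage h) (image.ι h ≫ g) (by simp)

lemma map_eq_imageSubobject {Y Z : A} (S : Subobject Y) (g : Y ⟶ Z) [Mono g] :
    (Subobject.map g).obj S = imageSubobject (S.arrow ≫ g) := by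
  rw [imageSubobject_comp_mono, imageSubobject_mono, Subobject.mk_arrow]

lemma imageSubobject_epi_comp {X Y Z : A} (e : X ⟶ Y) [Epi e] (f : Y ⟶ Z) :
    imageSubobject (e ≫ f) = imageSubobject f := by
  rw [imageSubobject_eq_mk_of_epi_mono (e ≫ f) (e ≫ factorThruImage f) (image.ι f) (by simp)]

lemma imageSubobject_eq_top_of_epi {X Y : A} (f : X ⟶ Y) [Epi f] : imageSubobject f = ⊤ := by
  rw [imageSubobject_eq_mk_of_epi_mono f f (𝟙 Y) (by simp), Subobject.mk_eq_top_of_isIso]

/-- The image of `h ≫ g` only depends on the image of `h`. -/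
lemma imageSubobject_comp_eq {X Y Z : A} (h : X ⟶ Y) (g : Y ⟶ Z) :
    imageSubobject (h ≫ g) = imageSubobject ((imageSubobject h).arrow ≫ g) := by
  conv_lhs => rw [← imageSubobject_arrow_comp h, Category.assoc]
  exact imageSubobject_epi_comp _ _

lemma imageSubobject_comp_eq_of_eq {X Y Z : A} (h : X ⟶ Y) (g : Y ⟶ Z) (S : Subobject Y)
    (hS : imageSubobject h = S) : imageSubobject (h ≫ g) = imageSubobject (S.arrow ≫ g) := by
  subst hS
  exact imageSubobject_comp_eq h g

end Groth.Agent.Lib.Helper81
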