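import Mathlib
import Groth.Prelude.Def_W4bk4git07Quot

set_option autoImplicit false
universe u
open CategoryTheory MonoidalCategory CartesianMonoidalCategory MonObj AlgebraicGeometry Topology

namespace Groth.Agent.Lib.Helper81.GeomQuotClosed

theorem isClosed_range_section {T Z : Scheme.{u}} [IsAffine T] [Subsingleton T] (s : T ⟶ Z)
    (p : Z ⟶ T) (h : s ≫ p = 𝟙 T) : IsClosed (Set.range s.base) := by
  have hU : TopologicalSpace.IsOpenCover (fun i : Z.affineOpens => (i : Z.Opens)) :=
    iSup_affineOpens_eq_top Z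
  rw [hU.isClosed_iff_coe_preimage]
  intro U
  by_cases hne : ∃ t : T, s.base t ∈ (U : Z.Opens)
  · obtain ⟨t₀, ht₀⟩ := hne
    have hsub : Set.range s.base ⊆ (U : Z.Opens) := by
      rintro _ ⟨t, rfl⟩
      rw [Subsingleton.elim t t₀]; exact ht₀
    have : IsAffine (U : Z.Opens) := U.2
    let s' : T ⟶ (U : Z.Opens) := IsOpenImmersion.lift (U : Z.Opens).ι s (by simpa using hsub)
    have hs' : s' ≫ (U : Z.Opens).ι = s := IsOpenImmersion.lift_fac _ _ _
    have : IsClosedImmersion (s' ≫ ((U : Z.Opens).ι ≫ p)) := by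
      rw [← Category.assoc, hs', h]; infer_instance
    have hc : IsClosedImmersion s' := IsClosedImmersion.of_comp s' ((U : Z.Opens).ι ≫ p)
    have hset : (Subtype.val ⁻¹' Set.range s.base : Set ((U : Z.Opens) : Set Z)) =
        Set.range s'.base := by
      ext z
      simp only [Set.mem_preimage, Set.mem_range]
      constructor
      · rintro ⟨t, ht⟩
        refine ⟨t, ?_⟩
        apply Subtype.ext
        rw [← ht, ← hs']; rfl
      · rintro ⟨t, rfl⟩
        exact ⟨t, by rw [← hs']; rfl⟩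
    have hcl := s'.isClosedEmbedding.isClosed_range
    rw [← hset] at hcl
    exact hcl
  · have hset : (Subtype.val ⁻¹' Set.range s.base : Set ((U : Z.Opens) : Set Z)) = ∅ := by
      ext z
      simp only [Set.mem_preimage, Set.mem_range, Set.mem_empty_iff_false, iff_false]
      rintro ⟨t, ht⟩
      exact hne ⟨t, ht ▸ z.2⟩
    have hcl : IsClosed (∅ : Set ((U : Z.Opens) : Set Z)) := isClosed_empty
    rw [← hset] at hcl
    exact hcl

variable {S : Scheme.{u}} {G : Over S} [GrpObj G] {X Y : Over S} (a : AlgGrp.Action G X)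
  (φ : X ⟶ Y)

theorem psi_whisker (hinv : GIT.IsInvariant a φ) {T : Over S} (f : T ⟶ X) :
    GIT.psi a f ≫ (φ ▷ T) = snd G T ≫ lift (f ≫ φ) (𝟙 T) := by
  apply CartesianMonoidalCategory.hom_ext
  · unfold GIT.psi
    rw [Category.assoc, whiskerRight_fst, lift_fst_assoc, Category.assoc, hinv,
      whiskerLeft_snd_assoc, Category.assoc, lift_fst]
  · unfold GIT.psi
    rw [Category.assoc, whiskerRight_snd, lift_snd, Category.assoc, lift_snd, Category.comp_id]

theorem range_psi (h : GIT.IsGeomQuot a φ) {T : Over S} (f : T ⟶ X) :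
    Set.range (GIT.psi a f).left.base =
      (φ ▷ T).left.base ⁻¹' Set.range (lift (f ≫ φ) (𝟙 T)).left.base := by
  apply Set.Subset.antisymm
  · rintro _ ⟨q, rfl⟩
    refine ⟨(snd G T).left.base q, ?_⟩
    rw [← Scheme.Hom.comp_apply, ← Scheme.Hom.comp_apply, ← Over.comp_left, ← Over.comp_left,
      psi_whisker a φ h.inv f]
  · rintro z ⟨t, ht⟩
    obtain ⟨p₁, hp₁z, hp₁t⟩ := Scheme.Pullback.exists_preimage_pullback z t ht.symm
    let W₁ : Over S :=
      Over.mk (Limits.pullback.snd (φ ▷ T).left (lift (f ≫ φ) (𝟙 T)).left ≫ T.hom)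
    have hw₁ : Limits.pullback.fst (φ ▷ T).left (lift (f ≫ φ) (𝟙 T)).left ≫ (X ⊗ T).hom =
        W₁.hom := by
      rw [← Over.w (φ ▷ T), ← Category.assoc, Limits.pullback.condition, Category.assoc, Over.w]
      rfl
    let F₁ : W₁ ⟶ X ⊗ T := Over.homMk (Limits.pullback.fst _ _) hw₁
    let τ : W₁ ⟶ T := Over.homMk (Limits.pullback.snd _ _) rfl
    have hF₁ : F₁ ≫ (φ ▷ T) = τ ≫ lift (f ≫ φ) (𝟙 T) := by
      apply Over.OverMorphism.ext
      rw [Over.comp_left, Over.comp_left]
      exact Limits.pullback.condition (f := (φ ▷ T).left) (g := (lift (f ≫ φ) (𝟙 T)).left)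
    have hx' : (F₁ ≫ fst X T) ≫ φ = τ ≫ f ≫ φ := by
      rw [Category.assoc, ← whiskerRight_fst, ← Category.assoc, hF₁, Category.assoc, lift_fst]
    have hτ : F₁ ≫ snd X T = τ := by
      rw [← whiskerRight_snd φ T, ← Category.assoc, hF₁, Category.assoc, lift_snd,
        Category.comp_id]
    let c : W₁.left ⟶ Limits.pullback φ.left φ.left :=
      Limits.pullback.lift (F₁ ≫ fst X T).left (τ ≫ f).left (by
        rw [← Over.comp_left, ← Over.comp_left, hx', Category.assoc])
    have hc1 : c ≫ Limits.pullback.fst φ.left φ.left = (F₁ ≫ fst X T).left :=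
      Limits.pullback.lift_fst _ _ _
    have hc2 : c ≫ Limits.pullback.snd φ.left φ.left = (τ ≫ f).left :=
      Limits.pullback.lift_snd _ _ _
    obtain ⟨q, hq⟩ := h.orbit (c.base p₁)
    obtain ⟨p₂, hp₂q, hp₂p⟩ := Scheme.Pullback.exists_preimage_pullback q p₁ hq
    let W₂ : Over S := Over.mk (Limits.pullback.snd (GIT.PsiY a φ h.inv) c ≫ W₁.hom)
    have hP1 : GIT.PsiY a φ h.inv ≫ Limits.pullback.fst φ.left φ.left = a.act.left :=
      Limits.pullback.lift_fst _ _ _
    have hP2 : GIT.PsiY a φ h.inv ≫ Limits.pullback.snd φ.left φ.left = (snd G X).left :=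
      Limits.pullback.lift_snd _ _ _
    have hfst_act : Limits.pullback.fst (GIT.PsiY a φ h.inv) c ≫ a.act.left =
        Limits.pullback.snd _ _ ≫ (F₁ ≫ fst X T).left := by
      rw [← hP1, ← Category.assoc, Limits.pullback.condition, Category.assoc, hc1]
    have hfst_snd : Limits.pullback.fst (GIT.PsiY a φ h.inv) c ≫ (snd G X).left =
        Limits.pullback.snd _ _ ≫ (τ ≫ f).left := by
      rw [← hP2, ← Category.assoc, Limits.pullback.condition, Category.assoc, hc2]
    have hw₂ : Limits.pullback.fst (GIT.PsiY a φ h.inv) c ≫ (G ⊗ X).hom = W₂.hom := by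
      rw [← Over.w (snd G X), ← Category.assoc, hfst_snd, Category.assoc, Over.w]
      rfl
    let u : W₂ ⟶ G ⊗ X := Over.homMk (Limits.pullback.fst _ _) hw₂
    let σ : W₂ ⟶ W₁ := Over.homMk (Limits.pullback.snd _ _) rfl
    have hu_act : u ≫ a.act = σ ≫ F₁ ≫ fst X T := by
      apply Over.OverMorphism.ext
      rw [Over.comp_left, Over.comp_left]
      exact hfst_act
    have hu_snd : u ≫ snd G X = σ ≫ τ ≫ f := by
      apply Over.OverMorphism.ext
      rw [Over.comp_left, Over.comp_left]
      exact hfst_snd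
    let w : W₂ ⟶ G ⊗ T := lift (u ≫ fst G X) (σ ≫ τ)
    have hw : w ≫ GIT.psi a f = σ ≫ F₁ := by
      apply CartesianMonoidalCategory.hom_ext
      · unfold GIT.psi
        rw [Category.assoc, lift_fst, ← Category.assoc, lift_whiskerLeft, Category.assoc σ τ f,
          ← hu_snd, lift_comp_fst_snd, hu_act, Category.assoc]
      · unfold GIT.psi
        rw [Category.assoc, lift_snd, lift_snd, Category.assoc, hτ]
    refine ⟨w.left.base p₂, ?_⟩
    rw [← Scheme.Hom.comp_apply, ← Over.comp_left, hw, Over.comp_left, Scheme.Hom.comp_apply]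
    have e1 : σ.left.base p₂ = p₁ := hp₂p
    have e2 : F₁.left.base p₁ = z := hp₁z
    rw [e1, e2]

theorem isClosedAction (h : GIT.IsGeomQuot a φ) : GIT.IsClosedAction a := by
  intro Ω _ _ T e f
  rw [range_psi a φ h f]
  have : IsAffine T.left := IsAffine.of_isIso e.hom
  have : Subsingleton ↥(Spec (CommRingCat.of Ω)) :=
    inferInstanceAs (Subsingleton (PrimeSpectrum Ω))
  have : Subsingleton T.left := e.hom.homeomorph.injective.subsingleton
  refine IsClosed.preimage (φ ▷ T).left.continuous ?_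
  exact isClosed_range_section (lift (f ≫ φ) (𝟙 T)).left (snd Y T).left (by
    rw [← Over.comp_left, lift_snd]
    rfl)

end Groth.Agent.Lib.Helper81.GeomQuotClosed
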