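import Mathlib
import Groth.Prelude.Def_W4c6nonredquotmfGoodQuot
import Groth.Prelude.Def_ChGrp
import Groth.Agent.Lib.Helper81.GeomQuotClosed
import Groth.Agent.Lib.Helper81.GeomQuotOpen

set_option autoImplicit false
set_option linter.unusedSectionVars false
universe u
open CategoryTheory MonoidalCategory CartesianMonoidalCategory MonObj AlgebraicGeometry Topology

namespace Groth.Agent.Lib.Helper81.GoodQuot

open NRQuot

variable {S : Scheme.{u}} {G : Over S} [GrpObj G] {X Y : Over S} (a : AlgGrp.Action G X)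

theorem isOpenMap_snd [UniversallyOpen G.hom] : IsOpenMap (snd G X).left.base := by
  have : UniversallyOpen (Limits.pullback.snd G.hom X.hom) := inferInstance
  exact (Limits.pullback.snd G.hom X.hom).isOpenMap

theorem isInvariantSet_closure [UniversallyOpen G.hom] (W : Set X.left)
    (hW : IsInvariantSet a W) : IsInvariantSet a (closure W) := by
  intro p hp
  have h1 : p ∈ closure ((snd G X).left.base ⁻¹' W) :=
    (isOpenMap_snd (G := G) (X := X)).preimage_closure_subset_closure_preimage hp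
  have h2 : a.act.left.base p ∈ closure (a.act.left.base '' ((snd G X).left.base ⁻¹' W)) :=
    image_closure_subset_closure_image a.act.left.continuous ⟨p, h1, rfl⟩
  refine closure_mono ?_ h2
  rintro _ ⟨q, hq, rfl⟩
  exact hW q hq

theorem isInvariantSet_range_orbitMap (x : 𝟙_ (Over S) ⟶ X) :
    IsInvariantSet a (Set.range (a.orbitMap x).left.base) := by
  rintro p ⟨g, hg⟩
  obtain ⟨w, hwp, hwg⟩ := Scheme.Pullback.exists_preimage_pullback p g hg.symm
  let W : Over S :=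
    Over.mk (Limits.pullback.snd (snd G X).left (a.orbitMap x).left ≫ G.hom)
  have hw₁ : Limits.pullback.fst (snd G X).left (a.orbitMap x).left ≫ (G ⊗ X).hom = W.hom := by
    rw [← Over.w (snd G X), ← Category.assoc, Limits.pullback.condition, Category.assoc, Over.w]
    rfl
  let P : W ⟶ G ⊗ X := Over.homMk (Limits.pullback.fst _ _) hw₁
  let gm : W ⟶ G := Over.homMk (Limits.pullback.snd _ _) rfl
  have hP : P ≫ snd G X = gm ≫ a.orbitMap x := by
    apply Over.OverMorphism.ext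
    rw [Over.comp_left, Over.comp_left]
    exact Limits.pullback.condition (f := (snd G X).left) (g := (a.orbitMap x).left)
  have hP' : P = lift (P ≫ fst G X) (gm ≫ a.orbitMap x) := by
    rw [← hP, lift_comp_fst_snd]
  have hact : P ≫ a.act = ((P ≫ fst G X) * gm) ≫ a.orbitMap x := by
    conv_lhs => rw [hP']
    rw [AlgGrp.Action.comp_orbitMap, AlgGrp.Action.comp_orbitMap, AlgGrp.Action.lift_mul_act]
  refine ⟨((P ≫ fst G X) * gm).left.base w, ?_⟩
  rw [← Scheme.Hom.comp_apply, ← Over.comp_left, ← hact, Over.comp_left, Scheme.Hom.comp_apply]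
  have e1 : P.left.base w = p := hwp
  rw [e1]

theorem unit_comp_orbitMap (x : 𝟙_ (Over S) ⟶ X) : η[G] ≫ a.orbitMap x = x := by
  rw [AlgGrp.Action.comp_orbitMap]
  have : (toUnit (𝟙_ (Over S)) : 𝟙_ (Over S) ⟶ 𝟙_ (Over S)) = 𝟙 _ := toUnit_unique _ _
  rw [this, Category.id_comp]
  have h1 : (η[G] : 𝟙_ (Over S) ⟶ G) = (1 : 𝟙_ (Over S) ⟶ G) := by
    rw [Hom.one_def, this, Category.id_comp]
  rw [h1, AlgGrp.Action.lift_one_act]

theorem mem_range_orbitMap (x : 𝟙_ (Over S) ⟶ X) (t : (𝟙_ (Over S)).left) :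
    x.left.base t ∈ Set.range (a.orbitMap x).left.base := by
  refine ⟨η[G].left.base t, ?_⟩
  rw [← Scheme.Hom.comp_apply, ← Over.comp_left, unit_comp_orbitMap]

theorem orbitMap_comp {φ : X ⟶ Y} (hinv : GIT.IsInvariant a φ) (x : 𝟙_ (Over S) ⟶ X) :
    a.orbitMap x ≫ φ = toUnit G ≫ x ≫ φ := by
  unfold AlgGrp.Action.orbitMap
  rw [Category.assoc, hinv, lift_snd_assoc, Category.assoc]

theorem sections_eq_aux {k : Type u} [Field k] {Z : Scheme.{u}} (p : Z ⟶ Spec (.of k)) (y : Z)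
    (φ₁ φ₂ : Z.residueField y ⟶ .of k)
    (h₁ : (Spec.map φ₁ ≫ Z.fromSpecResidueField y) ≫ p = 𝟙 _)
    (h₂ : (Spec.map φ₂ ≫ Z.fromSpecResidueField y) ≫ p = 𝟙 _) : φ₁ = φ₂ := by
  let j : CommRingCat.of k ⟶ Z.residueField y := Spec.preimage (Z.fromSpecResidueField y ≫ p)
  have hj : Spec.map j = Z.fromSpecResidueField y ≫ p := Spec.map_preimage _
  have e₁ : j ≫ φ₁ = 𝟙 _ := by
    apply Spec.map_injective
    rw [Spec.map_comp, hj, ← Category.assoc, h₁, Spec.map_id]
  have e₂ : j ≫ φ₂ = 𝟙 _ := by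
    apply Spec.map_injective
    rw [Spec.map_comp, hj, ← Category.assoc, h₂, Spec.map_id]
  ext b
  have hinj : Function.Injective φ₁.hom := φ₁.hom.injective
  have e₁' : ∀ c : k, φ₁.hom (j.hom c) = c := fun c => by
    have := congrArg (fun f => f.hom c) e₁
    simpa using this
  have e₂' : ∀ c : k, φ₂.hom (j.hom c) = c := fun c => by
    have := congrArg (fun f => f.hom c) e₂
    simpa using this
  have hb : j.hom (φ₁.hom b) = b := hinj (e₁' _)
  calc φ₁.hom b = φ₂.hom (j.hom (φ₁.hom b)) := (e₂' _).symm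
    _ = φ₂.hom b := by rw [hb]

theorem sections_eq {k : Type u} [Field k] {Z : Scheme.{u}} (p : Z ⟶ Spec (.of k))
    (s₁ s₂ : Spec (.of k) ⟶ Z) (h₁ : s₁ ≫ p = 𝟙 _) (h₂ : s₂ ≫ p = 𝟙 _)
    (hpt : ∃ t t', s₁.base t = s₂.base t') : s₁ = s₂ := by
  obtain ⟨⟨y₁, φ₁⟩, rfl⟩ := (Scheme.SpecToEquivOfField k Z).symm.surjective s₁
  obtain ⟨⟨y₂, φ₂⟩, rfl⟩ := (Scheme.SpecToEquivOfField k Z).symm.surjective s₂
  simp only [Scheme.SpecToEquivOfField_symm_apply] at *
  have hy : y₁ = y₂ := by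
    obtain ⟨t, t', ht⟩ := hpt
    simpa [Scheme.fromSpecResidueField_apply] using ht
  subst hy
  rw [sections_eq_aux p y₁ φ₁ φ₂ h₁ h₂]

section Field

variable (k : Type u) [Field k] {G X Y : Over (Spec (CommRingCat.of k))} [GrpObj G]
  (a : AlgGrp.Action G X) (φ : X ⟶ Y)

theorem isClosed_range_point (y : 𝟙_ (Over (Spec (CommRingCat.of k))) ⟶ Y) :
    IsClosed (Set.range y.left.base) := by
  have : IsAffine (𝟙_ (Over (Spec (CommRingCat.of k)))).left :=
    inferInstanceAs (IsAffine (Spec (CommRingCat.of k)))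
  have : Subsingleton (𝟙_ (Over (Spec (CommRingCat.of k)))).left :=
    inferInstanceAs (Subsingleton (PrimeSpectrum k))
  exact GeomQuotClosed.isClosed_range_section y.left Y.hom (Over.w y)

theorem point_ext (y₁ y₂ : 𝟙_ (Over (Spec (CommRingCat.of k))) ⟶ Y)
    (hpt : ∃ t t', y₁.left.base t = y₂.left.base t') : y₁ = y₂ := by
  apply Over.OverMorphism.ext
  exact sections_eq (k := k) Y.hom y₁.left y₂.left (Over.w y₁) (Over.w y₂) hpt

theorem image_closure_orbit_subset (hinv : GIT.IsInvariant a φ)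
    (x : 𝟙_ (Over (Spec (CommRingCat.of k))) ⟶ X) :
    φ.left.base '' closure (Set.range (a.orbitMap x).left.base) ⊆
      Set.range (x ≫ φ).left.base := by
  have h1 : φ.left.base '' Set.range (a.orbitMap x).left.base ⊆ Set.range (x ≫ φ).left.base := by
    rintro _ ⟨_, ⟨g, rfl⟩, rfl⟩
    refine ⟨(toUnit G).left.base g, ?_⟩
    rw [← Scheme.Hom.comp_apply, ← Scheme.Hom.comp_apply, ← Over.comp_left, ← Over.comp_left,
      orbitMap_comp a hinv x]
  refine (image_closure_subset_closure_image φ.left.continuous).trans ?_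
  exact closure_minimal h1 (isClosed_range_point k (x ≫ φ))

theorem closure_inter_nonempty_iff [LocallyOfFiniteType G.hom] (h : IsGoodQuot a φ)
    (x₁ x₂ : 𝟙_ (Over (Spec (CommRingCat.of k))) ⟶ X) :
    (closure (Set.range (a.orbitMap x₁).left.base) ∩
      closure (Set.range (a.orbitMap x₂).left.base)).Nonempty ↔ x₁ ≫ φ = x₂ ≫ φ := by
  have : UniversallyOpen G.hom := GeomQuotOpen.universallyOpen_of_field k G.hom
  constructor
  · rintro ⟨z, hz₁, hz₂⟩
    obtain ⟨t, ht⟩ := image_closure_orbit_subset k a φ h.inv x₁ ⟨z, hz₁, rfl⟩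
    obtain ⟨t', ht'⟩ := image_closure_orbit_subset k a φ h.inv x₂ ⟨z, hz₂, rfl⟩
    exact point_ext k _ _ ⟨t, t', ht.trans ht'.symm⟩
  · intro heq
    let xs : ULift.{u} Bool → (𝟙_ (Over (Spec (CommRingCat.of k))) ⟶ X) :=
      fun i => cond i.down x₁ x₂
    have hxs : ∀ i, xs i ≫ φ = x₁ ≫ φ := by
      rintro ⟨_ | _⟩
      · exact heq.symm
      · rfl
    have hI := h.inter (ULift.{u} Bool)
      (fun i => closure (Set.range (a.orbitMap (xs i)).left.base)) (fun i => isClosed_closure)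
      (fun i => isInvariantSet_closure a _ (isInvariantSet_range_orbitMap a _))
    obtain ⟨t₀⟩ : Nonempty (𝟙_ (Over (Spec (CommRingCat.of k)))).left :=
      inferInstanceAs (Nonempty (PrimeSpectrum k))
    have hy : (x₁ ≫ φ).left.base t₀ ∈
        ⋂ i, φ.left.base '' closure (Set.range (a.orbitMap (xs i)).left.base) := by
      rw [Set.mem_iInter]
      intro i
      refine ⟨(xs i).left.base t₀, subset_closure (mem_range_orbitMap a (xs i) t₀), ?_⟩
      rw [← Scheme.Hom.comp_apply, ← Over.comp_left, hxs i]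
    rw [← hI] at hy
    obtain ⟨z, hz, -⟩ := hy
    rw [Set.mem_iInter] at hz
    exact ⟨z, hz ⟨true⟩, hz ⟨false⟩⟩

theorem exists_point_of_nonempty [IsAlgClosed k] {P : Scheme.{u}} (f : P ⟶ Spec (CommRingCat.of k))
    [LocallyOfFiniteType f] [Nonempty P] : ∃ s : Spec (CommRingCat.of k) ⟶ P, s ≫ f = 𝟙 _ := by
  have : JacobsonSpace P := LocallyOfFiniteType.jacobsonSpace f
  obtain ⟨c, -, hc⟩ := nonempty_inter_closedPoints (X := P) (Z := Set.univ) Set.univ_nonempty
    isOpen_univ.isLocallyClosed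
  exact ⟨pointOfClosedPoint f c hc, pointOfClosedPoint_comp f c hc⟩

theorem exists_translate [IsAlgClosed k] [LocallyOfFiniteType G.hom] (h : IsGoodQuot a φ)
    (hcl : ∀ x : 𝟙_ (Over (Spec (CommRingCat.of k))) ⟶ X,
      IsClosed (Set.range (a.orbitMap x).left.base))
    (x₁ x₂ : 𝟙_ (Over (Spec (CommRingCat.of k))) ⟶ X) (hφ : x₁ ≫ φ = x₂ ≫ φ) :
    ∃ g : 𝟙_ (Over (Spec (CommRingCat.of k))) ⟶ G, lift g x₁ ≫ a.act = x₂ := by
  obtain ⟨z, hz₁, hz₂⟩ := (closure_inter_nonempty_iff k a φ h x₁ x₂).mpr hφ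
  rw [(hcl x₁).closure_eq] at hz₁
  rw [(hcl x₂).closure_eq] at hz₂
  obtain ⟨g₁, hg₁⟩ := hz₁
  obtain ⟨g₂, hg₂⟩ := hz₂
  obtain ⟨w, -, -⟩ := Scheme.Pullback.exists_preimage_pullback g₁ g₂ (hg₁.trans hg₂.symm)
  have : Nonempty ↥(Limits.pullback (a.orbitMap x₁).left (a.orbitMap x₂).left) := ⟨w⟩
  have : LocallyOfFiniteType ((a.orbitMap x₂).left ≫ X.hom) := by
    rw [Over.w]
    infer_instance
  have : LocallyOfFiniteType (a.orbitMap x₂).left :=
    locallyOfFiniteType_of_comp (a.orbitMap x₂).left X.hom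
  obtain ⟨s, hs⟩ := exists_point_of_nonempty k
    (Limits.pullback.fst (a.orbitMap x₁).left (a.orbitMap x₂).left ≫ G.hom)
  have hs2 : (s ≫ Limits.pullback.snd (a.orbitMap x₁).left (a.orbitMap x₂).left) ≫ G.hom =
      𝟙 _ := by
    have e1 : (a.orbitMap x₁).left ≫ X.hom = G.hom := Over.w _
    have e2 : (a.orbitMap x₂).left ≫ X.hom = G.hom := Over.w _
    rw [← hs]
    conv_lhs => rw [← e2]
    conv_rhs => rw [← e1]
    simp only [Category.assoc]
    rw [Limits.pullback.condition_assoc]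
  let c₁ : 𝟙_ (Over (Spec (CommRingCat.of k))) ⟶ G :=
    Over.homMk (s ≫ Limits.pullback.fst _ _) (by rw [Category.assoc]; exact hs)
  let c₂ : 𝟙_ (Over (Spec (CommRingCat.of k))) ⟶ G :=
    Over.homMk (s ≫ Limits.pullback.snd _ _) hs2
  have hc : c₁ ≫ a.orbitMap x₁ = c₂ ≫ a.orbitMap x₂ := by
    apply Over.OverMorphism.ext
    rw [Over.comp_left, Over.comp_left]
    show (s ≫ Limits.pullback.fst _ _) ≫ _ = (s ≫ Limits.pullback.snd _ _) ≫ _
    rw [Category.assoc, Category.assoc, Limits.pullback.condition]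
  have hu : (toUnit (𝟙_ (Over (Spec (CommRingCat.of k)))) :
      𝟙_ (Over (Spec (CommRingCat.of k))) ⟶ 𝟙_ (Over (Spec (CommRingCat.of k)))) = 𝟙 _ :=
    toUnit_unique _ _
  rw [AlgGrp.Action.comp_orbitMap, AlgGrp.Action.comp_orbitMap, hu, Category.id_comp,
    Category.id_comp] at hc
  refine ⟨c₂⁻¹ * c₁, ?_⟩
  rw [AlgGrp.Action.lift_mul_act, hc, ← AlgGrp.Action.lift_mul_act, inv_mul_cancel,
    AlgGrp.Action.lift_one_act]

end Field

end Groth.Agent.Lib.Helper81.GoodQuot
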