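import Mathlib
import Groth.Prelude.Def_Flatn

set_option autoImplicit false
set_option linter.style.haveILetI false
universe u
open CategoryTheory CategoryTheory.Limits AlgebraicGeometry Opposite

namespace Groth.Agent.Lib.Helper81.MorBase

variable {X Y S S' : Scheme.{u}} (gX : X ⟶ S) (gY : Y ⟶ S) (h : S' ⟶ S)

noncomputable def alpha (T' : Over S') :
    pullback T'.hom (pullback.snd gX h) ⟶ pullback (T'.hom ≫ h) gX :=
  pullback.lift (pullback.fst _ _) (pullback.snd _ _ ≫ pullback.fst gX h) (by
    rw [← Category.assoc, pullback.condition, Category.assoc, Category.assoc,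
      pullback.condition])

noncomputable def beta (T' : Over S') :
    pullback (T'.hom ≫ h) gX ⟶ pullback T'.hom (pullback.snd gX h) :=
  pullback.lift (pullback.fst _ _)
    (pullback.lift (pullback.snd _ _) (pullback.fst _ _ ≫ T'.hom) (by
      rw [← pullback.condition, Category.assoc])) (by
    rw [pullback.lift_snd])

theorem alpha_fst (T' : Over S') : alpha gX h T' ≫ pullback.fst _ _ = pullback.fst _ _ := by
  unfold alpha; exact pullback.lift_fst _ _ _

theorem alpha_snd (T' : Over S') :
    alpha gX h T' ≫ pullback.snd _ _ = pullback.snd _ _ ≫ pullback.fst gX h := by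
  unfold alpha; exact pullback.lift_snd _ _ _

theorem beta_fst (T' : Over S') : beta gX h T' ≫ pullback.fst _ _ = pullback.fst _ _ := by
  unfold beta; exact pullback.lift_fst _ _ _

theorem beta_snd_fst (T' : Over S') :
    beta gX h T' ≫ pullback.snd _ _ ≫ pullback.fst gX h = pullback.snd _ _ := by
  unfold beta
  rw [← Category.assoc, pullback.lift_snd, pullback.lift_fst]

theorem beta_snd_snd (T' : Over S') :
    beta gX h T' ≫ pullback.snd _ _ ≫ pullback.snd gX h = pullback.fst _ _ ≫ T'.hom := by
  unfold beta
  rw [← Category.assoc, pullback.lift_snd, pullback.lift_snd]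

theorem alpha_beta (T' : Over S') : alpha gX h T' ≫ beta gX h T' = 𝟙 _ := by
  apply pullback.hom_ext
  · rw [Category.assoc, beta_fst, alpha_fst, Category.id_comp]
  · apply pullback.hom_ext
    · rw [Category.assoc, Category.assoc, beta_snd_fst, alpha_snd, Category.id_comp]
    · rw [Category.assoc, Category.assoc, beta_snd_snd, ← Category.assoc, alpha_fst,
        Category.id_comp, pullback.condition]

theorem beta_alpha (T' : Over S') : beta gX h T' ≫ alpha gX h T' = 𝟙 _ := by
  apply pullback.hom_ext
  · rw [Category.assoc, alpha_fst, beta_fst, Category.id_comp]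
  · rw [Category.assoc, alpha_snd, beta_snd_fst, Category.id_comp]

noncomputable def isoAB (T' : Over S') :
    (Over.map gX).obj ((Over.pullback gX).obj ((Over.map h).obj T')) ≅
      (Over.map h).obj ((Over.map (pullback.snd gX h)).obj
        ((Over.pullback (pullback.snd gX h)).obj T')) :=
  Over.isoMk ⟨beta gX h T', alpha gX h T', beta_alpha gX h T', alpha_beta gX h T'⟩ (by
    show beta gX h T' ≫ (pullback.snd T'.hom (pullback.snd gX h) ≫ pullback.snd gX h) ≫ h =
      pullback.snd (T'.hom ≫ h) gX ≫ gX
    rw [Category.assoc, ← Category.assoc, ← Category.assoc, Category.assoc (beta gX h T'),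
      beta_snd_snd, Category.assoc, pullback.condition])

theorem isoAB_hom_left (T' : Over S') : (isoAB gX h T').hom.left = beta gX h T' := rfl

theorem isoAB_naturality {T'' T' : Over S'} (φ : T'' ⟶ T') :
    (isoAB gX h T'').hom ≫ (Over.map h).map ((Over.map (pullback.snd gX h)).map
      ((Over.pullback (pullback.snd gX h)).map φ)) =
    (Over.map gX).map ((Over.pullback gX).map ((Over.map h).map φ)) ≫ (isoAB gX h T').hom := by
  ext
  show beta gX h T'' ≫ pullback.lift (pullback.fst _ _ ≫ φ.left) (pullback.snd _ _) _ =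
    pullback.lift (pullback.fst _ _ ≫ φ.left) (pullback.snd _ _) _ ≫ beta gX h T'
  apply pullback.hom_ext
  · rw [Category.assoc, pullback.lift_fst, ← Category.assoc, beta_fst, Category.assoc, beta_fst,
      pullback.lift_fst]
  · apply pullback.hom_ext
    · simp only [Category.assoc]
      rw [pullback.lift_snd_assoc, beta_snd_fst, beta_snd_fst, pullback.lift_snd]
    · simp only [Category.assoc]
      rw [pullback.lift_snd_assoc, beta_snd_snd, beta_snd_snd, pullback.lift_fst_assoc,
        Category.assoc, Over.w φ]

noncomputable def compEquiv (T' : Over S') :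
    (Flatn.morS (pullback.snd gX h) (pullback.snd gY h)).obj (op T') ≃
      ((Over.map h).op ⋙ Flatn.morS gX gY).obj (op T') :=
  ((Over.mapPullbackAdj h).homEquiv _ (Over.mk gY)).symm.trans
    ((isoAB gX h T').symm.homCongr (Iso.refl _))

theorem compEquiv_apply (T' : Over S')
    (b : (Flatn.morS (pullback.snd gX h) (pullback.snd gY h)).obj (op T')) :
    compEquiv gX gY h T' b =
      (isoAB gX h T').hom ≫ ((Over.mapPullbackAdj h).homEquiv _ (Over.mk gY)).symm b := by
  unfold compEquiv
  simp [Iso.homCongr]
  rfl

noncomputable def natIso :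
    Flatn.morS (pullback.snd gX h) (pullback.snd gY h) ≅ (Over.map h).op ⋙ Flatn.morS gX gY :=
  NatIso.ofComponents (fun T' => (compEquiv gX gY h (unop T')).toIso) (by
    intro T' T'' φ
    ext b
    obtain ⟨T'⟩ := T'
    obtain ⟨T''⟩ := T''
    obtain ⟨φ, rfl⟩ : ∃ ψ : T'' ⟶ T', φ = ψ.op := ⟨φ.unop, rfl⟩
    show compEquiv gX gY h T'' ((Flatn.morS _ _).map φ.op b) =
      (Flatn.morS gX gY).map ((Over.map h).map φ).op (compEquiv gX gY h T' b)
    rw [Flatn.morS_map, Flatn.morS_map, compEquiv_apply, compEquiv_apply,
      Adjunction.homEquiv_naturality_left_symm, ← Category.assoc, ← Category.assoc,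
      isoAB_naturality])

noncomputable def reprOfAdj (F : (Over S)ᵒᵖ ⥤ Type u) (M : Over S) (e : F.RepresentableBy M) :
    ((Over.map h).op ⋙ F).RepresentableBy ((Over.pullback h).obj M) where
  homEquiv {T'} := ((Over.mapPullbackAdj h).homEquiv T' M).symm.trans e.homEquiv
  homEquiv_comp {T'' T'} f g := by
    show e.homEquiv (((Over.mapPullbackAdj h).homEquiv T'' M).symm (f ≫ g)) =
      F.map ((Over.map h).map f).op (e.homEquiv (((Over.mapPullbackAdj h).homEquiv T' M).symm g))
    rw [Adjunction.homEquiv_naturality_left_symm, e.homEquiv_comp]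

theorem main (M : Over S) (e : (Flatn.morS gX gY).RepresentableBy M) :
    Nonempty ((Flatn.morS (pullback.snd gX h) (pullback.snd gY h)).RepresentableBy
      (Over.mk (pullback.snd M.hom h))) :=
  ⟨(reprOfAdj h _ M e).ofIso (natIso gX gY h).symm⟩

end Groth.Agent.Lib.Helper81.MorBase
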