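import Mathlib
import Groth.Prelude.Def_CoactBr

set_option autoImplicit false
set_option linter.style.haveILetI false
set_option linter.unusedSectionVars false
universe u

open TensorProduct WithConv

namespace Groth.Agent.Lib.Helper81.CoactCalc

section Calc
variable {R : Type u} [CommRing R] {A : Type u} [CommRing A] [HopfAlgebra R A]
variable {B : Type u} [CommRing B] [Algebra R B] [HopfRep.Comod R A B] [GLin.IsCoactAlg R A B]
variable {C : Type u} [CommRing C] [Algebra R C] {D : Type u} [CommRing D] [Algebra R D]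

/-- the point `x` moved by the point `g` on the right: `b ↦ Σ x(b₀) g(b₁)` -/
noncomputable def actH (x : B →ₐ[R] C) (g : A →ₐ[R] C) : B →ₐ[R] C :=
  (Algebra.TensorProduct.lift x g (fun _ _ => .all _ _)).comp (GLin.coactAlgHom R A B)

theorem comp_lift (φ : C →ₐ[R] D) (x : B →ₐ[R] C) (g : A →ₐ[R] C) :
    φ.comp (Algebra.TensorProduct.lift x g (fun _ _ => .all _ _)) =
      Algebra.TensorProduct.lift (φ.comp x) (φ.comp g) (fun _ _ => .all _ _) := by
  apply Algebra.TensorProduct.ext'
  intro b a
  simp

theorem comp_actH (φ : C →ₐ[R] D) (x : B →ₐ[R] C) (g : A →ₐ[R] C) :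
    φ.comp (actH x g) = actH (φ.comp x) (φ.comp g) := by
  unfold actH
  rw [← AlgHom.comp_assoc, comp_lift]

theorem lift_one_apply (x : B →ₐ[R] C) (y : B ⊗[R] A) :
    Algebra.TensorProduct.lift x ((1 : WithConv (A →ₐ[R] C)).ofConv) (fun _ _ => .all _ _) y =
      x (TensorProduct.rid R B ((CoalgebraStruct.counit (R := R) (A := A)).lTensor B y)) := by
  induction y using TensorProduct.induction_on with
  | zero => simp
  | tmul b a =>
    rw [Algebra.TensorProduct.lift_tmul, LinearMap.lTensor_tmul, TensorProduct.rid_tmul, map_smul,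
      Algebra.smul_def, mul_comm]
    rfl
  | add y z hy hz => rw [map_add, hy, hz, map_add, map_add, map_add]

theorem actH_one (x : B →ₐ[R] C) : actH x ((1 : WithConv (A →ₐ[R] C)).ofConv) = x := by
  ext b
  have h := LinearMap.congr_fun (HopfRep.Comod.counit_comp (k := R) (A := A) (V := B)) b
  simp only [LinearMap.coe_comp, Function.comp_apply, LinearMap.flip_apply,
    TensorProduct.mk_apply] at h
  rw [actH, AlgHom.comp_apply, GLin.coactAlgHom_apply, lift_one_apply, h, TensorProduct.rid_tmul,
    one_smul]

theorem coassocH :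
    (Algebra.TensorProduct.assoc R R R B A A).toAlgHom.comp
      ((Algebra.TensorProduct.map (GLin.coactAlgHom R A B) (AlgHom.id R A)).comp
        (GLin.coactAlgHom R A B)) =
    (Algebra.TensorProduct.map (AlgHom.id R B) (Bialgebra.comulAlgHom R A)).comp
      (GLin.coactAlgHom R A B) := by
  have h := congrArg CommAlgCat.Hom.hom (CoactBr.coactHom_comul R A B)
  exact h.symm

theorem actH_mul (x : B →ₐ[R] C) (g h : A →ₐ[R] C) :
    actH (actH x g) h = actH x (toConv g * toConv h).ofConv := by
  have e1 : Algebra.TensorProduct.lift (actH x g) h (fun _ _ => .all _ _) =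
      (Algebra.TensorProduct.lift (Algebra.TensorProduct.lift x g (fun _ _ => .all _ _)) h
        (fun _ _ => .all _ _)).comp
        (Algebra.TensorProduct.map (GLin.coactAlgHom R A B) (AlgHom.id R A)) := by
    apply Algebra.TensorProduct.ext'
    intro b a
    simp [actH]
  have e2 : Algebra.TensorProduct.lift x (toConv g * toConv h).ofConv (fun _ _ => .all _ _) =
      (Algebra.TensorProduct.lift x (Algebra.TensorProduct.lift g h (fun _ _ => .all _ _))
        (fun _ _ => .all _ _)).comp
        (Algebra.TensorProduct.map (AlgHom.id R B) (Bialgebra.comulAlgHom R A)) := by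
    apply Algebra.TensorProduct.ext'
    intro b a
    simp [AlgHom.convMul_apply]
  have e3 : (Algebra.TensorProduct.lift x (Algebra.TensorProduct.lift g h (fun _ _ => .all _ _))
      (fun _ _ => .all _ _)).comp (Algebra.TensorProduct.assoc R R R B A A).toAlgHom =
      Algebra.TensorProduct.lift (Algebra.TensorProduct.lift x g (fun _ _ => .all _ _)) h
        (fun _ _ => .all _ _) := by
    apply Algebra.TensorProduct.ext'
    intro y a
    induction y using TensorProduct.induction_on with
    | zero => simp
    | tmul b a' => simp [mul_assoc]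
    | add y z hy hz =>
      rw [TensorProduct.add_tmul, map_add, map_add, hy, hz]
  show (Algebra.TensorProduct.lift (actH x g) h _).comp (GLin.coactAlgHom R A B) =
    (Algebra.TensorProduct.lift x _ _).comp (GLin.coactAlgHom R A B)
  rw [e1, e2, ← e3, AlgHom.comp_assoc, AlgHom.comp_assoc, AlgHom.comp_assoc, coassocH]

end Calc

section Shear
variable {R : Type u} [CommRing R] {A : Type u} [CommRing A] [HopfAlgebra R A]
variable {C : Type u} [CommRing C] [Algebra R C] {D : Type u} [CommRing D] [Algebra R D]

theorem comp_mul (φ : C →ₐ[R] D) (f g : A →ₐ[R] C) :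
    φ.comp (toConv f * toConv g).ofConv = (toConv (φ.comp f) * toConv (φ.comp g)).ofConv :=
  AlgHom.comp_convMul_distrib φ (toConv f) (toConv g)

theorem comp_one (φ : C →ₐ[R] D) :
    φ.comp (1 : WithConv (A →ₐ[R] C)).ofConv = (1 : WithConv (A →ₐ[R] D)).ofConv := by
  ext a
  show φ (algebraMap R C (Coalgebra.counit a)) = algebraMap R D (Coalgebra.counit a)
  exact φ.commutes _

theorem id_antipode_cancel :
    toConv (AlgHom.id R A) * toConv (HopfAlgebra.antipodeAlgHom R A) = 1 := by
  apply WithConv.ofConv_injective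
  apply AlgHom.toLinearMap_injective
  apply WithConv.toConv_injective
  rw [AlgHom.toLinearMap_convMul, AlgHom.toLinearMap_convOne]
  simp [LinearMap.id_mul_antipode]

theorem inv_mul (ι : A →ₐ[R] C) :
    toConv (ι.comp (HopfAlgebra.antipodeAlgHom R A)) * toConv ι = 1 := by
  have h := comp_mul ι (HopfAlgebra.antipodeAlgHom R A) (AlgHom.id R A)
  rw [AlgHom.antipode_id_cancel, comp_one, AlgHom.comp_id] at h
  exact (WithConv.ofConv_injective h).symm

theorem mul_inv (ι : A →ₐ[R] C) :
    toConv ι * toConv (ι.comp (HopfAlgebra.antipodeAlgHom R A)) = 1 := by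
  have h := comp_mul ι (AlgHom.id R A) (HopfAlgebra.antipodeAlgHom R A)
  rw [id_antipode_cancel, comp_one, AlgHom.comp_id] at h
  exact (WithConv.ofConv_injective h).symm

/-- `a ↦ Σ ι(a₁) ⊗ a₂` -/
noncomputable def twist (ι : A →ₐ[R] C) : A →ₐ[R] C ⊗[R] A :=
  (toConv ((Algebra.TensorProduct.includeLeft : C →ₐ[R] C ⊗[R] A).comp ι) *
    toConv (Algebra.TensorProduct.includeRight : A →ₐ[R] C ⊗[R] A)).ofConv

/-- `c ⊗ a ↦ Σ c ι(a₁) ⊗ a₂` -/
noncomputable def shear (ι : A →ₐ[R] C) : C ⊗[R] A →ₐ[R] C ⊗[R] A :=
  Algebra.TensorProduct.lift Algebra.TensorProduct.includeLeft (twist ι) (fun _ _ => .all _ _)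

theorem shear_comp_includeLeft (ι : A →ₐ[R] C) :
    (shear ι).comp Algebra.TensorProduct.includeLeft = Algebra.TensorProduct.includeLeft :=
  Algebra.TensorProduct.lift_comp_includeLeft _ _ (fun _ _ => .all _ _)

theorem shear_comp_includeRight (ι : A →ₐ[R] C) :
    (shear ι).comp Algebra.TensorProduct.includeRight = twist ι :=
  Algebra.TensorProduct.lift_comp_includeRight _ _ (fun _ _ => .all _ _)

theorem shear_comp (ι κ : A →ₐ[R] C) :
    (shear ι).comp (shear κ) = shear (toConv κ * toConv ι).ofConv := by
  apply Algebra.TensorProduct.ext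
  · rw [AlgHom.comp_assoc, shear_comp_includeLeft, shear_comp_includeLeft, shear_comp_includeLeft]
  · show ((shear ι).comp (shear κ)).comp Algebra.TensorProduct.includeRight =
      (shear _).comp Algebra.TensorProduct.includeRight
    rw [AlgHom.comp_assoc, shear_comp_includeRight, shear_comp_includeRight]
    unfold twist
    rw [comp_mul, ← AlgHom.comp_assoc, shear_comp_includeLeft, shear_comp_includeRight]
    unfold twist
    rw [comp_mul (Algebra.TensorProduct.includeLeft : C →ₐ[R] C ⊗[R] A) κ ι]
    simp only [toConv_ofConv, mul_assoc]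

theorem shear_one : shear (1 : WithConv (A →ₐ[R] C)).ofConv = AlgHom.id R _ := by
  apply Algebra.TensorProduct.ext
  · rw [shear_comp_includeLeft]; rfl
  · show (shear _).comp Algebra.TensorProduct.includeRight =
      (AlgHom.id R _).comp Algebra.TensorProduct.includeRight
    rw [shear_comp_includeRight, AlgHom.id_comp]
    unfold twist
    rw [comp_one, toConv_ofConv, one_mul, ofConv_toConv]

/-- the shear map is an isomorphism -/
noncomputable def shearEquiv (ι : A →ₐ[R] C) : (C ⊗[R] A) ≃ₐ[R] (C ⊗[R] A) :=
  AlgEquiv.ofAlgHom (shear ι) (shear (ι.comp (HopfAlgebra.antipodeAlgHom R A)))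
    (by rw [shear_comp, inv_mul, shear_one]) (by rw [shear_comp, mul_inv, shear_one])

end Shear

end Groth.Agent.Lib.Helper81.CoactCalc
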