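import Mathlib
import Groth.Prelude.Def_CoactBr
import Groth.Agent.Lib.Helper61.GrpdRG
import Groth.Agent.Lib.Helper81.CoactCalc

set_option autoImplicit false
set_option linter.style.haveILetI false
set_option linter.unusedSectionVars false
universe u

open TensorProduct WithConv CategoryTheory CategoryTheory.Limits
open Groth.Agent.Lib.Helper81.CoactCalc
open Groth.Agent.Lib.Helper61.GrpdOrbit

namespace Groth.Agent.Lib.Helper81.CoactRG

section
variable (R A B : Type u) [CommRing R] [CommRing A] [HopfAlgebra R A]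
  [CommRing B] [Algebra R B] [HopfRep.Comod R A B] [GLin.IsCoactAlg R A B]

noncomputable abbrev sH : B →ₐ[R] B ⊗[R] A := Algebra.TensorProduct.includeLeft
noncomputable abbrev tH : B →ₐ[R] B ⊗[R] A := GLin.coactAlgHom R A B
noncomputable abbrev jH : A →ₐ[R] B ⊗[R] A := Algebra.TensorProduct.includeRight

noncomputable def eH : B ⊗[R] A →ₐ[R] B :=
  Algebra.TensorProduct.lift (AlgHom.id R B) (1 : WithConv (A →ₐ[R] B)).ofConv
    (fun _ _ => .all _ _)

noncomputable def iH : B ⊗[R] A →ₐ[R] B ⊗[R] A :=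
  Algebra.TensorProduct.lift (tH R A B) ((jH R A B).comp (HopfAlgebra.antipodeAlgHom R A))
    (fun _ _ => .all _ _)

noncomputable abbrev p2H : B ⊗[R] A →ₐ[R] (B ⊗[R] A) ⊗[R] A := Algebra.TensorProduct.includeLeft
noncomputable abbrev j2H : A →ₐ[R] (B ⊗[R] A) ⊗[R] A := Algebra.TensorProduct.includeRight

noncomputable def p1H : B ⊗[R] A →ₐ[R] (B ⊗[R] A) ⊗[R] A :=
  Algebra.TensorProduct.map (tH R A B) (AlgHom.id R A)

noncomputable def cH : B ⊗[R] A →ₐ[R] (B ⊗[R] A) ⊗[R] A :=
  (shear (jH R A B)).comp (Algebra.TensorProduct.map (sH R A B) (AlgHom.id R A))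

theorem tH_eq : tH R A B = actH (sH R A B) (jH R A B) := by
  unfold actH
  rw [Algebra.TensorProduct.lift_includeLeft_includeRight, AlgHom.id_comp]

theorem eH_sH : (eH R A B).comp (sH R A B) = AlgHom.id R B :=
  Algebra.TensorProduct.lift_comp_includeLeft _ _ (fun _ _ => .all _ _)

theorem eH_jH : (eH R A B).comp (jH R A B) = (1 : WithConv (A →ₐ[R] B)).ofConv :=
  Algebra.TensorProduct.lift_comp_includeRight _ _ (fun _ _ => .all _ _)

theorem eH_tH : (eH R A B).comp (tH R A B) = AlgHom.id R B := by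
  rw [tH_eq, comp_actH, eH_sH, eH_jH, actH_one]

theorem iH_sH : (iH R A B).comp (sH R A B) = tH R A B :=
  Algebra.TensorProduct.lift_comp_includeLeft _ _ (fun _ _ => .all _ _)

theorem iH_jH : (iH R A B).comp (jH R A B) =
    (jH R A B).comp (HopfAlgebra.antipodeAlgHom R A) :=
  Algebra.TensorProduct.lift_comp_includeRight _ _ (fun _ _ => .all _ _)

theorem iH_tH : (iH R A B).comp (tH R A B) = sH R A B := by
  conv_lhs => rw [tH_eq, comp_actH, iH_sH, iH_jH, tH_eq, actH_mul, CoactCalc.mul_inv, actH_one]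

theorem p1H_sH : (p1H R A B).comp (sH R A B) = (p2H R A B).comp (tH R A B) :=
  Algebra.TensorProduct.map_comp_includeLeft _ _

theorem p1H_jH : (p1H R A B).comp (jH R A B) = j2H R A B := by
  unfold p1H
  rw [Algebra.TensorProduct.map_comp_includeRight, AlgHom.comp_id]

theorem cH_sH : (cH R A B).comp (sH R A B) = (p2H R A B).comp (sH R A B) := by
  unfold cH
  rw [AlgHom.comp_assoc, Algebra.TensorProduct.map_comp_includeLeft, ← AlgHom.comp_assoc,
    shear_comp_includeLeft]

theorem cH_jH : (cH R A B).comp (jH R A B) = twist (jH R A B) := by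
  unfold cH
  rw [AlgHom.comp_assoc, Algebra.TensorProduct.map_comp_includeRight, AlgHom.comp_id,
    shear_comp_includeRight]

theorem cH_tH : (cH R A B).comp (tH R A B) = (p1H R A B).comp (tH R A B) := by
  have h1 : (p1H R A B).comp (tH R A B) = actH ((p2H R A B).comp (tH R A B)) (j2H R A B) := by
    conv_lhs => rw [tH_eq, comp_actH, p1H_sH, p1H_jH]
  have h2 : (cH R A B).comp (tH R A B) = actH ((p2H R A B).comp (tH R A B)) (j2H R A B) := by
    conv_lhs => rw [tH_eq, comp_actH, cH_sH, cH_jH]
    unfold twist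
    rw [← actH_mul, ← comp_actH, ← tH_eq]
  rw [h1, h2]

end

section RGdef
variable (R A B : Type u) [CommRing R] [CommRing A] [HopfAlgebra R A]
  [Module.Finite R A] [Module.Projective R A]
  [CommRing B] [Algebra R B] [HopfRep.Comod R A B] [GLin.IsCoactAlg R A B]

theorem hom_eq {X Y : Type u} [CommRing X] [CommRing Y] [Algebra R X] [Algebra R Y]
    {f g : X →ₐ[R] Y} (h : f = g) :
    CommRingCat.ofHom f.toRingHom = CommRingCat.ofHom g.toRingHom := by rw [h]

theorem Q1 : IsPushout (CommRingCat.ofHom (tH R A B).toRingHom)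
    (CommRingCat.ofHom (sH R A B).toRingHom)
    (CommRingCat.ofHom (p2H R A B).toRingHom) (CommRingCat.ofHom (p1H R A B).toRingHom) := by
  have P0 := CommRingCat.isPushout_tensorProduct R (B ⊗[R] A) A
  have P1 := CommRingCat.isPushout_tensorProduct R B A
  have e1 : CommRingCat.ofHom (algebraMap R (B ⊗[R] A)) =
      CommRingCat.ofHom (algebraMap R B) ≫ CommRingCat.ofHom (tH R A B).toRingHom := by
    ext r
    exact ((tH R A B).commutes r).symm
  have e2 : CommRingCat.ofHom (j2H R A B).toRingHom =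
      CommRingCat.ofHom (jH R A B).toRingHom ≫ CommRingCat.ofHom (p1H R A B).toRingHom :=
    (hom_eq R (p1H_jH R A B)).symm
  rw [e1] at P0
  have P0' : IsPushout
      (CommRingCat.ofHom (algebraMap R B) ≫ CommRingCat.ofHom (tH R A B).toRingHom)
      (CommRingCat.ofHom (algebraMap R A)) (CommRingCat.ofHom (p2H R A B).toRingHom)
      (CommRingCat.ofHom (jH R A B).toRingHom ≫ CommRingCat.ofHom (p1H R A B).toRingHom) := by
    rw [← e2]
    exact P0
  exact P0'.of_left (hom_eq R (p1H_sH R A B)).symm P1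

theorem Q2 : IsPushout (CommRingCat.ofHom (sH R A B).toRingHom)
    (CommRingCat.ofHom (sH R A B).toRingHom)
    (CommRingCat.ofHom (p2H R A B).toRingHom) (CommRingCat.ofHom (cH R A B).toRingHom) := by
  have P0 := CommRingCat.isPushout_tensorProduct R (B ⊗[R] A) A
  have P1 := CommRingCat.isPushout_tensorProduct R B A
  have e1 : CommRingCat.ofHom (algebraMap R (B ⊗[R] A)) =
      CommRingCat.ofHom (algebraMap R B) ≫ CommRingCat.ofHom (sH R A B).toRingHom := by
    ext r
    exact ((sH R A B).commutes r).symm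
  have P0' : IsPushout
      (CommRingCat.ofHom (algebraMap R B) ≫ CommRingCat.ofHom (sH R A B).toRingHom)
      (CommRingCat.ofHom (algebraMap R A)) (CommRingCat.ofHom (p2H R A B).toRingHom)
      (CommRingCat.ofHom (jH R A B).toRingHom ≫ CommRingCat.ofHom (cH R A B).toRingHom) := by
    refine P0.of_iso (Iso.refl _) (Iso.refl _) (Iso.refl _)
      (shearEquiv (jH R A B)).toRingEquiv.toCommRingCatIso
      ?_ ?_ ?_ ?_
    · rw [Iso.refl_hom, Iso.refl_hom, Category.comp_id, Category.id_comp, e1]
    · rw [Iso.refl_hom, Iso.refl_hom, Category.comp_id, Category.id_comp]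
    · rw [Iso.refl_hom, Category.id_comp]
      exact hom_eq R (shear_comp_includeLeft (jH R A B))
    · rw [Iso.refl_hom, Category.id_comp]
      exact (hom_eq R (shear_comp_includeRight (jH R A B))).trans (hom_eq R (cH_jH R A B)).symm
  exact P0'.of_left (hom_eq R (cH_sH R A B)).symm P1

end RGdef

end Groth.Agent.Lib.Helper81.CoactRG
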