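import Mathlib
import Groth.Prelude.Def_CoactBr
import Groth.Agent.Lib.Helper61.GrpdRG
import Groth.Agent.Lib.Helper81.CoactCalc
import Groth.Agent.Lib.Helper81.CoactRG

set_option autoImplicit false
set_option linter.style.haveILetI false
set_option linter.unusedSectionVars false
universe u

open TensorProduct WithConv CategoryTheory CategoryTheory.Limits
open Groth.Agent.Lib.Helper81.CoactCalc
open Groth.Agent.Lib.Helper61.GrpdOrbit
open Groth.Agent.Lib.Helper15.ProjCharpoly

namespace Groth.Agent.Lib.Helper81.CoactRG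

theorem pres_of_algebra_eq {X Y : Type u} [CommRing X] [CommRing Y] (a1 a2 : Algebra X Y)
    (h : a1 = a2) (π : Nonempty (@Pres X Y _ _ (@Algebra.toModule _ _ _ _ a1))) :
    Nonempty (@Pres X Y _ _ (@Algebra.toModule _ _ _ _ a2)) := by
  subst h
  exact π

section RGdef
variable (R A B : Type u) [CommRing R] [CommRing A] [HopfAlgebra R A]
  [Module.Finite R A] [Module.Projective R A]
  [CommRing B] [Algebra R B] [HopfRep.Comod R A B] [GLin.IsCoactAlg R A B]

theorem pres :
    Nonempty (@Pres (CommRingCat.of B) (CommRingCat.of (B ⊗[R] A)) _ _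
      (@Algebra.toModule _ _ _ _ (CommRingCat.ofHom (sH R A B).toRingHom).hom.toAlgebra)) := by
  have h : (Algebra.TensorProduct.leftAlgebra : Algebra B (B ⊗[R] A)) =
      (CommRingCat.ofHom (sH R A B).toRingHom).hom.toAlgebra :=
    Algebra.algebra_ext _ _ (fun r => rfl)
  exact pres_of_algebra_eq _ _ h exists_pres

/-- the ring-level groupoid of the action -/
noncomputable def rg : RG.{u} where
  A := CommRingCat.of B
  B := CommRingCat.of (B ⊗[R] A)
  Y := CommRingCat.of ((B ⊗[R] A) ⊗[R] A)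
  s := CommRingCat.ofHom (sH R A B).toRingHom
  t := CommRingCat.ofHom (tH R A B).toRingHom
  e := CommRingCat.ofHom (eH R A B).toRingHom
  i := CommRingCat.ofHom (iH R A B).toRingHom
  p1 := CommRingCat.ofHom (p1H R A B).toRingHom
  p2 := CommRingCat.ofHom (p2H R A B).toRingHom
  c := CommRingCat.ofHom (cH R A B).toRingHom
  es := hom_eq R (eH_sH R A B)
  et := hom_eq R (eH_tH R A B)
  si := hom_eq R (iH_sH R A B)
  ti := hom_eq R (iH_tH R A B)
  Q1 := Q1 R A B
  Q2 := Q2 R A B
  hct := hom_eq R (cH_tH R A B)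
  pres := pres R A B

theorem exists_trans (hC : Function.Bijective (algebraMap R (GLin.invariants R A B)))
    (K : Type u) [Field K] [IsAlgClosed K] [Algebra R K] (x₁ x₂ : B →ₐ[R] K) :
    ∃ g : A →ₐ[R] K, actH x₂ g = x₁ := by
  have hx : ∀ c : B, (sH R A B) c = (tH R A B) c → x₁ c = x₂ c := by
    intro c hc
    have hc' : c ∈ GLin.invariants R A B := hc.symm
    obtain ⟨r, hr⟩ := hC.2 ⟨c, hc'⟩
    have hcr : c = algebraMap R B r := (congrArg Subtype.val hr).symm
    rw [hcr, x₁.commutes, x₂.commutes]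
  obtain ⟨ρ', h1, h2⟩ := (rg R A B).kpoints K x₁.toRingHom x₂.toRingHom hx
  have h1' : ∀ b : B, ρ' (tH R A B b) = x₁ b := fun b => RingHom.congr_fun h1 b
  have h2' : ∀ b : B, ρ' (sH R A B b) = x₂ b := fun b => RingHom.congr_fun h2 b
  let ρA : B ⊗[R] A →ₐ[R] K :=
    { (ρ' : B ⊗[R] A →+* K) with
      commutes' := fun r => by
        show ρ' (algebraMap R (B ⊗[R] A) r) = algebraMap R K r
        rw [← (sH R A B).commutes r, h2', x₂.commutes] }
  refine ⟨ρA.comp (jH R A B), ?_⟩
  have e2 : x₂ = ρA.comp (sH R A B) := AlgHom.ext fun b => (h2' b).symm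
  have e1 : x₁ = ρA.comp (tH R A B) := AlgHom.ext fun b => (h1' b).symm
  rw [e2, ← comp_actH, ← tH_eq, ← e1]

end RGdef

end Groth.Agent.Lib.Helper81.CoactRG
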