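import Mathlib
import Groth.Prelude.Def_CoactBr
import Groth.Agent.Lib.Helper81.CoactRG2

set_option autoImplicit false
set_option linter.style.haveILetI false
set_option linter.unusedSectionVars false
universe u

open CategoryTheory MonoidalCategory CartesianMonoidalCategory MonObj AlgebraicGeometry
open CoactBr
open Groth.Agent.Lib.Helper81.CoactCalc

namespace Groth.Agent.Lib.Helper81.CoactRG

variable {R A B : Type u} [CommRing R] [CommRing A] [HopfAlgebra R A]
  [CommRing B] [Algebra R B] [HopfRep.Comod R A B] [GLin.IsCoactAlg R A B]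

theorem smul_mul {T : Over (Spec (CommRingCat.of R))} (a b : T ⟶ sp R A) (x : T ⟶ sp R B) :
    lift (a * b) x ≫ (action R A B).act =
      lift a (lift b x ≫ (action R A B).act) ≫ (action R A B).act :=
  calc lift (a * b) x ≫ (action R A B).act
      = lift x (a * b)⁻¹ ≫ ract R A B := lift_action_act _ _
    _ = lift x (b⁻¹ * a⁻¹) ≫ ract R A B :=
        congrArg (fun y => lift x y ≫ ract R A B) (mul_inv_rev a b)
    _ = lift (lift x b⁻¹ ≫ ract R A B) a⁻¹ ≫ ract R A B := (lift_ract_ract x b⁻¹ a⁻¹).symm
    _ = lift (lift b x ≫ (action R A B).act) a⁻¹ ≫ ract R A B :=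
        congrArg (fun y => lift y a⁻¹ ≫ ract R A B) (lift_action_act b x).symm
    _ = lift a (lift b x ≫ (action R A B).act) ≫ (action R A B).act :=
        (lift_action_act a _).symm

theorem one_smul {T : Over (Spec (CommRingCat.of R))} (x : T ⟶ sp R B) :
    lift (1 : T ⟶ sp R A) x ≫ (action R A B).act = x :=
  calc lift (1 : T ⟶ sp R A) x ≫ (action R A B).act
      = lift x (1 : T ⟶ sp R A)⁻¹ ≫ ract R A B := lift_action_act _ _
    _ = lift x (1 : T ⟶ sp R A) ≫ ract R A B :=
        congrArg (fun y => lift x y ≫ ract R A B) inv_one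
    _ = x := lift_one_ract x

theorem conj_iff {T : Over (Spec (CommRingCat.of R))} (k g : T ⟶ sp R A) (x : T ⟶ sp R B) :
    lift k (lift g x ≫ (action R A B).act) ≫ (action R A B).act =
        lift g x ≫ (action R A B).act ↔
      lift (g⁻¹ * k * g) x ≫ (action R A B).act = x := by
  have e0 : g⁻¹ * g = 1 := inv_mul_cancel g
  have e : g * (g⁻¹ * k * g) = k * g := by
    rw [_root_.mul_assoc, mul_inv_cancel_left]
  constructor
  · intro h
    calc lift (g⁻¹ * k * g) x ≫ (action R A B).act
        = lift (g⁻¹ * k) (lift g x ≫ (action R A B).act) ≫ (action R A B).act := smul_mul _ _ _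
      _ = lift g⁻¹ (lift k (lift g x ≫ (action R A B).act) ≫ (action R A B).act) ≫
            (action R A B).act := smul_mul _ _ _
      _ = lift g⁻¹ (lift g x ≫ (action R A B).act) ≫ (action R A B).act :=
          congrArg (fun y => lift g⁻¹ y ≫ (action R A B).act) h
      _ = lift (g⁻¹ * g) x ≫ (action R A B).act := (smul_mul _ _ _).symm
      _ = lift (1 : T ⟶ sp R A) x ≫ (action R A B).act :=
          congrArg (fun y => lift y x ≫ (action R A B).act) e0
      _ = x := one_smul x
  · intro h
    calc lift k (lift g x ≫ (action R A B).act) ≫ (action R A B).act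
        = lift (k * g) x ≫ (action R A B).act := (smul_mul _ _ _).symm
      _ = lift (g * (g⁻¹ * k * g)) x ≫ (action R A B).act :=
          congrArg (fun y => lift y x ≫ (action R A B).act) e.symm
      _ = lift g (lift (g⁻¹ * k * g) x ≫ (action R A B).act) ≫ (action R A B).act :=
          smul_mul _ _ _
      _ = lift g x ≫ (action R A B).act :=
          congrArg (fun y => lift g y ≫ (action R A B).act) h

theorem exists_conj [Module.Finite R A] [Module.Projective R A]
    (hC : Function.Bijective (algebraMap R (GLin.invariants R A B)))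
    (K : Type u) [Field K] [IsAlgClosed K] [Algebra R K] (x₁ x₂ : B →ₐ[R] K) :
    ∃ g : sp R K ⟶ sp R A, pt x₁ = lift g (pt x₂) ≫ (action R A B).act := by
  obtain ⟨gK, hg⟩ := exists_trans R A B hC K x₁ x₂
  refine ⟨(pt gK)⁻¹, ?_⟩
  have e1 : lift (pt gK)⁻¹ (pt x₂) ≫ (action R A B).act =
      lift (pt x₂) ((pt gK)⁻¹)⁻¹ ≫ ract R A B := lift_action_act _ _
  have e2 : lift (pt x₂) ((pt gK)⁻¹)⁻¹ ≫ ract R A B = lift (pt x₂) (pt gK) ≫ ract R A B :=
    congrArg (fun y => lift (pt x₂) y ≫ ract R A B) (inv_inv (pt gK))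
  have e3 : lift (pt x₂) (pt gK) ≫ ract R A B = pt (actH x₂ gK) := lift_pt_ract x₂ gK
  exact ((e1.trans e2).trans (e3.trans (congrArg pt hg))).symm

end Groth.Agent.Lib.Helper81.CoactRG
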