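import Mathlib
import Groth.Prelude.Def_CoactBr
import Groth.Agent.Lib.Helper81.CoactConj

set_option autoImplicit false
set_option linter.style.haveILetI false
set_option linter.unusedSectionVars false
universe u

open CategoryTheory CategoryTheory.Limits MonoidalCategory CartesianMonoidalCategory MonObj
  AlgebraicGeometry TensorProduct
open CoactBr

namespace Groth.Agent.Lib.Helper81.CoactFibre

section CommonExt
variable (R K₁ K₂ : Type u) [CommRing R] [Field K₁] [Field K₂] [Algebra R K₁] [Algebra R K₂]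

theorem nontrivial_tensor
    (hq : RingHom.ker (algebraMap R K₁) = RingHom.ker (algebraMap R K₂)) :
    Nontrivial (K₁ ⊗[R] K₂) := by
  let x : Spec (CommRingCat.of K₁) := (⊥ : PrimeSpectrum K₁)
  let y : Spec (CommRingCat.of K₂) := (⊥ : PrimeSpectrum K₂)
  have hxy : (Spec.map (CommRingCat.ofHom (algebraMap R K₁))) x =
      (Spec.map (CommRingCat.ofHom (algebraMap R K₂))) y := by
    apply PrimeSpectrum.ext
    show Ideal.comap (algebraMap R K₁) ⊥ = Ideal.comap (algebraMap R K₂) ⊥
    rw [← RingHom.ker_eq_comap_bot, ← RingHom.ker_eq_comap_bot, hq]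
  obtain ⟨z, -, -⟩ := Scheme.Pullback.exists_preimage_pullback x y hxy
  let z' : PrimeSpectrum (K₁ ⊗[R] K₂) := (pullbackSpecIso R K₁ K₂).hom z
  exact PrimeSpectrum.nonempty_iff_nontrivial.mp ⟨z'⟩

theorem exists_common_ext
    (hq : RingHom.ker (algebraMap R K₁) = RingHom.ker (algebraMap R K₂)) :
    ∃ (Ω : Type u) (_ : Field Ω) (_ : IsAlgClosed Ω) (_ : Algebra R Ω),
      Nonempty (K₁ →ₐ[R] Ω) ∧ Nonempty (K₂ →ₐ[R] Ω) := by
  haveI := nontrivial_tensor R K₁ K₂ hq
  obtain ⟨m, hm⟩ := Ideal.exists_maximal (K₁ ⊗[R] K₂)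
  letI : Field ((K₁ ⊗[R] K₂) ⧸ m) := Ideal.Quotient.field m
  refine ⟨AlgebraicClosure ((K₁ ⊗[R] K₂) ⧸ m), inferInstance, inferInstance, inferInstance,
    ⟨?_⟩, ⟨?_⟩⟩
  · exact (IsScalarTower.toAlgHom R ((K₁ ⊗[R] K₂) ⧸ m) _).comp
      ((Ideal.Quotient.mkₐ R m).comp Algebra.TensorProduct.includeLeft)
  · exact (IsScalarTower.toAlgHom R ((K₁ ⊗[R] K₂) ⧸ m) _).comp
      ((Ideal.Quotient.mkₐ R m).comp Algebra.TensorProduct.includeRight)

end CommonExt

section BaseChange
variable {R : Type u} [CommRing R] {K L : Type u} [Field K] [Field L] [Algebra R K] [Algebra R L]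

theorem faithfullyFlat (j : K →ₐ[R] L) : (CommRingCat.ofHom j.toRingHom).hom.FaithfullyFlat := by
  show j.toRingHom.FaithfullyFlat
  unfold RingHom.FaithfullyFlat
  letI : Algebra K L := j.toRingHom.toAlgebra
  infer_instance

/-- base change of `T → Spec K` along a field extension `K → L`, with an epimorphic projection -/
theorem exists_baseChange (j : K →ₐ[R] L) (T : Over (Spec (CommRingCat.of R)))
    (h : T ⟶ sp R K) :
    ∃ (T' : Over (Spec (CommRingCat.of R))) (p : T' ⟶ T) (h' : T' ⟶ sp R L),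
      p ≫ h = h' ≫ pt j ∧ Epi p.left := by
  have hff := (flat_and_surjective_SpecMap_iff (CommRingCat.ofHom j.toRingHom)).mpr
    (faithfullyFlat j)
  haveI : Flat (pt j).left := hff.1
  haveI : Surjective (pt j).left := hff.2
  have hjS : (pt j).left ≫ (sp R K).hom = (sp R L).hom := Over.w (pt j)
  have hw : pullback.snd h.left (pt j).left ≫ (sp R L).hom =
      pullback.fst h.left (pt j).left ≫ T.hom :=
    calc pullback.snd h.left (pt j).left ≫ (sp R L).hom
        = pullback.snd h.left (pt j).left ≫ ((pt j).left ≫ (sp R K).hom) := by rw [hjS]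
      _ = (pullback.snd h.left (pt j).left ≫ (pt j).left) ≫ (sp R K).hom :=
          (Category.assoc _ _ _).symm
      _ = (pullback.fst h.left (pt j).left ≫ h.left) ≫ (sp R K).hom := by
          rw [pullback.condition]
      _ = pullback.fst h.left (pt j).left ≫ (h.left ≫ (sp R K).hom) := Category.assoc _ _ _
      _ = pullback.fst h.left (pt j).left ≫ T.hom := by rw [Over.w h]
  let T' : Over (Spec (CommRingCat.of R)) := Over.mk (pullback.fst h.left (pt j).left ≫ T.hom)
  let p : T' ⟶ T := Over.homMk (pullback.fst h.left (pt j).left) rfl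
  let h' : T' ⟶ sp R L := Over.homMk (pullback.snd h.left (pt j).left) hw
  refine ⟨T', p, h', ?_, ?_⟩
  · ext
    exact pullback.condition
  · show Epi (pullback.fst h.left (pt j).left)
    exact Flat.epi_of_flat_of_surjective _

end BaseChange

end Groth.Agent.Lib.Helper81.CoactFibre
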