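import Mathlib
import Groth.Prelude.Def_Magnet4
import Groth.Agent.Lib.Helper5.AMonPts
import Groth.Agent.Lib.Helper18.MonPts
import Groth.Agent.Lib.Helper18.AffLine.Defs
import Groth.Agent.Lib.Helper18.AffLine.Diag

set_option autoImplicit false
universe u
open CategoryTheory CategoryTheory.Limits MonoidalCategory CartesianMonoidalCategory MonObj
  AlgebraicGeometry Opposite
open Magnet Groth.Agent.Lib.Helper18.AffLine

namespace Groth.Agent.Lib.Helper81.ALBC

theorem isPullback_snd_fst_left {S : Scheme.{u}} (T₀ Y : Over S) :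
    IsPullback (snd T₀ Y).left (fst T₀ Y).left Y.hom T₀.hom :=
  (IsPullback.of_hasPullback T₀.hom Y.hom).flip

theorem isPullback_whiskerLeft_left {S : Scheme.{u}} (T₀ : Over S) {X Y : Over S} (f : X ⟶ Y) :
    IsPullback (T₀ ◁ f).left (snd T₀ X).left (snd T₀ Y).left f.left := by
  have hY := isPullback_snd_fst_left T₀ Y
  have hX := isPullback_snd_fst_left T₀ X
  have hX' : IsPullback (snd T₀ X).left ((T₀ ◁ f).left ≫ (fst T₀ Y).left) (f.left ≫ Y.hom)
      T₀.hom := by
    have e1 : (T₀ ◁ f).left ≫ (fst T₀ Y).left = (fst T₀ X).left := by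
      rw [← Over.comp_left, whiskerLeft_fst]
    rw [e1, Over.w f]
    exact hX
  have := IsPullback.of_right hX'.flip
    (by rw [← Over.comp_left, ← Over.comp_left, whiskerLeft_snd]) hY.flip
  exact this

end Groth.Agent.Lib.Helper81.ALBC
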