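import Mathlib
import Groth.Prelude.Def_Magnet4
import Groth.Agent.Lib.Helper5.AMonPts
import Groth.Agent.Lib.Helper18.MonPts
import Groth.Agent.Lib.Helper18.AffLine.Defs
import Groth.Agent.Lib.Helper18.AffLine.Diag
import Groth.Agent.Lib.Helper81.ALBC

set_option autoImplicit false
universe u
open CategoryTheory CategoryTheory.Limits MonoidalCategory CartesianMonoidalCategory MonObj
  AlgebraicGeometry Opposite
open Magnet Groth.Agent.Lib.Helper18.AffLine

namespace Groth.Agent.Lib.Helper81.ALDESC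

open Groth.Agent.Lib.Helper81.ALBC

theorem etale_of_whiskerLeft {S : Scheme.{u}} {T₀ X Y : Over S} (f : X ⟶ Y) [Flat T₀.hom]
    [Surjective T₀.hom] [QuasiCompact T₀.hom] (h : Etale (T₀ ◁ f).left) : Etale f.left := by
  have h1 : Flat (snd T₀ Y).left := inferInstanceAs (Flat (pullback.snd T₀.hom Y.hom))
  have h2 : Surjective (snd T₀ Y).left :=
    inferInstanceAs (Surjective (pullback.snd T₀.hom Y.hom))
  have h3 : QuasiCompact (snd T₀ Y).left :=
    inferInstanceAs (QuasiCompact (pullback.snd T₀.hom Y.hom))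
  exact MorphismProperty.of_isPullback_of_descendsAlong (P := @Etale)
    (Q := (@Surjective ⊓ @Flat ⊓ @QuasiCompact : MorphismProperty Scheme.{u}))
    (isPullback_whiskerLeft_left T₀ f) ⟨⟨h2, h1⟩, h3⟩ h

theorem surjective_of_whiskerLeft {S : Scheme.{u}} {T₀ X Y : Over S} (f : X ⟶ Y)
    [Surjective T₀.hom] (h : Surjective (T₀ ◁ f).left) : Surjective f.left := by
  have h2 : Surjective (snd T₀ Y).left :=
    inferInstanceAs (Surjective (pullback.snd T₀.hom Y.hom))
  refine ⟨fun y => ?_⟩
  obtain ⟨y', hy'⟩ := h2.surj y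
  obtain ⟨x', hx'⟩ := h.surj y'
  refine ⟨(snd T₀ X).left x', ?_⟩
  have hw := (isPullback_whiskerLeft_left T₀ f).w
  have := congrArg (fun g => g.base x') hw
  simp only [Scheme.Hom.comp_base, TopCat.comp_app] at this
  rw [← this, hx', hy']

end Groth.Agent.Lib.Helper81.ALDESC
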