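import Mathlib
import Groth.Agent.S16572

set_option autoImplicit false
universe u
open CategoryTheory AlgebraicGeometry

namespace Groth.Agent.Lib.Helper81.AlgClosedCover

set_option backward.isDefEq.respectTransparency false in
theorem residueFieldMap_spec {R S : CommRingCat.{u}} (f : R ⟶ S) (q : PrimeSpectrum S) :
    (Spec.map f).residueFieldMap q ≫ (Scheme.Spec.residueFieldIso S q).hom =
      (Scheme.Spec.residueFieldIso R (q.comap f.hom)).hom ≫
        CommRingCat.ofHom (Ideal.ResidueField.map (q.comap f.hom).asIdeal q.asIdeal f.hom rfl) := by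
  have hepi : Epi ((Spec R).residue (q.comap f.hom)) :=
    ConcreteCategory.epi_of_surjective _ Ideal.Quotient.mk_surjective
  rw [← cancel_epi ((Spec R).residue (q.comap f.hom))]
  have h1 := Scheme.residue_residueFieldMap (Spec.map f) q
  rw [← Category.assoc]
  erw [h1]
  rw [Category.assoc, Scheme.Spec.residue_residueFieldIso_hom,
    Scheme.Spec.residue_residueFieldIso_hom_assoc, ← Scheme.localRingHom_comp_stalkIso]
  simp only [Category.assoc, Iso.inv_hom_id_assoc]
  rfl

theorem affine_piece (A : Type u) [CommRing A] (z : Spec (CommRingCat.of (S16572.TT A))) :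
    IsAlgClosed ((Spec (CommRingCat.of (S16572.TT A))).residueField z) ∧
      ((Spec.map (CommRingCat.ofHom (algebraMap A (S16572.TT A)))).residueFieldMap z).hom.IsIntegral := by
  obtain ⟨hac, hint⟩ := S16572.part2 A z.asIdeal
  constructor
  · exact IsAlgClosed.of_ringEquiv (k := z.asIdeal.ResidueField) _
      (Scheme.Spec.residueFieldIso (CommRingCat.of (S16572.TT A)) z).symm.commRingCatIsoToRingEquiv
  · have hsq := residueFieldMap_spec (CommRingCat.ofHom (algebraMap A (S16572.TT A))) z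
    have hr := (Iso.eq_comp_inv
      (Scheme.Spec.residueFieldIso (CommRingCat.of (S16572.TT A)) z)).mpr hsq
    rw [hr]
    have h1 : (Scheme.Spec.residueFieldIso (CommRingCat.of A)
        (z.comap (CommRingCat.ofHom (algebraMap A (S16572.TT A))).hom)).hom.hom.IsIntegral :=
      RingHom.isIntegral_of_surjective _ (ConcreteCategory.bijective_of_isIso _).2
    have h3 : (Scheme.Spec.residueFieldIso (CommRingCat.of (S16572.TT A)) z).inv.hom.IsIntegral :=
      RingHom.isIntegral_of_surjective _ (ConcreteCategory.bijective_of_isIso _).2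
    exact RingHom.IsIntegral.trans _ _ (RingHom.IsIntegral.trans _ _ h1 hint) h3

theorem isIntegral_of_isIso {A B : CommRingCat.{u}} (e : A ⟶ B) [IsIso e] : e.hom.IsIntegral :=
  RingHom.isIntegral_of_surjective _ (ConcreteCategory.bijective_of_isIso e).2

theorem integral_comp_openImm {Z Y X : Scheme.{u}} (a : Z ⟶ Y) (b : Y ⟶ X) [IsOpenImmersion b]
    (z : Z) (h : (a.residueFieldMap z).hom.IsIntegral) :
    ((a ≫ b).residueFieldMap z).hom.IsIntegral := by
  rw [Scheme.residueFieldMap_comp]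
  exact RingHom.IsIntegral.trans _ _ (isIntegral_of_isIso (b.residueFieldMap (a z))) h

theorem integral_of_openImm_comp {Z X' X : Scheme.{u}} (j : Z ⟶ X') [IsOpenImmersion j]
    (f : X' ⟶ X) (z : Z) (h : ((j ≫ f).residueFieldMap z).hom.IsIntegral) :
    (f.residueFieldMap (j z)).hom.IsIntegral := by
  have e : f.residueFieldMap (j z) = (j ≫ f).residueFieldMap z ≫ inv (j.residueFieldMap z) :=
    (IsIso.eq_comp_inv (j.residueFieldMap z)).mpr (Scheme.residueFieldMap_comp j f z).symm
  rw [e]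
  exact RingHom.IsIntegral.trans _ _ h (isIntegral_of_isIso (inv (j.residueFieldMap z)))

theorem main (X : Scheme.{u}) [CompactSpace X] [QuasiSeparatedSpace X] :
    ∃ (X' : Scheme.{u}) (f : X' ⟶ X), IsAffine X' ∧ QuasiCompact f ∧ Surjective f ∧
      ∀ x' : X', IsAlgClosed (X'.residueField x') ∧ (f.residueFieldMap x').hom.IsIntegral := by
  let 𝒰 := X.affineCover.finiteSubcover
  have haff : ∀ i, IsAffine (𝒰.X i) := fun i => by
    dsimp [𝒰]
    infer_instance
  let Z : 𝒰.I₀ → Scheme.{u} := fun i => Spec (CommRingCat.of (S16572.TT Γ(𝒰.X i, ⊤)))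
  let sp : ∀ i, Z i ⟶ Spec (CommRingCat.of Γ(𝒰.X i, ⊤)) := fun i =>
    Spec.map (CommRingCat.ofHom (algebraMap Γ(𝒰.X i, ⊤) (S16572.TT Γ(𝒰.X i, ⊤))))
  let oi : ∀ i, Spec (CommRingCat.of Γ(𝒰.X i, ⊤)) ⟶ X := fun i => (𝒰.X i).isoSpec.inv ≫ 𝒰.f i
  let fi : ∀ i, Z i ⟶ X := fun i => sp i ≫ oi i
  have hoi : ∀ i, IsOpenImmersion (oi i) := fun i => inferInstance
  have hfin : Finite 𝒰.I₀ := inferInstance
  have hZaff : ∀ i, IsAffine (Z i) := fun i => inferInstance
  refine ⟨∐ Z, Limits.Sigma.desc fi, inferInstance, inferInstance, ?_, ?_⟩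
  · constructor
    intro x
    obtain ⟨i, y, hy⟩ := 𝒰.exists_eq x
    have hsurj : Function.Surjective (sp i).base := S16572.surj Γ(𝒰.X i, ⊤)
    obtain ⟨z, hz⟩ := hsurj ((𝒰.X i).isoSpec.hom.base y)
    refine ⟨(Limits.Sigma.ι Z i).base z, ?_⟩
    rw [← Scheme.Hom.comp_apply, Limits.Sigma.ι_desc]
    show (oi i).base ((sp i).base z) = x
    rw [hz, ← Scheme.Hom.comp_apply, Iso.hom_inv_id_assoc]
    exact hy
  · intro x'
    obtain ⟨⟨i, z⟩, rfl⟩ := (sigmaMk Z).surjective x'
    rw [sigmaMk_mk]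
    obtain ⟨hac, hint⟩ := affine_piece Γ(𝒰.X i, ⊤) z
    constructor
    · exact IsAlgClosed.of_ringEquiv (k := (Z i).residueField z) _
        (asIso ((Limits.Sigma.ι Z i).residueFieldMap z)).symm.commRingCatIsoToRingEquiv
    · apply integral_of_openImm_comp
      rw [Limits.Sigma.ι_desc]
      exact integral_comp_openImm (sp i) (oi i) z hint

end Groth.Agent.Lib.Helper81.AlgClosedCover
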