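import Mathlib.RingTheory.Localization.Away.Basic
import Mathlib.Tactic

set_option autoImplicit false

namespace Groth.Agent.Lib.Helper81

section

variable {A B R A' B' R' : Type*} [CommRing A] [CommRing B] [CommRing R]
  [CommRing A'] [CommRing B'] [CommRing R']
  [Algebra A A'] [Algebra B B'] [Algebra R R'] (φ : A →+* B) (φ' : A' →+* B') (a : A)
  (u v : B →+* R) (u' v' : B' →+* R')
  [IsLocalization.Away a A'] [IsLocalization.Away (φ a) B'] [IsLocalization.Away (u (φ a)) R']

include a in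
theorem away_eq_mem_range
    (hcomm : ∀ x, φ' (algebraMap A A' x) = algebraMap B B' (φ x))
    (hu : ∀ x, u' (algebraMap B B' x) = algebraMap R R' (u x))
    (hv : ∀ x, v' (algebraMap B B' x) = algebraMap R R' (v x))
    (huv : ∀ x, u (φ x) = v (φ x))
    (heq : ∀ b, u b = v b → b ∈ Set.range φ)
    (s : B') (hs : u' s = v' s) : s ∈ Set.range φ' := by
  obtain ⟨n, b, hb⟩ := IsLocalization.Away.surj (φ a) s
  have h1 : algebraMap R R' (u b) = algebraMap R R' (v b) := by
    rw [← hu, ← hv, ← hb, map_mul, map_mul, map_pow, map_pow, hs, hu, hv, huv]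
  obtain ⟨m, hm⟩ := IsLocalization.Away.exists_of_eq (u (φ a)) h1
  have h4 : u ((φ a) ^ m * b) = v ((φ a) ^ m * b) := by
    rw [map_mul, map_pow, map_mul, map_pow, ← huv, hm]
  obtain ⟨c, hc⟩ := heq _ h4
  obtain ⟨w, hw'⟩ := IsLocalization.Away.algebraMap_pow_isUnit a (S := A') (n + m)
  refine ⟨algebraMap A A' c * ↑w⁻¹, ?_⟩
  have hub : IsUnit (algebraMap B B' (φ a) ^ (n + m)) :=
    IsLocalization.Away.algebraMap_pow_isUnit (φ a) (n + m)
  apply hub.mul_left_injective
  show φ' (algebraMap A A' c * ↑w⁻¹) * algebraMap B B' (φ a) ^ (n + m) =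
    s * algebraMap B B' (φ a) ^ (n + m)
  calc φ' (algebraMap A A' c * ↑w⁻¹) * algebraMap B B' (φ a) ^ (n + m)
      = φ' (algebraMap A A' c * ↑w⁻¹ * algebraMap A A' a ^ (n + m)) := by
        rw [map_mul φ' _ (algebraMap A A' a ^ _), map_pow, hcomm]
    _ = φ' (algebraMap A A' c) := by rw [← hw', mul_assoc, Units.inv_mul, mul_one]
    _ = algebraMap B B' (φ c) := hcomm c
    _ = algebraMap B B' ((φ a) ^ m * b) := by rw [hc]
    _ = s * algebraMap B B' (φ a) ^ (n + m) := by
        rw [map_mul, map_pow, ← hb, pow_add]; ring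

end

end Groth.Agent.Lib.Helper81
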