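import Mathlib
import Groth.Prelude.Def_CoactBr
import Groth.Agent.Lib.Helper81.CoactCalc

set_option autoImplicit false
set_option linter.style.haveILetI false
set_option linter.unusedSectionVars false
universe u

open CategoryTheory CategoryTheory.Limits MonoidalCategory CartesianMonoidalCategory MonObj
  AlgebraicGeometry TensorProduct WithConv
open CoactBr
open Groth.Agent.Lib.Helper81.CoactCalc

namespace Groth.Agent.Lib.Helper81.CoactAffine

section
variable {R : Type u} [CommRing R]

/-- every morphism `Spec D ⟶ Spec B` over `Spec R` is the point of an `R`-algebra map -/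
theorem pt_surjective {B D : Type u} [CommRing B] [CommRing D] [Algebra R B] [Algebra R D]
    (f : sp R D ⟶ sp R B) : ∃ z : B →ₐ[R] D, f = pt z := by
  let φ : CommRingCat.of B ⟶ CommRingCat.of D := Spec.preimage f.left
  have hφ : Spec.map φ = f.left := Spec.map_preimage f.left
  have hw : Spec.map (CommRingCat.ofHom (algebraMap R B) ≫ φ) =
      Spec.map (CommRingCat.ofHom (algebraMap R D)) := by
    rw [Spec.map_comp, hφ]
    exact Over.w f
  have hc : CommRingCat.ofHom (algebraMap R B) ≫ φ = CommRingCat.ofHom (algebraMap R D) :=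
    Spec.map_injective hw
  let z : B →ₐ[R] D :=
    { φ.hom with
      commutes' := fun r => by
        have := congrArg (fun ψ => ψ.hom r) hc
        exact this }
  refine ⟨z, ?_⟩
  apply Over.OverMorphism.ext
  show f.left = Spec.map (CommRingCat.ofHom z.toRingHom)
  rw [← hφ]
  rfl

/-- two morphisms out of `T` over `Spec R` agree when they agree on every affine open of `T` -/
theorem hom_ext_of_affine {T Z : Over (Spec (CommRingCat.of R))} (g₁ g₂ : T ⟶ Z)
    (H : ∀ (D : Type u) [CommRing D] [Algebra R D] (j : sp R D ⟶ T), IsOpenImmersion j.left →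
      j ≫ g₁ = j ≫ g₂) : g₁ = g₂ := by
  apply Over.OverMorphism.ext
  refine T.left.affineOpenCover.openCover.hom_ext _ _ (fun i => ?_)
  let 𝒰 := T.left.affineOpenCover
  let ψ : CommRingCat.of R ⟶ 𝒰.X i := Spec.preimage (𝒰.f i ≫ T.hom)
  have hψ : Spec.map ψ = 𝒰.f i ≫ T.hom := Spec.map_preimage _
  letI : Algebra R (𝒰.X i) := ψ.hom.toAlgebra
  let j : sp R (𝒰.X i) ⟶ T := Over.homMk (𝒰.f i) hψ.symm
  have hj := H (𝒰.X i) j (inferInstanceAs (IsOpenImmersion (𝒰.f i)))
  exact congrArg CommaMorphism.left hj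

end

section Action
variable {R A B : Type u} [CommRing R] [CommRing A] [HopfAlgebra R A]
  [CommRing B] [Algebra R B] [HopfRep.Comod R A B] [GLin.IsCoactAlg R A B]

theorem pt_one {D : Type u} [CommRing D] [Algebra R D] :
    pt ((1 : WithConv (A →ₐ[R] D)).ofConv) = (1 : sp R D ⟶ sp R A) :=
  (one_eq_pt (R := R) (A := A) (K := D)).symm

/-- ring-level form of "the point `g⁻¹ = pt gm` fixes the point `pt z`" -/
theorem fix_iff {D : Type u} [CommRing D] [Algebra R D] (z : B →ₐ[R] D) (gm : A →ₐ[R] D) :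
    lift (pt gm)⁻¹ (pt z) ≫ (action R A B).act = pt z ↔ actH z gm = z := by
  have e1 : lift (pt gm)⁻¹ (pt z) ≫ (action R A B).act =
      lift (pt z) ((pt gm)⁻¹)⁻¹ ≫ ract R A B := lift_action_act _ _
  have e2 : lift (pt z) ((pt gm)⁻¹)⁻¹ ≫ ract R A B = lift (pt z) (pt gm) ≫ ract R A B :=
    congrArg (fun y => lift (pt z) y ≫ ract R A B) (inv_inv (pt gm))
  have e3 : lift (pt z) (pt gm) ≫ ract R A B = pt (actH z gm) := lift_pt_ract z gm
  have e : lift (pt gm)⁻¹ (pt z) ≫ (action R A B).act = pt (actH z gm) := (e1.trans e2).trans e3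
  constructor
  · intro h
    exact pt_injective (e.symm.trans h)
  · intro h
    exact e.trans (congrArg pt h)

/-- scheme-level triviality of the stabiliser from the ring-level statement on affine opens -/
theorem eq_one_of_forall_affine {T : Over (Spec (CommRingCat.of R))} (ζ : T ⟶ sp R B)
    (g : T ⟶ sp R A) (hfix : lift g ζ ≫ (action R A B).act = ζ)
    (H : ∀ (D : Type u) [CommRing D] [Algebra R D] (j : sp R D ⟶ T) (z : B →ₐ[R] D)
      (gm : A →ₐ[R] D), IsOpenImmersion j.left → j ≫ ζ = pt z → actH z gm = z →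
        gm = (1 : WithConv (A →ₐ[R] D)).ofConv) : g = 1 := by
  apply hom_ext_of_affine
  intro D _ _ j hj
  obtain ⟨z, hz⟩ := pt_surjective (j ≫ ζ)
  obtain ⟨gm, hgm⟩ := pt_surjective (j ≫ g)⁻¹
  have hg : j ≫ g = (pt gm)⁻¹ := by rw [← hgm, inv_inv]
  have h1 : lift (j ≫ g) (j ≫ ζ) ≫ (action R A B).act = j ≫ ζ :=
    calc lift (j ≫ g) (j ≫ ζ) ≫ (action R A B).act
        = (j ≫ lift g ζ) ≫ (action R A B).act :=
          congrArg (fun y => y ≫ (action R A B).act) (comp_lift j g ζ).symm
      _ = j ≫ (lift g ζ ≫ (action R A B).act) := Category.assoc _ _ _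
      _ = j ≫ ζ := congrArg (fun y => j ≫ y) hfix
  have h2 : lift (pt gm)⁻¹ (pt z) ≫ (action R A B).act = pt z := by
    have := h1
    rw [hg, hz] at this
    exact this
  have h3 := H D j z gm hj hz ((fix_iff z gm).mp h2)
  have h4 : pt gm = (1 : sp R D ⟶ sp R A) := by rw [h3]; exact pt_one
  calc j ≫ g = (pt gm)⁻¹ := hg
    _ = (1 : sp R D ⟶ sp R A)⁻¹ := congrArg (fun y => y⁻¹) h4
    _ = 1 := inv_one
    _ = j ≫ 1 := (MonObj.comp_one j).symm

/-- ring-level form of the triviality of the inertia at a point with values in `K` -/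
theorem ring_level_of_inertia_trivial {K : Type u} [CommRing K] [Algebra R K] (x : B →ₐ[R] K)
    (hx : ∀ (T : Over (Spec (CommRingCat.of R))) (h : T ⟶ sp R K) (g : T ⟶ sp R A),
      lift g (h ≫ pt x) ≫ (action R A B).act = h ≫ pt x → g = 1)
    (D : Type u) [CommRing D] [Algebra R D] (w : K →ₐ[R] D) (gm : A →ₐ[R] D)
    (hgm : actH (w.comp x) gm = w.comp x) : gm = (1 : WithConv (A →ₐ[R] D)).ofConv := by
  have h0 : pt w ≫ pt x = pt (w.comp x) := (pt_comp x w).symm
  have h1 : lift (pt gm)⁻¹ (pt w ≫ pt x) ≫ (action R A B).act = pt w ≫ pt x := by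
    rw [h0]
    exact (fix_iff (w.comp x) gm).mpr hgm
  have h2 := hx (sp R D) (pt w) (pt gm)⁻¹ h1
  have h3 : pt gm = (1 : sp R D ⟶ sp R A) := inv_eq_one.mp h2
  exact pt_injective (h3.trans pt_one.symm)

end Action

end Groth.Agent.Lib.Helper81.CoactAffine
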