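import Mathlib
import Groth.Prelude.Def_CoactBr
import Groth.Agent.Lib.Helper81.CoactCalc

set_option autoImplicit false
set_option linter.style.haveILetI false
set_option linter.unusedSectionVars false
universe u

open CategoryTheory CategoryTheory.Limits MonoidalCategory CartesianMonoidalCategory MonObj
  AlgebraicGeometry TensorProduct
open CoactBr

namespace Groth.Agent.Lib.Helper81.CoactCover

variable {R A B : Type u} [CommRing R] [CommRing A] [HopfAlgebra R A]
  [CommRing B] [Algebra R B] [HopfRep.Comod R A B] [GLin.IsCoactAlg R A B]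

/-- if the action becomes free over a flat `Y' → Spec B^A` whose image contains the image of the
point `x`, then the inertia at `x` is trivial -/
theorem inertia_trivial_of_flat_cover {K : Type u} [Field K] [Algebra R K] (x : B →ₐ[R] K)
    (Y' : Scheme.{u}) (c : Y' ⟶ Spec (CommRingCat.of (GLin.invariants R A B))) [Flat c]
    (hy : ∃ y' : Y', c.base y' =
      (Spec.map (CommRingCat.ofHom
        (x.toRingHom.comp (GLin.invariants R A B).val.toRingHom))).base
        (IsLocalRing.closedPoint K))
    (hfree : ∀ (T : Over (Spec (CommRingCat.of R))) (ζ : T ⟶ sp R B),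
      (∃ t : T.left ⟶ Y', t ≫ c =
        ζ.left ≫ Spec.map (CommRingCat.ofHom (GLin.invariants R A B).val.toRingHom)) →
      ∀ g : T ⟶ sp R A, lift g ζ ≫ (action R A B).act = ζ → g = 1)
    (T : Over (Spec (CommRingCat.of R))) (h : T ⟶ sp R K) (g : T ⟶ sp R A)
    (hg : lift g (h ≫ pt x) ≫ (action R A B).act = h ≫ pt x) : g = 1 := by
  obtain ⟨y', hy'⟩ := hy
  let π : Spec (CommRingCat.of B) ⟶ Spec (CommRingCat.of (GLin.invariants R A B)) :=
    Spec.map (CommRingCat.ofHom (GLin.invariants R A B).val.toRingHom)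
  let f : T.left ⟶ Spec (CommRingCat.of (GLin.invariants R A B)) := (h ≫ pt x).left ≫ π
  have e0 : (pt x).left ≫ π = Spec.map (CommRingCat.ofHom
      (x.toRingHom.comp (GLin.invariants R A B).val.toRingHom)) :=
    (Spec.map_comp (CommRingCat.ofHom (GLin.invariants R A B).val.toRingHom)
      (CommRingCat.ofHom x.toRingHom)).symm
  have hf : f = h.left ≫ Spec.map (CommRingCat.ofHom
      (x.toRingHom.comp (GLin.invariants R A B).val.toRingHom)) :=
    calc f = h.left ≫ ((pt x).left ≫ π) := Category.assoc _ _ _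
      _ = h.left ≫ Spec.map (CommRingCat.ofHom
          (x.toRingHom.comp (GLin.invariants R A B).val.toRingHom)) :=
        congrArg (fun y => h.left ≫ y) e0
  haveI : Surjective (pullback.fst f c) := by
    refine ⟨fun t => ?_⟩
    have ht : f.base t = c.base y' := by
      rw [hy', hf]
      show (Spec.map (CommRingCat.ofHom
        (x.toRingHom.comp (GLin.invariants R A B).val.toRingHom))).base (h.left.base t) = _
      congr 1
      exact Subsingleton.elim (α := PrimeSpectrum K) _ _
    obtain ⟨z, hz, -⟩ := Scheme.Pullback.exists_preimage_pullback t y' ht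
    exact ⟨z, hz⟩
  haveI : Epi (pullback.fst f c) := Flat.epi_of_flat_of_surjective _
  let T' : Over (Spec (CommRingCat.of R)) := Over.mk (pullback.fst f c ≫ T.hom)
  let p : T' ⟶ T := Over.homMk (pullback.fst f c) rfl
  have hcond : pullback.snd f c ≫ c = (p ≫ (h ≫ pt x)).left ≫ π :=
    calc pullback.snd f c ≫ c = pullback.fst f c ≫ f := pullback.condition.symm
      _ = (pullback.fst f c ≫ (h ≫ pt x).left) ≫ π := (Category.assoc _ _ _).symm
  have hfix : lift (p ≫ g) (p ≫ (h ≫ pt x)) ≫ (action R A B).act = p ≫ (h ≫ pt x) :=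
    calc lift (p ≫ g) (p ≫ (h ≫ pt x)) ≫ (action R A B).act
        = (p ≫ lift g (h ≫ pt x)) ≫ (action R A B).act :=
          congrArg (fun y => y ≫ (action R A B).act) (comp_lift p g _).symm
      _ = p ≫ (lift g (h ≫ pt x) ≫ (action R A B).act) := Category.assoc _ _ _
      _ = p ≫ (h ≫ pt x) := congrArg (fun y => p ≫ y) hg
  have hpg : p ≫ g = 1 := hfree T' (p ≫ (h ≫ pt x)) ⟨pullback.snd f c, hcond⟩ (p ≫ g) hfix
  have hpg' : p ≫ g = p ≫ (1 : T ⟶ sp R A) := hpg.trans (MonObj.comp_one p).symm
  have hl : p.left ≫ g.left = p.left ≫ (1 : T ⟶ sp R A).left :=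
    congrArg CommaMorphism.left hpg'
  apply Over.OverMorphism.ext
  exact (cancel_epi (pullback.fst f c)).mp hl

end Groth.Agent.Lib.Helper81.CoactCover
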