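import Mathlib
import Groth.Prelude.Def_CoactBr
import Groth.Agent.Lib.Helper81.CoactFibre

set_option autoImplicit false
set_option linter.style.haveILetI false
set_option linter.unusedSectionVars false
universe u

open CategoryTheory CategoryTheory.Limits MonoidalCategory CartesianMonoidalCategory MonObj
  AlgebraicGeometry TensorProduct
open CoactBr
open Groth.Agent.Lib.Helper81.CoactCalc
open Groth.Agent.Lib.Helper81.CoactRG

namespace Groth.Agent.Lib.Helper81.CoactFibreC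

variable {R A B : Type u} [CommRing R] [CommRing A] [HopfAlgebra R A]
  [Module.Finite R A] [Module.Projective R A]
  [CommRing B] [Algebra R B] [HopfRep.Comod R A B] [GLin.IsCoactAlg R A B]

/-- transitivity on geometric fibres of `Spec B → Spec B^A`, without any hypothesis on `B^A` -/
theorem exists_trans' (K : Type u) [Field K] [IsAlgClosed K] [Algebra R K] (x₁ x₂ : B →ₐ[R] K)
    (hinv : ∀ c ∈ GLin.invariants R A B, x₁ c = x₂ c) :
    ∃ g : A →ₐ[R] K, actH x₂ g = x₁ := by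
  have hx : ∀ c : B, (sH R A B) c = (tH R A B) c → x₁ c = x₂ c := fun c hc => hinv c hc.symm
  obtain ⟨ρ', h1, h2⟩ := (rg R A B).kpoints K x₁.toRingHom x₂.toRingHom hx
  have h1' : ∀ b : B, ρ' (tH R A B b) = x₁ b := fun b => RingHom.congr_fun h1 b
  have h2' : ∀ b : B, ρ' (sH R A B b) = x₂ b := fun b => RingHom.congr_fun h2 b
  let ρA : B ⊗[R] A →ₐ[R] K :=
    { (ρ' : B ⊗[R] A →+* K) with
      commutes' := fun r => by
        show ρ' (algebraMap R (B ⊗[R] A) r) = algebraMap R K r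
        rw [← (sH R A B).commutes r, h2', x₂.commutes] }
  refine ⟨ρA.comp (jH R A B), ?_⟩
  have e2 : x₂ = ρA.comp (sH R A B) := AlgHom.ext fun b => (h2' b).symm
  have e1 : x₁ = ρA.comp (tH R A B) := AlgHom.ext fun b => (h1' b).symm
  rw [e2, ← comp_actH, ← tH_eq, ← e1]

theorem exists_conj' (K : Type u) [Field K] [IsAlgClosed K] [Algebra R K] (x₁ x₂ : B →ₐ[R] K)
    (hinv : ∀ c ∈ GLin.invariants R A B, x₁ c = x₂ c) :
    ∃ g : sp R K ⟶ sp R A, pt x₁ = lift g (pt x₂) ≫ (action R A B).act := by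
  obtain ⟨gK, hg⟩ := exists_trans' K x₁ x₂ hinv
  refine ⟨(pt gK)⁻¹, ?_⟩
  have e1 : lift (pt gK)⁻¹ (pt x₂) ≫ (action R A B).act =
      lift (pt x₂) ((pt gK)⁻¹)⁻¹ ≫ ract R A B := lift_action_act _ _
  have e2 : lift (pt x₂) ((pt gK)⁻¹)⁻¹ ≫ ract R A B = lift (pt x₂) (pt gK) ≫ ract R A B :=
    congrArg (fun y => lift (pt x₂) y ≫ ract R A B) (inv_inv (pt gK))
  have e3 : lift (pt x₂) (pt gK) ≫ ract R A B = pt (actH x₂ gK) := lift_pt_ract x₂ gK
  exact ((e1.trans e2).trans (e3.trans (congrArg pt hg))).symm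

/-- triviality of the inertia passes between two points which become conjugate-comparable over a
common algebraically closed extension -/
theorem inertia_trivial_of_common_ext {K₁ K₂ : Type u} [Field K₁] [Algebra R K₁] [Field K₂]
    [Algebra R K₂] (x₁ : B →ₐ[R] K₁) (x₂ : B →ₐ[R] K₂)
    (Ω : Type u) [Field Ω] [IsAlgClosed Ω] [Algebra R Ω] (j₁ : K₁ →ₐ[R] Ω) (j₂ : K₂ →ₐ[R] Ω)
    (hinv : ∀ c ∈ GLin.invariants R A B, (j₂.comp x₂) c = (j₁.comp x₁) c)
    (h₁ : ∀ (T : Over (Spec (CommRingCat.of R))) (h : T ⟶ sp R K₁) (g : T ⟶ sp R A),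
      lift g (h ≫ pt x₁) ≫ (action R A B).act = h ≫ pt x₁ → g = 1)
    (T : Over (Spec (CommRingCat.of R))) (h : T ⟶ sp R K₂) (g : T ⟶ sp R A)
    (hg : lift g (h ≫ pt x₂) ≫ (action R A B).act = h ≫ pt x₂) : g = 1 := by
  obtain ⟨T', p, h', hph, hepi⟩ := CoactFibre.exists_baseChange j₂ T h
  obtain ⟨d, hd⟩ := exists_conj' Ω (j₂.comp x₂) (j₁.comp x₁) hinv
  have e3 : h' ≫ pt (j₁.comp x₁) = (h' ≫ pt j₁) ≫ pt x₁ :=
    calc h' ≫ pt (j₁.comp x₁)
        = h' ≫ (pt j₁ ≫ pt x₁) := congrArg (fun y => h' ≫ y) (pt_comp x₁ j₁)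
      _ = (h' ≫ pt j₁) ≫ pt x₁ := (Category.assoc _ _ _).symm
  have e2 : p ≫ (h ≫ pt x₂) =
      lift (h' ≫ d) ((h' ≫ pt j₁) ≫ pt x₁) ≫ (action R A B).act :=
    calc p ≫ (h ≫ pt x₂)
        = (p ≫ h) ≫ pt x₂ := (Category.assoc _ _ _).symm
      _ = (h' ≫ pt j₂) ≫ pt x₂ := congrArg (fun y => y ≫ pt x₂) hph
      _ = h' ≫ (pt j₂ ≫ pt x₂) := Category.assoc _ _ _
      _ = h' ≫ pt (j₂.comp x₂) := congrArg (fun y => h' ≫ y) (pt_comp x₂ j₂).symm
      _ = h' ≫ (lift d (pt (j₁.comp x₁)) ≫ (action R A B).act) :=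
          congrArg (fun y => h' ≫ y) hd
      _ = (h' ≫ lift d (pt (j₁.comp x₁))) ≫ (action R A B).act := (Category.assoc _ _ _).symm
      _ = lift (h' ≫ d) (h' ≫ pt (j₁.comp x₁)) ≫ (action R A B).act :=
          congrArg (fun y => y ≫ (action R A B).act) (comp_lift h' d _)
      _ = lift (h' ≫ d) ((h' ≫ pt j₁) ≫ pt x₁) ≫ (action R A B).act :=
          congrArg (fun y => lift (h' ≫ d) y ≫ (action R A B).act) e3
  have hg' : lift (p ≫ g) (p ≫ (h ≫ pt x₂)) ≫ (action R A B).act = p ≫ (h ≫ pt x₂) :=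
    calc lift (p ≫ g) (p ≫ (h ≫ pt x₂)) ≫ (action R A B).act
        = (p ≫ lift g (h ≫ pt x₂)) ≫ (action R A B).act :=
          congrArg (fun y => y ≫ (action R A B).act) (comp_lift p g _).symm
      _ = p ≫ (lift g (h ≫ pt x₂) ≫ (action R A B).act) := Category.assoc _ _ _
      _ = p ≫ (h ≫ pt x₂) := congrArg (fun y => p ≫ y) hg
  have hfix := (congrArg (fun y => lift (p ≫ g) y ≫ (action R A B).act = y) e2).mp hg'
  have hconj := (conj_iff (R := R) (A := A) (B := B) (p ≫ g) (h' ≫ d)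
    ((h' ≫ pt j₁) ≫ pt x₁)).mp hfix
  have hone := h₁ T' (h' ≫ pt j₁) _ hconj
  have hpg : p ≫ g = 1 := by
    have h2 : (h' ≫ d)⁻¹ * (p ≫ g) * ((h' ≫ d)⁻¹)⁻¹ = 1 := by
      rw [inv_inv]
      exact hone
    exact conj_eq_one_iff.mp h2
  have hpg' : p ≫ g = p ≫ (1 : T ⟶ sp R A) := hpg.trans (MonObj.comp_one p).symm
  have hl : p.left ≫ g.left = p.left ≫ (1 : T ⟶ sp R A).left :=
    congrArg CommaMorphism.left hpg'
  have := hepi
  apply Over.OverMorphism.ext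
  exact (cancel_epi p.left).mp hl

/-- triviality of the inertia is constant along the fibres of `Spec B → Spec B^A` -/
theorem inertia_trivial_of_same_fibre {K₁ K₂ : Type u} [Field K₁] [Algebra R K₁] [Field K₂]
    [Algebra R K₂] (x₁ : B →ₐ[R] K₁) (x₂ : B →ₐ[R] K₂)
    (hq : RingHom.ker (x₁.toRingHom.comp (GLin.invariants R A B).val.toRingHom) =
      RingHom.ker (x₂.toRingHom.comp (GLin.invariants R A B).val.toRingHom))
    (h₁ : ∀ (T : Over (Spec (CommRingCat.of R))) (h : T ⟶ sp R K₁) (g : T ⟶ sp R A),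
      lift g (h ≫ pt x₁) ≫ (action R A B).act = h ≫ pt x₁ → g = 1)
    (T : Over (Spec (CommRingCat.of R))) (h : T ⟶ sp R K₂) (g : T ⟶ sp R A)
    (hg : lift g (h ≫ pt x₂) ≫ (action R A B).act = h ≫ pt x₂) : g = 1 := by
  letI a1 : Algebra (GLin.invariants R A B) K₁ :=
    (x₁.toRingHom.comp (GLin.invariants R A B).val.toRingHom).toAlgebra
  letI a2 : Algebra (GLin.invariants R A B) K₂ :=
    (x₂.toRingHom.comp (GLin.invariants R A B).val.toRingHom).toAlgebra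
  obtain ⟨Ω, _, _, aΩ, ⟨j₁⟩, ⟨j₂⟩⟩ :=
    CoactFibre.exists_common_ext (GLin.invariants R A B) K₁ K₂ hq
  letI : Algebra R Ω := (j₁.toRingHom.comp (algebraMap R K₁)).toAlgebra
  have hc1 : ∀ c : GLin.invariants R A B, j₁ (x₁ (c : B)) = algebraMap _ Ω c :=
    fun c => j₁.commutes c
  have hc2 : ∀ c : GLin.invariants R A B, j₂ (x₂ (c : B)) = algebraMap _ Ω c :=
    fun c => j₂.commutes c
  let j₁' : K₁ →ₐ[R] Ω := { j₁.toRingHom with commutes' := fun r => rfl }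
  let j₂' : K₂ →ₐ[R] Ω :=
    { j₂.toRingHom with
      commutes' := fun r => by
        show j₂ (algebraMap R K₂ r) = j₁ (algebraMap R K₁ r)
        rw [← x₂.commutes r, ← x₁.commutes r]
        have h1 := hc1 (algebraMap R (GLin.invariants R A B) r)
        have h2 := hc2 (algebraMap R (GLin.invariants R A B) r)
        exact h2.trans h1.symm }
  refine inertia_trivial_of_common_ext x₁ x₂ Ω j₁' j₂' (fun c hc => ?_) h₁ T h g hg
  show j₂ (x₂ c) = j₁ (x₁ c)
  exact (hc2 ⟨c, hc⟩).trans (hc1 ⟨c, hc⟩).symm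

end Groth.Agent.Lib.Helper81.CoactFibreC
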