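import Mathlib

set_option autoImplicit false
set_option linter.style.haveILetI false
universe u
open CategoryTheory AlgebraicGeometry TopologicalSpace

namespace Groth.Agent.Lib.Helper81.CompFibre

section Top

variable {α β : Type*} [TopologicalSpace α] [TopologicalSpace β] [PreconnectedSpace β]
  (f : α → β) (hopen : IsOpenMap f) (hclosed : IsClosedMap f) (x : β)

include hopen hclosed in
theorem exists_mem_of_isClopen (U : Set α) (hU : IsClopen U) (hne : U.Nonempty) :
    ∃ a ∈ U, f a = x := by
  have h1 : IsClopen (f '' U) := ⟨hclosed U hU.1, hopen U hU.2⟩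
  have h2 : f '' U = Set.univ := by
    rcases isClopen_iff.mp h1 with h | h
    · exact ((hne.image f).ne_empty h).elim
    · exact h
  have : x ∈ f '' U := by rw [h2]; trivial
  obtain ⟨a, ha, rfl⟩ := this
  exact ⟨a, ha, rfl⟩

include hopen hclosed in
theorem exists_connected_clopen (hfin : (f ⁻¹' {x}).Finite) (c : α) :
    ∀ (k : ℕ) (U : Set α), IsClopen U → c ∈ U → (U ∩ f ⁻¹' {x}).ncard ≤ k →
      ∃ V : Set α, IsClopen V ∧ _root_.IsPreconnected V ∧ c ∈ V := by
  intro k
  induction k using Nat.strong_induction_on with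
  | _ k ih =>
    intro U hU hcU hk
    by_cases hpre : _root_.IsPreconnected U
    · exact ⟨U, hU, hpre, hcU⟩
    · unfold _root_.IsPreconnected at hpre
      push Not at hpre
      obtain ⟨u, v, hu, hv, hsub, hnu, hnv, hdis⟩ := hpre
      have hdis' : ∀ a, a ∈ U → a ∈ u → a ∈ v → False := by
        intro a h1 h2 h3
        have : a ∈ U ∩ (u ∩ v) := ⟨h1, h2, h3⟩
        rw [hdis] at this
        exact this
      have hA : IsClopen (U ∩ u) := by
        refine ⟨?_, hU.2.inter hu⟩
        have : U ∩ u = U ∩ vᶜ := by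
          ext a
          constructor
          · rintro ⟨h1, h2⟩
            exact ⟨h1, fun h3 => hdis' a h1 h2 h3⟩
          · rintro ⟨h1, h2⟩
            rcases hsub h1 with h3 | h3
            · exact ⟨h1, h3⟩
            · exact (h2 h3).elim
        rw [this]
        exact hU.1.inter hv.isClosed_compl
      have hB : IsClopen (U ∩ v) := by
        refine ⟨?_, hU.2.inter hv⟩
        have : U ∩ v = U ∩ uᶜ := by
          ext a
          constructor
          · rintro ⟨h1, h2⟩
            exact ⟨h1, fun h3 => hdis' a h1 h3 h2⟩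
          · rintro ⟨h1, h2⟩
            rcases hsub h1 with h3 | h3
            · exact (h2 h3).elim
            · exact ⟨h1, h3⟩
        rw [this]
        exact hU.1.inter hu.isClosed_compl
      have hfinU : (U ∩ f ⁻¹' {x}).Finite := hfin.subset Set.inter_subset_right
      have key : ∀ (A B : Set α), IsClopen A → IsClopen B → A ⊆ U → B ⊆ U →
          (∀ a, a ∈ A → a ∈ B → False) → B.Nonempty → c ∈ A →
          ∃ V : Set α, IsClopen V ∧ _root_.IsPreconnected V ∧ c ∈ V := by
        intro A B hA hB hAU hBU hAB hBne hcA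
        obtain ⟨b, hbB, hbx⟩ := exists_mem_of_isClopen f hopen hclosed x B hB hBne
        have hlt : (A ∩ f ⁻¹' {x}).ncard < (U ∩ f ⁻¹' {x}).ncard := by
          apply Set.ncard_lt_ncard _ hfinU
          refine ⟨fun a ha => ⟨hAU ha.1, ha.2⟩, fun hcon => ?_⟩
          have : b ∈ A ∩ f ⁻¹' {x} := hcon ⟨hBU hbB, hbx⟩
          exact hAB b this.1 hbB
        exact ih _ (lt_of_lt_of_le hlt hk) A hA hcA le_rfl
      rcases hsub hcU with hcu | hcv
      · exact key (U ∩ u) (U ∩ v) hA hB Set.inter_subset_left Set.inter_subset_left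
          (fun a h1 h2 => hdis' a h1.1 h1.2 h2.2) hnv ⟨hcU, hcu⟩
      · exact key (U ∩ v) (U ∩ u) hB hA Set.inter_subset_left Set.inter_subset_left
          (fun a h1 h2 => hdis' a h1.1 h2.2 h1.2) hnu ⟨hcU, hcv⟩

include hopen hclosed in
theorem exists_mem_connectedComponent (hfin : (f ⁻¹' {x}).Finite) (c : α) :
    ∃ a, f a = x ∧ a ∈ connectedComponent c := by
  obtain ⟨V, hV, hpre, hcV⟩ := exists_connected_clopen f hopen hclosed x hfin c _ Set.univ
    isClopen_univ trivial le_rfl
  obtain ⟨a, haV, hax⟩ := exists_mem_of_isClopen f hopen hclosed x V hV ⟨c, hcV⟩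
  exact ⟨a, hax, hpre.subset_connectedComponent hcV haV⟩

end Top

theorem main {X X' : Scheme.{u}} [ConnectedSpace X] (f : X' ⟶ X)
    [IsFinite f] [Etale f] (x : X) (c : X') :
    ∃ x' : X', f.base x' = x ∧ x' ∈ connectedComponent c :=
  exists_mem_connectedComponent f.base f.isOpenMap f.isClosedMap x
    (f.finite_preimage_singleton x) c

end Groth.Agent.Lib.Helper81.CompFibre
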