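import Groth.Agent.Lib.Helper81.QuotDescCover

set_option autoImplicit false
universe u
open CategoryTheory CategoryTheory.Limits AlgebraicGeometry Opposite TopologicalSpace

namespace Groth.Agent.Lib.Helper81

section DescBasis

variable {S' S Z : Scheme.{u}} (g : S' ⟶ S) (h : S' ⟶ Z)

theorem local_desc' (U : S.Opens) (W : Z.Opens) (hW : IsAffineOpen W) (e : g ⁻¹ᵁ U ≤ h ⁻¹ᵁ W)
    (hinj : Function.Injective (g.app U).hom)
    (hrange : ∀ t : Γ(Z, W), (h.appLE W (g ⁻¹ᵁ U) e).hom t ∈ Set.range (g.app U).hom) :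
    ∃ u : U.toScheme ⟶ Z, (g ∣_ U) ≫ u = (g ⁻¹ᵁ U).ι ≫ h := by
  obtain ⟨ψ, hψ⟩ := exists_ringHom_lift (g.app U) hinj (h.appLE W (g ⁻¹ᵁ U) e) hrange
  refine ⟨U.toSpecΓ ≫ Spec.map ψ ≫ hW.fromSpec, ?_⟩
  rw [← Scheme.Opens.toSpecΓ_naturality_assoc, ← Spec.map_comp_assoc, hψ,
    Scheme.Opens.toSpecΓ_SpecMap_appLE_assoc, IsAffineOpen.toSpecΓ_fromSpec,
    Scheme.Hom.resLE_comp_ι]

set_option backward.isDefEq.respectTransparency false in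
theorem exists_desc_of_cover_basis (𝓑 : Set S.Opens) (h𝓑 : Opens.IsBasis 𝓑)
    (hs : Function.Surjective g.base)
    (hinj : ∀ U : S.Opens, Function.Injective (g.app U).hom)
    (hcovZ : ∀ y : S, ∃ U ∈ 𝓑, y ∈ U ∧ ∃ W : Z.Opens, IsAffineOpen W ∧ g ⁻¹ᵁ U ≤ h ⁻¹ᵁ W)
    (hrange : ∀ U ∈ 𝓑, ∀ (W : Z.Opens) (e : g ⁻¹ᵁ U ≤ h ⁻¹ᵁ W) (t : Γ(Z, W)),
      (h.appLE W (g ⁻¹ᵁ U) e).hom t ∈ Set.range (g.app U).hom) :
    ∃ h' : S ⟶ Z, g ≫ h' = h := by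
  classical
  let I := {U : S.Opens // U ∈ 𝓑 ∧ ∃ W : Z.Opens, IsAffineOpen W ∧ g ⁻¹ᵁ U ≤ h ⁻¹ᵁ W}
  have hbasis : Opens.IsBasis (Set.range fun i : I => i.1) := by
    rw [Opens.isBasis_iff_nbhd]
    intro U x hx
    obtain ⟨U₀, hU₀, hxU₀, W, hW, hUW⟩ := hcovZ x
    obtain ⟨U₁, hU₁, hxU₁, hle⟩ := Opens.isBasis_iff_nbhd.mp h𝓑
      (show x ∈ U ⊓ U₀ from ⟨hx, hxU₀⟩)
    refine ⟨U₁, ⟨⟨U₁, hU₁, W, hW, ?_⟩, rfl⟩, hxU₁, hle.trans inf_le_left⟩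
    exact ((Opens.map g.base).monotone (hle.trans inf_le_right)).trans hUW
  have hcov : IsOpenCover (fun i : I => i.1) := by
    rw [IsOpenCover, eq_top_iff]
    intro x _
    obtain ⟨_, ⟨i, rfl⟩, hxi, -⟩ := Opens.isBasis_iff_nbhd.mp hbasis (Opens.mem_top x)
    exact Opens.mem_iSup.mpr ⟨i, hxi⟩
  let 𝒰 : S.OpenCover := S.openCoverOfIsOpenCover (fun i : I => i.1) hcov
  let _ : Preorder 𝒰.I₀ := inferInstanceAs (Preorder I)
  let _ : 𝒰.LocallyDirected := .ofIsBasisOpensRange (by intros; simp [𝒰]) (by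
    have : (fun i : 𝒰.I₀ => (𝒰.f i).opensRange) = fun i : I => i.1 := by
      funext i
      exact Scheme.Opens.opensRange_ι _
    rw [this]
    exact hbasis)
  have hloc : ∀ i : I, ∃ u : i.1.toScheme ⟶ Z, (g ∣_ i.1) ≫ u = (g ⁻¹ᵁ i.1).ι ≫ h := by
    intro i
    obtain ⟨hi, W, hW, hUW⟩ := i.2
    exact local_desc' g h i.1 W hW hUW (hinj i.1) (hrange i.1 hi W hUW)
  choose u hu using hloc
  have htrans : ∀ {i j : 𝒰.I₀} (hij : i ⟶ j), 𝒰.trans hij ≫ u j = u i := by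
    intro i j hij
    have : Epi (g ∣_ i.1) := epi_morphismRestrict g hs hinj i.1
    have hle : i.1 ≤ j.1 := leOfHom hij
    have ht : 𝒰.trans hij = S.homOfLE hle := rfl
    rw [← cancel_epi (g ∣_ i.1), hu i, ht]
    have h1 : (g ∣_ i.1) ≫ S.homOfLE hle =
        S'.homOfLE ((Opens.map g.base).map (homOfLE hle)).le ≫ (g ∣_ j.1) := by
      rw [← cancel_mono j.1.ι]
      simp [morphismRestrict_ι]
    rw [reassoc_of% h1, hu j, Scheme.homOfLE_ι_assoc]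
  refine ⟨𝒰.glueMorphismsOfLocallyDirected u htrans, ?_⟩
  apply Scheme.hom_ext_of_forall
  intro x
  obtain ⟨i, hi⟩ := hcov.exists_mem (g.base x)
  refine ⟨g ⁻¹ᵁ i.1, hi, ?_⟩
  have := 𝒰.map_glueMorphismsOfLocallyDirected u htrans i
  rw [← morphismRestrict_ι_assoc, ← hu i]
  congr 1

end DescBasis

end Groth.Agent.Lib.Helper81
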