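import Groth.Agent.Lib.Helper81.IsQuotBasis
import Groth.Agent.Lib.Helper81.AwayEqualizer
import Groth.Agent.Lib.Helper81.QuotDescBasis

set_option autoImplicit false
set_option linter.style.haveILetI false
set_option linter.unusedSectionVars false
universe u
open CategoryTheory CategoryTheory.Limits AlgebraicGeometry Opposite TopologicalSpace

namespace Groth.Agent.Lib.Helper81.EqQuot

open Groth.Agent.Lib.Helper81.Quot

variable {R X Y Z : Scheme.{u}} (a b : R ⟶ X) (p : X ⟶ Y) (hab : a ≫ p = b ≫ p)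

include hab in
theorem preimage_le (U : Y.Opens) : a ⁻¹ᵁ (p ⁻¹ᵁ U) ≤ b ⁻¹ᵁ (p ⁻¹ᵁ U) := by
  rw [← Scheme.Hom.comp_preimage, ← Scheme.Hom.comp_preimage, hab]

/-- the two pullbacks of a section over `p ⁻¹ᵁ U` -/
def IsInv (U : Y.Opens) (s : Γ(X, p ⁻¹ᵁ U)) : Prop :=
  (a.app (p ⁻¹ᵁ U)).hom s = (b.appLE (p ⁻¹ᵁ U) (a ⁻¹ᵁ (p ⁻¹ᵁ U)) (preimage_le a b p hab U)).hom s

theorem isInv_app (U : Y.Opens) (t : Γ(Y, U)) : IsInv a b p hab U ((p.app U).hom t) := by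
  unfold IsInv
  rw [← CommRingCat.comp_apply, ← CommRingCat.comp_apply, Scheme.Hom.app_eq_appLE,
    Scheme.Hom.app_eq_appLE, Scheme.Hom.appLE_comp_appLE, Scheme.Hom.appLE_comp_appLE,
    appLE_congr_hom hab]

theorem isInv_appLE (ψ : X ⟶ Z) (hψ : a ≫ ψ = b ≫ ψ) (U : Y.Opens) (W : Z.Opens)
    (e : p ⁻¹ᵁ U ≤ ψ ⁻¹ᵁ W) (t : Γ(Z, W)) :
    IsInv a b p hab U ((ψ.appLE W (p ⁻¹ᵁ U) e).hom t) := by
  unfold IsInv
  rw [← CommRingCat.comp_apply, ← CommRingCat.comp_apply, Scheme.Hom.appLE_comp_appLE,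
    Scheme.Hom.app_eq_appLE, Scheme.Hom.appLE_comp_appLE, appLE_congr_hom hψ]

section BasicOpen

variable (U : Y.Opens) (hU : IsAffineOpen U) (hV : IsAffineOpen (p ⁻¹ᵁ U))
  (hVR : IsAffineOpen (a ⁻¹ᵁ (p ⁻¹ᵁ U))) (f : Γ(Y, U))

include hU hV hVR in
theorem basicOpen_mem_range
    (hrangeU : ∀ s : Γ(X, p ⁻¹ᵁ U), IsInv a b p hab U s → s ∈ Set.range (p.app U).hom)
    (s : Γ(X, p ⁻¹ᵁ (Y.basicOpen f))) (hs : IsInv a b p hab (Y.basicOpen f) s) :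
    s ∈ Set.range (p.app (Y.basicOpen f)).hom := by
  have hle : p ⁻¹ᵁ (Y.basicOpen f) ≤ p ⁻¹ᵁ U :=
    ((Opens.map p.base).map (homOfLE (Y.basicOpen_le f))).le
  have hleR : a ⁻¹ᵁ (p ⁻¹ᵁ (Y.basicOpen f)) ≤ a ⁻¹ᵁ (p ⁻¹ᵁ U) :=
    ((Opens.map a.base).map (homOfLE hle)).le
  haveI := hU.isLocalization_basicOpen f
  letI : Algebra Γ(X, p ⁻¹ᵁ U) Γ(X, p ⁻¹ᵁ (Y.basicOpen f)) :=
    (X.presheaf.map (homOfLE hle).op).hom.toAlgebra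
  haveI : IsLocalization.Away ((p.app U).hom f) Γ(X, p ⁻¹ᵁ (Y.basicOpen f)) :=
    hV.isLocalization_of_eq_basicOpen _ (homOfLE hle) (Scheme.preimage_basicOpen p f)
  letI : Algebra Γ(R, a ⁻¹ᵁ (p ⁻¹ᵁ U)) Γ(R, a ⁻¹ᵁ (p ⁻¹ᵁ (Y.basicOpen f))) :=
    (R.presheaf.map (homOfLE hleR).op).hom.toAlgebra
  haveI : IsLocalization.Away ((a.app (p ⁻¹ᵁ U)).hom ((p.app U).hom f))
      Γ(R, a ⁻¹ᵁ (p ⁻¹ᵁ (Y.basicOpen f))) :=
    hVR.isLocalization_of_eq_basicOpen _ (homOfLE hleR) (by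
      rw [Scheme.preimage_basicOpen p f, Scheme.preimage_basicOpen a])
  refine away_eq_mem_range (p.app U).hom (p.app (Y.basicOpen f)).hom f
    (a.app (p ⁻¹ᵁ U)).hom
    (b.appLE (p ⁻¹ᵁ U) (a ⁻¹ᵁ (p ⁻¹ᵁ U)) (preimage_le a b p hab U)).hom
    (a.app (p ⁻¹ᵁ (Y.basicOpen f))).hom
    (b.appLE (p ⁻¹ᵁ (Y.basicOpen f)) (a ⁻¹ᵁ (p ⁻¹ᵁ (Y.basicOpen f)))
      (preimage_le a b p hab (Y.basicOpen f))).hom
    ?_ ?_ ?_ ?_ hrangeU s hs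
  · intro x
    exact app_map_apply p U (Y.basicOpen f) (Y.basicOpen_le f) x
  · intro x
    exact app_map_apply a (p ⁻¹ᵁ U) (p ⁻¹ᵁ (Y.basicOpen f)) hle x
  · intro x
    show (b.appLE _ _ _).hom ((X.presheaf.map (homOfLE hle).op).hom x) =
      (R.presheaf.map (homOfLE hleR).op).hom ((b.appLE _ _ _).hom x)
    rw [← CommRingCat.comp_apply, ← CommRingCat.comp_apply, Scheme.Hom.appLE_map,
      Scheme.Hom.map_appLE]
  · intro x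
    exact isInv_app a b p hab U x

end BasicOpen

section Top

variable [IsAffine R] [IsAffine X] [IsAffine Y]

include hab in
theorem existsUnique_desc (hs : Function.Surjective p.base)
    (hinjT : Function.Injective (p.app ⊤).hom)
    (hrangeT : ∀ s : Γ(X, p ⁻¹ᵁ ⊤), IsInv a b p hab ⊤ s → s ∈ Set.range (p.app ⊤).hom)
    (ψ : X ⟶ Z) (hψ : a ≫ ψ = b ≫ ψ)
    (hcovZ : ∀ y : Y, ∃ f : Γ(Y, ⊤), y ∈ Y.basicOpen f ∧
      ∃ W : Z.Opens, IsAffineOpen W ∧ p ⁻¹ᵁ (Y.basicOpen f) ≤ ψ ⁻¹ᵁ W) :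
    ∃! χ : Y ⟶ Z, p ≫ χ = ψ := by
  have hbasis := isBasis_basicOpen Y
  have hV : IsAffineOpen (p ⁻¹ᵁ ⊤) := isAffineOpen_top X
  have hVR : IsAffineOpen (a ⁻¹ᵁ (p ⁻¹ᵁ ⊤)) := isAffineOpen_top R
  have hinjB : ∀ U ∈ Set.range (Y.basicOpen : Γ(Y, ⊤) → Y.Opens),
      Function.Injective (p.app U).hom := by
    rintro _ ⟨f, rfl⟩
    exact basicOpen_injective p ⊤ (isAffineOpen_top Y) hV f hinjT
  have hinj := injective_of_basis p _ hbasis hinjB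
  have hex : ∃ χ : Y ⟶ Z, p ≫ χ = ψ := by
    refine exists_desc_of_cover_basis p ψ _ hbasis hs hinj ?_ ?_
    · intro y
      obtain ⟨f, hy, W, hW, hle⟩ := hcovZ y
      exact ⟨_, ⟨f, rfl⟩, hy, W, hW, hle⟩
    · rintro _ ⟨f, rfl⟩ W e t
      exact basicOpen_mem_range a b p hab ⊤ (isAffineOpen_top Y) hV hVR f hrangeT _
        (isInv_appLE a b p hab ψ hψ _ W e t)
  obtain ⟨χ, hχ⟩ := hex
  refine ⟨χ, hχ, fun χ' hχ' => ?_⟩
  have : Epi p := epi_of_surjective_of_app_injective p hs hinj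
  rw [← cancel_epi p, hχ, hχ']

end Top

end Groth.Agent.Lib.Helper81.EqQuot
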