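import Groth.Agent.Lib.Helper81.EtDescent
import Mathlib.AlgebraicGeometry.Morphisms.QuasiFinite
import Mathlib.RingTheory.Unramified.LocalStructure

set_option autoImplicit false
set_option linter.style.haveILetI false
universe u
open CategoryTheory CategoryTheory.Limits AlgebraicGeometry Opposite TopologicalSpace

namespace Groth.Agent.Lib.Helper81.EtRigid

open Groth.Agent.Lib.Helper81

def GeomConn {X' X : Scheme.{u}} (π : X' ⟶ X) : Prop :=
  ∀ (K : Type u) [Field K] [IsAlgClosed K] (ξ : Spec (CommRingCat.of K) ⟶ X),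
    ConnectedSpace ↑(pullback π ξ)

theorem connectedSpace_of_iso {A B : Scheme.{u}} (e : A ≅ B) [ConnectedSpace A] :
    ConnectedSpace B :=
  (e.hom.homeomorph).surjective.connectedSpace (e.hom.homeomorph).continuous

theorem locallyQuasiFinite_of_unramified {X Y : Scheme.{u}} (g : X ⟶ Y)
    [LocallyOfFiniteType g] [FormallyUnramified g] : LocallyQuasiFinite g := by
  have h1' := (HasRingHomProperty.iff_appLE (P := @LocallyOfFiniteType)).mp ‹_›
  have h2' := (HasRingHomProperty.iff_appLE (P := @FormallyUnramified)).mp ‹_›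
  refine (HasRingHomProperty.iff_appLE (P := @LocallyQuasiFinite)).mpr fun U V e => ?_
  have a1 := h1' U V e
  have a2 := h2' U V e
  algebraize [(g.appLE U V e).hom]
  change Algebra.QuasiFinite _ _
  infer_instance

theorem geomConn_fst {X S' S : Scheme.{u}} (f : X ⟶ S) (g : S' ⟶ S) (h : GeomConn g) :
    GeomConn (pullback.fst f g) := by
  intro K _ _ ξ
  haveI := h K (ξ ≫ f)
  haveI : ConnectedSpace ↑(pullback (ξ ≫ f) g) :=
    connectedSpace_of_iso (pullbackSymmetry g (ξ ≫ f))
  haveI : ConnectedSpace ↑(pullback ξ (pullback.fst f g)) :=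
    connectedSpace_of_iso (pullbackRightPullbackFstIso f g ξ).symm
  exact connectedSpace_of_iso (pullbackSymmetry ξ (pullback.fst f g))

theorem diag_comp_lift {X' X Y S : Scheme.{u}} (π : X' ⟶ X) (q : Y ⟶ S) (F : X' ⟶ Y)
    (he : (pullback.fst π π ≫ F) ≫ q = (pullback.snd π π ≫ F) ≫ q) :
    pullback.diagonal π ≫ pullback.lift (pullback.fst π π ≫ F) (pullback.snd π π ≫ F) he =
      F ≫ pullback.diagonal q := by
  apply pullback.hom_ext
  · rw [Category.assoc, pullback.lift_fst, ← Category.assoc, pullback.diagonal_fst,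
      Category.id_comp, Category.assoc, pullback.diagonal_fst, Category.comp_id]
  · rw [Category.assoc, pullback.lift_snd, ← Category.assoc, pullback.diagonal_snd,
      Category.id_comp, Category.assoc, pullback.diagonal_snd, Category.comp_id]

theorem cocycle_of_geomConn {X' X Y S : Scheme.{u}} (π : X' ⟶ X) (hπ : GeomConn π) (p : X ⟶ S)
    (q : Y ⟶ S) [IsOpenImmersion (pullback.diagonal q)] [LocallyQuasiFinite q] (F : X' ⟶ Y)
    (hF : F ≫ q = π ≫ p) :
    pullback.fst π π ≫ F = pullback.snd π π ≫ F := by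
  have he : (pullback.fst π π ≫ F) ≫ q = (pullback.snd π π ≫ F) ≫ q := by
    rw [Category.assoc, Category.assoc, hF, ← Category.assoc, ← Category.assoc, pullback.condition]
  obtain ⟨ψ, hψ⟩ : ∃ ψ : pullback π π ⟶ pullback q q,
      ψ = pullback.lift (pullback.fst π π ≫ F) (pullback.snd π π ≫ F) he := ⟨_, rfl⟩
  have hψ1 : ψ ≫ pullback.fst q q = pullback.fst π π ≫ F := by rw [hψ, pullback.lift_fst]
  have hψ2 : ψ ≫ pullback.snd q q = pullback.snd π π ≫ F := by rw [hψ, pullback.lift_snd]
  have hΔ : pullback.diagonal π ≫ ψ = F ≫ pullback.diagonal q := by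
    rw [hψ]; exact diag_comp_lift π q F he
  have hrange : Set.range ψ ⊆ Set.range (pullback.diagonal q) := by
    rintro _ ⟨w, rfl⟩
    obtain ⟨x', hx'⟩ : ∃ x', x' = pullback.fst π π w := ⟨_, rfl⟩
    obtain ⟨ξ', hξ'⟩ : ∃ ξ' : Spec (CommRingCat.of (AlgebraicClosure (X'.residueField x'))) ⟶ X',
        ξ' = Spec.map (CommRingCat.ofHom (algebraMap (X'.residueField x')
          (AlgebraicClosure (X'.residueField x')))) ≫ X'.fromSpecResidueField x' := ⟨_, rfl⟩
    obtain ⟨t⟩ : Nonempty (Spec (CommRingCat.of (AlgebraicClosure (X'.residueField x')))) :=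
      (inferInstance : Nonempty (PrimeSpectrum (AlgebraicClosure (X'.residueField x'))))
    have hsub : ∀ t' : Spec (CommRingCat.of (AlgebraicClosure (X'.residueField x'))), t' = t :=
      fun t' => Subsingleton.elim (α := PrimeSpectrum (AlgebraicClosure (X'.residueField x'))) _ _
    have hξt : ξ' t = x' := by
      rw [hξ', Scheme.Hom.comp_apply, Scheme.fromSpecResidueField_apply]
    haveI : ConnectedSpace ↑(pullback ξ' (pullback.fst π π)) := by
      haveI := hπ _ (ξ' ≫ π)
      haveI : ConnectedSpace ↑(pullback (ξ' ≫ π) π) :=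
        connectedSpace_of_iso (pullbackSymmetry π (ξ' ≫ π))
      exact connectedSpace_of_iso (pullbackRightPullbackFstIso π π ξ').symm
    obtain ⟨j, hj⟩ : ∃ j : pullback ξ' (pullback.fst π π) ⟶ pullback π π,
        j = pullback.snd ξ' (pullback.fst π π) := ⟨_, rfl⟩
    obtain ⟨φ, -, hφ⟩ := Scheme.Pullback.exists_preimage_pullback (f := ξ')
      (g := pullback.fst π π) t w (hξt.trans hx')
    obtain ⟨d, hd⟩ : ∃ d : Spec (CommRingCat.of (AlgebraicClosure (X'.residueField x'))) ⟶
        pullback ξ' (pullback.fst π π), d = pullback.lift (𝟙 _) (ξ' ≫ pullback.diagonal π)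
          (by simp) := ⟨_, rfl⟩
    have hdj : d ≫ j = ξ' ≫ pullback.diagonal π := by rw [hd, hj, pullback.lift_snd]
    obtain ⟨r, hr⟩ : ∃ r : pullback q q ⟶ S, r = pullback.fst q q ≫ q := ⟨_, rfl⟩
    haveI : LocallyQuasiFinite r := by rw [hr]; infer_instance
    have hfac : j ≫ ψ ≫ r = pullback.fst ξ' (pullback.fst π π) ≫ ξ' ≫ π ≫ p := by
      rw [hr, ← Category.assoc ψ, hψ1, Category.assoc, hF, hj, ← Category.assoc,
        ← Category.assoc, ← pullback.condition, Category.assoc, Category.assoc]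
    have hmaps : Set.MapsTo (j ≫ ψ) (Set.univ : Set ↑(pullback ξ' (pullback.fst π π)))
        (r ⁻¹' {(ξ' ≫ π ≫ p) t}) := by
      intro a _
      change r ((j ≫ ψ) a) = _
      rw [← Scheme.Hom.comp_apply, Category.assoc, hfac, Scheme.Hom.comp_apply,
        hsub (pullback.fst ξ' (pullback.fst π π) a)]
    have hconst := (isPreconnected_univ (α := ↑(pullback ξ' (pullback.fst π π)))).constant_of_mapsTo
      (r.isDiscrete_preimage_singleton ((ξ' ≫ π ≫ p) t)) (j ≫ ψ).continuous.continuousOn hmaps
      (Set.mem_univ φ) (Set.mem_univ (d t))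
    refine ⟨F (ξ' t), ?_⟩
    have hjφ : j φ = w := by rw [hj]; exact hφ
    calc pullback.diagonal q (F (ξ' t)) = (ξ' ≫ F ≫ pullback.diagonal q) t := by
          rw [Scheme.Hom.comp_apply, Scheme.Hom.comp_apply]
      _ = (d ≫ j ≫ ψ) t := by rw [← hΔ, ← Category.assoc ξ', ← hdj, Category.assoc]
      _ = (j ≫ ψ) (d t) := by rw [Scheme.Hom.comp_apply]
      _ = (j ≫ ψ) φ := hconst.symm
      _ = ψ (j φ) := by rw [Scheme.Hom.comp_apply]
      _ = ψ w := by rw [hjφ]
  have hfac := IsOpenImmersion.lift_fac (pullback.diagonal q) ψ hrange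
  calc pullback.fst π π ≫ F = ψ ≫ pullback.fst q q := hψ1.symm
    _ = (IsOpenImmersion.lift (pullback.diagonal q) ψ hrange ≫ pullback.diagonal q) ≫
        pullback.fst q q := by rw [hfac]
    _ = (IsOpenImmersion.lift (pullback.diagonal q) ψ hrange ≫ pullback.diagonal q) ≫
        pullback.snd q q := by
      rw [Category.assoc, Category.assoc, pullback.diagonal_fst, pullback.diagonal_snd]
    _ = ψ ≫ pullback.snd q q := by rw [hfac]
    _ = pullback.snd π π ≫ F := hψ2

theorem isConnected_fibre {S' S : Scheme.{u}} (g : S' ⟶ S) (hg : GeomConn g) (s : S) :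
    _root_.IsConnected (g ⁻¹' {s}) := by
  obtain ⟨ξ, hξ⟩ : ∃ ξ : Spec (CommRingCat.of (AlgebraicClosure (S.residueField s))) ⟶ S,
      ξ = Spec.map (CommRingCat.ofHom (algebraMap (S.residueField s)
        (AlgebraicClosure (S.residueField s)))) ≫ S.fromSpecResidueField s := ⟨_, rfl⟩
  obtain ⟨t⟩ : Nonempty (Spec (CommRingCat.of (AlgebraicClosure (S.residueField s)))) :=
    (inferInstance : Nonempty (PrimeSpectrum (AlgebraicClosure (S.residueField s))))
  have hξt : ∀ t' : Spec (CommRingCat.of (AlgebraicClosure (S.residueField s))), ξ t' = s := by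
    intro t'
    rw [hξ, Scheme.Hom.comp_apply, Scheme.fromSpecResidueField_apply]
  haveI := hg _ ξ
  have heq : g ⁻¹' {s} = Set.range (pullback.fst g ξ) := by
    ext a
    constructor
    · intro ha
      obtain ⟨w, hw, -⟩ := Scheme.Pullback.exists_preimage_pullback (f := g) (g := ξ) a t
        (ha.trans (hξt t).symm)
      exact ⟨w, hw⟩
    · rintro ⟨w, rfl⟩
      change g (pullback.fst g ξ w) = s
      rw [← Scheme.Hom.comp_apply, pullback.condition, Scheme.Hom.comp_apply, hξt]
  rw [heq]
  exact isConnected_range (pullback.fst g ξ).continuous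

theorem connectedSpace_of_geomConn {S' S : Scheme.{u}} (g : S' ⟶ S) (hg : GeomConn g)
    (hq : Topology.IsQuotientMap g) [ConnectedSpace S] : ConnectedSpace S' := by
  rw [connectedSpace_iff_univ]
  have := hq.isCoinducing.isConnected_preimage_of_isClosed (isConnected_fibre g hg)
    isClosed_univ isConnected_univ
  rwa [Set.preimage_univ] at this

end Groth.Agent.Lib.Helper81.EtRigid
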