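import Mathlib

set_option autoImplicit false
set_option linter.unusedSectionVars false
set_option linter.style.haveILetI false
universe v u
open CategoryTheory CategoryTheory.Limits

namespace Groth.Agent.Lib.Helper81.SubElem

variable {A : Type u} [Category.{v} A] [Abelian A] {X Y : A}

theorem le_iff (S T : Subobject X) :
    S ≤ T ↔ ∀ ⦃W : A⦄ (a : W ⟶ X), S.Factors a → T.Factors a :=
  ⟨fun h _ a ha => Subobject.factors_of_le a h ha, fun h =>
    Subobject.le_of_comm (T.factorThru S.arrow (h _ S.factors_self))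
      (Subobject.factorThru_arrow _ _ _)⟩

theorem factors_of_epi_comp (S : Subobject X) {W W' : A} (π : W' ⟶ W) [Epi π] (a : W ⟶ X)
    (h : S.Factors (π ≫ a)) : S.Factors a := by
  haveI : StrongEpi π := strongEpi_of_epi π
  have sq : CommSq (S.factorThru (π ≫ a) h) π S.arrow a := ⟨S.factorThru_arrow _ h⟩
  exact (Subobject.factors_iff _ _).mpr ⟨sq.lift, sq.fac_right⟩

theorem mk_factors {Z W : A} (f : Z ⟶ X) [Mono f] (g : W ⟶ X) :
    (Subobject.mk f).Factors g ↔ ∃ h : W ⟶ Z, h ≫ f = g := Iff.rfl

theorem pullback_factors (f : X ⟶ Y) (T : Subobject Y) {W : A} (a : W ⟶ X) :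
    ((Subobject.pullback f).obj T).Factors a ↔ T.Factors (a ≫ f) := by
  rw [Subobject.pullback_obj, mk_factors]
  constructor
  · rintro ⟨c, rfl⟩
    rw [Category.assoc, ← pullback.condition, ← Category.assoc]
    exact Subobject.factors_comp_arrow (c ≫ pullback.fst T.arrow f)
  · intro h
    exact ⟨pullback.lift (T.factorThru _ h) a (T.factorThru_arrow _ h), pullback.lift_snd _ _ _⟩

theorem image_factors (g : Y ⟶ X) {W : A} (a : W ⟶ X) :
    (imageSubobject g).Factors a ↔
      ∃ (W' : A) (π : W' ⟶ W) (_ : Epi π) (b : W' ⟶ Y), π ≫ a = b ≫ g := by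
  constructor
  · intro h
    obtain ⟨W', π, hπ, b, hb⟩ := surjective_up_to_refinements_of_epi
      (factorThruImageSubobject g) ((imageSubobject g).factorThru a h)
    refine ⟨W', π, hπ, b, ?_⟩
    rw [← (imageSubobject g).factorThru_arrow a h, ← Category.assoc, hb, Category.assoc,
      imageSubobject_arrow_comp]
  · rintro ⟨W', π, hπ, b, hb⟩
    refine factors_of_epi_comp (imageSubobject g) π a ?_
    have hbg : b ≫ g = (b ≫ factorThruImageSubobject g) ≫ (imageSubobject g).arrow := by
      rw [Category.assoc, imageSubobject_arrow_comp]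
    rw [hb, hbg]
    exact Subobject.factors_comp_arrow (b ≫ factorThruImageSubobject g)

theorem sup_factors (S T : Subobject X) {W : A} (a : W ⟶ X) :
    (S ⊔ T).Factors a ↔
      ∃ (W' : A) (π : W' ⟶ W) (_ : Epi π) (s t : W' ⟶ X),
        S.Factors s ∧ T.Factors t ∧ π ≫ a = s + t := by
  constructor
  · intro h
    have hle : S ⊔ T ≤ imageSubobject (biprod.desc S.arrow T.arrow) := by
      apply sup_le
      · exact Subobject.le_of_comm (biprod.inl ≫ factorThruImageSubobject _) (by simp)
      · exact Subobject.le_of_comm (biprod.inr ≫ factorThruImageSubobject _) (by simp)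
    obtain ⟨W', π, hπ, b, hb⟩ := (image_factors _ a).mp (Subobject.factors_of_le a hle h)
    refine ⟨W', π, hπ, (b ≫ biprod.fst) ≫ S.arrow, (b ≫ biprod.snd) ≫ T.arrow,
      Subobject.factors_comp_arrow (b ≫ biprod.fst), Subobject.factors_comp_arrow (b ≫ biprod.snd), ?_⟩
    rw [hb, biprod.desc_eq, Preadditive.comp_add]
    simp only [Category.assoc]
  · rintro ⟨W', π, hπ, s, t, hs, ht, hst⟩
    refine factors_of_epi_comp (S ⊔ T) π a ?_
    rw [hst]
    exact Subobject.factors_add _ _ (Subobject.factors_of_le s le_sup_left hs)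
      (Subobject.factors_of_le t le_sup_right ht)

theorem factors_sub (S : Subobject X) {W : A} (f g : W ⟶ X) (hf : S.Factors f)
    (hg : S.Factors g) : S.Factors (f - g) :=
  (Subobject.factors_iff _ _).mpr ⟨S.factorThru f hf - S.factorThru g hg, by simp⟩

end Groth.Agent.Lib.Helper81.SubElem
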