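import Mathlib
import Groth.Prelude.Def_SpSeq
import Groth.Agent.Lib.Helper81.SubElem

set_option autoImplicit false
set_option linter.unusedSectionVars false
universe v u
open CategoryTheory CategoryTheory.Limits

namespace Groth.Agent.Lib.Helper81.FilObjPushout

open Groth.Agent.Lib.Helper81.SubElem SpSeq

variable {A : Type u} [Category.{v} A] [Abelian A]

theorem compat_factors {K L : FilObj A} (f : K ⟶ L) (p : ℤ) {W : A} (a : W ⟶ K.obj)
    (ha : (K.fil p).Factors a) : (L.fil p).Factors (a ≫ f.hom) :=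
  (SubElem.pullback_factors f.hom (L.fil p) a).mp (Subobject.factors_of_le a (f.compat p) ha)

theorem image_le {K L : FilObj A} (f : K ⟶ L) (p : ℤ) :
    imageSubobject ((K.fil p).arrow ≫ f.hom) ≤ imageSubobject f.hom ⊓ L.fil p := by
  apply le_inf
  · exact imageSubobject_comp_le _ _
  · rw [le_iff]
    intro W a ha
    obtain ⟨W', π, hπ, b, hb⟩ := (image_factors _ a).mp ha
    apply factors_of_epi_comp (L.fil p) π a
    rw [hb, ← Category.assoc]
    exact compat_factors f p _ (Subobject.factors_comp_arrow b)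

theorem isStrict_of_le {K L : FilObj A} (f : K ⟶ L)
    (h : ∀ p : ℤ, imageSubobject f.hom ⊓ L.fil p ≤ imageSubobject ((K.fil p).arrow ≫ f.hom)) :
    FilObj.IsStrict f := fun p => le_antisymm (image_le f p) (h p)

theorem comp_hom {K L M : FilObj A} (f : K ⟶ L) (g : L ⟶ M) : (f ≫ g).hom = f.hom ≫ g.hom := rfl

theorem id_hom (K : FilObj A) : (𝟙 K : K ⟶ K).hom = 𝟙 K.obj := rfl

theorem isStrict_comp_iso {M P₀ P : FilObj A} (h₀ : M ⟶ P₀) (e : P₀ ≅ P)
    (hs : FilObj.IsStrict h₀) : FilObj.IsStrict (h₀ ≫ e.hom) := by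
  apply isStrict_of_le
  intro p
  rw [le_iff]
  intro W a ha
  have ha1 := Subobject.factors_of_le a inf_le_left ha
  have ha2 := Subobject.factors_of_le a inf_le_right ha
  have hinv : e.hom.hom ≫ e.inv.hom = 𝟙 _ := by
    rw [← comp_hom, e.hom_inv_id, id_hom]
  have hinv' : e.inv.hom ≫ e.hom.hom = 𝟙 _ := by
    rw [← comp_hom, e.inv_hom_id, id_hom]
  have h1 : (imageSubobject h₀.hom).Factors (a ≫ e.inv.hom) := by
    obtain ⟨W', π, hπ, b, hb⟩ := (image_factors _ a).mp ha1
    refine (image_factors _ _).mpr ⟨W', π, hπ, b, ?_⟩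
    rw [← Category.assoc, hb, comp_hom, Category.assoc, Category.assoc, hinv, Category.comp_id]
  have h2 : (P₀.fil p).Factors (a ≫ e.inv.hom) := compat_factors e.inv p a ha2
  have h3 : (imageSubobject h₀.hom ⊓ P₀.fil p).Factors (a ≫ e.inv.hom) :=
    (Subobject.inf_factors _).mpr ⟨h1, h2⟩
  rw [← hs p] at h3
  obtain ⟨W', π, hπ, b, hb⟩ := (image_factors _ _).mp h3
  refine (image_factors _ _).mpr ⟨W', π, hπ, b, ?_⟩
  have := congrArg (fun t => t ≫ e.hom.hom) hb
  simp only [Category.assoc] at this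
  rw [hinv', Category.comp_id] at this
  rw [this, comp_hom]

section Pushout

variable {K L M : FilObj A} (f : K ⟶ L) (g : K ⟶ M)

noncomputable def pFil (p : ℤ) : Subobject (pushout f.hom g.hom) :=
  imageSubobject ((L.fil p).arrow ≫ pushout.inl f.hom g.hom) ⊔
    imageSubobject ((M.fil p).arrow ≫ pushout.inr f.hom g.hom)

theorem image_mono_of_le {X Y : A} {S T : Subobject X} (h : S ≤ T) (φ : X ⟶ Y) :
    imageSubobject (S.arrow ≫ φ) ≤ imageSubobject (T.arrow ≫ φ) := by
  rw [← Subobject.ofLE_arrow h, Category.assoc]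
  exact imageSubobject_comp_le _ _

noncomputable def P₀ : FilObj A where
  obj := pushout f.hom g.hom
  fil := pFil f g
  anti := fun _ _ hpq => sup_le_sup (image_mono_of_le (L.anti hpq) _) (image_mono_of_le (M.anti hpq) _)

theorem inl_compat (p : ℤ) :
    L.fil p ≤ (Subobject.pullback (pushout.inl f.hom g.hom)).obj (pFil f g p) := by
  rw [le_iff]
  intro W a ha
  rw [SubElem.pullback_factors]
  apply Subobject.factors_of_le _ (le_sup_left)
  refine (image_factors _ _).mpr ⟨W, 𝟙 W, inferInstance, (L.fil p).factorThru a ha, ?_⟩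
  rw [Category.id_comp, ← Category.assoc, Subobject.factorThru_arrow]

theorem inr_compat (p : ℤ) :
    M.fil p ≤ (Subobject.pullback (pushout.inr f.hom g.hom)).obj (pFil f g p) := by
  rw [le_iff]
  intro W a ha
  rw [SubElem.pullback_factors]
  apply Subobject.factors_of_le _ (le_sup_right)
  refine (image_factors _ _).mpr ⟨W, 𝟙 W, inferInstance, (M.fil p).factorThru a ha, ?_⟩
  rw [Category.id_comp, ← Category.assoc, Subobject.factorThru_arrow]

noncomputable def inl₀ : L ⟶ P₀ f g where
  hom := pushout.inl f.hom g.hom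
  compat p := inl_compat f g p

noncomputable def inr₀ : M ⟶ P₀ f g where
  hom := pushout.inr f.hom g.hom
  compat p := inr_compat f g p

theorem w₀ : f ≫ inl₀ f g = g ≫ inr₀ f g :=
  FilObj.Hom.ext pushout.condition

theorem desc_compat {T : FilObj A} (a : L ⟶ T) (b : M ⟶ T)
    (w : f.hom ≫ a.hom = g.hom ≫ b.hom) (p : ℤ) :
    pFil f g p ≤ (Subobject.pullback (pushout.desc a.hom b.hom w)).obj (T.fil p) := by
  apply sup_le
  · rw [le_iff]
    intro W x hx
    rw [SubElem.pullback_factors]
    obtain ⟨W', π, hπ, y, hy⟩ := (image_factors _ x).mp hx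
    apply factors_of_epi_comp _ π
    rw [← Category.assoc, hy, Category.assoc, Category.assoc, pushout.inl_desc, ← Category.assoc]
    exact compat_factors a p _ (Subobject.factors_comp_arrow y)
  · rw [le_iff]
    intro W x hx
    rw [SubElem.pullback_factors]
    obtain ⟨W', π, hπ, y, hy⟩ := (image_factors _ x).mp hx
    apply factors_of_epi_comp _ π
    rw [← Category.assoc, hy, Category.assoc, Category.assoc, pushout.inr_desc, ← Category.assoc]
    exact compat_factors b p _ (Subobject.factors_comp_arrow y)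

noncomputable def desc₀ (s : PushoutCocone f g) : P₀ f g ⟶ s.pt where
  hom := pushout.desc s.inl.hom s.inr.hom (congrArg FilObj.Hom.hom s.condition)
  compat p := desc_compat f g s.inl s.inr (congrArg FilObj.Hom.hom s.condition) p

noncomputable def isColimit₀ : IsColimit (PushoutCocone.mk (inl₀ f g) (inr₀ f g) (w₀ f g)) :=
  PushoutCocone.IsColimit.mk _ (fun s => desc₀ f g s)
    (fun s => FilObj.Hom.ext (pushout.inl_desc _ _ _))
    (fun s => FilObj.Hom.ext (pushout.inr_desc _ _ _))
    (fun s m h₁ h₂ => FilObj.Hom.ext (by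
      apply pushout.hom_ext
      · rw [show (desc₀ f g s).hom = pushout.desc s.inl.hom s.inr.hom _ from rfl, pushout.inl_desc]
        exact congrArg FilObj.Hom.hom h₁
      · rw [show (desc₀ f g s).hom = pushout.desc s.inl.hom s.inr.hom _ from rfl, pushout.inr_desc]
        exact congrArg FilObj.Hom.hom h₂))

theorem isPushout₀ : IsPushout f g (inl₀ f g) (inr₀ f g) :=
  ⟨⟨w₀ f g⟩, ⟨isColimit₀ f g⟩⟩

theorem hasPushout : HasPushout f g := (isPushout₀ f g).hasPushout

theorem pullback_inl_le :
    (Subobject.pullback (pushout.inl f.hom g.hom)).obj (imageSubobject (pushout.inr f.hom g.hom)) ≤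
      imageSubobject f.hom := by
  rw [le_iff]
  intro W l hl
  rw [SubElem.pullback_factors] at hl
  obtain ⟨W₁, π₁, hπ₁, m, hm⟩ := (image_factors _ _).mp hl
  have hpo : IsPushout f.hom g.hom (pushout.inl f.hom g.hom) (pushout.inr f.hom g.hom) :=
    IsPushout.of_hasPushout _ _
  have hex := hpo.exact_shortComplex
  have hm' : (π₁ ≫ l) ≫ pushout.inl f.hom g.hom + (-m) ≫ pushout.inr f.hom g.hom = 0 := by
    rw [Preadditive.neg_comp, Category.assoc, hm, add_neg_cancel]
  have hz : biprod.lift (π₁ ≫ l) (-m) ≫ hpo.shortComplex.g = 0 := by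
    change biprod.lift (π₁ ≫ l) (-m) ≫ biprod.desc _ _ = 0
    rw [biprod.lift_desc]
    exact hm'
  obtain ⟨W₂, π₂, hπ₂, x₁, hx₁⟩ := hex.exact_up_to_refinements _ hz
  refine (image_factors _ _).mpr ⟨W₂, π₂ ≫ π₁, inferInstance, x₁, ?_⟩
  have := congrArg (fun t => t ≫ biprod.fst) hx₁
  change (π₂ ≫ biprod.lift (π₁ ≫ l) (-m)) ≫ biprod.fst =
    (x₁ ≫ biprod.lift f.hom (-g.hom)) ≫ biprod.fst at this
  rw [Category.assoc, Category.assoc, biprod.lift_fst, biprod.lift_fst] at this
  rw [Category.assoc]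
  exact this

theorem inf_le_pushout (hf : FilObj.IsStrict f) (p : ℤ) :
    imageSubobject (pushout.inr f.hom g.hom) ⊓ pFil f g p ≤
      imageSubobject ((M.fil p).arrow ≫ pushout.inr f.hom g.hom) := by
  rw [le_iff]
  intro W a ha
  have ha1 : (imageSubobject (pushout.inr f.hom g.hom)).Factors a :=
    Subobject.factors_of_le a inf_le_left ha
  have ha2 : (pFil f g p).Factors a := Subobject.factors_of_le a inf_le_right ha
  obtain ⟨W₁, π₁, hπ₁, s, t, hs, ht, hst⟩ := (sup_factors _ _ a).mp ha2
  have hkey : (imageSubobject ((M.fil p).arrow ≫ pushout.inr f.hom g.hom)).Factors s := by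
    have hsI : (imageSubobject (pushout.inr f.hom g.hom)).Factors s := by
      have : s = π₁ ≫ a - t := by rw [hst, add_sub_cancel_right]
      rw [this]
      apply factors_sub
      · exact Subobject.factors_of_factors_right _ ha1
      · exact Subobject.factors_of_le t (imageSubobject_comp_le _ _) ht
    obtain ⟨W₂, π₂, hπ₂, lp, hlp⟩ := (image_factors _ _).mp hs
    have h1 : (imageSubobject f.hom).Factors (lp ≫ (L.fil p).arrow) := by
      apply Subobject.factors_of_le _ (pullback_inl_le f g)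
      rw [SubElem.pullback_factors, Category.assoc, ← hlp]
      exact Subobject.factors_of_factors_right _ hsI
    have h2 : (imageSubobject f.hom ⊓ L.fil p).Factors (lp ≫ (L.fil p).arrow) :=
      (Subobject.inf_factors _).mpr ⟨h1, Subobject.factors_comp_arrow lp⟩
    rw [← hf p] at h2
    obtain ⟨W₃, π₃, hπ₃, kp, hkp⟩ := (image_factors _ _).mp h2
    apply factors_of_epi_comp _ (π₃ ≫ π₂)
    have hc := compat_factors g p _ (Subobject.factors_comp_arrow kp)
    refine (image_factors _ _).mpr ⟨W₃, 𝟙 W₃, inferInstance, (M.fil p).factorThru _ hc, ?_⟩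
    have e1 : (π₃ ≫ π₂) ≫ s = (π₃ ≫ lp ≫ (L.fil p).arrow) ≫ pushout.inl f.hom g.hom := by
      rw [Category.assoc, hlp]
      simp only [Category.assoc]
    rw [Category.id_comp, ← Category.assoc ((M.fil p).factorThru _ hc), Subobject.factorThru_arrow,
      e1, hkp]
    simp only [Category.assoc]
    rw [pushout.condition]
  apply factors_of_epi_comp _ π₁
  rw [hst]
  exact Subobject.factors_add _ _ hkey ht

theorem isStrict_inr₀ (hf : FilObj.IsStrict f) : FilObj.IsStrict (inr₀ f g) :=
  isStrict_of_le _ (fun p => inf_le_pushout f g hf p)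

theorem isStrict_of_isPushout (P : FilObj A) (g' : L ⟶ P) (f' : M ⟶ P)
    (h : IsPushout f g g' f') (hf : FilObj.IsStrict f) : FilObj.IsStrict f' := by
  let e : P₀ f g ≅ P := (isPushout₀ f g).isoIsPushout _ _ h
  have he : inr₀ f g ≫ e.hom = f' := (isPushout₀ f g).inr_isoIsPushout_hom _ _ h
  rw [← he]
  exact isStrict_comp_iso _ e (isStrict_inr₀ f g hf)

end Pushout

end Groth.Agent.Lib.Helper81.FilObjPushout
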