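import Mathlib
import Groth.Prelude.Def_SpSeq
import Groth.Agent.Lib.Helper81.SubElem
import Groth.Agent.Lib.Helper81.FilObjPushout

set_option autoImplicit false
set_option linter.unusedSectionVars false
universe v u
open CategoryTheory CategoryTheory.Limits

namespace Groth.Agent.Lib.Helper81.FilObjPullback

open Groth.Agent.Lib.Helper81.SubElem Groth.Agent.Lib.Helper81.FilObjPushout SpSeq

variable {A : Type u} [Category.{v} A] [Abelian A]

theorem isStrict_iso_comp {P P₀ M : FilObj A} (e : P ≅ P₀) (h₀ : P₀ ⟶ M)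
    (hs : FilObj.IsStrict h₀) : FilObj.IsStrict (e.hom ≫ h₀) := by
  apply isStrict_of_le
  intro p
  rw [le_iff]
  intro W a ha
  have ha1 := Subobject.factors_of_le a inf_le_left ha
  have ha2 := Subobject.factors_of_le a inf_le_right ha
  have hinv' : e.inv.hom ≫ e.hom.hom = 𝟙 _ := by
    rw [← comp_hom, e.inv_hom_id, id_hom]
  have h1 : (imageSubobject h₀.hom).Factors a := by
    rw [comp_hom] at ha1
    exact Subobject.factors_of_le a (imageSubobject_comp_le _ _) ha1
  have h3 : (imageSubobject h₀.hom ⊓ M.fil p).Factors a :=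
    (Subobject.inf_factors _).mpr ⟨h1, ha2⟩
  rw [← hs p] at h3
  obtain ⟨W', π, hπ, b, hb⟩ := (image_factors _ _).mp h3
  have hc := compat_factors e.inv p _ (Subobject.factors_comp_arrow b)
  refine (image_factors _ _).mpr ⟨W', π, hπ, (P.fil p).factorThru _ hc, ?_⟩
  rw [← Category.assoc ((P.fil p).factorThru _ hc), Subobject.factorThru_arrow, comp_hom, hb]
  simp only [Category.assoc]
  rw [← Category.assoc e.inv.hom, hinv', Category.id_comp]

section Pullback

variable {K L M : FilObj A} (f : L ⟶ K) (g : M ⟶ K)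

noncomputable def pFil (p : ℤ) : Subobject (pullback f.hom g.hom) :=
  (Subobject.pullback (pullback.fst f.hom g.hom)).obj (L.fil p) ⊓
    (Subobject.pullback (pullback.snd f.hom g.hom)).obj (M.fil p)

noncomputable def P₀ : FilObj A where
  obj := pullback f.hom g.hom
  fil := pFil f g
  anti := fun _ _ hpq => inf_le_inf ((Subobject.pullback _).monotone (L.anti hpq))
    ((Subobject.pullback _).monotone (M.anti hpq))

noncomputable def fst₀ : P₀ f g ⟶ L where
  hom := pullback.fst f.hom g.hom
  compat _ := inf_le_left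

noncomputable def snd₀ : P₀ f g ⟶ M where
  hom := pullback.snd f.hom g.hom
  compat _ := inf_le_right

theorem w₀ : fst₀ f g ≫ f = snd₀ f g ≫ g :=
  FilObj.Hom.ext pullback.condition

theorem lift_compat {T : FilObj A} (a : T ⟶ L) (b : T ⟶ M)
    (w : a.hom ≫ f.hom = b.hom ≫ g.hom) (p : ℤ) :
    T.fil p ≤ (Subobject.pullback (pullback.lift a.hom b.hom w)).obj (pFil f g p) := by
  rw [le_iff]
  intro W x hx
  rw [SubElem.pullback_factors]
  refine (Subobject.inf_factors _).mpr ⟨?_, ?_⟩
  · rw [SubElem.pullback_factors, Category.assoc, pullback.lift_fst]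
    exact compat_factors a p x hx
  · rw [SubElem.pullback_factors, Category.assoc, pullback.lift_snd]
    exact compat_factors b p x hx

noncomputable def lift₀ (s : PullbackCone f g) : s.pt ⟶ P₀ f g where
  hom := pullback.lift s.fst.hom s.snd.hom (congrArg FilObj.Hom.hom s.condition)
  compat p := lift_compat f g s.fst s.snd (congrArg FilObj.Hom.hom s.condition) p

noncomputable def isLimit₀ : IsLimit (PullbackCone.mk (fst₀ f g) (snd₀ f g) (w₀ f g)) :=
  PullbackCone.IsLimit.mk _ (fun s => lift₀ f g s)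
    (fun s => FilObj.Hom.ext (pullback.lift_fst _ _ _))
    (fun s => FilObj.Hom.ext (pullback.lift_snd _ _ _))
    (fun s m h₁ h₂ => FilObj.Hom.ext (by
      apply pullback.hom_ext
      · rw [show (lift₀ f g s).hom = pullback.lift s.fst.hom s.snd.hom _ from rfl, pullback.lift_fst]
        exact congrArg FilObj.Hom.hom h₁
      · rw [show (lift₀ f g s).hom = pullback.lift s.fst.hom s.snd.hom _ from rfl, pullback.lift_snd]
        exact congrArg FilObj.Hom.hom h₂))

theorem isPullback₀ : IsPullback (fst₀ f g) (snd₀ f g) f g :=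
  ⟨⟨w₀ f g⟩, ⟨isLimit₀ f g⟩⟩

theorem hasPullback : HasPullback f g := (isPullback₀ f g).hasPullback

theorem inf_le_pullback (hf : FilObj.IsStrict f) (p : ℤ) :
    imageSubobject (pullback.snd f.hom g.hom) ⊓ M.fil p ≤
      imageSubobject ((pFil f g p).arrow ≫ pullback.snd f.hom g.hom) := by
  rw [le_iff]
  intro W a ha
  have ha1 : (imageSubobject (pullback.snd f.hom g.hom)).Factors a :=
    Subobject.factors_of_le a inf_le_left ha
  have ha2 : (M.fil p).Factors a := Subobject.factors_of_le a inf_le_right ha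
  obtain ⟨W₁, π₁, hπ₁, x, hx⟩ := (image_factors _ _).mp ha1
  have h1 : (imageSubobject f.hom).Factors ((π₁ ≫ a) ≫ g.hom) := by
    refine (image_factors _ _).mpr ⟨W₁, 𝟙 W₁, inferInstance, x ≫ pullback.fst f.hom g.hom, ?_⟩
    rw [Category.id_comp, hx, Category.assoc, Category.assoc, pullback.condition]
  have h2 : (K.fil p).Factors ((π₁ ≫ a) ≫ g.hom) :=
    compat_factors g p _ (Subobject.factors_of_factors_right _ ha2)
  have h3 : (imageSubobject f.hom ⊓ K.fil p).Factors ((π₁ ≫ a) ≫ g.hom) :=
    (Subobject.inf_factors _).mpr ⟨h1, h2⟩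
  rw [← hf p] at h3
  obtain ⟨W₂, π₂, hπ₂, lp, hlp⟩ := (image_factors _ _).mp h3
  have hw : (lp ≫ (L.fil p).arrow) ≫ f.hom = (π₂ ≫ π₁ ≫ a) ≫ g.hom := by
    rw [Category.assoc, ← hlp]
    simp only [Category.assoc]
  have hx' : (pFil f g p).Factors (pullback.lift (lp ≫ (L.fil p).arrow) (π₂ ≫ π₁ ≫ a) hw) := by
    refine (Subobject.inf_factors _).mpr ⟨?_, ?_⟩
    · rw [SubElem.pullback_factors, pullback.lift_fst]
      exact Subobject.factors_comp_arrow lp
    · rw [SubElem.pullback_factors, pullback.lift_snd]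
      exact Subobject.factors_of_factors_right _ (Subobject.factors_of_factors_right _ ha2)
  refine (image_factors _ _).mpr ⟨W₂, π₂ ≫ π₁, inferInstance,
    (pFil f g p).factorThru _ hx', ?_⟩
  rw [← Category.assoc ((pFil f g p).factorThru _ hx'), Subobject.factorThru_arrow,
    pullback.lift_snd, Category.assoc]

theorem isStrict_snd₀ (hf : FilObj.IsStrict f) : FilObj.IsStrict (snd₀ f g) :=
  isStrict_of_le _ (fun p => inf_le_pullback f g hf p)

theorem isStrict_of_isPullback (P : FilObj A) (g' : P ⟶ L) (f' : P ⟶ M)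
    (h : IsPullback g' f' f g) (hf : FilObj.IsStrict f) : FilObj.IsStrict f' := by
  let e : P ≅ P₀ f g := h.isoIsPullback _ _ (isPullback₀ f g)
  have he : e.hom ≫ snd₀ f g = f' := h.isoIsPullback_hom_snd _ _ (isPullback₀ f g)
  rw [← he]
  exact isStrict_iso_comp e _ (isStrict_snd₀ f g hf)

end Pullback

end Groth.Agent.Lib.Helper81.FilObjPullback
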