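import Mathlib.AlgebraicGeometry.Cover.Directed
import Mathlib.AlgebraicGeometry.AffineScheme
import Mathlib.AlgebraicGeometry.Restrict
import Mathlib.Topology.Category.TopCat.EpiMono

set_option autoImplicit false
universe u
open CategoryTheory CategoryTheory.Limits AlgebraicGeometry Opposite TopologicalSpace

namespace Groth.Agent.Lib.Helper81

set_option backward.isDefEq.respectTransparency false in
theorem epi_of_surjective_of_app_injective {X Y : Scheme.{u}} (f : X ⟶ Y)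
    (hs : Function.Surjective f.base) (hi : ∀ U : Y.Opens, Function.Injective (f.app U).hom) :
    Epi f := by
  constructor
  intro Z a b hab
  have hbase : a.base = b.base := by
    have : Epi f.base := (TopCat.epi_iff_surjective _).mpr hs
    rw [← cancel_epi f.base]
    exact congr(($hab).base)
  refine Scheme.Hom.ext hbase (fun U => ?_)
  have : Mono (f.app (b ⁻¹ᵁ U)) := ConcreteCategory.mono_of_injective _ (hi _)
  rw [← cancel_mono (f.app (b ⁻¹ᵁ U))]
  rw [Category.assoc, Scheme.Hom.naturality, ← Category.assoc, ← Scheme.Hom.comp_app,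
    ← Scheme.Hom.comp_app, Scheme.Hom.congr_app hab U, Category.assoc, ← Functor.map_comp]
  have hid : ∀ (V : (X.Opens)ᵒᵖ) (i : V ⟶ V), X.presheaf.map i = 𝟙 _ := by
    intro V i
    rw [Subsingleton.elim i (𝟙 V), X.presheaf.map_id]
  exact (congrArg _ (hid _ _)).trans (Category.comp_id _)

set_option backward.isDefEq.respectTransparency false in
theorem epi_morphismRestrict {X Y : Scheme.{u}} (f : X ⟶ Y)
    (hs : Function.Surjective f.base) (hi : ∀ U : Y.Opens, Function.Injective (f.app U).hom)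
    (U : Y.Opens) : Epi (f ∣_ U) := by
  apply epi_of_surjective_of_app_injective
  · rintro ⟨y, hy⟩
    obtain ⟨x, rfl⟩ := hs y
    refine ⟨⟨x, hy⟩, Subtype.ext ?_⟩
    simp [morphismRestrict_base_coe]
  · intro V
    rw [morphismRestrict_app]
    simp only [CommRingCat.hom_comp, RingHom.coe_comp]
    exact (ConcreteCategory.bijective_of_isIso
      (X.presheaf.map (eqToHom (image_morphismRestrict_preimage f U V)).op)).injective.comp (hi _)

theorem exists_ringHom_lift {A B C : CommRingCat.{u}} (φ : A ⟶ B)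
    (hφ : Function.Injective φ.hom) (χ : C ⟶ B) (hr : ∀ t, χ.hom t ∈ Set.range φ.hom) :
    ∃ ψ : C ⟶ A, ψ ≫ φ = χ := by
  let e := RingEquiv.ofBijective φ.hom.rangeRestrict
    ⟨fun x y hxy => hφ (congrArg Subtype.val hxy), φ.hom.rangeRestrict_surjective⟩
  refine ⟨CommRingCat.ofHom (e.symm.toRingHom.comp
    (χ.hom.codRestrict φ.hom.range (fun t => by simpa using hr t))), ?_⟩
  ext t
  have : φ.hom.rangeRestrict (e.symm ((χ.hom.codRestrict φ.hom.range
      (fun t => by simpa using hr t)) t)) = _ := e.apply_symm_apply _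
  exact congrArg Subtype.val this


section Desc

variable {S' S Z : Scheme.{u}} (g : S' ⟶ S) (h : S' ⟶ Z)

theorem local_desc (hinj : ∀ U : S.Opens, Function.Injective (g.app U).hom)
    (hrange : ∀ (U : S.Opens) (W : Z.Opens) (e : g ⁻¹ᵁ U ≤ h ⁻¹ᵁ W) (t : Γ(Z, W)),
      (h.appLE W (g ⁻¹ᵁ U) e).hom t ∈ Set.range (g.app U).hom)
    (U : S.Opens) (W : Z.Opens) (hW : IsAffineOpen W) (e : g ⁻¹ᵁ U ≤ h ⁻¹ᵁ W) :
    ∃ u : U.toScheme ⟶ Z, (g ∣_ U) ≫ u = (g ⁻¹ᵁ U).ι ≫ h := by
  obtain ⟨ψ, hψ⟩ := exists_ringHom_lift (g.app U) (hinj U) (h.appLE W (g ⁻¹ᵁ U) e) (hrange U W e)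
  refine ⟨U.toSpecΓ ≫ Spec.map ψ ≫ hW.fromSpec, ?_⟩
  rw [← Scheme.Opens.toSpecΓ_naturality_assoc, ← Spec.map_comp_assoc, hψ,
    Scheme.Opens.toSpecΓ_SpecMap_appLE_assoc, IsAffineOpen.toSpecΓ_fromSpec,
    Scheme.Hom.resLE_comp_ι]

set_option backward.isDefEq.respectTransparency false in
theorem exists_desc (hq : Topology.IsQuotientMap g.base)
    (hinj : ∀ U : S.Opens, Function.Injective (g.app U).hom)
    (hfib : ∀ x x' : S', g.base x = g.base x' → h.base x = h.base x')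
    (hrange : ∀ (U : S.Opens) (W : Z.Opens) (e : g ⁻¹ᵁ U ≤ h ⁻¹ᵁ W) (t : Γ(Z, W)),
      (h.appLE W (g ⁻¹ᵁ U) e).hom t ∈ Set.range (g.app U).hom) :
    ∃ h' : S ⟶ Z, g ≫ h' = h := by
  classical
  have hq' : Topology.IsQuotientMap (g.base.hom : C(S', S)) := hq
  let bc : C(S, Z) := hq'.lift h.base.hom (fun x x' hx => hfib x x' hx)
  have hb : ∀ x, bc (g.base x) = h.base x := fun x =>
    congrFun (congrArg DFunLike.coe
      (hq'.lift_comp h.base.hom (fun x x' hx => hfib x x' hx))) x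
  let I := {U : S.Opens // ∃ W : Z.Opens, IsAffineOpen W ∧ (U : Set S) ⊆ bc ⁻¹' (W : Set Z)}
  have hbasis : Opens.IsBasis (Set.range fun i : I => i.1) := by
    rw [Opens.isBasis_iff_nbhd]
    intro U x hx
    obtain ⟨W, hW, hxW, -⟩ := Opens.isBasis_iff_nbhd.mp Z.isBasis_affineOpens
      (Opens.mem_top (bc x))
    let U' : S.Opens := U ⊓ ⟨bc ⁻¹' (W : Set Z), W.2.preimage bc.continuous⟩
    exact ⟨U', ⟨⟨U', W, hW, fun y hy => hy.2⟩, rfl⟩, ⟨hx, hxW⟩, inf_le_left⟩
  have hcov : IsOpenCover (fun i : I => i.1) := by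
    rw [IsOpenCover, eq_top_iff]
    intro x _
    obtain ⟨_, ⟨i, rfl⟩, hxi, -⟩ := Opens.isBasis_iff_nbhd.mp hbasis (Opens.mem_top x)
    exact Opens.mem_iSup.mpr ⟨i, hxi⟩
  let 𝒰 : S.OpenCover := S.openCoverOfIsOpenCover (fun i : I => i.1) hcov
  let _ : Preorder 𝒰.I₀ := inferInstanceAs (Preorder I)
  let _ : 𝒰.LocallyDirected := .ofIsBasisOpensRange (by intros; simp [𝒰]) (by
    have : (fun i : 𝒰.I₀ => (𝒰.f i).opensRange) = fun i : I => i.1 := by
      funext i
      exact Scheme.Opens.opensRange_ι _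
    rw [this]
    exact hbasis)
  have hloc : ∀ i : I, ∃ u : i.1.toScheme ⟶ Z, (g ∣_ i.1) ≫ u = (g ⁻¹ᵁ i.1).ι ≫ h := by
    intro i
    obtain ⟨W, hW, hUW⟩ := i.2
    refine local_desc g h hinj hrange i.1 W hW (fun x hx => ?_)
    show h.base x ∈ W
    rw [← hb]
    exact hUW hx
  choose u hu using hloc
  have hs : Function.Surjective g.base := hq.surjective
  have htrans : ∀ {i j : 𝒰.I₀} (hij : i ⟶ j), 𝒰.trans hij ≫ u j = u i := by
    intro i j hij
    have : Epi (g ∣_ i.1) := epi_morphismRestrict g hs hinj i.1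
    have hle : i.1 ≤ j.1 := leOfHom hij
    have ht : 𝒰.trans hij = S.homOfLE hle := rfl
    rw [← cancel_epi (g ∣_ i.1), hu i, ht]
    have h1 : (g ∣_ i.1) ≫ S.homOfLE hle =
        S'.homOfLE ((Opens.map g.base).map (homOfLE hle)).le ≫ (g ∣_ j.1) := by
      rw [← cancel_mono j.1.ι]
      simp [morphismRestrict_ι]
    rw [reassoc_of% h1, hu j, Scheme.homOfLE_ι_assoc]
  refine ⟨𝒰.glueMorphismsOfLocallyDirected u htrans, ?_⟩
  apply Scheme.hom_ext_of_forall
  intro x
  obtain ⟨i, hi⟩ := hcov.exists_mem (g.base x)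
  refine ⟨g ⁻¹ᵁ i.1, hi, ?_⟩
  have := 𝒰.map_glueMorphismsOfLocallyDirected u htrans i
  rw [← morphismRestrict_ι_assoc, ← hu i]
  congr 1

end Desc

end Groth.Agent.Lib.Helper81
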