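import Groth.Prelude.Def_SGA1
import Groth.Agent.Lib.Helper81.QuotDesc
import Mathlib.RingTheory.Invariant.Basic
import Mathlib.AlgebraicGeometry.Morphisms.Integral
import Mathlib.AlgebraicGeometry.Morphisms.UniversallyClosed
import Mathlib.AlgebraicGeometry.Properties

set_option autoImplicit false
set_option linter.style.haveILetI false
universe u
open CategoryTheory CategoryTheory.Limits AlgebraicGeometry Opposite TopologicalSpace

namespace Groth.Agent.Lib.Helper81.Quot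

variable {X Y : Scheme.{u}} {G : Type u} [Group G]

theorem appLE_congr_hom {f f' : X ⟶ Y} (h : f = f') (U : Y.Opens) (V : X.Opens)
    (e : V ≤ f ⁻¹ᵁ U) : f.appLE U V e = f'.appLE U V (h ▸ e) := by
  subst h; rfl

section Stable

variable (ρ : G →* Aut X) (V : X.Opens) (hV : ∀ g : G, V ≤ (ρ g).hom ⁻¹ᵁ V)

noncomputable def sec (g : G) : Γ(X, V) ⟶ Γ(X, V) := (ρ g).hom.appLE V V (hV g)

theorem sec_one : sec ρ V hV 1 = 𝟙 _ := by
  unfold sec
  rw [appLE_congr_hom (show (ρ 1).hom = 𝟙 X by rw [map_one]; rfl)]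
  simp only [Scheme.Hom.appLE, Scheme.Hom.id_app]
  exact X.presheaf.map_id _

theorem sec_mul (g h : G) : sec ρ V hV (g * h) = sec ρ V hV g ≫ sec ρ V hV h := by
  unfold sec
  rw [Scheme.Hom.appLE_comp_appLE]
  exact appLE_congr_hom (show (ρ (g * h)).hom = (ρ h).hom ≫ (ρ g).hom by rw [map_mul]; rfl) _ _ _

@[instance_reducible]
noncomputable def action : MulSemiringAction G Γ(X, V) where
  smul g s := (sec ρ V hV g⁻¹).hom s
  one_smul s := by
    show (sec ρ V hV 1⁻¹).hom s = s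
    rw [inv_one, sec_one]; rfl
  mul_smul g h s := by
    show (sec ρ V hV (g * h)⁻¹).hom s = (sec ρ V hV g⁻¹).hom ((sec ρ V hV h⁻¹).hom s)
    rw [mul_inv_rev, sec_mul]; rfl
  smul_zero g := map_zero _
  smul_add g := map_add _
  smul_one g := map_one _
  smul_mul g := map_mul _

theorem action_smul_def (g : G) (s : Γ(X, V)) :
    letI := action ρ V hV
    g • s = (sec ρ V hV g⁻¹).hom s := rfl

end Stable

section Quot

variable {ρ : G →* Aut X} {p : X ⟶ Y} (hp : SGA1.IsQuot ρ p)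
include hp

theorem stable (U : Y.Opens) (g : G) : p ⁻¹ᵁ U ≤ (ρ g).hom ⁻¹ᵁ (p ⁻¹ᵁ U) :=
  SGA1.preimage_le_of_inv ρ p hp.inv g U

theorem mem_range_iff (U : Y.Opens) (s : Γ(X, p ⁻¹ᵁ U)) :
    s ∈ Set.range (p.app U).hom ↔ ∀ g, (sec ρ (p ⁻¹ᵁ U) (stable hp U) g).hom s = s :=
  hp.range_iff U s

theorem isInvariant (U : Y.Opens) :
    letI := action ρ (p ⁻¹ᵁ U) (stable hp U)
    letI := (p.app U).hom.toAlgebra
    Algebra.IsInvariant Γ(Y, U) Γ(X, p ⁻¹ᵁ U) G := by
  letI := action ρ (p ⁻¹ᵁ U) (stable hp U)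
  letI := (p.app U).hom.toAlgebra
  refine ⟨fun b hb => ?_⟩
  refine (mem_range_iff hp U b).mpr (fun g => ?_)
  have := hb g⁻¹
  rwa [action_smul_def, inv_inv] at this

theorem smulCommClass (U : Y.Opens) :
    letI := action ρ (p ⁻¹ᵁ U) (stable hp U)
    letI := (p.app U).hom.toAlgebra
    SMulCommClass G Γ(Y, U) Γ(X, p ⁻¹ᵁ U) := by
  letI := action ρ (p ⁻¹ᵁ U) (stable hp U)
  letI := (p.app U).hom.toAlgebra
  refine ⟨fun g a b => ?_⟩
  rw [Algebra.smul_def, Algebra.smul_def, smul_mul']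
  congr 1
  rw [action_smul_def]
  exact (mem_range_iff hp U _).mp ⟨a, rfl⟩ g⁻¹

theorem app_isIntegral [Finite G] (U : Y.Opens) : (p.app U).hom.IsIntegral := by
  letI := action ρ (p ⁻¹ᵁ U) (stable hp U)
  letI := (p.app U).hom.toAlgebra
  haveI := isInvariant hp U
  have := Algebra.IsInvariant.isIntegral Γ(Y, U) Γ(X, p ⁻¹ᵁ U) G
  exact algebraMap_isIntegral_iff.mpr this

theorem exists_comap_sec_eq [Finite G] (U : Y.Opens) (P Q : Ideal Γ(X, p ⁻¹ᵁ U))
    [P.IsPrime] [Q.IsPrime] (h : P.comap (p.app U).hom = Q.comap (p.app U).hom) :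
    ∃ g : G, Q = P.comap (sec ρ (p ⁻¹ᵁ U) (stable hp U) g).hom := by
  letI := action ρ (p ⁻¹ᵁ U) (stable hp U)
  letI := (p.app U).hom.toAlgebra
  haveI := isInvariant hp U
  haveI := smulCommClass hp U
  obtain ⟨g, hg⟩ := Algebra.IsInvariant.exists_smul_of_under_eq Γ(Y, U) Γ(X, p ⁻¹ᵁ U) G P Q h
  refine ⟨g, ?_⟩
  rw [hg]
  ext s
  rw [Ideal.mem_pointwise_smul_iff_inv_smul_mem, action_smul_def, inv_inv]
  rfl

theorem isIntegralHom [Finite G] : IsIntegralHom p := by
  haveI := hp.affine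
  exact ⟨fun U _ => app_isIntegral hp U⟩

theorem isDominant : IsDominant p := by
  refine ⟨?_⟩
  rw [DenseRange, dense_iff_inter_open]
  intro U hU hne
  by_contra hcon
  let U' : Y.Opens := ⟨U, hU⟩
  have hbot : p ⁻¹ᵁ U' = ⊥ := by
    ext x
    simp only [Opens.coe_bot, Set.mem_empty_iff_false, iff_false]
    intro hx
    exact hcon ⟨p.base x, hx, x, rfl⟩
  haveI : Nonempty U' := hne.to_subtype
  have hnt : Nontrivial Γ(Y, U') := inferInstance
  have hsub : Subsingleton Γ(X, p ⁻¹ᵁ U') := by rw [hbot]; infer_instance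
  obtain ⟨a, b, hab⟩ := hnt
  exact hab (hp.injective U' (Subsingleton.elim _ _))

theorem surjective [Finite G] : Function.Surjective p.base := by
  haveI := isIntegralHom hp
  haveI := isDominant hp
  exact (inferInstance : Surjective p).surj

theorem isQuotientMap [Finite G] : Topology.IsQuotientMap p.base := by
  haveI := isIntegralHom hp
  exact (p.isClosedMap).isQuotientMap p.continuous (surjective hp)

theorem exists_eq_of_base_eq [Finite G] (x x' : X) (h : p.base x = p.base x') :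
    ∃ g : G, (ρ g).hom.base x = x' := by
  obtain ⟨U, hU, hxU, -⟩ := Opens.isBasis_iff_nbhd.mp Y.isBasis_affineOpens
    (Opens.mem_top (p.base x))
  haveI := hp.affine
  have hV : IsAffineOpen (p ⁻¹ᵁ U) := hU.preimage p
  have hx : x ∈ p ⁻¹ᵁ U := hxU
  have hx' : x' ∈ p ⁻¹ᵁ U := by
    show p.base x' ∈ U
    rw [← h]; exact hxU
  have e1 := IsAffineOpen.comap_primeIdealOf_appLE (f := p) U hU (p ⁻¹ᵁ U) hV le_rfl hx
  have e2 := IsAffineOpen.comap_primeIdealOf_appLE (f := p) U hU (p ⁻¹ᵁ U) hV le_rfl hx'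
  have e12 : (hV.primeIdealOf ⟨x, hx⟩).asIdeal.comap (p.app U).hom =
      (hV.primeIdealOf ⟨x', hx'⟩).asIdeal.comap (p.app U).hom := by
    have h1 := congrArg PrimeSpectrum.asIdeal e1
    have h2 := congrArg PrimeSpectrum.asIdeal e2
    rw [Scheme.Hom.appLE_eq_app] at h1 h2
    refine h1.trans (Eq.trans ?_ h2.symm)
    congr 2
    exact Subtype.ext h
  obtain ⟨g, hg⟩ := exists_comap_sec_eq hp U _ _ e12
  refine ⟨g, ?_⟩
  have e3 := IsAffineOpen.comap_primeIdealOf_appLE (f := (ρ g).hom) (p ⁻¹ᵁ U) hV (p ⁻¹ᵁ U) hV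
    (stable hp U g) hx
  have e4 : hV.primeIdealOf ⟨(ρ g).hom.base x, stable hp U g hx⟩ = hV.primeIdealOf ⟨x', hx'⟩ := by
    rw [← e3]
    exact PrimeSpectrum.ext hg.symm
  have hinj : Function.Injective hV.isoSpec.hom.base :=
    (ConcreteCategory.bijective_of_isIso hV.isoSpec.hom.base).injective
  exact congrArg Subtype.val (hinj e4)

end Quot

end Groth.Agent.Lib.Helper81.Quot
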