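import Groth.Prelude.Def_SGA1
import Groth.Agent.Lib.Helper81.IsQuot
import Groth.Agent.Lib.Helper81.GaloisAlg2
import Mathlib.AlgebraicGeometry.Morphisms.Affine
import Mathlib.AlgebraicGeometry.Morphisms.Etale
import Mathlib.AlgebraicGeometry.Morphisms.Finite
import Mathlib.AlgebraicGeometry.Morphisms.Separated
import Mathlib.AlgebraicGeometry.Morphisms.FiniteType
import Mathlib.AlgebraicGeometry.Morphisms.FormallyUnramified
import Mathlib.AlgebraicGeometry.Noetherian
import Mathlib.FieldTheory.IsAlgClosed.Basic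
import Mathlib.FieldTheory.IsAlgClosed.AlgebraicClosure
import Mathlib.AlgebraicGeometry.Limits
import Mathlib.AlgebraicGeometry.Morphisms.Flat
import Mathlib.AlgebraicGeometry.PullbackCarrier
import Mathlib.AlgebraicGeometry.ResidueField

set_option autoImplicit false
set_option linter.style.haveILetI false
universe u
open CategoryTheory CategoryTheory.Limits AlgebraicGeometry Opposite TopologicalSpace

namespace Groth.Agent.Lib.Helper81.FreeQuot

open Groth.Agent.Lib.Helper81

variable {X Y : Scheme.{u}} {G : Type u} [Group G]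

def GeomFree (ρ : G →* Aut X) : Prop :=
  ∀ (K : Type u) [Field K] [IsAlgClosed K] (ξ : Spec (CommRingCat.of K) ⟶ X) (g : G),
    ξ ≫ (ρ g).hom = ξ → g = 1

theorem rho_mul_hom (ρ : G →* Aut X) (g h : G) :
    (ρ (g * h)).hom = (ρ h).hom ≫ (ρ g).hom := by rw [map_mul]; rfl

theorem rho_one_hom (ρ : G →* Aut X) : (ρ 1).hom = 𝟙 X := by rw [map_one]; rfl

theorem rho_hom_inv (ρ : G →* Aut X) (g : G) : (ρ g).hom ≫ (ρ g⁻¹).hom = 𝟙 X := by
  rw [← rho_mul_hom, inv_mul_cancel, rho_one_hom]

theorem fromSpec_comp_rho (ρ : G →* Aut X) (V : X.Opens) (hV : IsAffineOpen V)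
    (hst : ∀ g : G, V ≤ (ρ g).hom ⁻¹ᵁ V) (g : G) :
    hV.fromSpec ≫ (ρ g).hom = Spec.map (Quot.sec ρ V hst g) ≫ hV.fromSpec :=
  (IsAffineOpen.SpecMap_appLE_fromSpec (ρ g).hom hV hV (hst g)).symm

variable {ρ : G →* Aut X} {p : X ⟶ Y} (hp : SGA1.IsQuot ρ p)
include hp

theorem free_of_geomFree (hfree : GeomFree ρ) (U : Y.Opens) (hU : IsAffineOpen U) :
    letI := Quot.action ρ (p ⁻¹ᵁ U) (Quot.stable hp U)
    Galois.Free Γ(X, p ⁻¹ᵁ U) G := by
  letI := Quot.action ρ (p ⁻¹ᵁ U) (Quot.stable hp U)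
  haveI := hp.affine
  intro g hg
  by_contra hne
  obtain ⟨M, hM, hle⟩ := Ideal.exists_le_maximal _ hne
  letI : Field (Γ(X, p ⁻¹ᵁ U) ⧸ M) := Ideal.Quotient.field M
  let K := AlgebraicClosure (Γ(X, p ⁻¹ᵁ U) ⧸ M)
  let χ : Γ(X, p ⁻¹ᵁ U) →+* K := (algebraMap _ K).comp (Ideal.Quotient.mk M)
  have hχ : ∀ b, χ (g • b) = χ b := by
    intro b
    have hmem : g • b - b ∈ M := hle (Ideal.subset_span ⟨b, rfl⟩)
    have : Ideal.Quotient.mk M (g • b) = Ideal.Quotient.mk M b := by
      rw [← sub_eq_zero, ← map_sub]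
      exact Ideal.Quotient.eq_zero_iff_mem.mpr hmem
    show algebraMap _ K (Ideal.Quotient.mk M (g • b)) = algebraMap _ K (Ideal.Quotient.mk M b)
    rw [this]
  have hV : IsAffineOpen (p ⁻¹ᵁ U) := hU.preimage p
  let ξ : Spec (CommRingCat.of K) ⟶ X := Spec.map (CommRingCat.ofHom χ) ≫ hV.fromSpec
  have hξ : ξ ≫ (ρ g⁻¹).hom = ξ := by
    simp only [ξ, Category.assoc]
    rw [fromSpec_comp_rho ρ _ hV (Quot.stable hp U), ← Spec.map_comp_assoc]
    congr 2
    ext b
    exact hχ b
  exact hg (inv_eq_one.mp (hfree K ξ g⁻¹ hξ))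

noncomputable def iota (g : G) : X ⟶ pullback p p :=
  pullback.lift (𝟙 X) (ρ g).hom ((Category.id_comp p).trans (hp.inv g).symm)

@[reassoc (attr := simp)]
theorem iota_fst (g : G) : iota hp g ≫ pullback.fst p p = 𝟙 X := pullback.lift_fst _ _ _

@[reassoc (attr := simp)]
theorem iota_snd (g : G) : iota hp g ≫ pullback.snd p p = (ρ g).hom := pullback.lift_snd _ _ _

theorem iota_eq (g : G) : iota hp g = pullback.diagonal p ≫
    pullback.map p p p p (𝟙 X) (ρ g).hom (𝟙 Y) (by simp) (by simp [hp.inv g]) := by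
  apply pullback.hom_ext
  · rw [iota_fst, Category.assoc, pullback.map, pullback.lift_fst, pullback.diagonal_fst_assoc]
  · rw [iota_snd, Category.assoc, pullback.map, pullback.lift_snd, pullback.diagonal_snd_assoc]

variable [Finite G]

theorem app_flat (hfree : GeomFree ρ) (U : Y.Opens) (hU : IsAffineOpen U) :
    (p.app U).hom.Flat := by
  letI := Quot.action ρ (p ⁻¹ᵁ U) (Quot.stable hp U)
  letI := (p.app U).hom.toAlgebra
  haveI := Quot.isInvariant hp U
  haveI := Quot.smulCommClass hp U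
  haveI : FaithfulSMul Γ(Y, U) Γ(X, p ⁻¹ᵁ U) :=
    (faithfulSMul_iff_algebraMap_injective _ _).mpr (hp.injective U)
  letI := Fintype.ofFinite G
  have hF := free_of_geomFree hp hfree U hU
  haveI := (Galois.projective_finite Γ(Y, U) hF).1
  show Module.Flat Γ(Y, U) Γ(X, p ⁻¹ᵁ U)
  infer_instance

theorem app_formallyUnramified (hfree : GeomFree ρ) (U : Y.Opens) (hU : IsAffineOpen U) :
    (p.app U).hom.FormallyUnramified := by
  letI := Quot.action ρ (p ⁻¹ᵁ U) (Quot.stable hp U)
  letI := (p.app U).hom.toAlgebra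
  haveI := Quot.isInvariant hp U
  haveI := Quot.smulCommClass hp U
  haveI : FaithfulSMul Γ(Y, U) Γ(X, p ⁻¹ᵁ U) :=
    (faithfulSMul_iff_algebraMap_injective _ _).mpr (hp.injective U)
  letI := Fintype.ofFinite G
  have hF := free_of_geomFree hp hfree U hU
  exact Galois.formallyUnramified Γ(Y, U) hF

theorem app_exists_smul (hfree : GeomFree ρ) (U : Y.Opens) (hU : IsAffineOpen U)
    {K : Type u} [Field K] (χ χ' : Γ(X, p ⁻¹ᵁ U) →+* K)
    (h : χ.comp (p.app U).hom = χ'.comp (p.app U).hom) :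
    ∃ g : G, ∀ b, χ' b = χ ((Quot.sec ρ (p ⁻¹ᵁ U) (Quot.stable hp U) g).hom b) := by
  letI := Quot.action ρ (p ⁻¹ᵁ U) (Quot.stable hp U)
  letI := (p.app U).hom.toAlgebra
  haveI := Quot.isInvariant hp U
  haveI := Quot.smulCommClass hp U
  haveI : FaithfulSMul Γ(Y, U) Γ(X, p ⁻¹ᵁ U) :=
    (faithfulSMul_iff_algebraMap_injective _ _).mpr (hp.injective U)
  letI := Fintype.ofFinite G
  have hF := free_of_geomFree hp hfree U hU
  obtain ⟨g, hg⟩ := Galois.exists_smul_of_hom Γ(Y, U) hF χ χ' h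
  refine ⟨g⁻¹, fun b => ?_⟩
  rw [hg b, Quot.action_smul_def]

theorem flat (hfree : GeomFree ρ) : Flat p := by
  haveI := hp.affine
  rw [HasRingHomProperty.iff_exists_appLE (P := @Flat)
    (RingHom.Flat.stableUnderComposition.stableUnderCompositionWithLocalizationAway
      RingHom.Flat.holdsForLocalizationAway).1]
  intro x
  obtain ⟨U, hU, hxU, -⟩ := Opens.isBasis_iff_nbhd.mp Y.isBasis_affineOpens
    (Opens.mem_top (p x))
  refine ⟨⟨U, hU⟩, ⟨p ⁻¹ᵁ U, hU.preimage p⟩, hxU, le_rfl, ?_⟩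
  rw [← Scheme.Hom.app_eq_appLE]
  exact app_flat hp hfree U hU

theorem formallyUnramified (hfree : GeomFree ρ) : FormallyUnramified p := by
  haveI := hp.affine
  rw [HasRingHomProperty.iff_exists_appLE (P := @FormallyUnramified)
    (RingHom.FormallyUnramified.stableUnderComposition.stableUnderCompositionWithLocalizationAway
      RingHom.FormallyUnramified.holdsForLocalizationAway).1]
  intro x
  obtain ⟨U, hU, hxU, -⟩ := Opens.isBasis_iff_nbhd.mp Y.isBasis_affineOpens
    (Opens.mem_top (p x))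
  refine ⟨⟨U, hU⟩, ⟨p ⁻¹ᵁ U, hU.preimage p⟩, hxU, le_rfl, ?_⟩
  rw [← Scheme.Hom.app_eq_appLE]
  exact app_formallyUnramified hp hfree U hU

theorem isOpenImmersion_iota [LocallyOfFiniteType p] (hfree : GeomFree ρ) (g : G) :
    IsOpenImmersion (iota hp g) := by
  haveI := formallyUnramified hp hfree
  rw [iota_eq]
  infer_instance

omit [Finite G] in
theorem disjoint_iota (hfree : GeomFree ρ) (g h : G) (hgh : g ≠ h) :
    Disjoint (Set.range (iota hp g)) (Set.range (iota hp h)) := by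
  rw [← Scheme.isEmpty_pullback_iff]
  by_contra hne
  rw [not_isEmpty_iff] at hne
  obtain ⟨e⟩ := hne
  let E := pullback (iota hp g) (iota hp h)
  let K := AlgebraicClosure (E.residueField e)
  let η : Spec (CommRingCat.of K) ⟶ E :=
    Spec.map (CommRingCat.ofHom (algebraMap (E.residueField e) K)) ≫ E.fromSpecResidueField e
  let a := η ≫ pullback.fst (iota hp g) (iota hp h)
  let b := η ≫ pullback.snd (iota hp g) (iota hp h)
  have hab : a ≫ iota hp g = b ≫ iota hp h := by
    simp only [a, b, Category.assoc, pullback.condition]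
  have h1 : a = b := by
    have := congrArg (· ≫ pullback.fst p p) hab
    simpa using this
  have h2 : a ≫ (ρ g).hom = b ≫ (ρ h).hom := by
    have := congrArg (· ≫ pullback.snd p p) hab
    simpa using this
  have h3 : a ≫ (ρ (h⁻¹ * g)).hom = a := by
    rw [rho_mul_hom, ← Category.assoc, h2, ← h1, Category.assoc, rho_hom_inv, Category.comp_id]
  have := hfree K a (h⁻¹ * g) h3
  exact hgh (inv_mul_eq_one.mp this).symm

theorem exists_iota_eq (hfree : GeomFree ρ) (z : ↑(pullback p p)) :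
    ∃ (g : G) (x : X), iota hp g x = z := by
  haveI := hp.affine
  let P := pullback p p
  let ζ : Spec (P.residueField z) ⟶ P := P.fromSpecResidueField z
  let ξ := ζ ≫ pullback.fst p p
  let ξ' := ζ ≫ pullback.snd p p
  have hcond : ξ ≫ p = ξ' ≫ p := by simp only [ξ, ξ', Category.assoc, pullback.condition]
  obtain ⟨U, hU, hyU, -⟩ := Opens.isBasis_iff_nbhd.mp Y.isBasis_affineOpens
    (Opens.mem_top (p (pullback.fst p p z)))
  have hV : IsAffineOpen (p ⁻¹ᵁ U) := hU.preimage p
  have hr : Set.range ξ ⊆ Set.range hV.fromSpec := by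
    rw [hV.range_fromSpec]
    rintro _ ⟨t, rfl⟩
    have : ξ t = pullback.fst p p z := by
      simp only [ξ, ζ, Scheme.Hom.comp_apply, Scheme.fromSpecResidueField_apply]
    rw [this]
    exact hyU
  have hr' : Set.range ξ' ⊆ Set.range hV.fromSpec := by
    rw [hV.range_fromSpec]
    rintro _ ⟨t, rfl⟩
    have : ξ' t = pullback.snd p p z := by
      simp only [ξ', ζ, Scheme.Hom.comp_apply, Scheme.fromSpecResidueField_apply]
    rw [this]
    have h2 : p (pullback.snd p p z) = p (pullback.fst p p z) := by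
      rw [← Scheme.Hom.comp_apply, ← Scheme.Hom.comp_apply, pullback.condition]
    show p (pullback.snd p p z) ∈ U
    rw [h2]
    exact hyU
  let l := IsOpenImmersion.lift hV.fromSpec ξ hr
  let l' := IsOpenImmersion.lift hV.fromSpec ξ' hr'
  have hl : l ≫ hV.fromSpec = ξ := IsOpenImmersion.lift_fac _ _ _
  have hl' : l' ≫ hV.fromSpec = ξ' := IsOpenImmersion.lift_fac _ _ _
  let χ : Γ(X, p ⁻¹ᵁ U) ⟶ P.residueField z := Spec.preimage l
  let χ' : Γ(X, p ⁻¹ᵁ U) ⟶ P.residueField z := Spec.preimage l'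
  have hχ : Spec.map χ = l := Spec.map_preimage l
  have hχ' : Spec.map χ' = l' := Spec.map_preimage l'
  have hAgree : p.app U ≫ χ = p.app U ≫ χ' := by
    apply Spec.map_injective
    rw [← cancel_mono hU.fromSpec, Spec.map_comp, Spec.map_comp, Category.assoc, Category.assoc]
    have := IsAffineOpen.SpecMap_appLE_fromSpec p hU hV le_rfl
    rw [← Scheme.Hom.app_eq_appLE] at this
    rw [this, hχ, hχ', ← Category.assoc, ← Category.assoc, hl, hl', hcond]
  obtain ⟨g, hg⟩ := app_exists_smul hp hfree U hU χ.hom χ'.hom (by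
    have := congrArg CommRingCat.Hom.hom hAgree
    simpa using this)
  have hχg : χ' = Quot.sec ρ (p ⁻¹ᵁ U) (Quot.stable hp U) g ≫ χ := by
    ext b
    exact hg b
  have hξ' : ξ' = ξ ≫ (ρ g).hom := by
    rw [← hl', ← hχ', hχg, Spec.map_comp, Category.assoc,
      ← fromSpec_comp_rho ρ _ hV (Quot.stable hp U), hχ, ← Category.assoc, hl]
  have hζ : ζ = ξ ≫ iota hp g := by
    apply pullback.hom_ext
    · simp [ξ]
    · simp only [Category.assoc, iota_snd]
      exact hξ'
  obtain ⟨t, ht⟩ : z ∈ Set.range ζ := by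
    rw [Scheme.range_fromSpecResidueField]; rfl
  refine ⟨g, ξ t, ?_⟩
  rw [← Scheme.Hom.comp_apply, ← hζ, ht]

theorem isIso_sigmaDesc [LocallyOfFiniteType p] (hfree : GeomFree ρ) :
    IsIso (Sigma.desc (iota hp)) := by
  haveI : ∀ g, IsOpenImmersion (iota hp g) := isOpenImmersion_iota hp hfree
  have := nonempty_isColimit_cofanMk_of (iota hp) ?_ ?_
  · rw [Cofan.nonempty_isColimit_iff_isIso_sigmaDesc] at this
    exact this
  · rw [eq_top_iff]
    intro z _
    obtain ⟨g, x, hx⟩ := exists_iota_eq hp hfree z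
    exact Opens.mem_iSup.mpr ⟨g, x, hx⟩
  · intro g h hgh
    show Disjoint (iota hp g).opensRange (iota hp h).opensRange
    rw [disjoint_iff]
    ext z
    simp only [Opens.coe_inf, Scheme.Hom.coe_opensRange, Opens.coe_bot, Set.mem_inter_iff,
      Set.mem_empty_iff_false, iff_false]
    rintro ⟨h1, h2⟩
    exact (Set.disjoint_iff.mp (disjoint_iota hp hfree g h hgh)) ⟨h1, h2⟩

section Sec

variable (s : Y ⟶ X) (hs : s ≫ p = 𝟙 Y)
include hs

omit hp [Finite G] in
theorem psiSec_aux : (p ≫ s) ≫ p = 𝟙 X ≫ p := by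
  rw [Category.assoc, hs, Category.comp_id, Category.id_comp]

noncomputable def psiSec : X ⟶ pullback p p :=
  pullback.lift (p ≫ s) (𝟙 X) (psiSec_aux s hs)

omit [Finite G] in
theorem isPullback_sec (g : G) :
    IsPullback s (s ≫ (ρ g).hom) (iota hp g) (psiSec s hs) := by
  have hcomm : s ≫ iota hp g = (s ≫ (ρ g).hom) ≫ psiSec s hs := by
    apply pullback.hom_ext
    · simp only [Category.assoc, iota_fst, Category.comp_id, psiSec, pullback.lift_fst]
      rw [← Category.assoc (ρ g).hom, hp.inv g, ← Category.assoc s, hs, Category.id_comp]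
    · simp only [Category.assoc, iota_snd, psiSec, pullback.lift_snd, Category.comp_id]
  refine ⟨⟨hcomm⟩, ⟨PullbackCone.IsLimit.mk _ (fun c => c.snd ≫ p) ?_ ?_ ?_⟩⟩
  · intro c
    have h1 := congrArg (· ≫ pullback.fst p p) c.condition
    simp only [Category.assoc, iota_fst, Category.comp_id, psiSec, pullback.lift_fst] at h1
    rw [Category.assoc, ← h1]
  · intro c
    have h1 := congrArg (· ≫ pullback.fst p p) c.condition
    simp only [Category.assoc, iota_fst, Category.comp_id, psiSec, pullback.lift_fst] at h1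
    have h2 := congrArg (· ≫ pullback.snd p p) c.condition
    simp only [Category.assoc, iota_snd, psiSec, pullback.lift_snd, Category.comp_id] at h2
    rw [Category.assoc, ← Category.assoc p, ← Category.assoc, ← Category.assoc, Category.assoc c.snd,
      ← h1, h2]
  · intro c m hm1 hm2
    rw [← hm2, Category.assoc, Category.assoc, hp.inv g, hs, Category.comp_id]

theorem isIso_sigmaDesc_sec [LocallyOfFiniteType p] (hfree : GeomFree ρ) :
    IsIso (Sigma.desc (fun g : G => s ≫ (ρ g).hom)) := by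
  haveI : ∀ g : G, IsOpenImmersion (s ≫ (ρ g).hom) := fun g =>
    MorphismProperty.of_isPullback (P := @IsOpenImmersion) (isPullback_sec hp s hs g)
      (isOpenImmersion_iota hp hfree g)
  have := nonempty_isColimit_cofanMk_of (fun g : G => s ≫ (ρ g).hom) ?_ ?_
  · rw [Cofan.nonempty_isColimit_iff_isIso_sigmaDesc] at this
    exact this
  · rw [eq_top_iff]
    intro x _
    obtain ⟨g, x', hx'⟩ := exists_iota_eq hp hfree (psiSec s hs x)
    obtain ⟨y, -, hy⟩ := Scheme.exists_preimage_of_isPullback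
      (isPullback_sec hp s hs g) x' x hx'
    exact Opens.mem_iSup.mpr ⟨g, y, hy⟩
  · intro g h hgh
    show Disjoint (s ≫ (ρ g).hom).opensRange (s ≫ (ρ h).hom).opensRange
    rw [disjoint_iff]
    ext x
    simp only [Opens.coe_inf, Scheme.Hom.coe_opensRange, Opens.coe_bot, Set.mem_inter_iff,
      Set.mem_empty_iff_false, iff_false]
    rintro ⟨⟨y, hy⟩, ⟨y', hy'⟩⟩
    refine (Set.disjoint_iff.mp (disjoint_iota hp hfree g h hgh))
      (a := psiSec s hs x) ⟨⟨s y, ?_⟩, ⟨s y', ?_⟩⟩
    · rw [← hy, ← Scheme.Hom.comp_apply, ← Scheme.Hom.comp_apply, (isPullback_sec hp s hs g).w]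
    · rw [← hy', ← Scheme.Hom.comp_apply, ← Scheme.Hom.comp_apply, (isPullback_sec hp s hs h).w]

end Sec

end Groth.Agent.Lib.Helper81.FreeQuot
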