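import Groth.Agent.Lib.Helper81.FreeQuot
import Mathlib.AlgebraicGeometry.Morphisms.ClosedImmersion

set_option autoImplicit false
set_option linter.style.haveILetI false
universe u
open CategoryTheory CategoryTheory.Limits AlgebraicGeometry Opposite TopologicalSpace

namespace Groth.Agent.Lib.Helper81.FreeQuot

open Groth.Agent.Lib.Helper81

variable {X Y : Scheme.{u}} {G : Type u} [Group G]
variable {ρ : G →* Aut X} {p : X ⟶ Y} (hp : SGA1.IsQuot ρ p)
include hp

theorem isOpenImmersion_iota' [FormallyUnramified p] [LocallyOfFiniteType p] (g : G) :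
    IsOpenImmersion (iota hp g) := by
  rw [iota_eq]
  infer_instance

theorem isClosedImmersion_iota (g : G) : IsClosedImmersion (iota hp g) := by
  haveI := hp.affine
  rw [iota_eq]
  infer_instance

theorem geomFree_of_unramified [ConnectedSpace X] (hfaith : Function.Injective ρ)
    [FormallyUnramified p] [LocallyOfFiniteType p] : GeomFree ρ := by
  intro K _ _ ξ g hξ
  haveI := isOpenImmersion_iota' hp (1 : G)
  haveI := isClosedImmersion_iota hp (1 : G)
  let e1 := pullback.fst (iota hp g) (iota hp 1)
  let e2 := pullback.snd (iota hp g) (iota hp 1)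
  have hcond : ξ ≫ iota hp g = ξ ≫ iota hp 1 := by
    apply pullback.hom_ext
    · simp
    · simp only [Category.assoc, iota_snd, hξ, rho_one_hom, Category.comp_id]
  let l : Spec (CommRingCat.of K) ⟶ pullback (iota hp g) (iota hp 1) := pullback.lift ξ ξ hcond
  have hclopen : IsClopen (Set.range e1) :=
    ⟨e1.isClosedEmbedding.isClosed_range, e1.isOpenEmbedding.isOpen_range⟩
  have hne : (Set.range e1).Nonempty := by
    obtain ⟨t⟩ : Nonempty (Spec (CommRingCat.of K)) := inferInstance
    exact ⟨e1 (l t), ⟨l t, rfl⟩⟩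
  have huniv := hclopen.eq_univ hne
  haveI : IsIso e1 := by
    apply isIso_of_isOpenImmersion_of_opensRange_eq_top
    ext x
    simp only [Scheme.Hom.coe_opensRange, huniv, Set.mem_univ, Opens.coe_top]
  have h12 : e1 = e2 := by
    have := congrArg (· ≫ pullback.fst p p) (pullback.condition (f := iota hp g) (g := iota hp 1))
    simpa using this
  have hio : iota hp g = iota hp 1 := by
    rw [← cancel_epi e1]
    exact (pullback.condition (f := iota hp g) (g := iota hp 1)).trans
      (congrArg (· ≫ iota hp 1) h12.symm)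
  have hρ : (ρ g).hom = (ρ 1).hom := by
    rw [← iota_snd hp g, ← iota_snd hp 1, hio]
  exact hfaith (Iso.ext hρ)

theorem exists_rho_eq_of_free [ConnectedSpace X] [Finite G] [LocallyOfFiniteType p]
    (hfree : GeomFree ρ) (u : Aut X) (hu : u.hom ≫ p = p) : ∃ g : G, ρ g = u := by
  let w : X ⟶ pullback p p := pullback.lift (𝟙 X) u.hom (by rw [Category.id_comp, hu])
  haveI : ∀ g, IsOpenImmersion (iota hp g) := isOpenImmersion_iota hp hfree
  obtain ⟨x₀⟩ : Nonempty X := inferInstance
  obtain ⟨g, x', hx'⟩ := exists_iota_eq hp hfree (w x₀)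
  let W : G → Set X := fun g => w ⁻¹' Set.range (iota hp g)
  have hWopen : ∀ g, IsOpen (W g) := fun g =>
    (iota hp g).isOpenEmbedding.isOpen_range.preimage w.continuous
  have hcompl : (W g)ᶜ = ⋃ h ∈ {h : G | h ≠ g}, W h := by
    ext x
    simp only [Set.mem_compl_iff, Set.mem_iUnion, Set.mem_ofPred_eq, exists_prop]
    constructor
    · intro hx
      obtain ⟨h, x'', hx''⟩ := exists_iota_eq hp hfree (w x)
      refine ⟨h, ?_, ⟨x'', hx''⟩⟩
      rintro rfl
      exact hx ⟨x'', hx''⟩
    · rintro ⟨h, hne, hxh⟩ hxg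
      exact Set.disjoint_iff.mp (disjoint_iota hp hfree h g hne) ⟨hxh, hxg⟩
  have hclopen : IsClopen (W g) := by
    refine ⟨?_, hWopen g⟩
    rw [← isOpen_compl_iff, hcompl]
    exact isOpen_biUnion (fun h _ => hWopen h)
  have huniv := hclopen.eq_univ ⟨x₀, ⟨x', hx'⟩⟩
  have hr : Set.range w ⊆ Set.range (iota hp g) := by
    rintro _ ⟨x, rfl⟩
    have : x ∈ W g := by rw [huniv]; trivial
    exact this
  let v := IsOpenImmersion.lift (iota hp g) w hr
  have hv : v ≫ iota hp g = w := IsOpenImmersion.lift_fac _ _ _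
  have hw1 : w ≫ pullback.fst p p = 𝟙 X := pullback.lift_fst _ _ _
  have hw2 : w ≫ pullback.snd p p = u.hom := pullback.lift_snd _ _ _
  have hv1 : v = 𝟙 X := by
    have := congrArg (· ≫ pullback.fst p p) hv
    simp only [Category.assoc, iota_fst, Category.comp_id, hw1] at this
    exact this
  have hv2 : (ρ g).hom = u.hom := by
    have := congrArg (· ≫ pullback.snd p p) hv
    simp only [Category.assoc, iota_snd, hw2, hv1, Category.id_comp] at this
    exact this
  exact ⟨g, Iso.ext hv2⟩

end Groth.Agent.Lib.Helper81.FreeQuot
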