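import Groth.Agent.Lib.Helper81.IsQuotBasis
import Groth.Agent.Lib.Helper81.InvPushout
import Mathlib.AlgebraicGeometry.Morphisms.Flat

set_option autoImplicit false
set_option linter.style.haveILetI false
universe u
open CategoryTheory CategoryTheory.Limits AlgebraicGeometry Opposite TopologicalSpace

namespace Groth.Agent.Lib.Helper81.Quot

variable {X Y X' Y' : Scheme.{u}} {G : Type u} [Group G]

theorem isBasis_affine_le (qY : Y' ⟶ Y) :
    Opens.IsBasis {U' : Y'.Opens | IsAffineOpen U' ∧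
      ∃ U : Y.Opens, IsAffineOpen U ∧ U' ≤ qY ⁻¹ᵁ U} := by
  rw [Opens.isBasis_iff_nbhd]
  intro W y' hy'
  obtain ⟨U, hU, hyU, -⟩ := Opens.isBasis_iff_nbhd.mp Y.isBasis_affineOpens
    (show qY y' ∈ (⊤ : Y.Opens) from trivial)
  have hy2 : y' ∈ W ⊓ qY ⁻¹ᵁ U := ⟨hy', hyU⟩
  obtain ⟨U', hU', hyU', hle⟩ := Opens.isBasis_iff_nbhd.mp Y'.isBasis_affineOpens hy2
  exact ⟨U', ⟨hU', U, hU, hle.trans inf_le_right⟩, hyU', hle.trans inf_le_left⟩

theorem isQuot_of_isPullback_of_flat [Finite G] (ρ : G →* Aut X) (p : X ⟶ Y)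
    (hp : SGA1.IsQuot ρ p) (qY : Y' ⟶ Y) [Flat qY] (pX : X' ⟶ X) (p' : X' ⟶ Y')
    (hX : IsPullback pX p' p qY) (ρ' : G →* Aut X')
    (hρ₁ : ∀ g : G, (ρ' g).hom ≫ pX = pX ≫ (ρ g).hom)
    (hρ₂ : ∀ g : G, (ρ' g).hom ≫ p' = p') : SGA1.IsQuot ρ' p' := by
  haveI := hp.affine
  haveI : IsAffineHom p' := MorphismProperty.of_isPullback hX inferInstance
  have key : ∀ U' ∈ {U' : Y'.Opens | IsAffineOpen U' ∧
      ∃ U : Y.Opens, IsAffineOpen U ∧ U' ≤ qY ⁻¹ᵁ U},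
      Function.Injective (p'.app U').hom ∧ ∀ s : Γ(X', p' ⁻¹ᵁ U'),
        (∀ g, (sec ρ' (p' ⁻¹ᵁ U') (fun g => SGA1.preimage_le_of_inv ρ' p' hρ₂ g U') g).hom s = s) →
          s ∈ Set.range (p'.app U').hom := by
    rintro U' ⟨hU', U, hU, hle⟩
    have hUY : p' ⁻¹ᵁ U' = pX ⁻¹ᵁ (p ⁻¹ᵁ U) ⊓ p' ⁻¹ᵁ U' := by
      refine (inf_eq_right.mpr ?_).symm
      rw [← Scheme.Hom.comp_preimage, hX.w, Scheme.Hom.comp_preimage]
      exact (Opens.map p'.base).monotone hle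
    have hiso := isIso_pushoutSection_of_isAffineOpen hX hle (le_refl (p ⁻¹ᵁ U)) hUY hU hU'
      (hU.preimage p)
    have Hpush := (isIso_pushoutSection_iff hX hle (le_refl (p ⁻¹ᵁ U)) hUY).mp hiso
    have hflat : (qY.appLE U U' hle).hom.Flat :=
      HasRingHomProperty.appLE (P := @Flat) qY inferInstance ⟨U, hU⟩ ⟨U', hU'⟩ hle
    have hφ : p.appLE U (p ⁻¹ᵁ U) (le_refl _) = p.app U := Scheme.Hom.appLE_eq_app _
    have hi₂ : ∀ e, p'.appLE U' (p' ⁻¹ᵁ U') e = p'.app U' := fun _ => Scheme.Hom.appLE_eq_app _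
    have hres := InvBaseChange.isPushout_invariants Hpush hflat
      (fun g => sec ρ (p ⁻¹ᵁ U) (fun g => SGA1.preimage_le_of_inv ρ p hp.inv g U) g)
      (fun g => by
        unfold sec
        rw [Scheme.Hom.appLE_comp_appLE]
        exact appLE_congr_hom (hp.inv g) _ _ _)
      (fun g => sec ρ' (p' ⁻¹ᵁ U') (fun g => SGA1.preimage_le_of_inv ρ' p' hρ₂ g U') g)
      (fun g => by
        unfold sec
        rw [Scheme.Hom.appLE_comp_appLE, Scheme.Hom.appLE_comp_appLE]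
        exact appLE_congr_hom (hρ₁ g) _ _ _)
      (fun g => by
        unfold sec
        rw [Scheme.Hom.appLE_comp_appLE]
        exact appLE_congr_hom (hρ₂ g) _ _ _)
      (by rw [hφ]; exact hp.injective U)
      (fun c hc => by
        rw [hφ]
        exact (hp.range_iff U c).mpr hc)
    rw [hi₂] at hres
    exact hres
  have h𝓑 := isBasis_affine_le qY
  have hinjall : ∀ U' : Y'.Opens, Function.Injective (p'.app U').hom :=
    injective_of_basis p' _ h𝓑 (fun U' hU' => (key U' hU').1)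
  refine ⟨inferInstance, hρ₂, hinjall, fun U' s => ⟨?_, ?_⟩⟩
  · rintro ⟨t, rfl⟩ g
    exact sec_app ρ' p' hρ₂ U' g t
  · intro hs
    exact mem_range_of_basis ρ' p' hρ₂ _ h𝓑 (fun U' hU' => (key U' hU').1)
      (fun U' hU' => (key U' hU').2) U' s hs

end Groth.Agent.Lib.Helper81.Quot
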