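import Groth.Agent.S12059
import Groth.Agent.Lib.Helper81.IsQuotFlat
import Groth.Prelude.Def_Curv2
import Mathlib.FieldTheory.Galois.IsGaloisGroup

set_option autoImplicit false
set_option linter.style.haveILetI false
universe u
open CategoryTheory CategoryTheory.Limits AlgebraicGeometry Opposite TopologicalSpace

namespace Groth.Agent.Lib.Helper81.GaloisQuot

noncomputable def autOfAnti {T : Scheme.{u}} {G : Type*} [Group G] (a : G → (T ⟶ T))
    (h1 : a 1 = 𝟙 T) (hmul : ∀ g h, a (g * h) = a g ≫ a h) : G →* Aut T where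
  toFun g := ⟨a g⁻¹, a g, by rw [← hmul, inv_mul_cancel, h1], by rw [← hmul, mul_inv_cancel, h1]⟩
  map_one' := by
    apply Iso.ext
    change a 1⁻¹ = 𝟙 T
    rw [inv_one, h1]
  map_mul' g h := by
    apply Iso.ext
    change a (g * h)⁻¹ = a h⁻¹ ≫ a g⁻¹
    rw [mul_inv_rev, hmul]

theorem autOfAnti_hom {T : Scheme.{u}} {G : Type*} [Group G] (a : G → (T ⟶ T))
    (h1 : a 1 = 𝟙 T) (hmul : ∀ g h, a (g * h) = a g ≫ a h) (g : G) :
    (autOfAnti a h1 hmul g).hom = a g⁻¹ := rfl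

section Field

variable (k : Type u) [Field k] (K : Type u) [Field K] [Algebra k K]

noncomputable def aK (σ : K ≃ₐ[k] K) : Spec (CommRingCat.of K) ⟶ Spec (CommRingCat.of K) :=
  Spec.map (CommRingCat.ofHom (σ : K →ₐ[k] K).toRingHom)

theorem aK_one : aK k K 1 = 𝟙 _ := by
  unfold aK
  have : CommRingCat.ofHom ((1 : K ≃ₐ[k] K) : K →ₐ[k] K).toRingHom = 𝟙 (CommRingCat.of K) := rfl
  rw [this, Spec.map_id]

theorem aK_mul (σ τ : K ≃ₐ[k] K) : aK k K (σ * τ) = aK k K σ ≫ aK k K τ := by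
  unfold aK
  rw [← Spec.map_comp]
  rfl

theorem aK_comp (σ : K ≃ₐ[k] K) :
    aK k K σ ≫ Spec.map (CommRingCat.ofHom (algebraMap k K)) =
      Spec.map (CommRingCat.ofHom (algebraMap k K)) := by
  unfold aK
  rw [← Spec.map_comp, ← CommRingCat.ofHom_comp, AlgHom.toRingHom_eq_coe, AlgHom.comp_algebraMap]

noncomputable def rhoK : (K ≃ₐ[k] K) →* Aut (Spec (CommRingCat.of K)) :=
  autOfAnti (aK k K) (aK_one k K) (aK_mul k K)

theorem isQuot_rhoK [FiniteDimensional k K] [IsGalois k K] :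
    SGA1.IsQuot (rhoK k K) (Spec.map (CommRingCat.ofHom (algebraMap k K))) := by
  apply Groth.Agent.S12059.result (K ≃ₐ[k] K) K k (rhoK k K)
  ext φ
  constructor
  · rintro ⟨g, rfl⟩
    exact ⟨g⁻¹, rfl⟩
  · rintro ⟨g, rfl⟩
    refine ⟨g⁻¹, ?_⟩
    change aK k K g⁻¹⁻¹ = _
    rw [inv_inv]
    rfl

variable (X : Scheme.{u}) [X.Over (Spec (CommRingCat.of k))]

theorem galAct_fst (σ : K ≃ₐ[k] K) :
    Curv2.galAct k X K σ ≫ Curv2.bcFst k X K = Curv2.bcFst k X K := by
  unfold Curv2.galAct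
  rw [pullback.lift_fst, Category.comp_id]

theorem galAct_snd (σ : K ≃ₐ[k] K) :
    Curv2.galAct k X K σ ≫ Curv2.bcSnd k X K = Curv2.bcSnd k X K ≫ aK k K σ := by
  unfold Curv2.galAct
  rw [pullback.lift_snd]
  rfl

theorem galAct_one : Curv2.galAct k X K 1 = 𝟙 _ := by
  apply pullback.hom_ext
  · rw [galAct_fst, Category.id_comp]
  · rw [galAct_snd, aK_one, Category.comp_id, Category.id_comp]

theorem galAct_mul (σ τ : K ≃ₐ[k] K) :
    Curv2.galAct k X K (σ * τ) = Curv2.galAct k X K σ ≫ Curv2.galAct k X K τ := by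
  apply pullback.hom_ext
  · rw [galAct_fst, Category.assoc, galAct_fst, galAct_fst]
  · rw [galAct_snd, Category.assoc, galAct_snd, ← Category.assoc, galAct_snd, Category.assoc,
      aK_mul]

noncomputable def rhoX : (K ≃ₐ[k] K) →* Aut (Curv2.bc k X K) :=
  autOfAnti (Curv2.galAct k X K) (galAct_one k K X) (galAct_mul k K X)

theorem isQuot_rhoX [FiniteDimensional k K] [IsGalois k K] :
    SGA1.IsQuot (rhoX k K X) (Curv2.bcFst k X K) := by
  haveI : Subsingleton ↥(Spec (CommRingCat.of k)) :=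
    inferInstanceAs (Subsingleton (PrimeSpectrum k))
  haveI : Flat (X ↘ Spec (CommRingCat.of k)) := inferInstance
  exact Quot.isQuot_of_isPullback_of_flat (rhoK k K)
    (Spec.map (CommRingCat.ofHom (algebraMap k K))) (isQuot_rhoK k K)
    (X ↘ Spec (CommRingCat.of k)) (Curv2.bcSnd k X K) (Curv2.bcFst k X K)
    (IsPullback.of_hasPullback (X ↘ Spec (CommRingCat.of k))
      (Spec.map (CommRingCat.ofHom (algebraMap k K)))).flip
    (rhoX k K X) (fun g => galAct_snd k K X g⁻¹) (fun g => galAct_fst k K X g⁻¹)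

end Field

end Groth.Agent.Lib.Helper81.GaloisQuot
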