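import Mathlib
import Groth.Prelude.Def_W4bk4git07Quot
import Groth.Agent.Lib.Helper81.QuotDesc

set_option autoImplicit false
set_option linter.unusedSectionVars false
universe u
open CategoryTheory MonoidalCategory CartesianMonoidalCategory MonObj AlgebraicGeometry Topology

namespace Groth.Agent.Lib.Helper81.GeomQuot

open GIT Groth.Agent.Lib.Helper81

variable {S : Scheme.{u}} {G : Over S} [GrpObj G] {X Y : Over S} (a : AlgGrp.Action G X)
  (φ : X ⟶ Y)

theorem appLE_congr_hom {X Y : Scheme.{u}} {f f' : X ⟶ Y} (h : f = f') (U : Y.Opens) (V : X.Opens)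
    (e : V ≤ f ⁻¹ᵁ U) : f.appLE U V e = f'.appLE U V (h ▸ e) := by
  subst h; rfl

theorem isQuotientMap (h : IsGeomQuot a φ) : Topology.IsQuotientMap φ.left.base :=
  (MorphismProperty.universally_le (P := topologically @IsQuotientMap)) _ h.subm

theorem fib (h : IsGeomQuot a φ) {Z : Over S} (ψ : X ⟶ Z) (hψ : IsInvariant a ψ) (x x' : X.left)
    (hx : φ.left.base x = φ.left.base x') : ψ.left.base x = ψ.left.base x' := by
  obtain ⟨w, hw1, hw2⟩ := Scheme.Pullback.exists_preimage_pullback x x' hx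
  obtain ⟨z, rfl⟩ := h.orbit w
  have h1 : a.act.left.base z = x := by
    rw [← hw1, ← Scheme.Hom.comp_apply]
    unfold PsiY
    rw [Limits.pullback.lift_fst]
  have h2 : (snd G X).left.base z = x' := by
    rw [← hw2, ← Scheme.Hom.comp_apply]
    unfold PsiY
    rw [Limits.pullback.lift_snd]
  rw [← h1, ← h2, ← Scheme.Hom.comp_apply, ← Scheme.Hom.comp_apply, hψ.left]

theorem range (h : IsGeomQuot a φ) {Z : Over S} (ψ : X ⟶ Z) (hψ : IsInvariant a ψ)
    (U : Y.left.Opens) (W : Z.left.Opens) (e : φ.left ⁻¹ᵁ U ≤ ψ.left ⁻¹ᵁ W) (t : Γ(Z.left, W)) :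
    (ψ.left.appLE W (φ.left ⁻¹ᵁ U) e).hom t ∈ Set.range (φ.left.app U).hom := by
  have hr := (h.sections U).2
  have : (ψ.left.appLE W (φ.left ⁻¹ᵁ U) e).hom t ∈ {f | IsInvSection a φ U f} := by
    show IsInvSection a φ U _
    unfold IsInvSection
    have e1 := Scheme.Hom.appLE_comp_appLE a.act.left ψ.left W (φ.left ⁻¹ᵁ U)
      (a.act.left ⁻¹ᵁ (φ.left ⁻¹ᵁ U) ⊓ (snd G X).left ⁻¹ᵁ (φ.left ⁻¹ᵁ U)) e inf_le_left
    have e2 := Scheme.Hom.appLE_comp_appLE (snd G X).left ψ.left W (φ.left ⁻¹ᵁ U)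
      (a.act.left ⁻¹ᵁ (φ.left ⁻¹ᵁ U) ⊓ (snd G X).left ⁻¹ᵁ (φ.left ⁻¹ᵁ U)) e inf_le_right
    have e3 := appLE_congr_hom hψ.left W
      (a.act.left ⁻¹ᵁ (φ.left ⁻¹ᵁ U) ⊓ (snd G X).left ⁻¹ᵁ (φ.left ⁻¹ᵁ U))
      (by
        refine inf_le_left.trans ?_
        rw [Scheme.Hom.comp_preimage]
        exact (TopologicalSpace.Opens.map a.act.left.base).monotone e)
    have h1 := congrArg (fun f => f.hom t) e1
    have h2 := congrArg (fun f => f.hom t) e2
    have h3 := congrArg (fun f => f.hom t) e3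
    simp only [CommRingCat.hom_comp, RingHom.coe_comp, Function.comp_apply] at h1 h2
    rw [h1, h2]
    exact h3
  rw [← hr] at this
  exact this

theorem isCatQuot (h : IsGeomQuot a φ) : IsCatQuot a φ := by
  refine ⟨h.inv, fun Z ψ hψ => ?_⟩
  have hinj : ∀ U : Y.left.Opens, Function.Injective (φ.left.app U).hom := fun U => (h.sections U).1
  have hepi : Epi φ.left := epi_of_surjective_of_app_injective φ.left h.surj hinj
  obtain ⟨h', hh'⟩ := exists_desc φ.left ψ.left (isQuotientMap a φ h) hinj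
    (fib a φ h ψ hψ) (range a φ h ψ hψ)
  have hov : h' ≫ Z.hom = Y.hom := by
    rw [← cancel_epi φ.left, ← Category.assoc, hh', Over.w ψ, Over.w φ]
  refine ⟨Over.homMk h' hov, ?_, ?_⟩
  · ext
    exact hh'
  · intro χ hχ
    ext
    rw [← cancel_epi φ.left]
    have : φ.left ≫ χ.left = ψ.left := by rw [← Over.comp_left, hχ]
    rw [this]
    exact hh'.symm

theorem isUnivCatQuot (h : IsUnivGeomQuot a φ) : IsUnivCatQuot a φ :=
  ⟨isCatQuot a φ h.1, fun _ _ pr φ' g hg hpb a' ha' hinv =>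
    isCatQuot a' φ' (h.2 pr φ' g hg hpb a' ha' hinv)⟩

end Groth.Agent.Lib.Helper81.GeomQuot
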