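import Mathlib.AlgebraicGeometry.Cover.Directed
import Mathlib.AlgebraicGeometry.AffineScheme
import Mathlib.AlgebraicGeometry.Restrict
import Mathlib.Topology.Category.TopCat.EpiMono
import Groth.Agent.Lib.Helper81.QuotDesc

set_option autoImplicit false
universe u
open CategoryTheory CategoryTheory.Limits AlgebraicGeometry Opposite TopologicalSpace

namespace Groth.Agent.Lib.Helper81

section DescCover

variable {S' S Z : Scheme.{u}} (g : S' ⟶ S) (h : S' ⟶ Z)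

set_option backward.isDefEq.respectTransparency false in
theorem exists_desc_of_cover (hs : Function.Surjective g.base)
    (hinj : ∀ U : S.Opens, Function.Injective (g.app U).hom)
    (hcovZ : ∀ y : S, ∃ U : S.Opens, y ∈ U ∧ ∃ W : Z.Opens, IsAffineOpen W ∧ g ⁻¹ᵁ U ≤ h ⁻¹ᵁ W)
    (hrange : ∀ (U : S.Opens) (W : Z.Opens) (e : g ⁻¹ᵁ U ≤ h ⁻¹ᵁ W) (t : Γ(Z, W)),
      (h.appLE W (g ⁻¹ᵁ U) e).hom t ∈ Set.range (g.app U).hom) :
    ∃ h' : S ⟶ Z, g ≫ h' = h := by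
  classical
  let I := {U : S.Opens // ∃ W : Z.Opens, IsAffineOpen W ∧ g ⁻¹ᵁ U ≤ h ⁻¹ᵁ W}
  have hbasis : Opens.IsBasis (Set.range fun i : I => i.1) := by
    rw [Opens.isBasis_iff_nbhd]
    intro U x hx
    obtain ⟨U₀, hxU₀, W, hW, hUW⟩ := hcovZ x
    refine ⟨U ⊓ U₀, ⟨⟨U ⊓ U₀, W, hW, ?_⟩, rfl⟩, ⟨hx, hxU₀⟩, inf_le_left⟩
    exact ((Opens.map g.base).monotone (inf_le_right : U ⊓ U₀ ≤ U₀)).trans hUW
  have hcov : IsOpenCover (fun i : I => i.1) := by
    rw [IsOpenCover, eq_top_iff]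
    intro x _
    obtain ⟨_, ⟨i, rfl⟩, hxi, -⟩ := Opens.isBasis_iff_nbhd.mp hbasis (Opens.mem_top x)
    exact Opens.mem_iSup.mpr ⟨i, hxi⟩
  let 𝒰 : S.OpenCover := S.openCoverOfIsOpenCover (fun i : I => i.1) hcov
  let _ : Preorder 𝒰.I₀ := inferInstanceAs (Preorder I)
  let _ : 𝒰.LocallyDirected := .ofIsBasisOpensRange (by intros; simp [𝒰]) (by
    have : (fun i : 𝒰.I₀ => (𝒰.f i).opensRange) = fun i : I => i.1 := by
      funext i
      exact Scheme.Opens.opensRange_ι _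
    rw [this]
    exact hbasis)
  have hloc : ∀ i : I, ∃ u : i.1.toScheme ⟶ Z, (g ∣_ i.1) ≫ u = (g ⁻¹ᵁ i.1).ι ≫ h := by
    intro i
    obtain ⟨W, hW, hUW⟩ := i.2
    exact local_desc g h hinj hrange i.1 W hW hUW
  choose u hu using hloc
  have htrans : ∀ {i j : 𝒰.I₀} (hij : i ⟶ j), 𝒰.trans hij ≫ u j = u i := by
    intro i j hij
    have : Epi (g ∣_ i.1) := epi_morphismRestrict g hs hinj i.1
    have hle : i.1 ≤ j.1 := leOfHom hij
    have ht : 𝒰.trans hij = S.homOfLE hle := rfl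
    rw [← cancel_epi (g ∣_ i.1), hu i, ht]
    have h1 : (g ∣_ i.1) ≫ S.homOfLE hle =
        S'.homOfLE ((Opens.map g.base).map (homOfLE hle)).le ≫ (g ∣_ j.1) := by
      rw [← cancel_mono j.1.ι]
      simp [morphismRestrict_ι]
    rw [reassoc_of% h1, hu j, Scheme.homOfLE_ι_assoc]
  refine ⟨𝒰.glueMorphismsOfLocallyDirected u htrans, ?_⟩
  apply Scheme.hom_ext_of_forall
  intro x
  obtain ⟨i, hi⟩ := hcov.exists_mem (g.base x)
  refine ⟨g ⁻¹ᵁ i.1, hi, ?_⟩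
  have := 𝒰.map_glueMorphismsOfLocallyDirected u htrans i
  rw [← morphismRestrict_ι_assoc, ← hu i]
  congr 1

end DescCover

end Groth.Agent.Lib.Helper81
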