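import Mathlib
import Groth.Prelude.Def_W4bk4git07Quot
import Groth.Agent.Lib.Helper81.QuotDesc
import Groth.Agent.Lib.Helper81.QuotDescCover
import Groth.Agent.Lib.Helper81.GeomQuot

set_option autoImplicit false
set_option linter.unusedSectionVars false
set_option linter.style.haveILetI false
universe u
open CategoryTheory MonoidalCategory CartesianMonoidalCategory MonObj AlgebraicGeometry Topology

namespace Groth.Agent.Lib.Helper81.GeomQuot2

open GIT Groth.Agent.Lib.Helper81 Groth.Agent.Lib.Helper81.GeomQuot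

variable {S : Scheme.{u}} {G : Over S} [GrpObj G] {X Y : Over S} (a : AlgGrp.Action G X)
  (φ : X ⟶ Y)

theorem range_of_sections
    (hii : ∀ U : Y.left.Opens,
      Function.Injective (φ.left.app U) ∧ Set.range (φ.left.app U) = {f | IsInvSection a φ U f})
    {Z : Over S} (ψ : X ⟶ Z) (hψ : IsInvariant a ψ)
    (U : Y.left.Opens) (W : Z.left.Opens) (e : φ.left ⁻¹ᵁ U ≤ ψ.left ⁻¹ᵁ W) (t : Γ(Z.left, W)) :
    (ψ.left.appLE W (φ.left ⁻¹ᵁ U) e).hom t ∈ Set.range (φ.left.app U).hom := by
  have hr := (hii U).2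
  have : (ψ.left.appLE W (φ.left ⁻¹ᵁ U) e).hom t ∈ {f | IsInvSection a φ U f} := by
    show IsInvSection a φ U _
    unfold IsInvSection
    have e1 := Scheme.Hom.appLE_comp_appLE a.act.left ψ.left W (φ.left ⁻¹ᵁ U)
      (a.act.left ⁻¹ᵁ (φ.left ⁻¹ᵁ U) ⊓ (snd G X).left ⁻¹ᵁ (φ.left ⁻¹ᵁ U)) e inf_le_left
    have e2 := Scheme.Hom.appLE_comp_appLE (snd G X).left ψ.left W (φ.left ⁻¹ᵁ U)
      (a.act.left ⁻¹ᵁ (φ.left ⁻¹ᵁ U) ⊓ (snd G X).left ⁻¹ᵁ (φ.left ⁻¹ᵁ U)) e inf_le_right
    have e3 := appLE_congr_hom hψ.left W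
      (a.act.left ⁻¹ᵁ (φ.left ⁻¹ᵁ U) ⊓ (snd G X).left ⁻¹ᵁ (φ.left ⁻¹ᵁ U))
      (by
        refine inf_le_left.trans ?_
        rw [Scheme.Hom.comp_preimage]
        exact (TopologicalSpace.Opens.map a.act.left.base).monotone e)
    have h1 := congrArg (fun f => f.hom t) e1
    have h2 := congrArg (fun f => f.hom t) e2
    have h3 := congrArg (fun f => f.hom t) e3
    simp only [CommRingCat.hom_comp, RingHom.coe_comp, Function.comp_apply] at h1 h2
    rw [h1, h2]
    exact h3
  rw [← hr] at this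
  exact this

theorem preimage_invariant {Z : Over S} (ψ : X ⟶ Z) (hψ : IsInvariant a ψ) (C : Set Z.left) :
    a.act.left.base '' ((snd G X).left.base ⁻¹' (ψ.left.base ⁻¹' C)) ⊆ ψ.left.base ⁻¹' C := by
  rintro _ ⟨z, hz, rfl⟩
  show ψ.left.base (a.act.left.base z) ∈ C
  have : ψ.left.base (a.act.left.base z) = ψ.left.base ((snd G X).left.base z) := by
    rw [← Scheme.Hom.comp_apply, ← Scheme.Hom.comp_apply, hψ.left]
  rw [this]
  exact hz

theorem denseRange
    (hii : ∀ U : Y.left.Opens, Function.Injective (φ.left.app U)) : DenseRange φ.left.base := by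
  rw [DenseRange, dense_iff_inter_open]
  intro U hU hne
  by_contra hcon
  let U' : Y.left.Opens := ⟨U, hU⟩
  have hbot : φ.left ⁻¹ᵁ U' = ⊥ := by
    ext x
    simp only [TopologicalSpace.Opens.coe_bot, Set.mem_empty_iff_false, iff_false]
    intro hx
    exact hcon ⟨φ.left.base x, hx, x, rfl⟩
  haveI : Nonempty U' := hne.to_subtype
  have hnt : Nontrivial Γ(Y.left, U') := inferInstance
  have hsub : Subsingleton Γ(X.left, φ.left ⁻¹ᵁ U') := by rw [hbot]; infer_instance
  obtain ⟨x, y, hxy⟩ := hnt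
  exact hxy (hii U' (Subsingleton.elim _ _))

section Main

variable (hi : IsInvariant a φ)
  (hii : ∀ U : Y.left.Opens,
    Function.Injective (φ.left.app U) ∧ Set.range (φ.left.app U) = {f | IsInvSection a φ U f})
  (hiii : ∀ W : Set X.left, IsClosed W → a.act.left.base '' ((snd G X).left.base ⁻¹' W) ⊆ W →
    IsClosed (φ.left.base '' W))
  (hiii' : ∀ (J : Type u) (W : J → Set X.left),
    (∀ i, IsClosed (W i) ∧ a.act.left.base '' ((snd G X).left.base ⁻¹' W i) ⊆ W i) →
    φ.left.base '' (⋂ i, W i) = ⋂ i, φ.left.base '' W i)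

include hii hiii in
theorem surjective : Function.Surjective φ.left.base := by
  have hd := denseRange φ (fun U => (hii U).1)
  have hc : IsClosed (Set.range φ.left.base) := by
    rw [← Set.image_univ]
    exact hiii Set.univ isClosed_univ (Set.subset_univ _)
  rw [← Set.range_eq_univ, ← hc.closure_eq]
  exact hd.closure_eq

include hi hii hiii in
theorem isQuotientMap : IsQuotientMap φ.left.base := by
  have hs := surjective a φ hii hiii
  rw [isQuotientMap_iff_isClosed]
  refine ⟨hs, fun C => ⟨fun hC => hC.preimage φ.left.base.hom.continuous, fun hC => ?_⟩⟩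
  have := hiii _ hC (preimage_invariant a φ hi C)
  rwa [Set.image_preimage_eq _ hs] at this

include hi hii hiii hiii' in
theorem isCatQuot : IsCatQuot a φ := by
  refine ⟨hi, fun Z ψ hψ => ?_⟩
  have hs := surjective a φ hii hiii
  have hinj : ∀ U : Y.left.Opens, Function.Injective (φ.left.app U).hom := fun U => (hii U).1
  have hepi : Epi φ.left := epi_of_surjective_of_app_injective φ.left hs hinj
  have hcovZ : ∀ y : Y.left, ∃ U : Y.left.Opens, y ∈ U ∧ ∃ W : Z.left.Opens, IsAffineOpen W ∧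
      φ.left ⁻¹ᵁ U ≤ ψ.left ⁻¹ᵁ W := by
    intro y
    let J := Z.left.affineOpens
    let Wf : J → Set X.left := fun i => (ψ.left.base ⁻¹' (i.1 : Set Z.left))ᶜ
    have hW : ∀ i, IsClosed (Wf i) ∧
        a.act.left.base '' ((snd G X).left.base ⁻¹' Wf i) ⊆ Wf i := by
      intro i
      refine ⟨?_, ?_⟩
      · exact (i.1.2.preimage ψ.left.base.hom.continuous).isClosed_compl
      · have := preimage_invariant a ψ hψ ((i.1 : Set Z.left)ᶜ)
        simpa [Wf, Set.preimage_compl] using this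
    have hinter : ⋂ i, Wf i = ∅ := by
      rw [Set.eq_empty_iff_forall_notMem]
      intro x hx
      obtain ⟨V, hV, hxV, -⟩ := TopologicalSpace.Opens.isBasis_iff_nbhd.mp
        Z.left.isBasis_affineOpens (TopologicalSpace.Opens.mem_top (ψ.left.base x))
      have := Set.mem_iInter.mp hx ⟨V, hV⟩
      exact this hxV
    have h3 := hiii' J Wf hW
    rw [hinter, Set.image_empty] at h3
    have hy : y ∉ ⋂ i, φ.left.base '' Wf i := by
      rw [← h3]
      exact Set.notMem_empty y
    rw [Set.mem_iInter, not_forall] at hy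
    obtain ⟨i, hyi⟩ := hy
    have hcl : IsClosed (φ.left.base '' Wf i) := hiii _ (hW i).1 (hW i).2
    refine ⟨⟨(φ.left.base '' Wf i)ᶜ, hcl.isOpen_compl⟩, hyi, i.1, i.2, ?_⟩
    intro x hx
    by_contra hcon
    exact hx ⟨x, hcon, rfl⟩
  obtain ⟨h', hh'⟩ := exists_desc_of_cover φ.left ψ.left hs hinj hcovZ
    (range_of_sections a φ hii ψ hψ)
  have hov : h' ≫ Z.hom = Y.hom := by
    rw [← cancel_epi φ.left, ← Category.assoc, hh', Over.w ψ, Over.w φ]
  refine ⟨Over.homMk h' hov, ?_, ?_⟩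
  · ext
    exact hh'
  · intro χ hχ
    ext
    rw [← cancel_epi φ.left]
    have : φ.left ≫ χ.left = ψ.left := by rw [← Over.comp_left, hχ]
    rw [this]
    exact hh'.symm

end Main

end Groth.Agent.Lib.Helper81.GeomQuot2
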