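import Mathlib
import Groth.Agent.Lib.Helper81.FppfGeomQuot4

set_option autoImplicit false
set_option linter.style.haveILetI false
set_option linter.unusedSectionVars false
universe u
open CategoryTheory MonoidalCategory CartesianMonoidalCategory MonObj AlgebraicGeometry Limits Topology

namespace Groth.Agent.Lib.Helper81.GeomQuotCover

open Groth.Agent.Lib.Helper81.GeomQuotOpen Groth.Agent.Lib.Helper81.SecA1
open Groth.Agent.Lib.Helper81.FppfGeomQuot

variable {S : Scheme.{u}} {G X Y : Over S} [GrpObj G]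

def RelLocal (a : AlgGrp.Action G X) (q : X ⟶ Y) : Prop :=
  ∀ {Z : Scheme.{u}} (x y : Z ⟶ X.left), x ≫ q.left = y ≫ q.left →
    ∃ (I : Type u) (Ti : I → Scheme.{u}) (c : ∀ i, Ti i ⟶ Z),
      (∀ i, Flat (c i)) ∧ (∀ v : ↥Z, ∃ i, v ∈ Set.range (c i)) ∧
      ∀ i, ∃ ρ : Ti i ⟶ (G ⊗ X).left, ρ ≫ (snd G X).left = c i ≫ x ∧
        ρ ≫ a.act.left = c i ≫ y

variable {a : AlgGrp.Action G X} {q : X ⟶ Y}

theorem relLocal_of_isQuotient
    (hq : QuotSh.IsQuotient Scheme.fppfPrecoverage a.act (snd G X) q) : RelLocal a q :=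
  fun x y hxy => exists_rel_left hq x y hxy

theorem relLocal_of_isIso (hinv : GIT.IsInvariant a q) (hiso : IsIso (GIT.PsiY a q hinv)) :
    RelLocal a q := by
  intro Z x y hxy
  haveI := hiso
  refine ⟨PUnit.{u + 1}, fun _ => Z, fun _ => 𝟙 Z, fun _ => inferInstance,
    fun v => ⟨PUnit.unit, v, rfl⟩, fun _ => ?_⟩
  refine ⟨pullback.lift y x hxy.symm ≫ inv (GIT.PsiY a q hinv), ?_, ?_⟩
  · have e : (snd G X).left = GIT.PsiY a q hinv ≫ pullback.snd q.left q.left := by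
      unfold GIT.PsiY
      rw [pullback.lift_snd]
    rw [e, Category.assoc, IsIso.inv_hom_id_assoc, pullback.lift_snd, Category.id_comp]
  · have e : a.act.left = GIT.PsiY a q hinv ≫ pullback.fst q.left q.left := by
      unfold GIT.PsiY
      rw [pullback.lift_fst]
    rw [e, Category.assoc, IsIso.inv_hom_id_assoc, pullback.lift_fst, Category.id_comp]

theorem val_eq_of_inv (hrel : RelLocal a q)
    {U : Y.left.Opens} {f : Γ(X.left, q.left ⁻¹ᵁ U)} (hf : GIT.IsInvSection a q U f)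
    {Z : Scheme.{u}} (x y : Z ⟶ X.left) (ex : ⊤ ≤ x ⁻¹ᵁ (q.left ⁻¹ᵁ U))
    (ey : ⊤ ≤ y ⁻¹ᵁ (q.left ⁻¹ᵁ U)) (hxy : x ≫ q.left = y ≫ q.left) :
    val x ex f = val y ey f := by
  obtain ⟨I, Ti, c, hfl, hsurj, hrel'⟩ := hrel x y hxy
  apply hom_ext_of_flat_family Ti c hfl hsurj
  intro i
  obtain ⟨ρ, h1, h2⟩ := hrel' i
  have ecx : ⊤ ≤ (c i ≫ x) ⁻¹ᵁ (q.left ⁻¹ᵁ U) := fun z _ => ex (Set.mem_univ ((c i).base z))
  have ecy : ⊤ ≤ (c i ≫ y) ⁻¹ᵁ (q.left ⁻¹ᵁ U) := fun z _ => ey (Set.mem_univ ((c i).base z))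
  rw [comp_val (c i) x ex ecx f, comp_val (c i) y ey ecy f]
  have e2 : ⊤ ≤ (ρ ≫ (snd G X).left) ⁻¹ᵁ (q.left ⁻¹ᵁ U) := by rw [h1]; exact ecx
  have e1 : ⊤ ≤ (ρ ≫ a.act.left) ⁻¹ᵁ (q.left ⁻¹ᵁ U) := by rw [h2]; exact ecy
  rw [val_congr h1.symm ecx e2 f, val_congr h2.symm ecy e1 f]
  exact (inv_val hf ρ e1 e2).symm

theorem orbit (hrel : RelLocal a q) (hinv : GIT.IsInvariant a q) :
    Function.Surjective (GIT.PsiY a q hinv).base := by
  intro z
  obtain ⟨I, Ti, c, -, hsurj, hrel'⟩ := hrel (pullback.snd q.left q.left)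
    (pullback.fst q.left q.left) pullback.condition.symm
  obtain ⟨i, t, ht⟩ := hsurj z
  obtain ⟨ρ, hρ1, hρ2⟩ := hrel' i
  refine ⟨ρ.base t, ?_⟩
  have e : ρ ≫ GIT.PsiY a q hinv = c i := by
    unfold GIT.PsiY
    apply pullback.hom_ext
    · rw [Category.assoc, pullback.lift_fst, hρ2]
    · rw [Category.assoc, pullback.lift_snd, hρ1]
  change (ρ ≫ GIT.PsiY a q hinv).base t = z
  rw [e]
  exact ht

theorem sections (hrel : RelLocal a q) (hinv : GIT.IsInvariant a q)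
    {T' : Scheme.{u}} (c : T' ⟶ Y.left) [Flat c] [Surjective c]
    (hEE : ∀ U : Y.left.Opens, EffectiveEpi (c ∣_ U))
    (x₀ : T' ⟶ X.left) (hxq : x₀ ≫ q.left = c) (U : Y.left.Opens) :
    Function.Injective (q.left.app U) ∧
      Set.range (q.left.app U) = {f | GIT.IsInvSection a q U f} := by
  haveI := hEE U
  haveI : Surjective (c ∣_ U) :=
    IsZariskiLocalAtTarget.restrict (P := @Surjective) inferInstance U
  haveI : Epi (c ∣_ U) := Flat.epi_of_flat_of_surjective _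
  have hrange : Set.range ((c ⁻¹ᵁ U).ι ≫ x₀) ⊆ Set.range (q.left ⁻¹ᵁ U).ι := by
    rintro _ ⟨z, rfl⟩
    rw [Scheme.Opens.range_ι]
    change q.left.base (x₀.base z.1) ∈ U
    have h1 : q.left.base (x₀.base z.1) = c.base z.1 :=
      congrArg (fun φ : T' ⟶ Y.left => φ.base z.1) hxq
    rw [h1]
    exact z.2
  let xU : (c ⁻¹ᵁ U).toScheme ⟶ (q.left ⁻¹ᵁ U).toScheme :=
    IsOpenImmersion.lift (q.left ⁻¹ᵁ U).ι ((c ⁻¹ᵁ U).ι ≫ x₀) hrange
  have hxU : xU ≫ (q.left ⁻¹ᵁ U).ι = (c ⁻¹ᵁ U).ι ≫ x₀ := IsOpenImmersion.lift_fac _ _ _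
  have hxqU : xU ≫ (q.left ∣_ U) = c ∣_ U := by
    rw [← cancel_mono U.ι, Category.assoc, morphismRestrict_ι, ← Category.assoc, hxU,
      Category.assoc, hxq, morphismRestrict_ι]
  haveI : Epi (q.left ∣_ U) := epi_of_epi_fac hxqU
  refine ⟨?_, ?_⟩
  · intro g₁ g₂ h12
    apply val_ι_injective U
    rw [← cancel_epi (q.left ∣_ U), ← val_ι_app, ← val_ι_app, h12]
  · apply Set.Subset.antisymm
    · rintro _ ⟨g, rfl⟩
      exact isInvSection_app hinv U g
    · intro f hf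
      have eV := (q.left ⁻¹ᵁ U).ι_preimage_self.ge
      have hcond : ∀ {Z : Scheme.{u}} (g₁ g₂ : Z ⟶ (c ⁻¹ᵁ U).toScheme),
          g₁ ≫ (c ∣_ U) = g₂ ≫ (c ∣_ U) →
          g₁ ≫ xU ≫ val (q.left ⁻¹ᵁ U).ι eV f = g₂ ≫ xU ≫ val (q.left ⁻¹ᵁ U).ι eV f := by
        intro Z g₁ g₂ h12
        have e1 : ⊤ ≤ ((g₁ ≫ xU) ≫ (q.left ⁻¹ᵁ U).ι) ⁻¹ᵁ (q.left ⁻¹ᵁ U) := by
          intro z _
          exact ((g₁ ≫ xU).base z).2
        have e2 : ⊤ ≤ ((g₂ ≫ xU) ≫ (q.left ⁻¹ᵁ U).ι) ⁻¹ᵁ (q.left ⁻¹ᵁ U) := by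
          intro z _
          exact ((g₂ ≫ xU).base z).2
        rw [← Category.assoc, ← Category.assoc, comp_val (g₁ ≫ xU) _ eV e1 f,
          comp_val (g₂ ≫ xU) _ eV e2 f]
        apply val_eq_of_inv hrel hf
        rw [Category.assoc, Category.assoc, Category.assoc, Category.assoc,
          ← morphismRestrict_ι, ← Category.assoc xU, hxqU, ← Category.assoc, h12, Category.assoc]
      let ψ : U.toScheme ⟶ A1.{u} :=
        EffectiveEpi.desc (c ∣_ U) (xU ≫ val (q.left ⁻¹ᵁ U).ι eV f) hcond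
      have hψ : (c ∣_ U) ≫ ψ = xU ≫ val (q.left ⁻¹ᵁ U).ι eV f := EffectiveEpi.fac _ _ _
      obtain ⟨g, hg⟩ := exists_val_ι U ψ
      refine ⟨g, ?_⟩
      apply val_ι_injective (q.left ⁻¹ᵁ U)
      rw [val_ι_app, hg]
      haveI : Flat (pullback.fst (q.left ∣_ U) (c ∣_ U)) := inferInstance
      haveI : Surjective (pullback.fst (q.left ∣_ U) (c ∣_ U)) := inferInstance
      haveI : Epi (pullback.fst (q.left ∣_ U) (c ∣_ U)) := Flat.epi_of_flat_of_surjective _
      rw [← cancel_epi (pullback.fst (q.left ∣_ U) (c ∣_ U)), ← Category.assoc,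
        pullback.condition, Category.assoc, hψ]
      have e1 : ⊤ ≤ ((pullback.snd (q.left ∣_ U) (c ∣_ U) ≫ xU) ≫ (q.left ⁻¹ᵁ U).ι) ⁻¹ᵁ
          (q.left ⁻¹ᵁ U) := by
        intro z _
        exact ((pullback.snd (q.left ∣_ U) (c ∣_ U) ≫ xU).base z).2
      have e2 : ⊤ ≤ (pullback.fst (q.left ∣_ U) (c ∣_ U) ≫ (q.left ⁻¹ᵁ U).ι) ⁻¹ᵁ
          (q.left ⁻¹ᵁ U) := by
        intro z _
        exact ((pullback.fst (q.left ∣_ U) (c ∣_ U)).base z).2
      rw [← Category.assoc, comp_val (pullback.snd (q.left ∣_ U) (c ∣_ U) ≫ xU) _ eV e1 f,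
        comp_val (pullback.fst (q.left ∣_ U) (c ∣_ U)) _ eV e2 f]
      apply val_eq_of_inv hrel hf
      rw [Category.assoc, Category.assoc, Category.assoc, ← morphismRestrict_ι,
        ← Category.assoc xU, hxqU, ← Category.assoc, ← pullback.condition, Category.assoc]

theorem isGeomQuot_of_principal (hinv : GIT.IsInvariant a q) [Flat q.left] [Surjective q.left]
    [QuasiCompact q.left] (hiso : IsIso (GIT.PsiY a q hinv)) : GIT.IsGeomQuot a q := by
  have hrel : RelLocal a q := relLocal_of_isIso hinv hiso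
  refine ⟨hinv, (inferInstance : Surjective q.left).surj, orbit hrel hinv, ?_, fun U => ?_⟩
  · intro X' Y' i₁ i₂ f' hpb
    haveI : Flat f' := MorphismProperty.of_isPullback hpb.flip inferInstance
    haveI : Surjective f' := MorphismProperty.of_isPullback hpb.flip inferInstance
    haveI : QuasiCompact f' := MorphismProperty.of_isPullback hpb.flip inferInstance
    exact Flat.isQuotientMap_of_surjective f'
  · refine sections hrel hinv q.left (fun U => ?_) (𝟙 _) (Category.id_comp _) U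
    haveI : Surjective (q.left ∣_ U) :=
      IsZariskiLocalAtTarget.restrict (P := @Surjective) inferInstance U
    infer_instance

theorem psi_left_eq (hinv : GIT.IsInvariant a q) :
    (GIT.psi a (𝟙 X)).left = GIT.PsiY a q hinv ≫ pullback.mapDesc q.left q.left Y.hom ≫
      (pullback.congrHom (Over.w q) (Over.w q)).hom := by
  have e1 : (GIT.psi a (𝟙 X)).left ≫ pullback.fst X.hom X.hom = a.act.left := by
    have h : GIT.psi a (𝟙 X) ≫ fst X X = a.act := by
      unfold GIT.psi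
      rw [lift_fst, MonoidalCategory.whiskerLeft_id, Category.id_comp]
    exact congrArg (fun φ => φ.left) h
  have e2 : (GIT.psi a (𝟙 X)).left ≫ pullback.snd X.hom X.hom = (snd G X).left := by
    have h : GIT.psi a (𝟙 X) ≫ snd X X = snd G X := by
      unfold GIT.psi
      rw [lift_snd]
    exact congrArg (fun φ => φ.left) h
  apply pullback.hom_ext
  · rw [e1]
    unfold GIT.PsiY
    rw [Category.assoc, Category.assoc, pullback.congrHom_hom, pullback.lift_fst,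
      pullback.lift_fst_assoc]
    simp only [Category.comp_id, pullback.lift_fst]
  · rw [e2]
    unfold GIT.PsiY
    rw [Category.assoc, Category.assoc, pullback.congrHom_hom, pullback.lift_snd,
      pullback.lift_snd_assoc]
    simp only [Category.comp_id, pullback.lift_snd]

theorem isClosedImmersion_psi (hinv : GIT.IsInvariant a q) [IsSeparated Y.hom]
    (hiso : IsIso (GIT.PsiY a q hinv)) : IsClosedImmersion (GIT.psi a (𝟙 X)).left := by
  haveI := hiso
  rw [psi_left_eq hinv]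
  infer_instance

end Groth.Agent.Lib.Helper81.GeomQuotCover
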