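import Mathlib
import Groth.Prelude.Def_W4bk4git07Quot

set_option autoImplicit false
universe u
open CategoryTheory Limits AlgebraicGeometry Topology

namespace Groth.Agent.Lib.Helper81.GeomQuotSep

theorem isSeparated_iff_isClosed_range {Y S : Scheme.{u}} (g : Y ⟶ S) :
    IsSeparated g ↔ IsClosed (Set.range (pullback.diagonal g).base) := by
  constructor
  · intro h
    exact (pullback.diagonal g).isClosedEmbedding.isClosed_range
  · intro h
    exact ⟨IsClosedImmersion.of_isPreimmersion _ h⟩

theorem range_eq_preimage {P X Y Z : Scheme.{u}} {fst : P ⟶ X} {snd : P ⟶ Y} {f : X ⟶ Z}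
    {g : Y ⟶ Z} (h : IsPullback fst snd f g) :
    Set.range snd.base = g.base ⁻¹' Set.range f.base := by
  have e : snd = h.isoPullback.hom ≫ pullback.snd f g := by simp
  rw [e, Scheme.Hom.comp_base, TopCat.coe_comp, Set.range_comp,
    Set.range_eq_univ.mpr h.isoPullback.hom.surjective, Set.image_univ,
    Scheme.Pullback.range_snd]

instance : (topologically @IsQuotientMap).IsStableUnderComposition where
  comp_mem _ _ hf hg := hg.comp hf

set_option backward.isDefEq.respectTransparency false in
theorem main {X Y S P : Scheme.{u}} (φ : X ⟶ Y) (g : Y ⟶ S) (f : X ⟶ S) (hf : φ ≫ g = f)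
    (hsub : GIT.IsUnivSubmersive φ) (ψ : P ⟶ pullback f f)
    (hψ : (ψ ≫ pullback.fst f f) ≫ φ = (ψ ≫ pullback.snd f f) ≫ φ)
    (horb : Function.Surjective
      (pullback.lift (ψ ≫ pullback.fst f f) (ψ ≫ pullback.snd f f) hψ : P ⟶ pullback φ φ).base) :
    IsSeparated g ↔ IsClosed (Set.range ψ.base) := by
  subst hf
  have sq := pullback_map_diagonal_isPullback φ φ g
  have hm : GIT.IsUnivSubmersive (pullback.map (φ ≫ g) (φ ≫ g) g g φ φ (𝟙 S)
      ((Category.comp_id _).trans rfl) ((Category.comp_id _).trans rfl)) :=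
    MorphismProperty.pullbackMap (P := MorphismProperty.universally
      (topologically @IsQuotientMap)) hsub hsub rfl rfl
  have hq : IsQuotientMap (pullback.map (φ ≫ g) (φ ≫ g) g g φ φ (𝟙 S)
      ((Category.comp_id _).trans rfl) ((Category.comp_id _).trans rfl)).base :=
    (MorphismProperty.universally_le (P := topologically @IsQuotientMap)) _ hm
  have hr := range_eq_preimage sq
  have hL : ψ = pullback.lift (ψ ≫ pullback.fst _ _) (ψ ≫ pullback.snd _ _) hψ ≫
      pullback.map φ φ (φ ≫ g) (φ ≫ g) (𝟙 X) (𝟙 X) g (Category.id_comp _).symm (Category.id_comp _).symm := by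
    apply pullback.hom_ext <;> simp [pullback.map]
  have hrange : Set.range ψ.base = Set.range (pullback.map φ φ (φ ≫ g) (φ ≫ g) (𝟙 X) (𝟙 X) g
      (Category.id_comp _).symm (Category.id_comp _).symm).base := by
    conv_lhs => rw [hL]
    rw [Scheme.Hom.comp_base, TopCat.coe_comp, Set.range_comp, Set.range_eq_univ.mpr horb,
      Set.image_univ]
  rw [isSeparated_iff_isClosed_range, hrange, hr, hq.isClosed_preimage]

end Groth.Agent.Lib.Helper81.GeomQuotSep
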