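import Mathlib
import Groth.Prelude.Def_W4c6nonredquotmfGoodQuot
import Groth.Agent.Lib.Helper81.GoodQuot
import Groth.Agent.Lib.Helper81.GeomQuotSep

set_option autoImplicit false
set_option linter.unusedSectionVars false
universe u
open CategoryTheory MonoidalCategory CartesianMonoidalCategory MonObj AlgebraicGeometry Topology

namespace Groth.Agent.Lib.Helper81.GoodQuotOpen

open NRQuot

theorem bijective_appLE {X' X : Scheme.{u}} (f : X' ⟶ X) [IsOpenImmersion f] (O : X.Opens)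
    (O' : X'.Opens) (h : O' = f ⁻¹ᵁ O) (hO : O ≤ f.opensRange) :
    Function.Bijective (f.appLE O O' h.le).hom := by
  subst h
  have : IsIso (f.app O) := f.isIso_app O hO
  have e : f.appLE O (f ⁻¹ᵁ O) le_rfl = f.app O := (Scheme.Hom.app_eq_appLE f).symm
  rw [e]
  exact ConcreteCategory.bijective_of_isIso (f.app O)

variable {S : Scheme.{u}} {G : Over S} [GrpObj G] {X Y : Over S} (a : AlgGrp.Action G X)
  (φ : X ⟶ Y) {X' Y' : Over S} (j : X' ⟶ X) (i : Y' ⟶ Y) (φ' : X' ⟶ Y')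
  (a' : AlgGrp.Action G X')

theorem isPullback_whiskerLeft :
    IsPullback (G ◁ j).left (snd G X').left (snd G X).left j.left := by
  have outer : IsPullback ((G ◁ j).left ≫ (fst G X).left) (snd G X').left G.hom
      (j.left ≫ X.hom) := by
    have h0 := IsPullback.of_hasPullback G.hom X'.hom
    have e1 : (G ◁ j).left ≫ (fst G X).left = Limits.pullback.fst G.hom X'.hom := by
      rw [← Over.comp_left, whiskerLeft_fst]
      rfl
    have e2 : j.left ≫ X.hom = X'.hom := Over.w j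
    rw [e1, e2]
    exact h0
  refine IsPullback.of_right outer ?_ (IsPullback.of_hasPullback G.hom X.hom)
  rw [← Over.comp_left, whiskerLeft_snd]
  rfl

theorem isOpenImmersion_whiskerLeft [IsOpenImmersion j.left] :
    IsOpenImmersion (G ◁ j).left :=
  MorphismProperty.of_isPullback (P := @IsOpenImmersion) (isPullback_whiskerLeft j).flip
    inferInstance

theorem range_whiskerLeft :
    Set.range (G ◁ j).left.base = (snd G X).left.base ⁻¹' Set.range j.left.base :=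
  GeomQuotSep.range_eq_preimage (isPullback_whiskerLeft j).flip

theorem act_whisker_apply (ha' : a'.act ≫ j = (G ◁ j) ≫ a.act) (p : (G ⊗ X').left) :
    a.act.left.base ((G ◁ j).left.base p) = j.left.base (a'.act.left.base p) := by
  rw [← Scheme.Hom.comp_apply, ← Scheme.Hom.comp_apply, ← Over.comp_left, ← Over.comp_left, ha']

theorem snd_whisker_apply (p : (G ⊗ X').left) :
    (snd G X).left.base ((G ◁ j).left.base p) = j.left.base ((snd G X').left.base p) := by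
  rw [← Scheme.Hom.comp_apply, ← Scheme.Hom.comp_apply, ← Over.comp_left, ← Over.comp_left,
    whiskerLeft_snd]

theorem isInvariantSet_image [IsOpenImmersion j.left] (ha' : a'.act ≫ j = (G ◁ j) ≫ a.act)
    (W : Set X'.left) (hW : IsInvariantSet a' W) : IsInvariantSet a (j.left.base '' W) := by
  rintro p ⟨x', hx', hp⟩
  have hp' : p ∈ Set.range (G ◁ j).left.base := by
    rw [range_whiskerLeft]
    exact ⟨x', hp⟩
  obtain ⟨p', rfl⟩ := hp'
  rw [snd_whisker_apply] at hp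
  have hinj := j.left.isOpenEmbedding.injective
  have h1 : (snd G X').left.base p' = x' := (hinj hp).symm
  rw [act_whisker_apply a j a' ha']
  exact ⟨_, hW p' (h1 ▸ hx'), rfl⟩

theorem bc [IsOpenImmersion i.left] (hφ' : φ' ≫ i = j ≫ φ)
    (hr : Set.range j.left.base = φ.left.base ⁻¹' Set.range i.left.base) (A : Set X.left) :
    i.left.base ⁻¹' (φ.left.base '' A) = φ'.left.base '' (j.left.base ⁻¹' A) := by
  have hsq : ∀ x', i.left.base (φ'.left.base x') = φ.left.base (j.left.base x') := fun x' => by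
    rw [← Scheme.Hom.comp_apply, ← Scheme.Hom.comp_apply, ← Over.comp_left, ← Over.comp_left,
      hφ']
  ext y
  constructor
  · rintro ⟨x, hxA, hx⟩
    have hxr : x ∈ Set.range j.left.base := by
      rw [hr]
      exact ⟨y, hx.symm⟩
    obtain ⟨x', rfl⟩ := hxr
    refine ⟨x', hxA, ?_⟩
    apply i.left.isOpenEmbedding.injective
    rw [hsq, hx]
  · rintro ⟨x', hx', rfl⟩
    exact ⟨j.left.base x', hx', (hsq x').symm⟩

theorem preimage_closure_image [IsOpenImmersion j.left] (W : Set X'.left) (hW : IsClosed W) :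
    j.left.base ⁻¹' closure (j.left.base '' W) = W := by
  rw [← j.left.isOpenEmbedding.isEmbedding.closure_eq_preimage_closure_image W, hW.closure_eq]

theorem inv' [IsOpenImmersion i.left] (hinv : GIT.IsInvariant a φ) (hφ' : φ' ≫ i = j ≫ φ)
    (ha' : a'.act ≫ j = (G ◁ j) ≫ a.act) : GIT.IsInvariant a' φ' := by
  have : Mono i := Over.mono_of_mono_left i
  unfold GIT.IsInvariant
  rw [← cancel_mono i, Category.assoc, Category.assoc, hφ', ← Category.assoc, ha',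
    Category.assoc, hinv, ← whiskerLeft_snd_assoc]

theorem appLE_congr_hom {X Y : Scheme.{u}} {f f' : X ⟶ Y} (h : f = f') (U : Y.Opens) (V : X.Opens)
    (e : V ≤ f ⁻¹ᵁ U) : f.appLE U V e = f'.appLE U V (h ▸ e) := by
  subst h; rfl

theorem sections' [IsOpenImmersion j.left] [IsOpenImmersion i.left]
    (hsec : ∀ U : Y.left.Opens, Function.Injective (φ.left.app U) ∧
      Set.range (φ.left.app U) = {f | GIT.IsInvSection a φ U f})
    (hφ' : φ' ≫ i = j ≫ φ)
    (hr : Set.range j.left.base = φ.left.base ⁻¹' Set.range i.left.base)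
    (ha' : a'.act ≫ j = (G ◁ j) ≫ a.act) (V : Y'.left.Opens) :
    Function.Injective (φ'.left.app V) ∧
      Set.range (φ'.left.app V) = {f | GIT.IsInvSection a' φ' V f} := by
  have : IsOpenImmersion (G ◁ j).left := isOpenImmersion_whiskerLeft j
  have hφl : φ'.left ≫ i.left = j.left ≫ φ.left := by
    rw [← Over.comp_left, ← Over.comp_left, hφ']
  have hal : a'.act.left ≫ j.left = (G ◁ j).left ≫ a.act.left := by
    rw [← Over.comp_left, ← Over.comp_left, ha']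
  have hsl : (snd G X').left ≫ j.left = (G ◁ j).left ≫ (snd G X).left := by
    rw [← Over.comp_left, ← Over.comp_left, whiskerLeft_snd]
  have f1 : V = i.left ⁻¹ᵁ (i.left ''ᵁ V) := (Scheme.Hom.preimage_image_eq i.left V).symm
  have f1' : i.left ''ᵁ V ≤ i.left.opensRange := by
    rintro _ ⟨y, -, rfl⟩
    exact ⟨y, rfl⟩
  have f2 : φ'.left ⁻¹ᵁ V = j.left ⁻¹ᵁ (φ.left ⁻¹ᵁ (i.left ''ᵁ V)) := by
    conv_lhs => rw [f1]
    rw [← Scheme.Hom.comp_preimage, ← Scheme.Hom.comp_preimage, hφl]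
  have f2' : φ.left ⁻¹ᵁ (i.left ''ᵁ V) ≤ j.left.opensRange := by
    intro x hx
    have hx' : x ∈ Set.range j.left.base := by
      rw [hr]
      exact f1' hx
    exact hx'
  have f3 : a'.act.left ⁻¹ᵁ (φ'.left ⁻¹ᵁ V) ⊓ (snd G X').left ⁻¹ᵁ (φ'.left ⁻¹ᵁ V) =
      (G ◁ j).left ⁻¹ᵁ (a.act.left ⁻¹ᵁ (φ.left ⁻¹ᵁ (i.left ''ᵁ V)) ⊓
        (snd G X).left ⁻¹ᵁ (φ.left ⁻¹ᵁ (i.left ''ᵁ V))) := by
    have hmem : ∀ x', x' ∈ φ'.left ⁻¹ᵁ V ↔ j.left.base x' ∈ φ.left ⁻¹ᵁ (i.left ''ᵁ V) :=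
      fun x' => by rw [f2]; rfl
    apply TopologicalSpace.Opens.ext
    ext p
    show (a'.act.left.base p ∈ φ'.left ⁻¹ᵁ V ∧ (snd G X').left.base p ∈ φ'.left ⁻¹ᵁ V) ↔
      (a.act.left.base ((G ◁ j).left.base p) ∈ φ.left ⁻¹ᵁ (i.left ''ᵁ V) ∧
        (snd G X).left.base ((G ◁ j).left.base p) ∈ φ.left ⁻¹ᵁ (i.left ''ᵁ V))
    rw [act_whisker_apply a j a' ha', snd_whisker_apply, hmem, hmem]
  have f3' : a.act.left ⁻¹ᵁ (φ.left ⁻¹ᵁ (i.left ''ᵁ V)) ⊓
      (snd G X).left ⁻¹ᵁ (φ.left ⁻¹ᵁ (i.left ''ᵁ V)) ≤ (G ◁ j).left.opensRange := by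
    intro p hp
    have hp' : p ∈ Set.range (G ◁ j).left.base := by
      rw [range_whiskerLeft]
      exact f2' hp.2
    exact hp'
  have hα := bijective_appLE i.left (i.left ''ᵁ V) V f1 f1'
  have hβ := bijective_appLE j.left (φ.left ⁻¹ᵁ (i.left ''ᵁ V)) (φ'.left ⁻¹ᵁ V) f2 f2'
  have hδ := bijective_appLE (G ◁ j).left _ _ f3 f3'
  have c1 : i.left.appLE (i.left ''ᵁ V) V f1.le ≫ φ'.left.app V =
      φ.left.app (i.left ''ᵁ V) ≫
        j.left.appLE (φ.left ⁻¹ᵁ (i.left ''ᵁ V)) (φ'.left ⁻¹ᵁ V) f2.le := by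
    rw [Scheme.Hom.app_eq_appLE, Scheme.Hom.app_eq_appLE, Scheme.Hom.appLE_comp_appLE,
      Scheme.Hom.appLE_comp_appLE]
    exact appLE_congr_hom hφl _ _ _
  have c2 : j.left.appLE (φ.left ⁻¹ᵁ (i.left ''ᵁ V)) (φ'.left ⁻¹ᵁ V) f2.le ≫
      a'.act.left.appLE (φ'.left ⁻¹ᵁ V)
        (a'.act.left ⁻¹ᵁ (φ'.left ⁻¹ᵁ V) ⊓ (snd G X').left ⁻¹ᵁ (φ'.left ⁻¹ᵁ V)) inf_le_left =
      a.act.left.appLE (φ.left ⁻¹ᵁ (i.left ''ᵁ V))
        (a.act.left ⁻¹ᵁ (φ.left ⁻¹ᵁ (i.left ''ᵁ V)) ⊓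
          (snd G X).left ⁻¹ᵁ (φ.left ⁻¹ᵁ (i.left ''ᵁ V))) inf_le_left ≫
      (G ◁ j).left.appLE _ _ f3.le := by
    rw [Scheme.Hom.appLE_comp_appLE, Scheme.Hom.appLE_comp_appLE]
    exact appLE_congr_hom hal _ _ _
  have c3 : j.left.appLE (φ.left ⁻¹ᵁ (i.left ''ᵁ V)) (φ'.left ⁻¹ᵁ V) f2.le ≫
      (snd G X').left.appLE (φ'.left ⁻¹ᵁ V)
        (a'.act.left ⁻¹ᵁ (φ'.left ⁻¹ᵁ V) ⊓ (snd G X').left ⁻¹ᵁ (φ'.left ⁻¹ᵁ V)) inf_le_right =
      (snd G X).left.appLE (φ.left ⁻¹ᵁ (i.left ''ᵁ V))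
        (a.act.left ⁻¹ᵁ (φ.left ⁻¹ᵁ (i.left ''ᵁ V)) ⊓
          (snd G X).left ⁻¹ᵁ (φ.left ⁻¹ᵁ (i.left ''ᵁ V))) inf_le_right ≫
      (G ◁ j).left.appLE _ _ f3.le := by
    rw [Scheme.Hom.appLE_comp_appLE, Scheme.Hom.appLE_comp_appLE]
    exact appLE_congr_hom hsl _ _ _
  have c1' : ∀ s, (φ'.left.app V).hom ((i.left.appLE (i.left ''ᵁ V) V f1.le).hom s) =
      (j.left.appLE (φ.left ⁻¹ᵁ (i.left ''ᵁ V)) (φ'.left ⁻¹ᵁ V) f2.le).hom
        ((φ.left.app (i.left ''ᵁ V)).hom s) := fun s => by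
    have := congrArg (fun f => f.hom s) c1
    simp only [CommRingCat.hom_comp, RingHom.coe_comp, Function.comp_apply] at this
    exact this
  have c2' : ∀ f, (a'.act.left.appLE (φ'.left ⁻¹ᵁ V)
        (a'.act.left ⁻¹ᵁ (φ'.left ⁻¹ᵁ V) ⊓ (snd G X').left ⁻¹ᵁ (φ'.left ⁻¹ᵁ V)) inf_le_left).hom
        ((j.left.appLE (φ.left ⁻¹ᵁ (i.left ''ᵁ V)) (φ'.left ⁻¹ᵁ V) f2.le).hom f) =
      ((G ◁ j).left.appLE _ _ f3.le).hom
        ((a.act.left.appLE (φ.left ⁻¹ᵁ (i.left ''ᵁ V))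
        (a.act.left ⁻¹ᵁ (φ.left ⁻¹ᵁ (i.left ''ᵁ V)) ⊓
          (snd G X).left ⁻¹ᵁ (φ.left ⁻¹ᵁ (i.left ''ᵁ V))) inf_le_left).hom f) := fun f => by
    have := congrArg (fun g => g.hom f) c2
    simp only [CommRingCat.hom_comp, RingHom.coe_comp, Function.comp_apply] at this
    exact this
  have c3' : ∀ f, ((snd G X').left.appLE (φ'.left ⁻¹ᵁ V)
        (a'.act.left ⁻¹ᵁ (φ'.left ⁻¹ᵁ V) ⊓ (snd G X').left ⁻¹ᵁ (φ'.left ⁻¹ᵁ V)) inf_le_right).hom
        ((j.left.appLE (φ.left ⁻¹ᵁ (i.left ''ᵁ V)) (φ'.left ⁻¹ᵁ V) f2.le).hom f) =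
      ((G ◁ j).left.appLE _ _ f3.le).hom
        (((snd G X).left.appLE (φ.left ⁻¹ᵁ (i.left ''ᵁ V))
        (a.act.left ⁻¹ᵁ (φ.left ⁻¹ᵁ (i.left ''ᵁ V)) ⊓
          (snd G X).left ⁻¹ᵁ (φ.left ⁻¹ᵁ (i.left ''ᵁ V))) inf_le_right).hom f) := fun f => by
    have := congrArg (fun g => g.hom f) c3
    simp only [CommRingCat.hom_comp, RingHom.coe_comp, Function.comp_apply] at this
    exact this
  obtain ⟨hinj, hrange⟩ := hsec (i.left ''ᵁ V)
  have hinvIff : ∀ f, GIT.IsInvSection a' φ' V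
      ((j.left.appLE (φ.left ⁻¹ᵁ (i.left ''ᵁ V)) (φ'.left ⁻¹ᵁ V) f2.le).hom f) ↔
      GIT.IsInvSection a φ (i.left ''ᵁ V) f := by
    intro f
    unfold GIT.IsInvSection
    constructor
    · intro hf
      apply hδ.1
      rw [← c2' f, ← c3' f]
      exact hf
    · intro hf
      show (a'.act.left.appLE _ _ _).hom _ = ((snd G X').left.appLE _ _ _).hom _
      rw [c2' f, c3' f]
      exact congrArg _ hf
  constructor
  · intro t t' htt
    obtain ⟨s, rfl⟩ := hα.2 t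
    obtain ⟨s', rfl⟩ := hα.2 t'
    have h1 : (φ'.left.app V).hom ((i.left.appLE (i.left ''ᵁ V) V f1.le).hom s) =
        (φ'.left.app V).hom ((i.left.appLE (i.left ''ᵁ V) V f1.le).hom s') := htt
    rw [c1', c1'] at h1
    rw [hinj (hβ.1 h1)]
  · ext f'
    constructor
    · rintro ⟨t, rfl⟩
      obtain ⟨s, rfl⟩ := hα.2 t
      show GIT.IsInvSection a' φ' V ((φ'.left.app V).hom _)
      rw [c1', hinvIff]
      have : (φ.left.app (i.left ''ᵁ V)).hom s ∈ Set.range (φ.left.app (i.left ''ᵁ V)) :=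
        ⟨s, rfl⟩
      rw [hrange] at this
      exact this
    · intro hf'
      obtain ⟨f, rfl⟩ := hβ.2 f'
      have h1 : GIT.IsInvSection a φ (i.left ''ᵁ V) f := (hinvIff f).mp hf'
      have h2 : f ∈ Set.range (φ.left.app (i.left ''ᵁ V)) := by
        rw [hrange]
        exact h1
      obtain ⟨s, rfl⟩ := h2
      refine ⟨(i.left.appLE (i.left ''ᵁ V) V f1.le).hom s, ?_⟩
      exact c1' s

theorem isGoodQuot_of_open [UniversallyOpen G.hom] [IsOpenImmersion j.left]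
    [IsOpenImmersion i.left] (h : IsGoodQuot a φ) (hφ' : φ' ≫ i = j ≫ φ)
    (hr : Set.range j.left.base = φ.left.base ⁻¹' Set.range i.left.base)
    (ha' : a'.act ≫ j = (G ◁ j) ≫ a.act) (haff : IsAffineHom φ'.left) : IsGoodQuot a' φ' where
  affine := haff
  inv := inv' a φ j i φ' a' h.inv hφ' ha'
  sections := sections' a φ j i φ' a' h.sections hφ' hr ha'
  closed := by
    intro W hW hWinv
    have hinv : IsInvariantSet a (closure (j.left.base '' W)) :=
      GoodQuot.isInvariantSet_closure a _ (isInvariantSet_image a j a' ha' W hWinv)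
    have hcl := h.closed _ isClosed_closure hinv
    have hbc := bc φ j i φ' hφ' hr (closure (j.left.base '' W))
    rw [preimage_closure_image j W hW] at hbc
    rw [← hbc]
    exact hcl.preimage i.left.continuous
  inter := by
    intro J W hW hWinv
    have hI := h.inter J (fun t => closure (j.left.base '' W t)) (fun t => isClosed_closure)
      (fun t => GoodQuot.isInvariantSet_closure a _
        (isInvariantSet_image a j a' ha' (W t) (hWinv t)))
    have h1 := congrArg (fun A => i.left.base ⁻¹' A) hI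
    simp only [Set.preimage_iInter] at h1
    rw [bc φ j i φ' hφ' hr, Set.preimage_iInter] at h1
    simp only [bc φ j i φ' hφ' hr, preimage_closure_image j _ (hW _)] at h1
    exact h1

end Groth.Agent.Lib.Helper81.GoodQuotOpen
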