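import Mathlib
import Groth.Prelude.Def_W4c6nonredquotmfGoodQuot
import Groth.Prelude.Def_ChGrp
import Groth.Agent.Lib.Helper81.GoodQuot
import Groth.Agent.Lib.Helper72.OrbitK
import Groth.Agent.Lib.Helper72.ActRestrict

set_option autoImplicit false
set_option linter.unusedSectionVars false
universe u
open CategoryTheory MonoidalCategory CartesianMonoidalCategory MonObj AlgebraicGeometry Topology

namespace Groth.Agent.Lib.Helper81.GoodQuotOrbit

open NRQuot

section General

variable {S : Scheme.{u}} {G : Over S} [GrpObj G] {X Y : Over S} (a : AlgGrp.Action G X)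
  (φ : X ⟶ Y)

noncomputable def theta : G ⊗ X ⟶ G ⊗ X := lift (fst G X)⁻¹ a.act

theorem theta_snd : theta a ≫ snd G X = a.act := lift_snd _ _

theorem theta_act : theta a ≫ a.act = snd G X := by
  unfold theta
  have e : lift (fst G X)⁻¹ a.act =
      lift (fst G X)⁻¹ (lift (fst G X) (snd G X) ≫ a.act) := by
    rw [lift_fst_snd, Category.id_comp]
  rw [e, ← AlgGrp.Action.lift_mul_act, inv_mul_cancel, AlgGrp.Action.lift_one_act]

theorem act_mem_iff {W : Set X.left} (hW : IsInvariantSet a W) (p : (G ⊗ X).left) :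
    a.act.left.base p ∈ W ↔ (snd G X).left.base p ∈ W := by
  refine ⟨fun hp => ?_, hW p⟩
  have h1 : (snd G X).left.base ((theta a).left.base p) = a.act.left.base p := by
    rw [← Scheme.Hom.comp_apply, ← Over.comp_left, theta_snd]
  have h2 : a.act.left.base ((theta a).left.base p) = (snd G X).left.base p := by
    rw [← Scheme.Hom.comp_apply, ← Over.comp_left, theta_act]
  rw [← h2]
  exact hW _ (h1 ▸ hp)

theorem isInvariantSet_diff {M E : Set X.left} (hM : IsInvariantSet a M)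
    (hE : IsInvariantSet a E) : IsInvariantSet a (M \ E) := by
  intro p hp
  exact ⟨hM p hp.1, fun hpe => hp.2 ((act_mem_iff a hE p).mp hpe)⟩

theorem isInvariantSet_preimage (hinv : GIT.IsInvariant a φ) (C : Set Y.left) :
    IsInvariantSet a (φ.left.base ⁻¹' C) := by
  intro p hp
  have h2 := congrArg (fun f => f.base p) hinv.left
  simp only [Scheme.Hom.comp_base, TopCat.comp_app] at h2
  change φ.left.base (a.act.left.base p) ∈ C
  rw [h2]
  exact hp

theorem range_orbitMap_subset {W : Set X.left} (hW : IsInvariantSet a W)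
    (x : 𝟙_ (Over S) ⟶ X) (hx : ∀ t, x.left.base t ∈ W) :
    Set.range (a.orbitMap x).left.base ⊆ W := by
  rintro _ ⟨g, rfl⟩
  have e : (a.orbitMap x).left.base g =
      a.act.left.base ((lift (𝟙 G) (toUnit G ≫ x)).left.base g) := by
    rw [← Scheme.Hom.comp_apply, ← Over.comp_left]
    rfl
  rw [e]
  apply hW
  rw [← Scheme.Hom.comp_apply, ← Over.comp_left, lift_snd, Over.comp_left, Scheme.Hom.comp_apply]
  exact hx _

theorem isInvariantSet_iInter {J : Type*} (W : J → Set X.left)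
    (hW : ∀ t, IsInvariantSet a (W t)) : IsInvariantSet a (⋂ t, W t) := by
  intro p hp
  rw [Set.mem_iInter] at hp ⊢
  exact fun t => hW t p (hp t)

end General

section Field

variable {k : Type u} [Field k] {G X Y : Over (Spec (CommRingCat.of k))} [GrpObj G]
  (a : AlgGrp.Action G X) (φ : X ⟶ Y)

theorem isLocallyClosed_range_orbitMap [LocallyOfFiniteType G.hom] [QuasiCompact G.hom]
    [LocallyOfFiniteType X.hom] (haff : IsAffineHom φ.left) (hinv : GIT.IsInvariant a φ)
    (V : Y.left.Opens) (hV : IsAffineOpen V)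
    (x : 𝟙_ (Over (Spec (CommRingCat.of k))) ⟶ X)
    (hx : ∀ t, φ.left.base (x.left.base t) ∈ V) :
    IsLocallyClosed (Set.range (a.orbitMap x).left.base) := by
  let X' : Over (Spec (CommRingCat.of k)) := Over.mk ((φ.left ⁻¹ᵁ V).ι ≫ X.hom)
  let j : X' ⟶ X := Over.homMk (φ.left ⁻¹ᵁ V).ι rfl
  have hjm : Mono j := by
    have : Mono j.left := inferInstanceAs (Mono (φ.left ⁻¹ᵁ V).ι)
    exact Over.mono_of_mono_left j
  have hrange : Set.range ((G ◁ j) ≫ a.act).left.base ⊆ Set.range (φ.left ⁻¹ᵁ V).ι.base := by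
    rw [Scheme.Opens.range_ι]
    rintro _ ⟨p, rfl⟩
    show φ.left.base (((G ◁ j) ≫ a.act).left.base p) ∈ V
    have h1 : φ.left.base (((G ◁ j) ≫ a.act).left.base p) =
        φ.left.base (j.left.base ((snd G X').left.base p)) := by
      rw [← Scheme.Hom.comp_apply, ← Scheme.Hom.comp_apply, ← Scheme.Hom.comp_apply,
        ← Over.comp_left, ← Over.comp_left, ← Over.comp_left, Category.assoc, hinv,
        ← whiskerLeft_snd_assoc]
    rw [h1]
    exact ((snd G X').left.base p).2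
  let bl : (G ⊗ X').left ⟶ (φ.left ⁻¹ᵁ V).toScheme :=
    IsOpenImmersion.lift (φ.left ⁻¹ᵁ V).ι ((G ◁ j) ≫ a.act).left hrange
  have hbl : bl ≫ (φ.left ⁻¹ᵁ V).ι = ((G ◁ j) ≫ a.act).left := IsOpenImmersion.lift_fac _ _ _
  let b : G ⊗ X' ⟶ X' := Over.homMk bl (by
    show bl ≫ (φ.left ⁻¹ᵁ V).ι ≫ X.hom = (G ⊗ X').hom
    rw [← Category.assoc, hbl, Over.w])
  have hb : b ≫ j = (G ◁ j) ≫ a.act := by
    apply Over.OverMorphism.ext
    rw [Over.comp_left]
    exact hbl
  let a' := Groth.Agent.Lib.Helper72.ActRestrict.restrictMono a j b hb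
  have : IsAffine X'.left := hV.preimage φ.left
  have : LocallyOfFiniteType X'.hom := by
    show LocallyOfFiniteType ((φ.left ⁻¹ᵁ V).ι ≫ X.hom)
    infer_instance
  have : QuasiCompact X'.hom := inferInstance
  have hxr : Set.range x.left.base ⊆ Set.range (φ.left ⁻¹ᵁ V).ι.base := by
    rw [Scheme.Opens.range_ι]
    rintro _ ⟨t, rfl⟩
    exact hx t
  let xl := IsOpenImmersion.lift (φ.left ⁻¹ᵁ V).ι x.left hxr
  have hxl : xl ≫ (φ.left ⁻¹ᵁ V).ι = x.left := IsOpenImmersion.lift_fac _ _ _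
  let x' : 𝟙_ (Over (Spec (CommRingCat.of k))) ⟶ X' := Over.homMk xl (by
    show xl ≫ (φ.left ⁻¹ᵁ V).ι ≫ X.hom = _
    rw [← Category.assoc, hxl, Over.w])
  have hx' : x' ≫ j = x := by
    apply Over.OverMorphism.ext
    rw [Over.comp_left]
    exact hxl
  have hlc := Groth.Agent.Lib.Helper72.OrbitK.isLocallyClosed_range_orbitMap G X' a' x'
  have horb : a'.orbitMap x' ≫ j = a.orbitMap x := by
    rw [Groth.Agent.Lib.Helper72.ActRestrict.restrictMono_orbitMap, hx']
  have hr : Set.range (a.orbitMap x).left.base =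
      j.left.base '' Set.range (a'.orbitMap x').left.base := by
    rw [← horb, Over.comp_left, Scheme.Hom.comp_base, TopCat.coe_comp, Set.range_comp]
  rw [hr]
  have hjo : IsOpenImmersion j.left := inferInstanceAs (IsOpenImmersion (φ.left ⁻¹ᵁ V).ι)
  exact hlc.image j.left.isOpenEmbedding.isInducing
    j.left.isOpenEmbedding.isOpen_range.isLocallyClosed

theorem exists_closed_orbit [IsAlgClosed k] [LocallyOfFiniteType G.hom] [QuasiCompact G.hom]
    [LocallyOfFiniteType X.hom] (h : IsGoodQuot a φ)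
    (y : 𝟙_ (Over (Spec (CommRingCat.of k))) ⟶ Y) :
    ∃ x : 𝟙_ (Over (Spec (CommRingCat.of k))) ⟶ X,
      x ≫ φ = y ∧ IsClosed (Set.range (a.orbitMap x).left.base) := by
  have : UniversallyOpen G.hom := GeomQuotOpen.universallyOpen_of_field k G.hom
  obtain ⟨t₀⟩ : Nonempty (𝟙_ (Over (Spec (CommRingCat.of k)))).left :=
    inferInstanceAs (Nonempty (PrimeSpectrum k))
  have hsub : Subsingleton (𝟙_ (Over (Spec (CommRingCat.of k)))).left :=
    inferInstanceAs (Subsingleton (PrimeSpectrum k))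
  have hy₀ : Set.range y.left.base = {y.left.base t₀} := by
    ext z
    constructor
    · rintro ⟨t, rfl⟩
      rw [Subsingleton.elim t t₀]
      rfl
    · rintro rfl
      exact ⟨t₀, rfl⟩
  have hy₀cl : IsClosed ({y.left.base t₀} : Set Y.left) := by
    rw [← hy₀]
    exact GoodQuot.isClosed_range_point k y
  have hsurj : Function.Surjective φ.left.base := by
    have h1 := h.inter PEmpty (fun i => i.elim) (fun i => i.elim) (fun i => i.elim)
    simp only [Set.iInter_of_empty, Set.image_univ] at h1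
    exact Set.range_eq_univ.mp h1
  obtain ⟨V, hV, hyV, -⟩ := exists_isAffineOpen_mem_and_subset
    (show y.left.base t₀ ∈ (⊤ : Y.left.Opens) from trivial)
  have hVaff : IsAffineOpen (φ.left ⁻¹ᵁ V) := by
    have := h.affine
    exact hV.preimage φ.left
  have : IsAffine (φ.left ⁻¹ᵁ V).toScheme := hVaff
  have : LocallyOfFiniteType ((φ.left ⁻¹ᵁ V).ι ≫ X.hom) := inferInstance
  have : QuasiCompact ((φ.left ⁻¹ᵁ V).ι ≫ X.hom) := inferInstance
  have hN : TopologicalSpace.NoetherianSpace ↥(φ.left ⁻¹ᵁ V) :=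
    Groth.Agent.Lib.Helper72.OrbitDim.noetherianSpace_of_ft ((φ.left ⁻¹ᵁ V).ι ≫ X.hom)
  let F : Set X.left := φ.left.base ⁻¹' {y.left.base t₀}
  have hFV : F ⊆ (φ.left ⁻¹ᵁ V : Set X.left) := by
    intro z hz
    show φ.left.base z ∈ V
    rw [Set.mem_preimage, Set.mem_singleton_iff] at hz
    rw [hz]
    exact hyV
  let 𝒞 : Type u := {M : Set X.left // IsClosed M ∧ IsInvariantSet a M ∧ M.Nonempty ∧ M ⊆ F}
  let mu : 𝒞 → TopologicalSpace.Closeds ↥(φ.left ⁻¹ᵁ V) :=
    fun M => ⟨Subtype.val ⁻¹' M.1, M.2.1.preimage continuous_subtype_val⟩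
  have hmu : ∀ M M' : 𝒞, M.1 ⊆ M'.1 → M.1 ≠ M'.1 → mu M < mu M' := by
    intro M M' hle hne
    refine lt_of_le_of_ne (fun z hz => hle hz) (fun heq => hne ?_)
    apply Set.Subset.antisymm hle
    intro z hz
    have hzV : z ∈ (φ.left ⁻¹ᵁ V : Set X.left) := hFV (M'.2.2.2.2 hz)
    have : (⟨z, hzV⟩ : ↥(φ.left ⁻¹ᵁ V)) ∈ (mu M' : Set _) := hz
    rw [← heq] at this
    exact this
  have hFne : F.Nonempty := by
    obtain ⟨z, hz⟩ := hsurj (y.left.base t₀)
    exact ⟨z, hz⟩
  let F₀ : 𝒞 := ⟨F, hy₀cl.preimage φ.left.continuous, isInvariantSet_preimage a φ h.inv _,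
    hFne, le_rfl⟩
  obtain ⟨M₀, -, hmin⟩ := WellFounded.has_min
    (InvImage.wf mu (wellFounded_lt (α := TopologicalSpace.Closeds ↥(φ.left ⁻¹ᵁ V))))
    Set.univ ⟨F₀, trivial⟩
  have hminimal : ∀ M : Set X.left, IsClosed M → IsInvariantSet a M → M.Nonempty → M ⊆ M₀.1 →
      M = M₀.1 := by
    intro M hMc hMi hMn hMle
    by_contra hne
    exact hmin ⟨M, hMc, hMi, hMn, hMle.trans M₀.2.2.2.2⟩ trivial (hmu _ _ hMle hne)
  have hJ : JacobsonSpace X.left := LocallyOfFiniteType.jacobsonSpace X.hom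
  obtain ⟨c, hcM, hc⟩ := nonempty_inter_closedPoints M₀.2.2.2.1 M₀.2.1.isLocallyClosed
  let x : 𝟙_ (Over (Spec (CommRingCat.of k))) ⟶ X :=
    Over.homMk (pointOfClosedPoint X.hom c hc) (pointOfClosedPoint_comp X.hom c hc)
  have hxc : ∀ t, x.left.base t = c := fun t => pointOfClosedPoint_apply X.hom c hc t
  have hxy : x ≫ φ = y := by
    refine GoodQuot.point_ext k _ _ ⟨t₀, t₀, ?_⟩
    rw [Over.comp_left, Scheme.Hom.comp_apply, hxc]
    exact M₀.2.2.2.2 hcM
  refine ⟨x, hxy, ?_⟩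
  have hE : Set.range (a.orbitMap x).left.base ⊆ M₀.1 :=
    range_orbitMap_subset a M₀.2.2.1 x (fun t => (hxc t).symm ▸ hcM)
  have hEne : (Set.range (a.orbitMap x).left.base).Nonempty := Set.range_nonempty_iff_nonempty.mpr
    ⟨η[G].left.base t₀⟩
  have hEinv := GoodQuot.isInvariantSet_range_orbitMap a x
  have hcl : closure (Set.range (a.orbitMap x).left.base) = M₀.1 :=
    hminimal _ isClosed_closure (GoodQuot.isInvariantSet_closure a _ hEinv) hEne.closure
      (closure_minimal hE M₀.2.1)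
  have hlc : IsLocallyClosed (Set.range (a.orbitMap x).left.base) :=
    isLocallyClosed_range_orbitMap a φ h.affine h.inv V hV x (fun t => by
      have : φ.left.base (x.left.base t) = y.left.base t₀ := by
        rw [hxc]
        exact M₀.2.2.2.2 hcM
      rw [this]
      exact hyV)
  have hB : IsClosed (closure (Set.range (a.orbitMap x).left.base) \
      Set.range (a.orbitMap x).left.base) := by
    have := hlc.isOpen_coborder
    unfold coborder at this
    exact isOpen_compl_iff.mp this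
  rw [hcl] at hB
  by_contra hncl
  have hBne : (M₀.1 \ Set.range (a.orbitMap x).left.base).Nonempty := by
    by_contra hemp
    rw [Set.not_nonempty_iff_eq_empty, Set.sdiff_eq_empty] at hemp
    apply hncl
    have : Set.range (a.orbitMap x).left.base = M₀.1 := Set.Subset.antisymm hE hemp
    rw [this]
    exact M₀.2.1
  have := hminimal _ hB (isInvariantSet_diff a M₀.2.2.1 hEinv) hBne Set.sdiff_subset
  obtain ⟨e, he⟩ := hEne
  have he' : e ∈ M₀.1 \ Set.range (a.orbitMap x).left.base := by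
    rw [this]
    exact hE he
  exact he'.2 he

theorem exists_translate_of_mem [IsAlgClosed k] [LocallyOfFiniteType G.hom]
    (x₁ x₂ : 𝟙_ (Over (Spec (CommRingCat.of k))) ⟶ X) (g₁ g₂ : G.left)
    (hg : (a.orbitMap x₁).left.base g₁ = (a.orbitMap x₂).left.base g₂) :
    ∃ g : 𝟙_ (Over (Spec (CommRingCat.of k))) ⟶ G, lift g x₁ ≫ a.act = x₂ := by
  obtain ⟨w, -, -⟩ := Scheme.Pullback.exists_preimage_pullback g₁ g₂ hg
  have : Nonempty ↥(Limits.pullback (a.orbitMap x₁).left (a.orbitMap x₂).left) := ⟨w⟩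
  have : LocallyOfFiniteType ((a.orbitMap x₂).left ≫ X.hom) := by
    rw [Over.w]
    infer_instance
  have : LocallyOfFiniteType (a.orbitMap x₂).left :=
    locallyOfFiniteType_of_comp (a.orbitMap x₂).left X.hom
  obtain ⟨s, hs⟩ := GoodQuot.exists_point_of_nonempty k
    (Limits.pullback.fst (a.orbitMap x₁).left (a.orbitMap x₂).left ≫ G.hom)
  have hs2 : (s ≫ Limits.pullback.snd (a.orbitMap x₁).left (a.orbitMap x₂).left) ≫ G.hom =
      𝟙 _ := by
    have e1 : (a.orbitMap x₁).left ≫ X.hom = G.hom := Over.w _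
    have e2 : (a.orbitMap x₂).left ≫ X.hom = G.hom := Over.w _
    rw [← hs]
    conv_lhs => rw [← e2]
    conv_rhs => rw [← e1]
    simp only [Category.assoc]
    rw [Limits.pullback.condition_assoc]
  let c₁ : 𝟙_ (Over (Spec (CommRingCat.of k))) ⟶ G :=
    Over.homMk (s ≫ Limits.pullback.fst _ _) (by rw [Category.assoc]; exact hs)
  let c₂ : 𝟙_ (Over (Spec (CommRingCat.of k))) ⟶ G :=
    Over.homMk (s ≫ Limits.pullback.snd _ _) hs2
  have hc : c₁ ≫ a.orbitMap x₁ = c₂ ≫ a.orbitMap x₂ := by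
    apply Over.OverMorphism.ext
    rw [Over.comp_left, Over.comp_left]
    show (s ≫ Limits.pullback.fst _ _) ≫ _ = (s ≫ Limits.pullback.snd _ _) ≫ _
    rw [Category.assoc, Category.assoc, Limits.pullback.condition]
  have hu : (toUnit (𝟙_ (Over (Spec (CommRingCat.of k)))) :
      𝟙_ (Over (Spec (CommRingCat.of k))) ⟶ 𝟙_ (Over (Spec (CommRingCat.of k)))) = 𝟙 _ :=
    toUnit_unique _ _
  rw [AlgGrp.Action.comp_orbitMap, AlgGrp.Action.comp_orbitMap, hu, Category.id_comp,
    Category.id_comp] at hc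
  refine ⟨c₂⁻¹ * c₁, ?_⟩
  rw [AlgGrp.Action.lift_mul_act, hc, ← AlgGrp.Action.lift_mul_act, inv_mul_cancel,
    AlgGrp.Action.lift_one_act]

theorem exists_unique_closed_orbit [IsAlgClosed k] [LocallyOfFiniteType G.hom]
    [QuasiCompact G.hom] [LocallyOfFiniteType X.hom] (h : IsGoodQuot a φ)
    (y : 𝟙_ (Over (Spec (CommRingCat.of k))) ⟶ Y) :
    ∃ x : 𝟙_ (Over (Spec (CommRingCat.of k))) ⟶ X, x ≫ φ = y ∧
      IsClosed (Set.range (a.orbitMap x).left.base) ∧
      ∀ x' : 𝟙_ (Over (Spec (CommRingCat.of k))) ⟶ X, x' ≫ φ = y →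
        IsClosed (Set.range (a.orbitMap x').left.base) →
        ∃ g : 𝟙_ (Over (Spec (CommRingCat.of k))) ⟶ G, lift g x ≫ a.act = x' := by
  obtain ⟨x, hxy, hxc⟩ := exists_closed_orbit a φ h y
  refine ⟨x, hxy, hxc, fun x' hx'y hx'c => ?_⟩
  obtain ⟨z, hz₁, hz₂⟩ := (GoodQuot.closure_inter_nonempty_iff k a φ h x x').mpr
    (hxy.trans hx'y.symm)
  rw [hxc.closure_eq] at hz₁
  rw [hx'c.closure_eq] at hz₂
  obtain ⟨g₁, hg₁⟩ := hz₁
  obtain ⟨g₂, hg₂⟩ := hz₂
  exact exists_translate_of_mem a x x' g₁ g₂ (hg₁.trans hg₂.symm)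

end Field

end Groth.Agent.Lib.Helper81.GoodQuotOrbit
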