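import Mathlib

set_option autoImplicit false

namespace Groth.Agent.Lib.Helper81.GradedGen

open DirectSum

variable {R B : Type*} [CommRing R] [CommRing B] [Algebra R B] (ℬ : ℕ → Submodule R B)
  [GradedAlgebra ℬ]

theorem graded_induction' (s : Set B)
    (deg : B → ℕ) (hdeg : ∀ g ∈ s, g ∈ ℬ (deg g))
    (P : ℕ → B → Prop)
    (h0 : ∀ n, P n 0)
    (hadd : ∀ n x y, P n x → P n y → P n (x + y))
    (hmul : ∀ a b x y, x ∈ ℬ a → y ∈ ℬ b → P a x → P b y → P (a + b) (x * y))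
    (hzero : ∀ x ∈ ℬ 0, P 0 x)
    (hgen : ∀ g ∈ s, P (deg g) g) :
    ∀ b ∈ Algebra.adjoin (ℬ 0) s, ∀ n, P n (decompose ℬ b n : B) := by
  classical
  intro b hb
  induction hb using Algebra.adjoin_induction with
  | mem x hx =>
    intro n
    by_cases h : n = deg x
    · subst h
      rw [decompose_of_mem_same ℬ (hdeg x hx)]
      exact hgen x hx
    · rw [decompose_of_mem_ne ℬ (hdeg x hx) (Ne.symm h)]
      exact h0 n
  | algebraMap r =>
    intro n
    have hr : (algebraMap (ℬ 0) B r) ∈ ℬ 0 := r.2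
    by_cases h : n = 0
    · subst h
      rw [decompose_of_mem_same ℬ hr]
      exact hzero _ hr
    · rw [decompose_of_mem_ne ℬ hr (Ne.symm h)]
      exact h0 n
  | add x y _ _ hx hy =>
    intro n
    rw [decompose_add, DirectSum.add_apply, Submodule.coe_add]
    exact hadd n _ _ (hx n) (hy n)
  | mul x y _ _ hx hy =>
    intro n
    rw [decompose_mul, coe_mul_apply_eq_sum_antidiagonal]
    refine Finset.sum_induction _ (P n) (hadd n) (h0 n) ?_
    intro ij hij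
    have hij := Finset.HasAntidiagonal.mem_antidiagonal.mp hij
    rw [← hij]
    exact hmul _ _ _ _ (decompose ℬ x ij.1).2 (decompose ℬ y ij.2).2 (hx _) (hy _)

theorem graded_induction (s : Set B) (hs : Algebra.adjoin (ℬ 0) s = ⊤)
    (deg : B → ℕ) (hdeg : ∀ g ∈ s, g ∈ ℬ (deg g))
    (P : ℕ → B → Prop)
    (h0 : ∀ n, P n 0)
    (hadd : ∀ n x y, P n x → P n y → P n (x + y))
    (hmul : ∀ a b x y, x ∈ ℬ a → y ∈ ℬ b → P a x → P b y → P (a + b) (x * y))
    (hzero : ∀ x ∈ ℬ 0, P 0 x)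
    (hgen : ∀ g ∈ s, P (deg g) g) :
    ∀ n, ∀ b ∈ ℬ n, P n b := by
  intro n b hb
  have := graded_induction' ℬ s deg hdeg P h0 hadd hmul hzero hgen b (by rw [hs]; trivial) n
  rwa [decompose_of_mem_same ℬ hb] at this

theorem pow_le (n : ℕ) : ℬ 1 ^ n ≤ ℬ n := by
  induction n with
  | zero =>
    rw [pow_zero, Submodule.one_le]
    exact SetLike.GradedOne.one_mem
  | succ n ih =>
    rw [pow_succ]
    refine (mul_le_mul' ih le_rfl).trans ?_
    rw [Submodule.mul_le]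
    intro x hx y hy
    exact SetLike.mul_mem_graded hx hy

theorem mul_le (a b : ℕ) : ℬ a * ℬ b ≤ ℬ (a + b) := by
  rw [Submodule.mul_le]
  intro x hx y hy
  exact SetLike.mul_mem_graded hx hy

theorem zero_mul_pow_le (n : ℕ) (hn : 1 ≤ n) : ℬ 0 * ℬ 1 ^ n ≤ ℬ 1 ^ n := by
  obtain ⟨m, rfl⟩ : ∃ m, n = m + 1 := ⟨n - 1, by omega⟩
  rw [pow_succ', ← mul_assoc]
  refine mul_le_mul' ?_ le_rfl
  have := mul_le ℬ 0 1
  rwa [zero_add] at this

def T' (n : ℕ) : Submodule R B := if n = 0 then ℬ 0 else ℬ 1 ^ n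

omit [GradedAlgebra ℬ] in
theorem T'_zero : T' ℬ 0 = ℬ 0 := by simp [T']

omit [GradedAlgebra ℬ] in
theorem T'_pos (n : ℕ) (hn : 1 ≤ n) : T' ℬ n = ℬ 1 ^ n := by
  have : n ≠ 0 := by omega
  simp [T', this]

theorem T'_mul_le (a b : ℕ) : T' ℬ a * T' ℬ b ≤ T' ℬ (a + b) := by
  rcases Nat.eq_zero_or_pos a with rfl | ha
  · rcases Nat.eq_zero_or_pos b with rfl | hb
    · rw [T'_zero]
      have := mul_le ℬ 0 0
      simpa using this
    · rw [zero_add, T'_zero, T'_pos ℬ b hb]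
      exact zero_mul_pow_le ℬ b hb
  · rcases Nat.eq_zero_or_pos b with rfl | hb
    · rw [add_zero, T'_zero, T'_pos ℬ a ha, mul_comm]
      exact zero_mul_pow_le ℬ a ha
    · rw [T'_pos ℬ a ha, T'_pos ℬ b hb, T'_pos ℬ (a + b) (by omega), pow_add]

theorem mem_T'_of_mem_adjoin (b : B) (hb : b ∈ Algebra.adjoin (ℬ 0) (ℬ 1 : Set B)) (n : ℕ) :
    (decompose ℬ b n : B) ∈ T' ℬ n := by
  refine graded_induction' ℬ (ℬ 1 : Set B) (fun _ => 1) (fun g hg => hg) (fun n x => x ∈ T' ℬ n)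
    (fun n => Submodule.zero_mem _) (fun n x y hx hy => Submodule.add_mem _ hx hy) ?_ ?_ ?_ b hb n
  · intro a b x y _ _ hx hy
    exact T'_mul_le ℬ a b (Submodule.mul_mem_mul hx hy)
  · intro x hx
    rwa [T'_zero]
  · intro g hg
    rw [T'_pos ℬ 1 le_rfl, pow_one]
    exact hg

theorem pow_le_adjoin (n : ℕ) (y : B) (hy : y ∈ ℬ 1 ^ n) :
    y ∈ Algebra.adjoin (ℬ 0) (ℬ 1 : Set B) := by
  induction n generalizing y with
  | zero =>
    rw [pow_zero] at hy
    have h0 : y ∈ ℬ 0 := by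
      have : (1 : Submodule R B) ≤ ℬ 0 := by
        rw [Submodule.one_le]; exact SetLike.GradedOne.one_mem
      exact this hy
    exact Subalgebra.algebraMap_mem _ (⟨y, h0⟩ : ℬ 0)
  | succ n ih =>
    rw [pow_succ] at hy
    refine Submodule.mul_induction_on hy ?_ ?_
    · intro u hu v hv
      exact Subalgebra.mul_mem _ (ih u hu) (Algebra.subset_adjoin hv)
    · intro u v hu hv
      exact Subalgebra.add_mem _ hu hv


theorem exists_pow_mul_mem (s : Finset B) (hs : Algebra.adjoin (ℬ 0) (s : Set B) = ⊤)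
    (deg : B → ℕ) (hdeg : ∀ g ∈ s, g ∈ ℬ (deg g))
    (g : B) (hloc : ∀ f ∈ ℬ 1, ∃ N, f ^ N * g ∈ Algebra.adjoin (ℬ 0) (ℬ 1 : Set B)) :
    ∃ M, ∀ M', M ≤ M' → ∀ y ∈ ℬ 1 ^ M', y * g ∈ Algebra.adjoin (ℬ 0) (ℬ 1 : Set B) := by
  classical
  obtain ⟨T, hT⟩ : ∃ T : Subalgebra (ℬ 0) B, T = Algebra.adjoin (ℬ 0) (ℬ 1 : Set B) := ⟨_, rfl⟩
  rw [← hT] at hloc ⊢
  let 𝔞 : Ideal T :=
    { carrier := {t | (t : B) * g ∈ T}
      add_mem' := by
        intro a b ha hb
        show ((a + b : T) : B) * g ∈ T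
        rw [Subalgebra.coe_add, add_mul]
        exact T.add_mem ha hb
      zero_mem' := by
        show ((0 : T) : B) * g ∈ T
        rw [Subalgebra.coe_zero, zero_mul]
        exact T.zero_mem
      smul_mem' := by
        intro c t ht
        show ((c • t : T) : B) * g ∈ T
        rw [smul_eq_mul, Subalgebra.coe_mul, mul_assoc]
        exact T.mul_mem c.2 ht }
  have h𝔞 : ∀ t : T, t ∈ 𝔞 ↔ (t : B) * g ∈ T := fun t => Iff.rfl
  let S₁ : Set T := {t | (t : B) ∈ s ∧ deg (t : B) = 1}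
  have hfin : S₁.Finite := by
    have : S₁ ⊆ Subtype.val ⁻¹' (s : Set B) := fun t ht => ht.1
    exact (s.finite_toSet.preimage Subtype.val_injective.injOn).subset this
  have hfg : (Ideal.span S₁).FG := Submodule.fg_span hfin
  have hle : Ideal.span S₁ ≤ 𝔞.radical := by
    rw [Ideal.span_le]
    intro t ht
    have h1 : (t : B) ∈ ℬ 1 := by
      have := hdeg _ ht.1
      rwa [ht.2] at this
    obtain ⟨N, hN⟩ := hloc _ h1
    refine ⟨N, ?_⟩
    rw [h𝔞, Subalgebra.coe_pow]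
    exact hN
  obtain ⟨M, hM⟩ := Ideal.exists_pow_le_of_le_radical_of_fg hle hfg
  have key1 : ∀ x ∈ ℬ 1, ∃ t ∈ Ideal.span S₁, (t : B) = x := by
    have := graded_induction ℬ (s : Set B) hs deg hdeg
      (fun n x => n = 1 → ∃ t ∈ Ideal.span S₁, (t : B) = x) ?_ ?_ ?_ ?_ ?_ 1
    · intro x hx
      exact this x hx rfl
    · intro n _
      exact ⟨0, Submodule.zero_mem _, rfl⟩
    · intro n x y hx hy hn
      obtain ⟨t, ht, rfl⟩ := hx hn
      obtain ⟨t', ht', rfl⟩ := hy hn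
      exact ⟨t + t', Submodule.add_mem _ ht ht', rfl⟩
    · intro a b x y hxa hyb hx hy hab
      have h0T : ∀ z ∈ ℬ 0, z ∈ T := by
        intro z hz
        exact Subalgebra.algebraMap_mem T (⟨z, hz⟩ : ℬ 0)
      rcases Nat.eq_zero_or_pos a with rfl | ha
      · have hb : b = 1 := by omega
        obtain ⟨t, ht, rfl⟩ := hy hb
        exact ⟨⟨x, h0T x hxa⟩ * t, Ideal.mul_mem_left _ _ ht, rfl⟩
      · have ha1 : a = 1 := by omega
        have hb : b = 0 := by omega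
        subst hb
        obtain ⟨t, ht, rfl⟩ := hx ha1
        exact ⟨t * ⟨y, h0T y hyb⟩, Ideal.mul_mem_right _ _ ht, rfl⟩
    · intro x _ h
      omega
    · intro g' hg' h1
      have hg1 : g' ∈ ℬ 1 := by
        have := hdeg g' hg'
        rwa [h1] at this
      have hgT : g' ∈ T := by
        rw [hT]; exact Algebra.subset_adjoin hg1
      exact ⟨⟨g', hgT⟩, Ideal.subset_span ⟨hg', h1⟩, rfl⟩
  have key2 : ∀ k, ∀ y ∈ ℬ 1 ^ k, ∃ t ∈ Ideal.span S₁ ^ k, (t : B) = y := by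
    intro k
    induction k with
    | zero =>
      intro y hy
      have hyT : y ∈ T := by
        rw [hT]; exact pow_le_adjoin ℬ 0 y hy
      exact ⟨⟨y, hyT⟩, by simp, rfl⟩
    | succ k ih =>
      intro y hy
      rw [pow_succ] at hy
      refine Submodule.mul_induction_on hy ?_ ?_
      · intro u hu v hv
        obtain ⟨t, ht, rfl⟩ := ih u hu
        obtain ⟨t', ht', rfl⟩ := key1 v hv
        refine ⟨t * t', ?_, rfl⟩
        rw [pow_succ]
        exact Ideal.mul_mem_mul ht ht'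
      · rintro u v ⟨t, ht, rfl⟩ ⟨t', ht', rfl⟩
        exact ⟨t + t', Submodule.add_mem _ ht ht', rfl⟩
  refine ⟨M, fun M' hM' y hy => ?_⟩
  obtain ⟨t, ht, rfl⟩ := key2 M' y hy
  have : t ∈ 𝔞 := hM (Ideal.pow_le_pow_right hM' ht)
  exact (h𝔞 t).1 this


theorem mem_mul_of_mem_span (n : ℕ) (hn : 1 ≤ n) (b : B) (hb : b ∈ ℬ n)
    (hI : b ∈ Ideal.span (ℬ 1 : Set B)) : b ∈ ℬ 1 * ℬ (n - 1) := by
  have key : ∀ x ∈ Ideal.span (ℬ 1 : Set B), (decompose ℬ x n : B) ∈ ℬ 1 * ℬ (n - 1) := by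
    intro x hx
    induction hx using Submodule.closure_induction with
    | zero =>
      rw [decompose_zero, DirectSum.zero_apply, Submodule.coe_zero]
      exact Submodule.zero_mem _
    | add x y _ _ hx hy =>
      rw [decompose_add, DirectSum.add_apply, Submodule.coe_add]
      exact Submodule.add_mem _ hx hy
    | smul_mem r x h =>
      rw [smul_eq_mul, coe_decompose_mul_of_right_mem_of_le ℬ h hn]
      exact Submodule.mul_mem_mul_rev h (decompose ℬ r (n - 1)).2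
  have := key b hI
  rwa [decompose_of_mem_same ℬ hb] at this

theorem exists_le_mul [Algebra.FiniteType (ℬ 0) B]
    (hrad : ∀ d, 0 < d → ∀ g ∈ ℬ d, g ∈ (Ideal.span (ℬ 1 : Set B)).radical) :
    ∃ n₁, 1 ≤ n₁ ∧ ∀ n, n₁ ≤ n → ℬ n ≤ ℬ 1 * ℬ (n - 1) := by
  classical
  obtain ⟨s, hs, hsd⟩ := GradedAlgebra.exists_finset_adjoin_eq_top_and_homogeneous_ne_zero ℬ
  choose! deg hdeg using hsd
  obtain ⟨J, hJ⟩ : ∃ J : Ideal B, J = Ideal.span (s : Set B) := ⟨_, rfl⟩
  have hJfg : J.FG := ⟨s, hJ.symm⟩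
  have hJle : J ≤ (Ideal.span (ℬ 1 : Set B)).radical := by
    rw [hJ, Ideal.span_le]
    intro g hg
    exact hrad (deg g) (Nat.pos_of_ne_zero (hdeg g hg).1) g (hdeg g hg).2
  obtain ⟨k, hk⟩ := Ideal.exists_pow_le_of_le_radical_of_fg hJle hJfg
  obtain ⟨D, hD⟩ : ∃ D : ℕ, D = s.sup deg + 1 := ⟨_, rfl⟩
  have hD1 : 1 ≤ D := by omega
  have hDdeg : ∀ g ∈ s, deg g ≤ D := by
    intro g hg
    have := Finset.le_sup (f := deg) hg
    omega
  have key := graded_induction ℬ (s : Set B) hs deg (fun g hg => (hdeg g hg).2)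
    (fun n x => ∃ j, n ≤ j * D ∧ x ∈ J ^ j) ?_ ?_ ?_ ?_ ?_
  · refine ⟨max (k * D) 1, le_max_right _ _, fun n hn b hb => ?_⟩
    have hn1 : 1 ≤ n := le_trans (le_max_right _ _) hn
    have hnk : k * D ≤ n := le_trans (le_max_left _ _) hn
    obtain ⟨j, hj, hbj⟩ := key n b hb
    have hkj : k ≤ j := by
      by_contra hlt
      have hlt := Nat.lt_of_not_le hlt
      have : j * D < k * D := Nat.mul_lt_mul_of_lt_of_le hlt le_rfl hD1
      omega
    have hbI : b ∈ Ideal.span (ℬ 1 : Set B) := hk (Ideal.pow_le_pow_right hkj hbj)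
    exact mem_mul_of_mem_span ℬ n hn1 b hb hbI
  · intro n
    exact ⟨n, Nat.le_mul_of_pos_right n hD1, Submodule.zero_mem _⟩
  · rintro n x y ⟨j, hj, hx⟩ ⟨j', hj', hy⟩
    refine ⟨min j j', ?_, Submodule.add_mem _ (Ideal.pow_le_pow_right (min_le_left _ _) hx)
      (Ideal.pow_le_pow_right (min_le_right _ _) hy)⟩
    rcases le_total j j' with h | h
    · rwa [min_eq_left h]
    · rwa [min_eq_right h]
  · rintro a b x y _ _ ⟨j, hj, hx⟩ ⟨j', hj', hy⟩
    refine ⟨j + j', ?_, ?_⟩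
    · rw [add_mul]; omega
    · rw [pow_add]; exact Ideal.mul_mem_mul hx hy
  · intro x _
    exact ⟨0, by simp, by simp⟩
  · intro g hg
    refine ⟨1, by rw [one_mul]; exact hDdeg g hg, ?_⟩
    rw [pow_one, hJ]
    exact Ideal.subset_span hg

theorem eventually_eq_pow [Algebra.FiniteType (ℬ 0) B]
    (hrad : ∀ d, 0 < d → ∀ g ∈ ℬ d, g ∈ (Ideal.span (ℬ 1 : Set B)).radical)
    (hloc : ∀ f ∈ ℬ 1, ∀ d, ∀ g ∈ ℬ d, ∃ N, f ^ N * g ∈ ℬ 1 ^ (N + d)) :
    ∃ n₀, ∀ n, n₀ ≤ n → ℬ n = ℬ 1 ^ n := by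
  classical
  obtain ⟨s, hs, hsd⟩ := GradedAlgebra.exists_finset_adjoin_eq_top_and_homogeneous_ne_zero ℬ
  choose! deg hdeg using hsd
  have hM : ∀ g ∈ s, ∃ M, ∀ M', M ≤ M' → ∀ y ∈ ℬ 1 ^ M',
      y * g ∈ Algebra.adjoin (ℬ 0) (ℬ 1 : Set B) := by
    intro g hg
    refine exists_pow_mul_mem ℬ s hs deg (fun g hg => (hdeg g hg).2) g ?_
    intro f hf
    obtain ⟨N, hN⟩ := hloc f hf (deg g) g (hdeg g hg).2
    exact ⟨N, pow_le_adjoin ℬ _ _ hN⟩
  choose! Mg hMg using hM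
  obtain ⟨M, hMdef⟩ : ∃ M : ℕ, M = s.sup Mg + 1 := ⟨_, rfl⟩
  have hM1 : 1 ≤ M := by omega
  have hMs : ∀ g ∈ s, Mg g ≤ M := by
    intro g hg
    have := Finset.le_sup (f := Mg) hg
    omega
  have key : ∀ n, ∀ x ∈ ℬ n, ∀ y ∈ ℬ 1 ^ M, y * x ∈ ℬ 1 ^ (M + n) := by
    refine graded_induction ℬ (s : Set B) hs deg (fun g hg => (hdeg g hg).2)
      (fun n x => ∀ y ∈ ℬ 1 ^ M, y * x ∈ ℬ 1 ^ (M + n)) ?_ ?_ ?_ ?_ ?_
    · intro n y _
      rw [mul_zero]; exact Submodule.zero_mem _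
    · intro n x x' hx hx' y hy
      rw [mul_add]; exact Submodule.add_mem _ (hx y hy) (hx' y hy)
    · intro a b x x' _ _ hx hx' y hy
      have h1 := hx y hy
      rw [add_comm M a, pow_add] at h1
      rw [← mul_assoc]
      have : ∀ z ∈ ℬ 1 ^ a * ℬ 1 ^ M, z * x' ∈ ℬ 1 ^ (M + (a + b)) := by
        intro z hz
        refine Submodule.mul_induction_on hz ?_ ?_
        · intro u hu v hv
          rw [mul_assoc]
          have : M + (a + b) = a + (M + b) := by omega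
          rw [this, pow_add]
          exact Submodule.mul_mem_mul hu (hx' v hv)
        · intro u v hu hv
          rw [add_mul]; exact Submodule.add_mem _ hu hv
      exact this _ h1
    · intro x hx y hy
      rw [add_zero, mul_comm]
      exact zero_mul_pow_le ℬ M hM1 (Submodule.mul_mem_mul hx hy)
    · intro g hg y hy
      have h1 : y * g ∈ Algebra.adjoin (ℬ 0) (ℬ 1 : Set B) := hMg g hg M (hMs g hg) y hy
      have h2 : y * g ∈ ℬ (M + deg g) :=
        SetLike.mul_mem_graded (pow_le ℬ M hy) (hdeg g hg).2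
      have h3 := mem_T'_of_mem_adjoin ℬ _ h1 (M + deg g)
      rwa [decompose_of_mem_same ℬ h2, T'_pos ℬ _ (by omega)] at h3
  obtain ⟨n₁, hn₁, hle⟩ := exists_le_mul ℬ hrad
  have step : ∀ m, ℬ (n₁ + m) ≤ ℬ 1 ^ m * ℬ n₁ := by
    intro m
    induction m with
    | zero => rw [pow_zero, one_mul, add_zero]
    | succ m ih =>
      have h1 := hle (n₁ + (m + 1)) (by omega)
      have : n₁ + (m + 1) - 1 = n₁ + m := by omega
      rw [this] at h1
      refine h1.trans ?_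
      rw [pow_succ', mul_assoc]
      exact mul_le_mul' le_rfl ih
  refine ⟨n₁ + M, fun n hn => le_antisymm ?_ (pow_le ℬ n)⟩
  obtain ⟨m, rfl⟩ : ∃ m, n = n₁ + (m + M) := ⟨n - n₁ - M, by omega⟩
  refine (step (m + M)).trans ?_
  rw [pow_add, mul_assoc]
  have h2 : ℬ 1 ^ M * ℬ n₁ ≤ ℬ 1 ^ (M + n₁) := by
    rw [Submodule.mul_le]
    intro y hy x hx
    exact key n₁ x hx y hy
  refine (mul_le_mul' le_rfl h2).trans ?_
  rw [← pow_add]
  have : m + (M + n₁) = n₁ + (m + M) := by omega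
  rw [this]

end Groth.Agent.Lib.Helper81.GradedGen
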