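import Mathlib.CategoryTheory.Triangulated.HomologicalFunctor
import Mathlib.CategoryTheory.Triangulated.Subcategory

set_option autoImplicit false
universe v u v' u'
open CategoryTheory CategoryTheory.Limits

namespace Groth.Agent.Lib.Helper81

open CategoryTheory.Pretriangulated

variable {D : Type u} [Category.{v} D] [Preadditive D] [HasZeroObject D] [HasShift D ℤ]
    [∀ n : ℤ, (shiftFunctor D n).Additive] [Pretriangulated D]
    {A : Type u'} [Category.{v'} A] [Abelian A] (H : D ⥤ A) [H.IsHomological]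

theorem homological_bounded_kernel (R : ℤ → ℤ → Prop)
    (hdir : ∀ N₁ N₂ : ℤ, ∃ N : ℤ, ∀ n, R N n → R N₁ n ∧ R N₂ n)
    (hshift : ∀ N a : ℤ, ∃ N' : ℤ, ∀ n, R N' n → R N (a + n)) :
    (ObjectProperty.IsTriangulated (fun X : D => ∃ N : ℤ, ∀ n : ℤ, R N n → IsZero (H.obj ((shiftFunctor D n).obj X)))) ∧
    (ObjectProperty.IsClosedUnderIsomorphisms (fun X : D => ∃ N : ℤ, ∀ n : ℤ, R N n → IsZero (H.obj ((shiftFunctor D n).obj X)))) ∧
    (∀ X Y : D, (∃ N : ℤ, ∀ n : ℤ, R N n → IsZero (H.obj ((shiftFunctor D n).obj (X ⊞ Y)))) →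
      (∃ N : ℤ, ∀ n : ℤ, R N n → IsZero (H.obj ((shiftFunctor D n).obj X))) ∧
      (∃ N : ℤ, ∀ n : ℤ, R N n → IsZero (H.obj ((shiftFunctor D n).obj Y)))) := by
  have hiso : ObjectProperty.IsClosedUnderIsomorphisms (fun X : D => ∃ N : ℤ, ∀ n : ℤ, R N n →
      IsZero (H.obj ((shiftFunctor D n).obj X))) :=
    ⟨fun e ⟨N, hN⟩ => ⟨N, fun n hn => (hN n hn).of_iso ((shiftFunctor D n ⋙ H).mapIso e.symm)⟩⟩
  refine ⟨?_, hiso, ?_⟩
  · have h0 : ObjectProperty.ContainsZero (fun X : D => ∃ N : ℤ, ∀ n : ℤ, R N n →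
        IsZero (H.obj ((shiftFunctor D n).obj X))) :=
      ⟨⟨_, isZero_zero D, 0, fun n _ => (shiftFunctor D n ⋙ H).map_isZero (isZero_zero D)⟩⟩
    have hs : ObjectProperty.IsStableUnderShift (fun X : D => ∃ N : ℤ, ∀ n : ℤ, R N n →
        IsZero (H.obj ((shiftFunctor D n).obj X))) ℤ :=
      ⟨fun a => ⟨fun X ⟨N, hN⟩ => by
        obtain ⟨N', hN'⟩ := hshift N a
        exact ⟨N', fun n hn => (hN (a + n) (hN' n hn)).of_iso
          (H.mapIso ((shiftFunctorAdd D a n).app X).symm)⟩⟩⟩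
    have h2 : ObjectProperty.IsTriangulatedClosed₂ (fun X : D => ∃ N : ℤ, ∀ n : ℤ, R N n →
        IsZero (H.obj ((shiftFunctor D n).obj X))) :=
      ObjectProperty.IsTriangulatedClosed₂.mk' (fun T hT ⟨N₁, h₁⟩ ⟨N₃, h₃⟩ => by
        obtain ⟨N, hN⟩ := hdir N₁ N₃
        exact ⟨N, fun n hn => (H.map_distinguished_exact _
          (Triangle.shift_distinguished T hT n)).isZero_of_both_zeros
            ((h₁ n (hN n hn).1).eq_of_src _ _) ((h₃ n (hN n hn).2).eq_of_tgt _ _)⟩)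
    exact { }
  · rintro X Y ⟨N, hN⟩
    constructor
    · refine ⟨N, fun n hn => ?_⟩
      apply IsZero.of_mono_eq_zero ((shiftFunctor D n ⋙ H).map (biprod.inl : X ⟶ X ⊞ Y))
      exact (hN n hn).eq_of_tgt _ _
    · refine ⟨N, fun n hn => ?_⟩
      apply IsZero.of_mono_eq_zero ((shiftFunctor D n ⋙ H).map (biprod.inr : Y ⟶ X ⊞ Y))
      exact (hN n hn).eq_of_tgt _ _

end Groth.Agent.Lib.Helper81
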