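import Mathlib
import Groth.Prelude.Def_HopfRep
import Groth.Agent.Lib.Helper81.HopfGalois

set_option autoImplicit false
universe u

open TensorProduct

namespace Groth.Agent.Lib.Helper81.HopfInvNormal

open Groth.Agent.Lib.Helper81.HopfGalois

section Prod

variable {S : Type u} [CommRing S] {ι : Type u} (D : ι → Type u) [∀ i, CommRing (D i)]
  [∀ i, IsDomain (D i)] (e : S ≃+* Π i, D i)

include e in
theorem ext_coord {s t : S} (h : ∀ i, e s i = e t i) : s = t :=
  e.injective (funext h)

open Classical in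
noncomputable def fId (a : S) : S := e.symm (fun i => if e a i = 0 then 1 else 0)

open Classical in
noncomputable def eId (a : S) : S := e.symm (fun i => if e a i = 0 then 0 else 1)

open Classical in
theorem fId_coord (a : S) (i : ι) : e (fId D e a) i = if e a i = 0 then 1 else 0 := by
  unfold fId
  rw [RingEquiv.apply_symm_apply]

open Classical in
theorem eId_coord (a : S) (i : ι) : e (eId D e a) i = if e a i = 0 then 0 else 1 := by
  unfold eId
  rw [RingEquiv.apply_symm_apply]

theorem fId_add_eId (a : S) : fId D e a + eId D e a = 1 := by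
  apply ext_coord D e
  intro i
  rw [map_add, Pi.add_apply, fId_coord, eId_coord, map_one, Pi.one_apply]
  split_ifs <;> simp

theorem fId_mul (a : S) : fId D e a * a = 0 := by
  apply ext_coord D e
  intro i
  rw [map_mul, Pi.mul_apply, fId_coord, map_zero, Pi.zero_apply]
  split_ifs with h
  · rw [h, mul_zero]
  · rw [zero_mul]

theorem eId_mul (a : S) : eId D e a * (a + fId D e a) = a := by
  apply ext_coord D e
  intro i
  rw [map_mul, Pi.mul_apply, map_add, Pi.add_apply, fId_coord, eId_coord]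
  split_ifs with h
  · rw [h, zero_mul]
  · rw [add_zero, one_mul]

theorem nzd_of_coord (c : S) (hc : ∀ i, e c i ≠ 0) (s : S) (hs : c * s = 0) : s = 0 := by
  apply ext_coord D e
  intro i
  have := congrArg (fun t => e t i) hs
  simp only [map_mul, Pi.mul_apply, map_zero, Pi.zero_apply] at this
  rw [map_zero, Pi.zero_apply]
  exact (mul_eq_zero.mp this).resolve_left (hc i)

theorem add_fId_nzd (a : S) (s : S) (hs : (a + fId D e a) * s = 0) : s = 0 := by
  apply nzd_of_coord D e _ _ s hs
  intro i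
  rw [map_add, Pi.add_apply, fId_coord]
  split_ifs with h
  · rw [h, zero_add]; exact one_ne_zero
  · rw [add_zero]; exact h

end Prod

section Main

variable {k : Type u} [Field k] {H : Type u} [CommRing H] [HopfAlgebra k H]
  {S : Type u} [CommRing S] [Algebra k S] [HopfRep.Comod k H S]

local notation "ρ" => HopfRep.Comod.coact (k := k) (A := H) (V := S)

variable (hmul : ∀ x y : S, HopfRep.Comod.coact (k := k) (A := H) (x * y) = HopfRep.Comod.coact (k := k) (A := H) x * HopfRep.Comod.coact (k := k) (A := H) y)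
  (hone : HopfRep.Comod.coact (k := k) (A := H) (1 : S) = 1)
  {ι : Type u} [Fintype ι] (D : ι → Type u) [∀ i, CommRing (D i)] [∀ i, IsDomain (D i)]
  [∀ i, IsIntegrallyClosed (D i)] (e : S ≃+* Π i, D i)
  (A : Subalgebra k S) (hA : ∀ a : S, a ∈ A ↔ HopfRep.Comod.coact (k := k) (A := H) a = a ⊗ₜ[k] (1 : H))

include hmul hone hA in
theorem fId_mem (a : S) (ha : a ∈ A) : fId D e a ∈ A := by
  rw [hA]
  exact idem_invariant hmul hone a (fId D e a) (eId D e a) (a + fId D e a) ((hA a).mp ha)
    (fId_add_eId D e a) (fId_mul D e a) (eId_mul D e a) (add_fId_nzd D e a)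

noncomputable def φ (i : ι) : A →+* D i :=
  (Pi.evalRingHom D i).comp (e.toRingHom.comp A.val.toRingHom)

theorem φ_apply (i : ι) (a : A) : φ D e A i a = e (a : S) i := rfl

noncomputable def P (i : ι) : Ideal A := RingHom.ker (φ D e A i)

theorem mem_P (i : ι) (a : A) : a ∈ P D e A i ↔ e (a : S) i = 0 := by
  unfold P
  rw [RingHom.mem_ker, φ_apply]

instance (i : ι) : (P D e A i).IsPrime := RingHom.ker_isPrime _

include hmul hone hA in
theorem exists_sep (i i' : ι) (a : A) (h1 : a ∈ P D e A i) (h2 : a ∉ P D e A i') :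
    ∃ u : A, 1 - u ∈ P D e A i ∧ u ∈ P D e A i' := by
  refine ⟨⟨fId D e (a : S), fId_mem hmul hone D e A hA _ a.2⟩, ?_, ?_⟩
  · rw [mem_P]
    change e ((1 : S) - fId D e (a : S)) i = 0
    rw [map_sub, Pi.sub_apply, fId_coord, map_one, Pi.one_apply, if_pos ((mem_P D e A i a).mp h1),
      sub_self]
  · rw [mem_P]
    change e (fId D e (a : S)) i' = 0
    rw [fId_coord, if_neg (fun h => h2 ((mem_P D e A i' a).mpr h))]

include hmul hone hA in
theorem coprime_of_ne (i i' : ι) (hne : P D e A i ≠ P D e A i') :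
    IsCoprime (P D e A i) (P D e A i') := by
  rw [Ideal.isCoprime_iff_exists]
  have : ∃ a : A, (a ∈ P D e A i ∧ a ∉ P D e A i') ∨ (a ∉ P D e A i ∧ a ∈ P D e A i') := by
    by_contra hcon
    push Not at hcon
    apply hne
    ext a
    constructor
    · intro ha
      exact (hcon a).1 ha
    · intro ha'
      by_contra ha
      exact (hcon a).2 ha ha'
  obtain ⟨a, ⟨h1, h2⟩ | ⟨h1, h2⟩⟩ := this
  · obtain ⟨u, hu1, hu2⟩ := exists_sep hmul hone D e A hA i i' a h1 h2
    exact ⟨1 - u, hu1, u, hu2, by ring⟩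
  · obtain ⟨u, hu1, hu2⟩ := exists_sep hmul hone D e A hA i' i a h2 h1
    exact ⟨u, hu2, 1 - u, hu1, by ring⟩

abbrev κ : Type u := ↥(Set.range (P D e A))

noncomputable instance : Fintype (κ D e A) := Fintype.ofFinite _

include hmul hone hA in
theorem pairwise_coprime :
    Pairwise (Function.onFun IsCoprime (fun j : κ D e A => (j : Ideal A))) := by
  intro j j' hne
  obtain ⟨_, i, rfl⟩ := j
  obtain ⟨_, i', rfl⟩ := j'
  apply coprime_of_ne hmul hone D e A hA
  intro h
  apply hne
  exact Subtype.ext h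

theorem iInf_eq_bot : (⨅ j : κ D e A, (j : Ideal A)) = ⊥ := by
  rw [eq_bot_iff]
  intro a ha
  rw [Ideal.mem_iInf] at ha
  rw [Ideal.mem_bot]
  apply Subtype.ext
  apply ext_coord D e
  intro i
  have := ha ⟨P D e A i, i, rfl⟩
  rw [mem_P] at this
  rw [this]
  change (0 : D i) = e (0 : S) i
  rw [map_zero, Pi.zero_apply]

include hmul hone hA in
theorem exists_eps (i₀ : ι) :
    ∃ ε : A, ∀ i, e (ε : S) i = if P D e A i = P D e A i₀ then 1 else 0 := by
  classical
  obtain ⟨ε, hε⟩ := Ideal.exists_forall_sub_mem_ideal (pairwise_coprime hmul hone D e A hA)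
    (fun j => if (j : Ideal A) = P D e A i₀ then (1 : A) else 0)
  refine ⟨ε, ?_⟩
  intro i
  have := hε ⟨P D e A i, i, rfl⟩
  simp only at this
  split_ifs with h
  · rw [if_pos h, mem_P] at this
    change e ((ε : S) - 1) i = 0 at this
    rw [map_sub, Pi.sub_apply, map_one, Pi.one_apply, sub_eq_zero] at this
    exact this
  · rw [if_neg h, sub_zero, mem_P] at this
    exact this

include hmul hA in
theorem mem_of_mul (c s : S) (hc : c ∈ A) (hcs : c * s ∈ A) (hnz : ∀ t : S, c * t = 0 → t = 0) :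
    s ∈ A := by
  rw [hA]
  have h1 := (hA c).mp hc
  have h2 := (hA (c * s)).mp hcs
  rw [hmul, h1] at h2
  have h3 : (c ⊗ₜ[k] (1 : H)) * (ρ s - s ⊗ₜ[k] (1 : H)) = 0 := by
    rw [mul_sub, h2, Algebra.TensorProduct.tmul_mul_tmul, mul_one, sub_self]
  exact sub_eq_zero.mp (tmul_one_injective c hnz _ h3)

theorem exists_div (i₀ : ι) (a b : A)
    (x : FractionRing (A ⧸ P D e A i₀)) (hx : IsIntegral (A ⧸ P D e A i₀) x)
    (hxab : x * algebraMap (A ⧸ P D e A i₀) (FractionRing (A ⧸ P D e A i₀))
        (Ideal.Quotient.mk _ b) =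
      algebraMap (A ⧸ P D e A i₀) (FractionRing (A ⧸ P D e A i₀)) (Ideal.Quotient.mk _ a))
    (i : ι) (hi : P D e A i = P D e A i₀) : ∃ s : D i, e (a : S) i = e (b : S) i * s := by
  have hker : ∀ t ∈ P D e A i₀, φ D e A i t = 0 := by
    intro t ht
    rw [← hi] at ht
    exact ht
  let ψ : (A ⧸ P D e A i₀) →+* D i := Ideal.Quotient.lift (P D e A i₀) (φ D e A i) hker
  have hψ : Function.Injective ψ := by
    rw [Ideal.injective_lift_iff]
    exact hi
  let L := FractionRing (D i)
  let g : (A ⧸ P D e A i₀) →+* L := (algebraMap (D i) L).comp ψ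
  have hg : Function.Injective g := (IsFractionRing.injective (D i) L).comp hψ
  let G : FractionRing (A ⧸ P D e A i₀) →+* L := IsFractionRing.lift hg
  have hG : ∀ r, G (algebraMap _ _ r) = g r := fun r => IsFractionRing.lift_algebraMap hg r
  have hint : IsIntegral (D i) (G x) := by
    obtain ⟨p, hp, hpx⟩ := hx
    refine ⟨p.map ψ, hp.map ψ, ?_⟩
    rw [Polynomial.eval₂_map]
    have h1 := congrArg G hpx
    rw [Polynomial.hom_eval₂, map_zero] at h1
    have h2 : G.comp (algebraMap (A ⧸ P D e A i₀) (FractionRing (A ⧸ P D e A i₀))) =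
        (algebraMap (D i) L).comp ψ := RingHom.ext hG
    rw [h2] at h1
    exact h1
  obtain ⟨s, hs⟩ := IsIntegrallyClosed.algebraMap_eq_of_integral hint
  refine ⟨s, ?_⟩
  have h3 := congrArg G hxab
  rw [map_mul, hG, hG, ← hs] at h3
  change algebraMap (D i) L s * algebraMap (D i) L (e (b : S) i) =
    algebraMap (D i) L (e (a : S) i) at h3
  rw [← map_mul] at h3
  have h4 := IsFractionRing.injective (D i) L h3
  rw [← h4, mul_comm]

include hmul hone hA in
theorem isIntegrallyClosed_quot (i₀ : ι) : IsIntegrallyClosed (A ⧸ P D e A i₀) := by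
  classical
  rw [isIntegrallyClosed_iff (FractionRing (A ⧸ P D e A i₀))]
  intro x hx
  obtain ⟨⟨r, ⟨d, hd⟩⟩, rfl⟩ := IsLocalization.mk'_surjective (nonZeroDivisors (A ⧸ P D e A i₀)) x
  obtain ⟨a, rfl⟩ := Ideal.Quotient.mk_surjective r
  obtain ⟨b, rfl⟩ := Ideal.Quotient.mk_surjective d
  have hb : b ∉ P D e A i₀ := by
    intro hb
    exact nonZeroDivisors.ne_zero hd (Ideal.Quotient.eq_zero_iff_mem.mpr hb)
  have hxab := IsLocalization.mk'_spec (FractionRing (A ⧸ P D e A i₀))
    (Ideal.Quotient.mk (P D e A i₀) a) ⟨Ideal.Quotient.mk (P D e A i₀) b, hd⟩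
  have key : ∀ i, ∃ s : D i, P D e A i = P D e A i₀ → e (a : S) i = e (b : S) i * s := by
    intro i
    by_cases h : P D e A i = P D e A i₀
    · obtain ⟨s, hs⟩ := exists_div D e A i₀ a b _ hx hxab i h
      exact ⟨s, fun _ => hs⟩
    · exact ⟨0, fun h' => absurd h' h⟩
  choose sf hsf using key
  obtain ⟨ε, hε⟩ := exists_eps hmul hone D e A hA i₀
  let s : S := e.symm (fun i => if P D e A i = P D e A i₀ then sf i else 0)
  have hs_coord : ∀ i, e s i = if P D e A i = P D e A i₀ then sf i else 0 := by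
    intro i
    change e (e.symm _) i = _
    rw [RingEquiv.apply_symm_apply]
  let c : S := (b : S) * (ε : S) + (1 - (ε : S))
  have hcA : c ∈ A := A.add_mem (A.mul_mem b.2 ε.2) (A.sub_mem A.one_mem ε.2)
  have hc_coord : ∀ i, e c i = if P D e A i = P D e A i₀ then e (b : S) i else 1 := by
    intro i
    change e ((b : S) * (ε : S) + (1 - (ε : S))) i = _
    rw [map_add, map_mul, map_sub, map_one, Pi.add_apply, Pi.mul_apply, Pi.sub_apply,
      Pi.one_apply, hε i]
    split_ifs <;> simp
  have hc_ne : ∀ i, e c i ≠ 0 := by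
    intro i
    rw [hc_coord]
    split_ifs with h
    · intro h0
      apply hb
      rw [← h, mem_P]
      exact h0
    · exact one_ne_zero
  have hcs : c * s = (a : S) * (ε : S) := by
    apply ext_coord D e
    intro i
    rw [map_mul, map_mul, Pi.mul_apply, Pi.mul_apply, hc_coord, hs_coord, hε i]
    split_ifs with h
    · rw [mul_one, ← hsf i h]
    · rw [mul_zero, mul_zero]
  have hsA : s ∈ A := by
    apply mem_of_mul hmul A hA c s hcA
    · rw [hcs]
      exact A.mul_mem a.2 ε.2
    · exact nzd_of_coord D e c hc_ne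
  refine ⟨Ideal.Quotient.mk _ ⟨s, hsA⟩, ?_⟩
  rw [IsLocalization.eq_mk'_iff_mul_eq]
  rw [← map_mul, ← map_mul]
  congr 1
  rw [Ideal.Quotient.eq, mem_P]
  change e (s * (b : S) - (a : S)) i₀ = 0
  rw [map_sub, map_mul, Pi.sub_apply, Pi.mul_apply, hs_coord, if_pos rfl, hsf i₀ rfl, mul_comm,
    sub_self]

include hmul hone hA e in
theorem main :
    ∃ (κ : Type u) (_ : Fintype κ) (E : κ → Type u) (_ : ∀ j, CommRing (E j))
      (_ : ∀ j, IsDomain (E j)) (_ : ∀ j, IsIntegrallyClosed (E j)),
      Nonempty (A ≃+* Π j, E j) := by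
  refine ⟨κ D e A, inferInstance, fun j => A ⧸ (j : Ideal A), fun j => inferInstance, ?_, ?_, ?_⟩
  · rintro ⟨_, i, rfl⟩
    exact Ideal.Quotient.isDomain _
  · rintro ⟨_, i, rfl⟩
    exact isIntegrallyClosed_quot hmul hone D e A hA i
  · exact ⟨(RingEquiv.quotientBot A).symm.trans
      ((Ideal.quotEquivOfEq (iInf_eq_bot D e A).symm).trans
        (Ideal.quotientInfRingEquivPiQuotient (fun j : κ D e A => (j : Ideal A))
          (pairwise_coprime hmul hone D e A hA)))⟩

end Main

end Groth.Agent.Lib.Helper81.HopfInvNormal
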