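import Mathlib
import Groth.Agent.Lib.Helper81.AwayInvariant
import Groth.Agent.Lib.Helper81.GaloisAlg2

set_option autoImplicit false

namespace Groth.Agent.Lib.Helper81.LocAction

open Groth.Agent.Lib.Helper81.Galois

section Action

variable {G R : Type*} [Group G] [CommRing R] [MulSemiringAction G R] (f₀ : R)
  (hf₀ : ∀ g : G, g • f₀ = f₀)

include hf₀ in
theorem powers_le (g : G) : Submonoid.powers f₀ ≤
    (Submonoid.powers f₀).comap (MulSemiringAction.toRingHom G R g) := by
  rintro _ ⟨n, rfl⟩
  refine ⟨n, ?_⟩
  change f₀ ^ n = g • (f₀ ^ n)
  rw [smul_pow', hf₀]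

noncomputable def locMap (g : G) : Localization.Away f₀ →+* Localization.Away f₀ :=
  IsLocalization.map (Localization.Away f₀) (MulSemiringAction.toRingHom G R g)
    (powers_le f₀ hf₀ g)

theorem locMap_algebraMap (g : G) (r : R) :
    locMap f₀ hf₀ g (algebraMap R (Localization.Away f₀) r) =
      algebraMap R (Localization.Away f₀) (g • r) :=
  IsLocalization.map_eq _ r

theorem locMap_one : locMap f₀ hf₀ 1 = RingHom.id _ := by
  apply IsLocalization.ringHom_ext (Submonoid.powers f₀)
  ext r
  simp only [RingHom.coe_comp, Function.comp_apply, RingHom.id_apply]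
  rw [locMap_algebraMap, one_smul]

theorem locMap_mul (g h : G) :
    locMap f₀ hf₀ (g * h) = (locMap f₀ hf₀ g).comp (locMap f₀ hf₀ h) := by
  apply IsLocalization.ringHom_ext (Submonoid.powers f₀)
  ext r
  simp only [RingHom.coe_comp, Function.comp_apply]
  rw [locMap_algebraMap, locMap_algebraMap, locMap_algebraMap, mul_smul]

@[instance_reducible]
noncomputable def locAction : MulSemiringAction G (Localization.Away f₀) where
  smul g x := locMap f₀ hf₀ g x
  one_smul x := by
    change locMap f₀ hf₀ 1 x = x
    rw [locMap_one]; rfl
  mul_smul g h x := by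
    change locMap f₀ hf₀ (g * h) x = locMap f₀ hf₀ g (locMap f₀ hf₀ h x)
    rw [locMap_mul]; rfl
  smul_zero g := map_zero (locMap f₀ hf₀ g)
  smul_add g := map_add (locMap f₀ hf₀ g)
  smul_one g := map_one (locMap f₀ hf₀ g)
  smul_mul g := map_mul (locMap f₀ hf₀ g)

end Action

section Invariant

variable {G A R : Type*} [Group G] [Finite G] [CommRing A] [CommRing R] [Algebra A R]
  [MulSemiringAction G R] [SMulCommClass G A R] [Algebra.IsInvariant A R G] [FaithfulSMul A R]
  (f : A)

theorem smul_f (g : G) : g • (algebraMap A R f) = algebraMap A R f := smul_algebraMap g f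

theorem powers_le' : Submonoid.powers f ≤
    (Submonoid.powers (algebraMap A R f)).comap (algebraMap A R) := by
  rintro _ ⟨n, rfl⟩
  exact ⟨n, (map_pow _ _ _).symm⟩

noncomputable def locAlgMap : Localization.Away f →+* Localization.Away (algebraMap A R f) :=
  IsLocalization.map (Localization.Away (algebraMap A R f)) (algebraMap A R) (powers_le' f)

theorem locAlgMap_algebraMap (a : A) :
    locAlgMap (R := R) f (algebraMap A (Localization.Away f) a) =
      algebraMap R (Localization.Away (algebraMap A R f)) (algebraMap A R a) :=
  IsLocalization.map_eq _ a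

noncomputable instance locAlgebra :
    Algebra (Localization.Away f) (Localization.Away (algebraMap A R f)) :=
  (locAlgMap (R := R) f).toAlgebra

theorem algebraMap_loc_eq :
    algebraMap (Localization.Away f) (Localization.Away (algebraMap A R f)) = locAlgMap f := rfl

instance : IsScalarTower A (Localization.Away f) (Localization.Away (algebraMap A R f)) :=
  IsScalarTower.of_algebraMap_eq (fun a => by
    rw [algebraMap_loc_eq, locAlgMap_algebraMap, ← IsScalarTower.algebraMap_apply])

noncomputable instance locActionInst :
    MulSemiringAction G (Localization.Away (algebraMap A R f)) :=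
  locAction (algebraMap A R f) (smul_f f)

theorem smul_algebraMap_loc (g : G) (r : R) :
    g • (algebraMap R (Localization.Away (algebraMap A R f)) r) =
      algebraMap R (Localization.Away (algebraMap A R f)) (g • r) :=
  locMap_algebraMap (algebraMap A R f) (smul_f f) g r

theorem smul_locAlgMap (g : G) (a : Localization.Away f) :
    g • (locAlgMap (R := R) f a) = locAlgMap (R := R) f a := by
  have : ((locMap (algebraMap A R f) (smul_f (G := G) f) g).comp (locAlgMap (R := R) f)) =
      locAlgMap (R := R) f := by
    apply IsLocalization.ringHom_ext (Submonoid.powers f)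
    ext a
    simp only [RingHom.coe_comp, Function.comp_apply]
    rw [locAlgMap_algebraMap, locMap_algebraMap, smul_algebraMap]
  exact congrArg (fun φ => φ a) this

instance : SMulCommClass G (Localization.Away f) (Localization.Away (algebraMap A R f)) where
  smul_comm g a x := by
    rw [Algebra.smul_def, Algebra.smul_def, smul_mul', algebraMap_loc_eq, smul_locAlgMap]

theorem locAlgMap_injective : Function.Injective (locAlgMap (R := R) f) := by
  apply away_injective (algebraMap A R) (locAlgMap (R := R) f) f
  · intro x; exact locAlgMap_algebraMap f x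
  · exact FaithfulSMul.algebraMap_injective A R

instance : FaithfulSMul (Localization.Away f) (Localization.Away (algebraMap A R f)) := by
  rw [faithfulSMul_iff_algebraMap_injective]
  exact locAlgMap_injective f

instance : Algebra.IsInvariant (Localization.Away f) (Localization.Away (algebraMap A R f)) G where
  isInvariant x hx := by
    have := away_mem_range (algebraMap A R) (locAlgMap (R := R) f) f
      (fun g : G => MulSemiringAction.toRingHom G R g)
      (fun g : G => locMap (algebraMap A R f) (smul_f f) g)
      (fun a => locAlgMap_algebraMap f a)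
      (fun g r => locMap_algebraMap (algebraMap A R f) (smul_f f) g r)
      (fun g a => smul_algebraMap g a)
      (fun b hb => Algebra.IsInvariant.isInvariant (A := A) (G := G) b hb)
      x hx
    exact this

theorem free_loc (hf : ∀ g : G, g ≠ 1 →
    algebraMap A R f ∈ Ideal.span (Set.range fun b : R => g • b - b)) :
    Free (Localization.Away (algebraMap A R f)) G := by
  intro g hg
  rw [Ideal.eq_top_iff_one]
  have h1 : Ideal.map (algebraMap R (Localization.Away (algebraMap A R f)))
      (Ideal.span (Set.range fun b : R => g • b - b)) ≤
      Ideal.span (Set.range fun b : Localization.Away (algebraMap A R f) => g • b - b) := by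
    rw [Ideal.map_span, Ideal.span_le]
    rintro _ ⟨_, ⟨b, rfl⟩, rfl⟩
    apply Ideal.subset_span
    refine ⟨algebraMap R _ b, ?_⟩
    simp only
    rw [smul_algebraMap_loc, map_sub]
  have h2 := h1 (Ideal.mem_map_of_mem _ (hf g hg))
  have hu : IsUnit (algebraMap R (Localization.Away (algebraMap A R f)) (algebraMap A R f)) :=
    IsLocalization.Away.algebraMap_isUnit _
  exact (Ideal.unit_mul_mem_iff_mem _ hu).mp (by rw [mul_one]; exact h2)

end Invariant

end Groth.Agent.Lib.Helper81.LocAction
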