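import Mathlib
import Groth.Agent.Lib.Helper81.LocAction

set_option autoImplicit false

open scoped Pointwise

namespace Groth.Agent.Lib.Helper81.InertiaEtale

open Groth.Agent.Lib.Helper81.Galois Groth.Agent.Lib.Helper81.LocAction

section Etale

variable {G A R : Type*} [Group G] [Finite G] [CommRing A] [CommRing R] [Algebra A R]
  [MulSemiringAction G R] [SMulCommClass G A R] [Algebra.IsInvariant A R G] [FaithfulSMul A R]

theorem formallyEtale_away (f : A) (hf : ∀ g : G, g ≠ 1 →
    algebraMap A R f ∈ Ideal.span (Set.range fun b : R => g • b - b)) :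
    Algebra.FormallyEtale A (Localization.Away (algebraMap A R f)) := by
  classical
  letI : Fintype G := Fintype.ofFinite G
  have hfree := free_loc (G := G) f hf
  obtain ⟨hproj, hfin⟩ := projective_finite (Localization.Away f) hfree
  have hunr := formallyUnramified (Localization.Away f) hfree
  haveI : Module.FinitePresentation (Localization.Away f)
      (Localization.Away (algebraMap A R f)) := Module.finitePresentation_of_projective _ _
  haveI : Algebra.Etale (Localization.Away f) (Localization.Away (algebraMap A R f)) :=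
    Algebra.Etale.of_formallyUnramified_of_flat
  haveI : Algebra.FormallyEtale A (Localization.Away f) :=
    Algebra.FormallyEtale.of_isLocalization (Submonoid.powers f)
  exact Algebra.FormallyEtale.comp A (Localization.Away f) _

theorem isEtaleAt_of_away (f : A) (hf : ∀ g : G, g ≠ 1 →
    algebraMap A R f ∈ Ideal.span (Set.range fun b : R => g • b - b))
    (m : Ideal R) [m.IsPrime] (hfm : algebraMap A R f ∉ m) : Algebra.IsEtaleAt A m := by
  have h1 := (Algebra.basicOpen_subset_etaleLocus_iff (R := A) (A := R)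
    (f := algebraMap A R f)).mpr (formallyEtale_away (G := G) f hf)
  exact h1 (show (⟨m, inferInstance⟩ : PrimeSpectrum R) ∈
    (PrimeSpectrum.basicOpen (algebraMap A R f) : Set (PrimeSpectrum R)) from hfm)

theorem smul_eq_of_le (g : G) (m' : Ideal R)
    (h : Ideal.span (Set.range fun b : R => g • b - b) ≤ m') : g • m' = m' := by
  have hmem : ∀ b : R, g • b - b ∈ m' := fun b => h (Ideal.subset_span ⟨b, rfl⟩)
  ext x
  rw [Ideal.mem_pointwise_smul_iff_inv_smul_mem]
  constructor
  · intro hx
    have := hmem (g⁻¹ • x)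
    rw [smul_inv_smul] at this
    have h2 := m'.add_mem this hx
    rwa [sub_add_cancel] at h2
  · intro hx
    have := hmem (g⁻¹ • x)
    rw [smul_inv_smul] at this
    have h2 := m'.sub_mem hx this
    rwa [sub_sub_cancel] at h2

theorem not_le_of_stabilizer (m : Ideal R) (hstab : MulAction.stabilizer G m = ⊥)
    (g : G) (hg : g ≠ 1) (h : G) :
    ¬ Ideal.span (Set.range fun b : R => g • b - b) ≤ h • m := by
  intro hle
  have h1 : g ∈ MulAction.stabilizer G (h • m) := smul_eq_of_le g _ hle
  rw [MulAction.stabilizer_smul_eq_stabilizer_map_conj, hstab, Subgroup.map_bot,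
    Subgroup.mem_bot] at h1
  exact hg h1

theorem exists_f (m : Ideal R) [m.IsPrime] (hstab : MulAction.stabilizer G m = ⊥) :
    ∃ f : A, (∀ g : G, g ≠ 1 →
      algebraMap A R f ∈ Ideal.span (Set.range fun b : R => g • b - b)) ∧
      algebraMap A R f ∉ m := by
  classical
  letI : Fintype G := Fintype.ofFinite G
  let I : G → Ideal R := fun g => Ideal.span (Set.range fun b : R => g • b - b)
  let J : Ideal R := ∏ g ∈ Finset.univ.erase (1 : G), I g
  have hJ : ∀ h : G, ¬ J ≤ h • m := by
    intro h hle
    obtain ⟨g, hg, hgle⟩ := (Ideal.IsPrime.prod_le (inferInstance : (h • m).IsPrime)).mp hle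
    exact not_le_of_stabilizer m hstab g (Finset.ne_of_mem_erase hg) h hgle
  have hJI : ∀ g : G, g ≠ 1 → J ≤ I g := by
    intro g hg
    exact Ideal.prod_le_inf.trans (Finset.inf_le (Finset.mem_erase.mpr ⟨hg, Finset.mem_univ g⟩))
  have hx : ∃ x ∈ J, ∀ h : G, x ∉ h • m := by
    by_contra hcon
    push Not at hcon
    have hsub : (J : Set R) ⊆ ⋃ h ∈ ((Finset.univ : Finset G) : Set G), ((h • m : Ideal R) : Set R) := by
      intro x hx
      obtain ⟨h, hh⟩ := hcon x hx
      exact Set.mem_biUnion (Finset.mem_coe.mpr (Finset.mem_univ h)) hh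
    obtain ⟨h, _, hle⟩ := (Ideal.subset_union_prime (1 : G) (1 : G)
      (fun h _ _ _ => (inferInstance : (h • m).IsPrime))).mp hsub
    exact hJ h hle
  obtain ⟨x, hxJ, hxm⟩ := hx
  let N : R := ∏ g : G, g • x
  have hNinv : ∀ h : G, h • N = N := by
    intro h
    change h • (∏ g : G, g • x) = ∏ g : G, g • x
    rw [Finset.smul_prod']
    simp_rw [← mul_smul]
    exact Fintype.prod_equiv (Equiv.mulLeft h) _ _ (fun g => rfl)
  obtain ⟨f, hf⟩ := Algebra.IsInvariant.isInvariant (A := A) (G := G) N hNinv
  have hNJ : N ∈ J := by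
    have hdvd : (1 : G) • x ∣ N := Finset.dvd_prod_of_mem (fun g : G => g • x) (Finset.mem_univ 1)
    rw [one_smul] at hdvd
    exact Ideal.mem_of_dvd J hdvd hxJ
  refine ⟨f, ?_, ?_⟩
  · intro g hg
    rw [hf]
    exact hJI g hg hNJ
  · rw [hf]
    intro hNm
    obtain ⟨g, _, hg⟩ := (Ideal.IsPrime.prod_mem_iff).mp hNm
    apply hxm g⁻¹
    rw [Ideal.mem_pointwise_smul_iff_inv_smul_mem, inv_inv]
    exact hg

theorem isEtaleAt_of_stabilizer (m : Ideal R) [m.IsPrime]
    (hstab : MulAction.stabilizer G m = ⊥) : Algebra.IsEtaleAt A m := by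
  obtain ⟨f, hf, hfm⟩ := exists_f (A := A) m hstab
  exact isEtaleAt_of_away (G := G) f hf m hfm

end Etale

section Converse

variable {k R G B : Type*} [Field k] [IsAlgClosed k] [CommRing R] [IsDomain R] [Algebra k R]
  [Algebra.FiniteType k R] [Group G] [MulSemiringAction G R] [FaithfulSMul G R]
  [SMulCommClass G k R] [CommRing B] [Algebra B R] [SMulCommClass G B R]
  (m : Ideal R) [m.IsMaximal]

include k in
theorem exists_sub_mem (r : R) : ∃ c : k, r - algebraMap k R c ∈ m := by
  letI := Ideal.Quotient.field m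
  have hft : Algebra.FiniteType k (R ⧸ m) :=
    Algebra.FiniteType.of_surjective (Ideal.Quotient.mkₐ k m) Ideal.Quotient.mk_surjective
  have : Module.Finite k (R ⧸ m) := finite_of_finite_type_of_isJacobsonRing k (R ⧸ m)
  obtain ⟨c, hc⟩ := (IsAlgClosed.algebraMap_bijective_of_isIntegral (k := k) (K := R ⧸ m)).2
    (Ideal.Quotient.mk m r)
  refine ⟨c, ?_⟩
  rw [← Ideal.Quotient.eq_zero_iff_mem, map_sub, ← hc]
  exact sub_self _

include k in
theorem smul_sub_mem (g : G) (hg : g ∈ MulAction.stabilizer G m) (r : R) : g • r - r ∈ m := by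
  obtain ⟨c, hc⟩ := exists_sub_mem (k := k) m r
  have h1 : g • (r - algebraMap k R c) ∈ m := by
    have : g • (r - algebraMap k R c) ∈ g • m := Ideal.smul_mem_pointwise_smul _ _ _ hc
    rwa [MulAction.mem_stabilizer_iff.mp hg] at this
  rw [smul_sub, smul_algebraMap] at h1
  have := m.sub_mem h1 hc
  have e : g • r - algebraMap k R c - (r - algebraMap k R c) = g • r - r := by ring
  rwa [e] at this

theorem primeCompl_le (g : G) (hg : g ∈ MulAction.stabilizer G m) :
    m.primeCompl ≤ m.primeCompl.comap (MulSemiringAction.toRingHom G R g) := by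
  intro x hx hgx
  apply hx
  change g • x ∈ m at hgx
  rw [← MulAction.mem_stabilizer_iff.mp hg] at hgx
  exact (Ideal.smul_mem_pointwise_smul_iff).mp hgx

noncomputable def γ (g : G) (hg : g ∈ MulAction.stabilizer G m) :
    Localization.AtPrime m →ₐ[B] Localization.AtPrime m where
  __ := IsLocalization.map (Localization.AtPrime m) (MulSemiringAction.toRingHom G R g)
    (primeCompl_le m g hg)
  commutes' b := by
    change IsLocalization.map (Localization.AtPrime m) (MulSemiringAction.toRingHom G R g)
      (primeCompl_le m g hg) (algebraMap B (Localization.AtPrime m) b) = _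
    rw [IsScalarTower.algebraMap_apply B R (Localization.AtPrime m), IsLocalization.map_eq]
    congr 1
    exact smul_algebraMap g b

theorem γ_algebraMap (g : G) (hg : g ∈ MulAction.stabilizer G m) (r : R) :
    γ (B := B) m g hg (algebraMap R (Localization.AtPrime m) r) =
      algebraMap R (Localization.AtPrime m) (g • r) := by
  change IsLocalization.map (Localization.AtPrime m) (MulSemiringAction.toRingHom G R g)
    (primeCompl_le m g hg) (algebraMap R (Localization.AtPrime m) r) = _
  rw [IsLocalization.map_eq]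
  rfl

include k in
theorem γ_sub_mem (g : G) (hg : g ∈ MulAction.stabilizer G m) (x : Localization.AtPrime m) :
    γ (B := B) m g hg x - x ∈ IsLocalRing.maximalIdeal (Localization.AtPrime m) := by
  let π := Ideal.Quotient.mk (IsLocalRing.maximalIdeal (Localization.AtPrime m))
  have h : π.comp (γ (B := B) m g hg).toRingHom = π := by
    apply IsLocalization.ringHom_ext m.primeCompl
    ext r
    simp only [RingHom.coe_comp, Function.comp_apply]
    change π (γ (B := B) m g hg (algebraMap R _ r)) = π (algebraMap R _ r)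
    rw [γ_algebraMap, ← sub_eq_zero, ← map_sub, ← map_sub, Ideal.Quotient.eq_zero_iff_mem,
      IsLocalization.AtPrime.to_map_mem_maximal_iff _ m]
    exact smul_sub_mem (k := k) m g hg r
  have h2 := congrArg (fun φ => φ x) h
  simp only [RingHom.coe_comp, Function.comp_apply] at h2
  rw [← Ideal.Quotient.eq_zero_iff_mem, map_sub, sub_eq_zero]
  exact h2

include k in
theorem γ_eq_id [Algebra.FormallyUnramified B (Localization.AtPrime m)]
    (g : G) (hg : g ∈ MulAction.stabilizer G m) (x : Localization.AtPrime m) :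
    γ (B := B) m g hg x = x := by
  have hnoeth : IsNoetherianRing R := Algebra.FiniteType.isNoetherianRing k R
  have : IsNoetherianRing (Localization.AtPrime m) :=
    IsLocalization.isNoetherianRing m.primeCompl _ hnoeth
  let M := IsLocalRing.maximalIdeal (Localization.AtPrime m)
  have hN : ∀ N : ℕ, γ (B := B) m g hg x - x ∈ M ^ N := by
    intro N
    let I : Ideal (Localization.AtPrime m ⧸ M ^ N) := M.map (Ideal.Quotient.mk (M ^ N))
    have hI : IsNilpotent I := by
      refine ⟨N, ?_⟩
      rw [← Ideal.map_pow, Ideal.zero_eq_bot, Ideal.map_quotient_self]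
    have key := Algebra.FormallyUnramified.lift_unique I hI
      ((Ideal.Quotient.mkₐ B (M ^ N)).comp (γ (B := B) m g hg)) (Ideal.Quotient.mkₐ B (M ^ N))
      (by
        refine AlgHom.ext fun y => ?_
        simp only [AlgHom.coe_comp, Function.comp_apply, Ideal.Quotient.mkₐ_eq_mk]
        rw [← sub_eq_zero, ← map_sub, ← map_sub, Ideal.Quotient.eq_zero_iff_mem]
        exact Ideal.mem_map_of_mem _ (γ_sub_mem (k := k) m g hg y))
    have h2 := congrArg (fun φ => φ x) key
    simp only [AlgHom.coe_comp, Function.comp_apply, Ideal.Quotient.mkₐ_eq_mk] at h2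
    rw [← Ideal.Quotient.eq_zero_iff_mem, map_sub, sub_eq_zero]
    exact h2
  have hbot : (⨅ N : ℕ, M ^ N) = ⊥ :=
    Ideal.iInf_pow_eq_bot_of_isLocalRing M (IsLocalRing.maximalIdeal.isMaximal _).ne_top
  have hmem : γ (B := B) m g hg x - x ∈ (⨅ N : ℕ, M ^ N) := by
    rw [Ideal.mem_iInf]
    exact hN
  rw [hbot, Ideal.mem_bot, sub_eq_zero] at hmem
  exact hmem

include k in
theorem stabilizer_eq_bot [Algebra.FormallyUnramified B (Localization.AtPrime m)] :
    MulAction.stabilizer G m = ⊥ := by
  rw [eq_bot_iff]
  intro g hg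
  rw [Subgroup.mem_bot]
  apply FaithfulSMul.eq_of_smul_eq_smul (α := R)
  intro r
  rw [one_smul]
  have h1 := γ_eq_id (k := k) (B := B) m g hg (algebraMap R _ r)
  rw [γ_algebraMap] at h1
  exact IsLocalization.injective (Localization.AtPrime m)
    (Ideal.primeCompl_le_nonZeroDivisors m) h1

end Converse

end Groth.Agent.Lib.Helper81.InertiaEtale
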