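import Mathlib.RingTheory.Flat.Basic
import Mathlib.LinearAlgebra.TensorProduct.Pi
import Mathlib.RingTheory.TensorProduct.Basic

set_option autoImplicit false
universe u
open TensorProduct

namespace Groth.Agent.Lib.Helper81.InvBaseChange

section Linear

variable {A : Type*} [CommRing A] (M : Type*) [AddCommGroup M] [Module A M] [Module.Flat A M]
  {N N' : Type*} [AddCommGroup N] [Module A N] [AddCommGroup N'] [Module A N']
  {ι : Type*} [Finite ι]

theorem mem_range_lTensor_of_fixed (f : N' →ₗ[A] N) (τ : ι → (N →ₗ[A] N))
    (hex : ∀ c : N, (∀ i, τ i c = c) → c ∈ LinearMap.range f)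
    (hf : ∀ (c' : N') (i : ι), τ i (f c') = f c')
    (z : M ⊗[A] N) (hz : ∀ i, (τ i).lTensor M z = z) : z ∈ LinearMap.range (f.lTensor M) := by
  classical
  cases nonempty_fintype ι
  obtain ⟨δ, hδ⟩ : ∃ δ : N →ₗ[A] (ι → N), δ = LinearMap.pi (fun i => τ i - LinearMap.id) :=
    ⟨_, rfl⟩
  have hexact : Function.Exact f δ := by
    intro c
    constructor
    · intro hc
      apply hex
      intro i
      have := congrFun hc i
      rw [hδ] at this
      simpa [sub_eq_zero] using this
    · rintro ⟨c', rfl⟩
      rw [hδ]
      funext i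
      simp [hf c' i]
  have hexact' := Module.Flat.lTensor_exact M hexact
  have hz0 : (δ.lTensor M) z = 0 := by
    apply (TensorProduct.piRight A A M (fun _ : ι => N)).injective
    rw [map_zero]
    funext i
    have h1 : ∀ w : M ⊗[A] N, (TensorProduct.piRight A A M (fun _ : ι => N)) ((δ.lTensor M) w) i =
        (τ i).lTensor M w - w := by
      intro w
      induction w using TensorProduct.induction_on with
      | zero => simp
      | tmul m c =>
        rw [hδ]
        simp [TensorProduct.tmul_sub]
      | add w₁ w₂ h₁ h₂ =>
        rw [map_add, map_add, Pi.add_apply, h₁, h₂, map_add]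
        abel
    rw [h1 z, hz i, sub_self]
    rfl
  exact (hexact' z).mp hz0

end Linear

end Groth.Agent.Lib.Helper81.InvBaseChange
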