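import Groth.Agent.Lib.Helper81.IsQuotBasis
import Mathlib.AlgebraicGeometry.Morphisms.ClosedImmersion

set_option autoImplicit false
set_option linter.style.haveILetI false
set_option linter.unusedSectionVars false
universe u
open CategoryTheory CategoryTheory.Limits AlgebraicGeometry Opposite TopologicalSpace

namespace Groth.Agent.Lib.Helper81.QuotInduce

open Groth.Agent.Lib.Helper81.Quot

variable {X : Scheme.{u}} {G : Type u} [Group G] (ρ : G →* Aut X) (Y : X.Opens)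

theorem rho_mul_hom (a b : G) : (ρ (a * b)).hom = (ρ b).hom ≫ (ρ a).hom := by
  rw [map_mul]; rfl

theorem rho_one_hom : (ρ 1).hom = 𝟙 X := by
  rw [map_one]; rfl

theorem rho_inv_apply (g : G) (x : X) : (ρ g⁻¹).hom.base ((ρ g).hom.base x) = x := by
  rw [← Scheme.Hom.comp_apply, ← rho_mul_hom, inv_mul_cancel, rho_one_hom]
  rfl

theorem rho_apply_inv (g : G) (x : X) : (ρ g).hom.base ((ρ g⁻¹).hom.base x) = x := by
  have := rho_inv_apply ρ g⁻¹ x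
  rwa [inv_inv] at this

def T (g : G) : X.Opens := (ρ g⁻¹).hom ⁻¹ᵁ Y

theorem mem_T (g : G) (x : X) : x ∈ T ρ Y g ↔ (ρ g⁻¹).hom.base x ∈ Y := Iff.rfl

theorem preimage_T (a g : G) : (ρ a).hom ⁻¹ᵁ (T ρ Y g) = T ρ Y (a⁻¹ * g) := by
  unfold T
  rw [← Scheme.Hom.comp_preimage, ← rho_mul_hom, mul_inv_rev, inv_inv]

theorem T_one : T ρ Y 1 = Y := by
  unfold T
  rw [inv_one, rho_one_hom]
  rfl

theorem image_eq_T (g : G) : (ρ g).hom.base '' (Y : Set X) = (T ρ Y g : Set X) := by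
  ext x
  constructor
  · rintro ⟨y, hy, rfl⟩
    show (ρ g⁻¹).hom.base ((ρ g).hom.base y) ∈ Y
    rw [rho_inv_apply]
    exact hy
  · intro hx
    exact ⟨(ρ g⁻¹).hom.base x, hx, rho_apply_inv ρ g x⟩

section Stable

variable (H : Subgroup G) (hstab : ∀ h : H, Y ≤ (ρ (h : G)).hom ⁻¹ᵁ Y)
  (hdisj : ∀ g : G, g ∉ H → Disjoint ((ρ g).hom.base '' (Y : Set X)) (Y : Set X))
  (hcov : ∀ x : X, ∃ g : G, x ∈ (ρ g).hom.base '' (Y : Set X))

include hstab in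
theorem preimage_eq_of_mem (h : G) (hh : h ∈ H) : (ρ h).hom ⁻¹ᵁ Y = Y := by
  apply le_antisymm
  · intro x hx
    have := hstab ⟨h⁻¹, H.inv_mem hh⟩ hx
    have h2 : (ρ h⁻¹).hom.base ((ρ h).hom.base x) ∈ Y := this
    rwa [rho_inv_apply] at h2
  · exact hstab ⟨h, hh⟩

include hstab in
theorem T_mul_of_mem (g h : G) (hh : h ∈ H) : T ρ Y (g * h) = T ρ Y g := by
  unfold T
  rw [mul_inv_rev, rho_mul_hom, Scheme.Hom.comp_preimage,
    preimage_eq_of_mem ρ Y H hstab h⁻¹ (H.inv_mem hh)]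

include hdisj in
theorem mem_of_inter (g g' : G) (x : X) (hx : x ∈ T ρ Y g) (hx' : x ∈ T ρ Y g') :
    g⁻¹ * g' ∈ H := by
  by_contra hcon
  have hd := hdisj _ hcon
  rw [image_eq_T] at hd
  have hy : (ρ g⁻¹).hom.base x ∈ Y := hx
  have hy' : (ρ g⁻¹).hom.base x ∈ T ρ Y (g⁻¹ * g') := by
    have : x ∈ (ρ g⁻¹).hom ⁻¹ᵁ (T ρ Y (g⁻¹ * g')) := by
      rw [preimage_T, inv_inv, ← mul_assoc, mul_inv_cancel, one_mul]
      exact hx'
    exact this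
  exact Set.disjoint_left.mp hd hy' hy

include hcov in
theorem cover (x : X) : ∃ g : G, x ∈ T ρ Y g := by
  obtain ⟨g, hg⟩ := hcov x
  rw [image_eq_T] at hg
  exact ⟨g, hg⟩

include hstab hdisj hcov in
theorem isClosed : IsClosed (Y : Set X) := by
  rw [← isOpen_compl_iff]
  have : (Y : Set X)ᶜ = ⋃ g : {g : G // g ∉ H}, (T ρ Y g.1 : Set X) := by
    ext x
    simp only [Set.mem_compl_iff, Set.mem_iUnion]
    constructor
    · intro hx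
      obtain ⟨g, hg⟩ := cover ρ Y hcov x
      refine ⟨⟨g, fun hgH => hx ?_⟩, hg⟩
      have := T_mul_of_mem ρ Y H hstab 1 g hgH
      rw [one_mul, T_one] at this
      rw [← this]
      exact hg
    · rintro ⟨⟨g, hg⟩, hxg⟩ hxY
      have hd := hdisj g hg
      rw [image_eq_T] at hd
      exact Set.disjoint_left.mp hd hxg hxY
  rw [this]
  exact isOpen_iUnion fun g => (T ρ Y g.1).2

end Stable

section Sections

variable (V : X.Opens) (hV : ∀ g : G, V ≤ (ρ g).hom ⁻¹ᵁ V)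

include hV in
theorem tau_le (g : G) : T ρ Y g ⊓ V ≤ (ρ g⁻¹).hom ⁻¹ᵁ (Y ⊓ V) := by
  intro x hx
  exact ⟨hx.1, hV g⁻¹ hx.2⟩

noncomputable def tau (g : G) : Γ(X, Y ⊓ V) ⟶ Γ(X, T ρ Y g ⊓ V) :=
  (ρ g⁻¹).hom.appLE (Y ⊓ V) (T ρ Y g ⊓ V) (tau_le ρ Y V hV g)

theorem tau_res (g : G) (s : Γ(X, V)) (hs : (sec ρ V hV g⁻¹).hom s = s) :
    (tau ρ Y V hV g).hom ((X.presheaf.map (homOfLE (inf_le_right : Y ⊓ V ≤ V)).op).hom s) =
      (X.presheaf.map (homOfLE (inf_le_right : T ρ Y g ⊓ V ≤ V)).op).hom s := by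
  have e1 : X.presheaf.map (homOfLE (inf_le_right : Y ⊓ V ≤ V)).op ≫ tau ρ Y V hV g =
      sec ρ V hV g⁻¹ ≫ X.presheaf.map (homOfLE (inf_le_right : T ρ Y g ⊓ V ≤ V)).op := by
    unfold tau sec
    rw [Scheme.Hom.map_appLE, Scheme.Hom.appLE_map]
  have := congrArg (fun φ => φ.hom s) e1
  simp only [CommRingCat.hom_comp, RingHom.coe_comp, Function.comp_apply] at this
  rw [this, hs]

include hV in
theorem stab_le (h : G) (hh : (ρ h).hom ⁻¹ᵁ Y = Y) : Y ⊓ V ≤ (ρ h).hom ⁻¹ᵁ (Y ⊓ V) := by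
  intro x hx
  refine ⟨?_, hV h hx.2⟩
  have : x ∈ (ρ h).hom ⁻¹ᵁ Y := by rw [hh]; exact hx.1
  exact this

theorem tau_compat (g h : G) (hh : (ρ h⁻¹).hom ⁻¹ᵁ Y = Y) (O : X.Opens) (hO : O ≤ T ρ Y g ⊓ V)
    (hO' : O ≤ T ρ Y (g * h) ⊓ V) (s₁ : Γ(X, Y ⊓ V))
    (hs₁ : ((ρ h⁻¹).hom.appLE (Y ⊓ V) (Y ⊓ V) (stab_le ρ Y V hV h⁻¹ hh)).hom s₁ = s₁) :
    (X.presheaf.map (homOfLE hO).op).hom ((tau ρ Y V hV g).hom s₁) =
      (X.presheaf.map (homOfLE hO').op).hom ((tau ρ Y V hV (g * h)).hom s₁) := by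
  have e1 : tau ρ Y V hV g ≫ X.presheaf.map (homOfLE hO).op =
      (ρ g⁻¹).hom.appLE (Y ⊓ V) O (hO.trans (tau_le ρ Y V hV g)) := by
    unfold tau
    rw [Scheme.Hom.appLE_map]
  have e2 : tau ρ Y V hV (g * h) ≫ X.presheaf.map (homOfLE hO').op =
      (ρ (g * h)⁻¹).hom.appLE (Y ⊓ V) O (hO'.trans (tau_le ρ Y V hV (g * h))) := by
    unfold tau
    rw [Scheme.Hom.appLE_map]
  have hcomp : (ρ (g * h)⁻¹).hom = (ρ g⁻¹).hom ≫ (ρ h⁻¹).hom := by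
    rw [mul_inv_rev, rho_mul_hom]
  have e3 : (ρ h⁻¹).hom.appLE (Y ⊓ V) (Y ⊓ V) (stab_le ρ Y V hV h⁻¹ hh) ≫
      (ρ g⁻¹).hom.appLE (Y ⊓ V) O (hO.trans (tau_le ρ Y V hV g)) =
      (ρ (g * h)⁻¹).hom.appLE (Y ⊓ V) O (hO'.trans (tau_le ρ Y V hV (g * h))) := by
    rw [Scheme.Hom.appLE_comp_appLE]
    exact (appLE_congr_hom hcomp _ _ _).symm
  have h1 := congrArg (fun φ => φ.hom s₁) e1
  have h2 := congrArg (fun φ => φ.hom s₁) e2
  have h3 := congrArg (fun φ => φ.hom s₁) e3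
  simp only [CommRingCat.hom_comp, RingHom.coe_comp, Function.comp_apply] at h1 h2 h3
  rw [h1, h2, ← h3, hs₁]

theorem tau_translate (a g : G) (s₁ : Γ(X, Y ⊓ V))
    (hle : T ρ Y g ⊓ V ≤ (ρ a).hom ⁻¹ᵁ (T ρ Y (a * g) ⊓ V)) :
    ((ρ a).hom.appLE (T ρ Y (a * g) ⊓ V) (T ρ Y g ⊓ V) hle).hom
      ((tau ρ Y V hV (a * g)).hom s₁) = (tau ρ Y V hV g).hom s₁ := by
  have hcomp : (ρ g⁻¹).hom = (ρ a).hom ≫ (ρ (a * g)⁻¹).hom := by
    rw [← rho_mul_hom, mul_inv_rev, inv_mul_cancel_right]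
  have e1 : tau ρ Y V hV (a * g) ≫ (ρ a).hom.appLE (T ρ Y (a * g) ⊓ V) (T ρ Y g ⊓ V) hle =
      tau ρ Y V hV g := by
    unfold tau
    rw [Scheme.Hom.appLE_comp_appLE]
    exact (appLE_congr_hom hcomp _ _ _).symm
  have := congrArg (fun φ => φ.hom s₁) e1
  simp only [CommRingCat.hom_comp, RingHom.coe_comp, Function.comp_apply] at this
  exact this

theorem tau_one (s₁ : Γ(X, Y ⊓ V)) (hle : Y ⊓ V ≤ T ρ Y 1 ⊓ V) :
    (X.presheaf.map (homOfLE hle).op).hom ((tau ρ Y V hV 1).hom s₁) = s₁ := by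
  have e1 : tau ρ Y V hV 1 ≫ X.presheaf.map (homOfLE hle).op = 𝟙 _ := by
    unfold tau
    rw [Scheme.Hom.appLE_map]
    have h1 : (ρ (1 : G)⁻¹).hom = 𝟙 X := by rw [inv_one, rho_one_hom]
    rw [appLE_congr_hom h1]
    simp only [Scheme.Hom.appLE, Scheme.Hom.id_app]
    exact X.presheaf.map_id _
  have := congrArg (fun φ => φ.hom s₁) e1
  simp only [CommRingCat.hom_comp, RingHom.coe_comp, Function.comp_apply] at this
  exact this

end Sections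

end Groth.Agent.Lib.Helper81.QuotInduce
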