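import Groth.Agent.Lib.Helper81.IsQuotBasis
import Groth.Agent.Lib.Helper81.QuotInduce

set_option autoImplicit false
set_option linter.style.haveILetI false
set_option linter.unusedSectionVars false
universe u
open CategoryTheory CategoryTheory.Limits AlgebraicGeometry Opposite TopologicalSpace

namespace Groth.Agent.Lib.Helper81.Quot

variable {Z Z₁ Z₂ : Scheme.{u}} {K G H : Type u} [Group K] [Group G] [Group H]

theorem comp_app_apply (π₁ : Z ⟶ Z₁) (π₂ : Z₁ ⟶ Z₂) (U : Z₂.Opens) (t : Γ(Z₂, U)) :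
    ((π₁ ≫ π₂).app U).hom t = (π₁.app (π₂ ⁻¹ᵁ U)).hom ((π₂.app U).hom t) := by
  rw [Scheme.Hom.comp_app]
  rfl

theorem isQuot_comp (θ : K →* Aut Z) (iG : G →* K) (iH : H →* K)
    (hgen : ∀ k : K, ∃ (g : G) (h : H), k = iG g * iH h)
    (π₁ : Z ⟶ Z₁) (π₂ : Z₁ ⟶ Z₂) (τ : H →* Aut Z₁)
    (h₁ : SGA1.IsQuot (θ.comp iG) π₁) (h₂ : SGA1.IsQuot τ π₂)
    (hcompat : ∀ h : H, (θ (iH h)).hom ≫ π₁ = π₁ ≫ (τ h).hom) :
    SGA1.IsQuot θ (π₁ ≫ π₂) := by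
  have hinv : ∀ k : K, (θ k).hom ≫ π₁ ≫ π₂ = π₁ ≫ π₂ := by
    intro k
    obtain ⟨g, h, rfl⟩ := hgen k
    have e1 : (θ (iG g)).hom ≫ π₁ = π₁ := h₁.inv g
    rw [QuotInduce.rho_mul_hom, Category.assoc, reassoc_of% e1, reassoc_of% (hcompat h), h₂.inv]
  refine ⟨?_, hinv, ?_, ?_⟩
  · haveI := h₁.affine
    haveI := h₂.affine
    infer_instance
  · intro U t t' htt'
    rw [comp_app_apply, comp_app_apply] at htt'
    exact h₂.injective U (h₁.injective _ htt')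
  · intro U s
    constructor
    · rintro ⟨t, rfl⟩ k
      exact sec_app θ (π₁ ≫ π₂) hinv U k t
    · intro hs
      have ha : s ∈ Set.range (π₁.app (π₂ ⁻¹ᵁ U)).hom :=
        (h₁.range_iff (π₂ ⁻¹ᵁ U) s).mpr (fun g => hs (iG g))
      obtain ⟨s₁, hs₁⟩ := ha
      have hb : ∀ h : H, ((τ h).hom.appLE (π₂ ⁻¹ᵁ U) (π₂ ⁻¹ᵁ U)
          (SGA1.preimage_le_of_inv τ π₂ h₂.inv h U)).hom s₁ = s₁ := by
        intro h
        apply h₁.injective (π₂ ⁻¹ᵁ U)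
        have e1 : (τ h).hom.appLE (π₂ ⁻¹ᵁ U) (π₂ ⁻¹ᵁ U)
            (SGA1.preimage_le_of_inv τ π₂ h₂.inv h U) ≫ π₁.app (π₂ ⁻¹ᵁ U) =
            π₁.app (π₂ ⁻¹ᵁ U) ≫ (θ (iH h)).hom.appLE (π₁ ⁻¹ᵁ (π₂ ⁻¹ᵁ U)) (π₁ ⁻¹ᵁ (π₂ ⁻¹ᵁ U))
              (SGA1.preimage_le_of_inv θ (π₁ ≫ π₂) hinv (iH h) U) := by
          rw [← Scheme.Hom.appLE_eq_app, Scheme.Hom.appLE_comp_appLE,
            Scheme.Hom.appLE_comp_appLE]
          exact (appLE_congr_hom (hcompat h) _ _ _).symm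
        have e2 := congrArg (fun φ => φ.hom s₁) e1
        simp only [CommRingCat.hom_comp, RingHom.coe_comp, Function.comp_apply] at e2
        rw [e2, hs₁]
        exact hs (iH h)
      obtain ⟨t, ht⟩ := (h₂.range_iff U s₁).mpr hb
      refine ⟨t, ?_⟩
      rw [comp_app_apply, ht]
      exact hs₁

end Groth.Agent.Lib.Helper81.Quot
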