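import Groth.Agent.Lib.Helper81.IsQuotComp
import Groth.Agent.Lib.Helper81.IsQuotFlat

set_option autoImplicit false
set_option linter.style.haveILetI false
set_option linter.unusedSectionVars false
universe u
open CategoryTheory CategoryTheory.Limits AlgebraicGeometry Opposite TopologicalSpace

namespace Groth.Agent.Lib.Helper81.QuotProd

open Groth.Agent.Lib.Helper81.Quot

variable {S X Y XG YH : Scheme.{u}} {G H : Type u} [Group G] [Group H]
  (fX : X ⟶ S) (fY : Y ⟶ S) (gX : XG ⟶ S) (gY : YH ⟶ S)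
  (ρ : G →* Aut X) (σ : H →* Aut Y) (hσ : ∀ h, (σ h).hom ≫ fY = fY)
  (p : X ⟶ XG) (hp : p ≫ gX = fX) (q : Y ⟶ YH) (hq : q ≫ gY = fY)

noncomputable def pi1 : pullback fX fY ⟶ pullback gX fY :=
  pullback.map fX fY gX fY p (𝟙 Y) (𝟙 S) (by rw [Category.comp_id, hp]) (by simp)

theorem pi1_fst : pi1 fX fY gX p hp ≫ pullback.fst gX fY = pullback.fst fX fY ≫ p := by
  unfold pi1
  exact pullback.lift_fst _ _ _

theorem pi1_snd : pi1 fX fY gX p hp ≫ pullback.snd gX fY = pullback.snd fX fY := by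
  unfold pi1
  rw [pullback.map, pullback.lift_snd, Category.comp_id]

noncomputable def pi2 : pullback gX fY ⟶ pullback gX gY :=
  pullback.map gX fY gX gY (𝟙 XG) q (𝟙 S) (by simp) (by rw [Category.comp_id, hq])

theorem pi2_fst : pi2 fY gX gY q hq ≫ pullback.fst gX gY = pullback.fst gX fY := by
  unfold pi2
  rw [pullback.map, pullback.lift_fst, Category.comp_id]

theorem pi2_snd : pi2 fY gX gY q hq ≫ pullback.snd gX gY = pullback.snd gX fY ≫ q := by
  unfold pi2
  exact pullback.lift_snd _ _ _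

theorem isPullback1 :
    IsPullback (pullback.fst fX fY) (pi1 fX fY gX p hp) p (pullback.fst gX fY) := by
  have t : IsPullback (pullback.snd gX fY) (pullback.fst gX fY) fY gX :=
    (IsPullback.of_hasPullback gX fY).flip
  have big : IsPullback (pi1 fX fY gX p hp ≫ pullback.snd gX fY) (pullback.fst fX fY) fY
      (p ≫ gX) := by
    rw [pi1_snd, hp]
    exact (IsPullback.of_hasPullback fX fY).flip
  exact (IsPullback.of_right big (pi1_fst fX fY gX p hp) t).flip

theorem isPullback2 :
    IsPullback (pullback.snd gX fY) (pi2 fY gX gY q hq) q (pullback.snd gX gY) := by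
  have t : IsPullback (pullback.fst gX gY) (pullback.snd gX gY) gX gY :=
    IsPullback.of_hasPullback gX gY
  have big : IsPullback (pi2 fY gX gY q hq ≫ pullback.fst gX gY) (pullback.snd gX fY) gX
      (q ≫ gY) := by
    rw [pi2_fst, hq]
    exact IsPullback.of_hasPullback gX fY
  exact (IsPullback.of_right big (pi2_snd fY gX gY q hq) t).flip

noncomputable def tauHom (h : H) : pullback gX fY ⟶ pullback gX fY :=
  pullback.map gX fY gX fY (𝟙 XG) (σ h).hom (𝟙 S) (by simp) (by rw [Category.comp_id, hσ h])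

theorem tauHom_fst (h : H) :
    tauHom fY gX σ hσ h ≫ pullback.fst gX fY = pullback.fst gX fY := by
  unfold tauHom
  rw [pullback.map, pullback.lift_fst, Category.comp_id]

theorem tauHom_snd (h : H) :
    tauHom fY gX σ hσ h ≫ pullback.snd gX fY = pullback.snd gX fY ≫ (σ h).hom := by
  unfold tauHom
  exact pullback.lift_snd _ _ _

theorem tauHom_mul (h h' : H) :
    tauHom fY gX σ hσ (h * h') = tauHom fY gX σ hσ h' ≫ tauHom fY gX σ hσ h := by
  apply pullback.hom_ext
  · rw [Category.assoc, tauHom_fst, tauHom_fst, tauHom_fst]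
  · rw [Category.assoc, tauHom_snd, tauHom_snd, reassoc_of% (tauHom_snd fY gX σ hσ h'),
      QuotInduce.rho_mul_hom]

theorem tauHom_one : tauHom fY gX σ hσ 1 = 𝟙 _ := by
  apply pullback.hom_ext
  · rw [tauHom_fst, Category.id_comp]
  · rw [tauHom_snd, QuotInduce.rho_one_hom, Category.comp_id, Category.id_comp]

noncomputable def tau : H →* Aut (pullback gX fY) where
  toFun h :=
    { hom := tauHom fY gX σ hσ h
      inv := tauHom fY gX σ hσ h⁻¹
      hom_inv_id := by rw [← tauHom_mul, inv_mul_cancel, tauHom_one]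
      inv_hom_id := by rw [← tauHom_mul, mul_inv_cancel, tauHom_one] }
  map_one' := by
    apply Iso.ext
    exact tauHom_one fY gX σ hσ
  map_mul' a b := by
    apply Iso.ext
    exact tauHom_mul fY gX σ hσ a b

theorem tau_hom (h : H) : (tau fY gX σ hσ h).hom = tauHom fY gX σ hσ h := rfl

include hp hq hσ in
theorem isQuot_prod [Finite G] [Finite H] [Flat fY] [Flat gX]
    (hP : SGA1.IsQuot ρ p) (hQ : SGA1.IsQuot σ q)
    (θ : G × H →* Aut (pullback fX fY))
    (hθ1 : ∀ gh : G × H, (θ gh).hom ≫ pullback.fst fX fY = pullback.fst fX fY ≫ (ρ gh.1).hom)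
    (hθ2 : ∀ gh : G × H, (θ gh).hom ≫ pullback.snd fX fY = pullback.snd fX fY ≫ (σ gh.2).hom)
    (π : pullback fX fY ⟶ pullback gX gY) (hπ1 : π ≫ pullback.fst gX gY = pullback.fst fX fY ≫ p)
    (hπ2 : π ≫ pullback.snd gX gY = pullback.snd fX fY ≫ q) :
    SGA1.IsQuot θ π := by
  have hπ : π = pi1 fX fY gX p hp ≫ pi2 fY gX gY q hq := by
    apply pullback.hom_ext
    · rw [hπ1, Category.assoc, pi2_fst, pi1_fst]
    · rw [hπ2, Category.assoc, pi2_snd, reassoc_of% (pi1_snd fX fY gX p hp)]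
  rw [hπ]
  refine isQuot_comp θ (MonoidHom.inl G H) (MonoidHom.inr G H) ?_ (pi1 fX fY gX p hp)
    (pi2 fY gX gY q hq) (tau fY gX σ hσ) ?_ ?_ ?_
  · rintro ⟨g, h⟩
    refine ⟨g, h, ?_⟩
    simp
  · refine isQuot_of_isPullback_of_flat ρ p hP (pullback.fst gX fY) (pullback.fst fX fY)
      (pi1 fX fY gX p hp) (isPullback1 fX fY gX p hp) (θ.comp (MonoidHom.inl G H))
      (fun g => hθ1 (g, 1)) (fun g => ?_)
    apply pullback.hom_ext
    · rw [Category.assoc, pi1_fst]
      have e1 := hθ1 (g, 1)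
      have e2 : ((θ.comp (MonoidHom.inl G H)) g).hom = (θ (g, 1)).hom := rfl
      rw [e2, reassoc_of% e1, hP.inv]
    · rw [Category.assoc, pi1_snd]
      have e1 := hθ2 (g, 1)
      have e2 : ((θ.comp (MonoidHom.inl G H)) g).hom = (θ (g, 1)).hom := rfl
      rw [e2, e1]
      show _ ≫ (σ 1).hom = _
      rw [QuotInduce.rho_one_hom, Category.comp_id]
  · refine isQuot_of_isPullback_of_flat σ q hQ (pullback.snd gX gY) (pullback.snd gX fY)
      (pi2 fY gX gY q hq) (isPullback2 fY gX gY q hq) (tau fY gX σ hσ)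
      (fun h => tauHom_snd fY gX σ hσ h) (fun h => ?_)
    rw [tau_hom]
    apply pullback.hom_ext
    · rw [Category.assoc, pi2_fst, tauHom_fst]
    · rw [Category.assoc, pi2_snd, reassoc_of% (tauHom_snd fY gX σ hσ h), hQ.inv]
  · intro h
    rw [tau_hom]
    have e2 : (θ ((MonoidHom.inr G H) h)).hom = (θ (1, h)).hom := rfl
    rw [e2]
    apply pullback.hom_ext
    · rw [Category.assoc, Category.assoc, pi1_fst, tauHom_fst, pi1_fst]
      have e1 := hθ1 (1, h)
      rw [reassoc_of% e1]
      show _ ≫ (ρ 1).hom ≫ _ = _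
      rw [QuotInduce.rho_one_hom, Category.id_comp]
    · rw [Category.assoc, Category.assoc, pi1_snd, tauHom_snd,
        reassoc_of% (pi1_snd fX fY gX p hp)]
      exact hθ2 (1, h)

end Groth.Agent.Lib.Helper81.QuotProd
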