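import Groth.Agent.Lib.Helper81.IsQuot

set_option autoImplicit false
set_option linter.style.haveILetI false
universe u
open CategoryTheory CategoryTheory.Limits AlgebraicGeometry Opposite TopologicalSpace

namespace Groth.Agent.Lib.Helper81.Quot

variable {X Y : Scheme.{u}} {G : Type u} [Group G]

theorem resLE_congr_hom {f f' : X ⟶ Y} (h : f = f') (U : Y.Opens) (V : X.Opens)
    (e : V ≤ f ⁻¹ᵁ U) : f.resLE U V e = f'.resLE U V (h ▸ e) := by
  subst h; rfl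

section Restrict

variable (ρ : G →* Aut X) (V : X.Opens) (hV : ∀ g : G, V ≤ (ρ g).hom ⁻¹ᵁ V)

theorem aut_hom_inv (g : G) : (ρ g).hom ≫ (ρ g⁻¹).hom = 𝟙 X := by
  rw [map_inv]
  exact (ρ g).hom_inv_id

theorem aut_inv_hom (g : G) : (ρ g⁻¹).hom ≫ (ρ g).hom = 𝟙 X := by
  rw [map_inv]
  exact (ρ g).inv_hom_id

noncomputable def restrictIso (g : G) : V.toScheme ≅ V.toScheme where
  hom := (ρ g).hom.resLE V V (hV g)
  inv := (ρ g⁻¹).hom.resLE V V (hV g⁻¹)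
  hom_inv_id := by
    rw [Scheme.Hom.resLE_comp_resLE, resLE_congr_hom (aut_hom_inv ρ g), Scheme.Hom.resLE_id]
    exact Scheme.homOfLE_rfl _ _
  inv_hom_id := by
    rw [Scheme.Hom.resLE_comp_resLE, resLE_congr_hom (aut_inv_hom ρ g), Scheme.Hom.resLE_id]
    exact Scheme.homOfLE_rfl _ _

noncomputable def restrictAut : G →* Aut V.toScheme where
  toFun g := restrictIso ρ V hV g
  map_one' := by
    apply Iso.ext
    show (ρ 1).hom.resLE V V _ = 𝟙 _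
    rw [resLE_congr_hom (show (ρ 1).hom = 𝟙 X by rw [map_one]; rfl), Scheme.Hom.resLE_id]
    exact Scheme.homOfLE_rfl _ _
  map_mul' g h := by
    apply Iso.ext
    show (ρ (g * h)).hom.resLE V V _ = (ρ h).hom.resLE V V _ ≫ (ρ g).hom.resLE V V _
    rw [Scheme.Hom.resLE_comp_resLE]
    exact resLE_congr_hom (show (ρ (g * h)).hom = (ρ h).hom ≫ (ρ g).hom by rw [map_mul]; rfl) _ _ _

theorem restrictAut_hom (g : G) :
    ((restrictAut ρ V hV) g).hom = (ρ g).hom.resLE V V (hV g) := rfl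

theorem restrictAut_hom_ι (g : G) :
    ((restrictAut ρ V hV) g).hom ≫ V.ι = V.ι ≫ (ρ g).hom :=
  Scheme.Hom.resLE_comp_ι _ _

end Restrict

section RestrictQuot

variable {ρ : G →* Aut X} {p : X ⟶ Y}

theorem range_iff_of_eq (hp : SGA1.IsQuot ρ p) (U : Y.Opens) (W : X.Opens) (e : W = p ⁻¹ᵁ U)
    (hW : ∀ g, W ≤ (ρ g).hom ⁻¹ᵁ W) (s : Γ(X, W)) :
    s ∈ Set.range (p.app U ≫ X.presheaf.map (eqToHom e).op).hom ↔
      ∀ g, (sec ρ W hW g).hom s = s := by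
  subst e
  simp only [eqToHom_refl, op_id, X.presheaf.map_id, Category.comp_id]
  exact hp.range_iff U s

set_option backward.isDefEq.respectTransparency false in
theorem restrict (hp : SGA1.IsQuot ρ p) (U : Y.Opens) (ρU : G →* Aut (p ⁻¹ᵁ U).toScheme)
    (hρU : ∀ g, (ρU g).hom ≫ (p ⁻¹ᵁ U).ι = (p ⁻¹ᵁ U).ι ≫ (ρ g).hom) :
    SGA1.IsQuot ρU (p ∣_ U) := by
  have hres : ∀ g, (ρU g).hom = (ρ g).hom.resLE (p ⁻¹ᵁ U) (p ⁻¹ᵁ U) (stable hp U g) := fun g => by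
    rw [← cancel_mono (p ⁻¹ᵁ U).ι, hρU, Scheme.Hom.resLE_comp_ι]
  haveI := hp.affine
  have hinv : ∀ g, (ρU g).hom ≫ (p ∣_ U) = p ∣_ U := by
    intro g
    rw [← cancel_mono U.ι, Category.assoc, morphismRestrict_ι, reassoc_of% (hρU g), hp.inv g]
  refine ⟨IsZariskiLocalAtTarget.restrict hp.affine U, hinv, ?_, ?_⟩
  · intro U'
    rw [morphismRestrict_app]
    simp only [CommRingCat.hom_comp, RingHom.coe_comp]
    exact (ConcreteCategory.bijective_of_isIso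
      (X.presheaf.map (eqToHom (image_morphismRestrict_preimage p U U')).op)).injective.comp
        (hp.injective _)
  · intro U' s
    have hW : ∀ g, (p ⁻¹ᵁ U).ι ''ᵁ ((p ∣_ U) ⁻¹ᵁ U') ≤
        (ρ g).hom ⁻¹ᵁ ((p ⁻¹ᵁ U).ι ''ᵁ ((p ∣_ U) ⁻¹ᵁ U')) := by
      intro g
      rw [image_morphismRestrict_preimage p U U']
      exact stable hp _ g
    have key := range_iff_of_eq hp (U.ι ''ᵁ U') _ (image_morphismRestrict_preimage p U U') hW s
    rw [morphismRestrict_app]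
    refine key.trans (forall_congr' fun g => ?_)
    have : ((ρU g).hom.appLE ((p ∣_ U) ⁻¹ᵁ U') ((p ∣_ U) ⁻¹ᵁ U')
        (SGA1.preimage_le_of_inv ρU (p ∣_ U) hinv g U')) =
        sec ρ _ hW g := by
      rw [appLE_congr_hom (hres g), Scheme.Hom.resLE_appLE]
      rfl
    exact Iff.of_eq (congrArg (fun φ : Γ(X, (p ⁻¹ᵁ U).ι ''ᵁ ((p ∣_ U) ⁻¹ᵁ U')) ⟶
      Γ(X, (p ⁻¹ᵁ U).ι ''ᵁ ((p ∣_ U) ⁻¹ᵁ U')) => φ.hom s = s) this.symm)

theorem restrictAut_isQuot (hp : SGA1.IsQuot ρ p) (U : Y.Opens) :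
    SGA1.IsQuot (restrictAut ρ (p ⁻¹ᵁ U) (stable hp U)) (p ∣_ U) :=
  restrict hp U _ (restrictAut_hom_ι ρ _ _)

end RestrictQuot

end Groth.Agent.Lib.Helper81.Quot
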