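import Mathlib.CategoryTheory.Triangulated.Pretriangulated
import Mathlib.CategoryTheory.Shift.ShiftedHom

set_option autoImplicit false
universe v u
open CategoryTheory CategoryTheory.Limits CategoryTheory.Pretriangulated

namespace Groth.Agent.Lib.Helper81.TriangleMV

variable {D : Type u} [Category.{v} D] [Preadditive D] [HasZeroObject D] [HasShift D ℤ]
  [∀ n : ℤ, (shiftFunctor D n).Additive] [Pretriangulated D]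

section General

variable (T : Triangle D) (hT : T ∈ distTriang D) {B₂ B₃ : D}
  (i₂ : B₂ ⟶ T.obj₂) (i₃ : B₃ ⟶ T.obj₂) (p₂ : T.obj₂ ⟶ B₂) (p₃ : T.obj₂ ⟶ B₃)
  (hsum : p₂ ≫ i₂ + p₃ ≫ i₃ = 𝟙 T.obj₂) (h22 : i₂ ≫ p₂ = 𝟙 B₂) (h23 : i₂ ≫ p₃ = 0)
  (h33 : i₃ ≫ p₃ = 𝟙 B₃) (h32 : i₃ ≫ p₂ = 0)

include hT hsum in
theorem zero₁ {M : D} (c : T.obj₃ ⟶ M) :
    (T.mor₁ ≫ p₂) ≫ (i₂ ≫ T.mor₂) ≫ c + (T.mor₁ ≫ p₃) ≫ (i₃ ≫ T.mor₂) ≫ c = 0 := by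
  have h : (T.mor₁ ≫ p₂) ≫ (i₂ ≫ T.mor₂) ≫ c + (T.mor₁ ≫ p₃) ≫ (i₃ ≫ T.mor₂) ≫ c =
      T.mor₁ ≫ (p₂ ≫ i₂ + p₃ ≫ i₃) ≫ T.mor₂ ≫ c := by
    simp only [Category.assoc, Preadditive.add_comp, Preadditive.comp_add]
  rw [h, hsum, Category.id_comp, ← Category.assoc, comp_distTriang_mor_zero₁₂ _ hT, zero_comp]

include hT h22 h23 h33 h32 in
theorem exact₁ {M : D} (a : B₂ ⟶ M) (b : B₃ ⟶ M)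
    (h : (T.mor₁ ≫ p₂) ≫ a + (T.mor₁ ≫ p₃) ≫ b = 0) :
    ∃ c : T.obj₃ ⟶ M, (i₂ ≫ T.mor₂) ≫ c = a ∧ (i₃ ≫ T.mor₂) ≫ c = b := by
  obtain ⟨g, hg⟩ := Triangle.yoneda_exact₂ T hT (p₂ ≫ a + p₃ ≫ b) (by
    rw [Preadditive.comp_add, ← Category.assoc, ← Category.assoc]; exact h)
  refine ⟨g, ?_, ?_⟩
  · rw [Category.assoc, ← hg, Preadditive.comp_add, ← Category.assoc, h22, Category.id_comp,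
      ← Category.assoc, h23, zero_comp, add_zero]
  · rw [Category.assoc, ← hg, Preadditive.comp_add, ← Category.assoc, h32, zero_comp,
      ← Category.assoc, h33, Category.id_comp, zero_add]

include hT in
theorem zero₂ {M M' : D} (e : M⟦(1 : ℤ)⟧ ≅ M') (a : B₂ ⟶ M) (b : B₃ ⟶ M) :
    T.mor₃ ≫ ((T.mor₁ ≫ p₂) ≫ a + (T.mor₁ ≫ p₃) ≫ b)⟦(1 : ℤ)⟧' ≫ e.hom = 0 := by
  have h : (T.mor₁ ≫ p₂) ≫ a + (T.mor₁ ≫ p₃) ≫ b = T.mor₁ ≫ (p₂ ≫ a + p₃ ≫ b) := by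
    simp only [Category.assoc, Preadditive.comp_add]
  rw [h, Functor.map_comp, ← Category.assoc, ← Category.assoc,
    comp_distTriang_mor_zero₃₁ _ hT, zero_comp, zero_comp]

include hT hsum in
theorem exact₂ {M M' : D} (e : M⟦(1 : ℤ)⟧ ≅ M') (a : T.obj₁ ⟶ M)
    (h : T.mor₃ ≫ a⟦(1 : ℤ)⟧' ≫ e.hom = 0) :
    ∃ (a' : B₂ ⟶ M) (b' : B₃ ⟶ M), (T.mor₁ ≫ p₂) ≫ a' + (T.mor₁ ≫ p₃) ≫ b' = a := by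
  have h0 : T.mor₃ ≫ a⟦(1 : ℤ)⟧' = 0 := by
    have h1 : (T.mor₃ ≫ a⟦(1 : ℤ)⟧') ≫ e.hom = 0 := by rw [Category.assoc]; exact h
    have h2 := congrArg (fun φ => φ ≫ e.inv) h1
    simpa using h2
  obtain ⟨g, hg⟩ := Triangle.yoneda_exact₃ T.rotate (rot_of_distTriang _ hT) (a⟦(1 : ℤ)⟧') h0
  obtain ⟨g₀, hg₀⟩ : ∃ g₀ : T.obj₂ ⟶ M, g₀⟦(1 : ℤ)⟧' = g :=
    ⟨(shiftFunctor D (1 : ℤ)).preimage g, Functor.map_preimage _ _⟩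
  have ha : a = T.mor₁ ≫ (-g₀) := by
    apply (shiftFunctor D (1 : ℤ)).map_injective
    rw [hg, Functor.map_comp, Functor.map_neg, hg₀, Preadditive.comp_neg]
    exact Preadditive.neg_comp _ _
  refine ⟨i₂ ≫ (-g₀), i₃ ≫ (-g₀), ?_⟩
  have h : (T.mor₁ ≫ p₂) ≫ i₂ ≫ (-g₀) + (T.mor₁ ≫ p₃) ≫ i₃ ≫ (-g₀) =
      T.mor₁ ≫ (p₂ ≫ i₂ + p₃ ≫ i₃) ≫ (-g₀) := by
    simp only [Category.assoc, Preadditive.add_comp, Preadditive.comp_add]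
  rw [h, hsum, Category.id_comp, ← ha]

include hT in
theorem zero₃ {M M' : D} (e : M⟦(1 : ℤ)⟧ ≅ M') (a : T.obj₁ ⟶ M) :
    (i₂ ≫ T.mor₂) ≫ T.mor₃ ≫ a⟦(1 : ℤ)⟧' ≫ e.hom = 0 ∧
      (i₃ ≫ T.mor₂) ≫ T.mor₃ ≫ a⟦(1 : ℤ)⟧' ≫ e.hom = 0 := by
  constructor
  · rw [Category.assoc, ← Category.assoc T.mor₂, comp_distTriang_mor_zero₂₃ _ hT, zero_comp,
      comp_zero]
  · rw [Category.assoc, ← Category.assoc T.mor₂, comp_distTriang_mor_zero₂₃ _ hT, zero_comp,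
      comp_zero]

include hT hsum in
theorem exact₃ {M M' : D} (e : M⟦(1 : ℤ)⟧ ≅ M') (c : T.obj₃ ⟶ M')
    (h2 : (i₂ ≫ T.mor₂) ≫ c = 0) (h3 : (i₃ ≫ T.mor₂) ≫ c = 0) :
    ∃ a : T.obj₁ ⟶ M, T.mor₃ ≫ a⟦(1 : ℤ)⟧' ≫ e.hom = c := by
  have h0 : T.mor₂ ≫ c = 0 := by
    have h : T.mor₂ ≫ c = (p₂ ≫ i₂ + p₃ ≫ i₃) ≫ T.mor₂ ≫ c := by
      rw [hsum, Category.id_comp]
    rw [h, Preadditive.add_comp, Category.assoc, Category.assoc, ← Category.assoc i₂, h2,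
      ← Category.assoc i₃, h3, comp_zero, comp_zero, add_zero]
  obtain ⟨φ, hφ⟩ := Triangle.yoneda_exact₃ T hT c h0
  refine ⟨(shiftFunctor D (1 : ℤ)).preimage (φ ≫ e.inv), ?_⟩
  rw [Functor.map_preimage, Category.assoc, e.inv_hom_id, Category.comp_id, ← hφ]

end General

section Explicit

variable {A B C : D} (u : A ⟶ B) (v : B ⟶ C) (w : C ⟶ A⟦(1 : ℤ)⟧)
  (hT : Triangle.mk u v w ∈ distTriang D) {B₂ B₃ : D}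
  (i₂ : B₂ ⟶ B) (i₃ : B₃ ⟶ B) (p₂ : B ⟶ B₂) (p₃ : B ⟶ B₃)
  (hsum : p₂ ≫ i₂ + p₃ ≫ i₃ = 𝟙 B) (h22 : i₂ ≫ p₂ = 𝟙 B₂) (h23 : i₂ ≫ p₃ = 0)
  (h33 : i₃ ≫ p₃ = 𝟙 B₃) (h32 : i₃ ≫ p₂ = 0)

include hT hsum in
theorem zero₁' {M : D} (c : C ⟶ M) :
    (u ≫ p₂) ≫ (i₂ ≫ v) ≫ c + (u ≫ p₃) ≫ (i₃ ≫ v) ≫ c = 0 :=
  zero₁ (Triangle.mk u v w) hT i₂ i₃ p₂ p₃ hsum c

include hT h22 h23 h33 h32 in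
theorem exact₁' {M : D} (a : B₂ ⟶ M) (b : B₃ ⟶ M)
    (h : (u ≫ p₂) ≫ a + (u ≫ p₃) ≫ b = 0) :
    ∃ c : C ⟶ M, (i₂ ≫ v) ≫ c = a ∧ (i₃ ≫ v) ≫ c = b :=
  exact₁ (Triangle.mk u v w) hT i₂ i₃ p₂ p₃ h22 h23 h33 h32 a b h

include hT in
theorem zero₂' {M M' : D} (e : M⟦(1 : ℤ)⟧ ≅ M') (a : B₂ ⟶ M) (b : B₃ ⟶ M) :
    w ≫ ((u ≫ p₂) ≫ a + (u ≫ p₃) ≫ b)⟦(1 : ℤ)⟧' ≫ e.hom = 0 :=
  zero₂ (Triangle.mk u v w) hT p₂ p₃ e a b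

include hT hsum in
theorem exact₂' {M M' : D} (e : M⟦(1 : ℤ)⟧ ≅ M') (a : A ⟶ M)
    (h : w ≫ a⟦(1 : ℤ)⟧' ≫ e.hom = 0) :
    ∃ (a' : B₂ ⟶ M) (b' : B₃ ⟶ M), (u ≫ p₂) ≫ a' + (u ≫ p₃) ≫ b' = a :=
  exact₂ (Triangle.mk u v w) hT i₂ i₃ p₂ p₃ hsum e a h

include hT in
theorem zero₃' {M M' : D} (e : M⟦(1 : ℤ)⟧ ≅ M') (a : A ⟶ M) :
    (i₂ ≫ v) ≫ w ≫ a⟦(1 : ℤ)⟧' ≫ e.hom = 0 ∧
      (i₃ ≫ v) ≫ w ≫ a⟦(1 : ℤ)⟧' ≫ e.hom = 0 :=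
  zero₃ (Triangle.mk u v w) hT i₂ i₃ e a

include hT hsum in
theorem exact₃' {M M' : D} (e : M⟦(1 : ℤ)⟧ ≅ M') (c : C ⟶ M')
    (h2 : (i₂ ≫ v) ≫ c = 0) (h3 : (i₃ ≫ v) ≫ c = 0) :
    ∃ a : A ⟶ M, w ≫ a⟦(1 : ℤ)⟧' ≫ e.hom = c :=
  exact₃ (Triangle.mk u v w) hT i₂ i₃ p₂ p₃ hsum e c h2 h3

end Explicit

end Groth.Agent.Lib.Helper81.TriangleMV
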