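import Groth.Prelude.Def_CohCx
import Groth.Agent.Lib.Helper81.TriangleMV
import Mathlib.CategoryTheory.Sites.MayerVietorisSquare
import Mathlib.Algebra.Homology.DerivedCategory.SingleTriangle

set_option autoImplicit false
set_option quotPrecheck false
universe u
open CategoryTheory CategoryTheory.Limits CategoryTheory.Pretriangulated Opposite

namespace Groth.Agent.Lib.Helper81.MVDerived

variable {C : Type u} [SmallCategory C] {J : GrothendieckTopology C}
  [HasWeakSheafify J (Type u)] [HasDerivedCategory.{u} (Sheaf J AddCommGrpCat.{u})]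
  (S : J.MayerVietorisSquare)

local notation "FF" => DerivedCategory.singleFunctor (Sheaf J AddCommGrpCat) 0
local notation "Z₁" => CohCx.freeSheaf J S.X₁
local notation "Z₂" => CohCx.freeSheaf J S.X₂
local notation "Z₃" => CohCx.freeSheaf J S.X₃
local notation "Z₄" => CohCx.freeSheaf J S.X₄
local notation "m₁₂" => CohCx.freeSheafMap J S.f₁₂
local notation "m₁₃" => CohCx.freeSheafMap J S.f₁₃
local notation "m₂₄" => CohCx.freeSheafMap J S.f₂₄
local notation "m₃₄" => CohCx.freeSheafMap J S.f₃₄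

theorem exists_dist :
    ∃ w : (FF).obj Z₄ ⟶ ((FF).obj Z₁)⟦(1 : ℤ)⟧,
      Triangle.mk ((FF).map (biprod.lift m₁₂ (-m₁₃) : Z₁ ⟶ Z₂ ⊞ Z₃))
        ((FF).map (biprod.desc m₂₄ m₃₄ : Z₂ ⊞ Z₃ ⟶ Z₄)) w ∈
        distTriang (DerivedCategory (Sheaf J AddCommGrpCat.{u})) :=
  ⟨S.shortComplex_shortExact.singleδ, S.shortComplex_shortExact.singleTriangle_distinguished⟩

end Groth.Agent.Lib.Helper81.MVDerived
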