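import Groth.Agent.Lib.Helper81.MVDerived

set_option autoImplicit false
set_option quotPrecheck false
universe u
open CategoryTheory CategoryTheory.Limits CategoryTheory.Pretriangulated Opposite

namespace Groth.Agent.Lib.Helper81.MVDerived

variable {C : Type u} [SmallCategory C] {J : GrothendieckTopology C}
  [HasWeakSheafify J (Type u)] [HasDerivedCategory.{u} (Sheaf J AddCommGrpCat.{u})]
  (S : J.MayerVietorisSquare)

local notation "FF" => DerivedCategory.singleFunctor (Sheaf J AddCommGrpCat) 0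
local notation "Z₁" => CohCx.freeSheaf J S.X₁
local notation "Z₂" => CohCx.freeSheaf J S.X₂
local notation "Z₃" => CohCx.freeSheaf J S.X₃
local notation "Z₄" => CohCx.freeSheaf J S.X₄
local notation "m₁₂" => CohCx.freeSheafMap J S.f₁₂
local notation "m₁₃" => CohCx.freeSheafMap J S.f₁₃
local notation "m₂₄" => CohCx.freeSheafMap J S.f₂₄
local notation "m₃₄" => CohCx.freeSheafMap J S.f₃₄
local notation "uu" => (FF).map (biprod.lift m₁₂ (-m₁₃) : Z₁ ⟶ Z₂ ⊞ Z₃)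
local notation "vv" => (FF).map (biprod.desc m₂₄ m₃₄ : Z₂ ⊞ Z₃ ⟶ Z₄)
local notation "i₂" => (FF).map (biprod.inl : Z₂ ⟶ Z₂ ⊞ Z₃)
local notation "i₃" => (FF).map (biprod.inr : Z₃ ⟶ Z₂ ⊞ Z₃)
local notation "p₂" => (FF).map (biprod.fst : Z₂ ⊞ Z₃ ⟶ Z₂)
local notation "p₃" => (FF).map (biprod.snd : Z₂ ⊞ Z₃ ⟶ Z₃)

theorem hsum : p₂ ≫ i₂ + p₃ ≫ i₃ = 𝟙 ((FF).obj (Z₂ ⊞ Z₃)) := by
  rw [← Functor.map_comp, ← Functor.map_comp, ← Functor.map_add, biprod.total,
    CategoryTheory.Functor.map_id]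

theorem h22 : i₂ ≫ p₂ = 𝟙 ((FF).obj Z₂) := by
  rw [← Functor.map_comp, biprod.inl_fst, CategoryTheory.Functor.map_id]

theorem h23 : i₂ ≫ p₃ = 0 := by
  rw [← Functor.map_comp, biprod.inl_snd, Functor.map_zero]

theorem h33 : i₃ ≫ p₃ = 𝟙 ((FF).obj Z₃) := by
  rw [← Functor.map_comp, biprod.inr_snd, CategoryTheory.Functor.map_id]

theorem h32 : i₃ ≫ p₂ = 0 := by
  rw [← Functor.map_comp, biprod.inr_fst, Functor.map_zero]

theorem hα₂ : uu ≫ p₂ = (FF).map m₁₂ := by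
  rw [← Functor.map_comp, biprod.lift_fst]

theorem hα₃ : uu ≫ p₃ = -(FF).map m₁₃ := by
  rw [← Functor.map_comp, biprod.lift_snd, Functor.map_neg]

theorem hβ₂ : i₂ ≫ vv = (FF).map m₂₄ := by
  rw [← Functor.map_comp, biprod.inl_desc]

theorem hβ₃ : i₃ ≫ vv = (FF).map m₃₄ := by
  rw [← Functor.map_comp, biprod.inr_desc]

end Groth.Agent.Lib.Helper81.MVDerived
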