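import Groth.Agent.Lib.Helper81.MVDerived2

set_option autoImplicit false
set_option quotPrecheck false
universe u
open CategoryTheory CategoryTheory.Limits CategoryTheory.Pretriangulated Opposite

namespace Groth.Agent.Lib.Helper81.MVDerived

variable {C : Type u} [SmallCategory C] {J : GrothendieckTopology C}
  [HasWeakSheafify J (Type u)] [HasDerivedCategory.{u} (Sheaf J AddCommGrpCat.{u})]
  (S : J.MayerVietorisSquare)

set_option hygiene false in
local macro "FF" : term => `(DerivedCategory.singleFunctor (Sheaf J AddCommGrpCat.{u}) 0)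
set_option hygiene false in
local macro "DD" : term => `(DerivedCategory (Sheaf J AddCommGrpCat.{u}))
set_option hygiene false in
local macro "Z₁" : term => `(CohCx.freeSheaf J S.X₁)
set_option hygiene false in
local macro "Z₂" : term => `(CohCx.freeSheaf J S.X₂)
set_option hygiene false in
local macro "Z₃" : term => `(CohCx.freeSheaf J S.X₃)
set_option hygiene false in
local macro "Z₄" : term => `(CohCx.freeSheaf J S.X₄)
set_option hygiene false in
local macro "m₁₂" : term => `(CohCx.freeSheafMap J S.f₁₂)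
set_option hygiene false in
local macro "m₁₃" : term => `(CohCx.freeSheafMap J S.f₁₃)
set_option hygiene false in
local macro "m₂₄" : term => `(CohCx.freeSheafMap J S.f₂₄)
set_option hygiene false in
local macro "m₃₄" : term => `(CohCx.freeSheafMap J S.f₃₄)
set_option hygiene false in
local macro "uu" : term => `((FF).map (biprod.lift m₁₂ (-m₁₃) : Z₁ ⟶ Z₂ ⊞ Z₃))
set_option hygiene false in
local macro "vv" : term => `((FF).map (biprod.desc m₂₄ m₃₄ : Z₂ ⊞ Z₃ ⟶ Z₄))
set_option hygiene false in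
local macro "i₂" : term => `((FF).map (biprod.inl : Z₂ ⟶ Z₂ ⊞ Z₃))
set_option hygiene false in
local macro "i₃" : term => `((FF).map (biprod.inr : Z₃ ⟶ Z₂ ⊞ Z₃))
set_option hygiene false in
local macro "p₂" : term => `((FF).map (biprod.fst : Z₂ ⊞ Z₃ ⟶ Z₂))
set_option hygiene false in
local macro "p₃" : term => `((FF).map (biprod.snd : Z₂ ⊞ Z₃ ⟶ Z₃))

variable (w : (FF).obj Z₄ ⟶ ((FF).obj Z₁)⟦(1 : ℤ)⟧)
  (hT : Triangle.mk uu vv w ∈ distTriang DD)

include hT in
theorem core_exact₂ {M M' : DD} (e : M⟦(1 : ℤ)⟧ ≅ M') (a : (FF).obj Z₁ ⟶ M)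
    (h : w ≫ a⟦(1 : ℤ)⟧' ≫ e.hom = 0) :
    ∃ (a' : (FF).obj Z₂ ⟶ M) (b' : (FF).obj Z₃ ⟶ M),
      (FF).map m₁₂ ≫ a' + -((FF).map m₁₃ ≫ b') = a := by
  have h1 : ∃ (a' : (FF).obj Z₂ ⟶ M) (b' : (FF).obj Z₃ ⟶ M),
      (uu ≫ p₂) ≫ a' + (uu ≫ p₃) ≫ b' = a :=
    TriangleMV.exact₂' uu vv w hT i₂ i₃ p₂ p₃ (hsum S) e a h
  obtain ⟨a', b', h2⟩ := h1
  rw [hα₂ S, hα₃ S, Preadditive.neg_comp] at h2
  exact ⟨a', b', h2⟩

end Groth.Agent.Lib.Helper81.MVDerived
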