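import Groth.Agent.Lib.Helper81.MVDerived3Z1
import Groth.Agent.Lib.Helper81.MVDerived3E1
import Groth.Agent.Lib.Helper81.MVDerived3Z2
import Groth.Agent.Lib.Helper81.MVDerived3E2
import Groth.Agent.Lib.Helper81.MVDerived3Z3
import Groth.Agent.Lib.Helper81.MVDerived3E3
import Mathlib.Algebra.Homology.ExactSequence
import Mathlib.Algebra.Homology.ShortComplex.Ab

set_option autoImplicit false
universe u
open CategoryTheory CategoryTheory.Limits CategoryTheory.Pretriangulated Opposite

namespace Groth.Agent.Lib.Helper81.MVDerived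

theorem exact_mk₂_of {A B C : Type u} [AddCommGroup A] [AddCommGroup B] [AddCommGroup C]
    (f : A →+ B) (g : B →+ C) (hz : ∀ a, g (f a) = 0) (he : ∀ b, g b = 0 → ∃ a, f a = b) :
    (ComposableArrows.mk₂ (AddCommGrpCat.ofHom f) (AddCommGrpCat.ofHom g)).Exact := by
  have w : AddCommGrpCat.ofHom f ≫ AddCommGrpCat.ofHom g = 0 := by
    ext a; exact hz a
  exact ShortComplex.Exact.exact_toComposableArrows (S := ShortComplex.mk _ _ w)
    ((ShortComplex.ab_exact_iff _).mpr (fun b hb => he b hb))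

variable {C : Type u} [SmallCategory C] {J : GrothendieckTopology C}
  [HasWeakSheafify J (Type u)] [HasDerivedCategory.{u} (Sheaf J AddCommGrpCat.{u})]
  (S : J.MayerVietorisSquare)

set_option hygiene false in
local macro "FF" : term => `(DerivedCategory.singleFunctor (Sheaf J AddCommGrpCat.{u}) 0)
set_option hygiene false in
local macro "DD" : term => `(DerivedCategory (Sheaf J AddCommGrpCat.{u}))
set_option hygiene false in
local macro "Z₁" : term => `(CohCx.freeSheaf J S.X₁)
set_option hygiene false in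
local macro "Z₂" : term => `(CohCx.freeSheaf J S.X₂)
set_option hygiene false in
local macro "Z₃" : term => `(CohCx.freeSheaf J S.X₃)
set_option hygiene false in
local macro "Z₄" : term => `(CohCx.freeSheaf J S.X₄)
set_option hygiene false in
local macro "m₁₂" : term => `(CohCx.freeSheafMap J S.f₁₂)
set_option hygiene false in
local macro "m₁₃" : term => `(CohCx.freeSheafMap J S.f₁₃)
set_option hygiene false in
local macro "m₂₄" : term => `(CohCx.freeSheafMap J S.f₂₄)
set_option hygiene false in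
local macro "m₃₄" : term => `(CohCx.freeSheafMap J S.f₃₄)
set_option hygiene false in
local macro "uu" : term => `((FF).map (biprod.lift m₁₂ (-m₁₃) : Z₁ ⟶ Z₂ ⊞ Z₃))
set_option hygiene false in
local macro "vv" : term => `((FF).map (biprod.desc m₂₄ m₃₄ : Z₂ ⊞ Z₃ ⟶ Z₄))

noncomputable def eIso (K : DD) (n : ℤ) : (K⟦n⟧)⟦(1 : ℤ)⟧ ≅ K⟦n + 1⟧ :=
  ((shiftFunctorAdd' DD n 1 (n + 1) rfl).app K).symm

variable (w : (FF).obj Z₄ ⟶ ((FF).obj Z₁)⟦(1 : ℤ)⟧)

noncomputable def delta (K : DD) (n : ℤ) : CohCx.HDU K n S.X₁ →+ CohCx.HDU K (n + 1) S.X₄ :=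
  (Preadditive.leftComp _ w).comp
    ((Preadditive.rightComp _ (eIso K n).hom).comp (shiftFunctor DD (1 : ℤ)).mapAddHom)

theorem delta_apply (K : DD) (n : ℤ) (a : CohCx.HDU K n S.X₁) :
    delta S w K n a = w ≫ a⟦(1 : ℤ)⟧' ≫ (eIso K n).hom := rfl

variable (hT : Triangle.mk uu vv w ∈ distTriang DD)

include hT in
theorem mv_exact (K : DD) (n : ℤ) :
    (ComposableArrows.mk₂
        (AddCommGrpCat.ofHom ((CohCx.HDUres K n S.f₂₄).prod (CohCx.HDUres K n S.f₃₄)))
        (AddCommGrpCat.ofHom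
          ((CohCx.HDUres K n S.f₁₂).coprod (-(CohCx.HDUres K n S.f₁₃))))).Exact ∧
    (ComposableArrows.mk₂
        (AddCommGrpCat.ofHom ((CohCx.HDUres K n S.f₁₂).coprod (-(CohCx.HDUres K n S.f₁₃))))
        (AddCommGrpCat.ofHom (delta S w K n))).Exact ∧
    (ComposableArrows.mk₂ (AddCommGrpCat.ofHom (delta S w K n))
        (AddCommGrpCat.ofHom
          ((CohCx.HDUres K (n + 1) S.f₂₄).prod (CohCx.HDUres K (n + 1) S.f₃₄)))).Exact := by
  refine ⟨?_, ?_, ?_⟩
  · apply exact_mk₂_of
    · intro c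
      exact core_zero₁ S w hT c
    · rintro ⟨a, b⟩ h
      obtain ⟨c, h1, h2⟩ := core_exact₁ S w hT a b h
      exact ⟨c, Prod.ext h1 h2⟩
  · apply exact_mk₂_of
    · rintro ⟨a, b⟩
      exact core_zero₂ S w hT (eIso K n) a b
    · intro a h
      obtain ⟨a', b', h1⟩ := core_exact₂ S w hT (eIso K n) a h
      exact ⟨(a', b'), h1⟩
  · apply exact_mk₂_of
    · intro a
      exact Prod.ext (core_zero₃ S w hT (eIso K n) a).1 (core_zero₃ S w hT (eIso K n) a).2
    · intro c h
      exact core_exact₃ S w hT (eIso K n) c (congrArg Prod.fst h) (congrArg Prod.snd h)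

end Groth.Agent.Lib.Helper81.MVDerived
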