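import Mathlib

set_option autoImplicit false

namespace Groth.Agent.Lib.Helper81.MonoidAlgUnits

open Finset

variable {R M : Type*} [CommRing R] [IsDomain R] [AddCommGroup M] [TwoUniqueSums M]

theorem card_support_le_one {f g : AddMonoidAlgebra R M} (h : f * g = 1) :
    #f.coeff.support * #g.coeff.support ≤ 1 := by
  classical
  by_contra hc
  push Not at hc
  obtain ⟨p1, h1, p2, h2, hne, hu1, hu2⟩ := TwoUniqueSums.uniqueAdd_of_one_lt_card hc
  rw [Finset.mem_product] at h1 h2
  have e1 : (f * g).coeff (p1.1 + p1.2) = f.coeff p1.1 * g.coeff p1.2 :=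
    AddMonoidAlgebra.coeff_mul_add_of_uniqueAdd hu1
  have e2 : (f * g).coeff (p2.1 + p2.2) = f.coeff p2.1 * g.coeff p2.2 :=
    AddMonoidAlgebra.coeff_mul_add_of_uniqueAdd hu2
  have n1 : f.coeff p1.1 * g.coeff p1.2 ≠ 0 :=
    mul_ne_zero (Finsupp.mem_support_iff.mp h1.1) (Finsupp.mem_support_iff.mp h1.2)
  have n2 : f.coeff p2.1 * g.coeff p2.2 ≠ 0 :=
    mul_ne_zero (Finsupp.mem_support_iff.mp h2.1) (Finsupp.mem_support_iff.mp h2.2)
  rw [h, AddMonoidAlgebra.one_def, AddMonoidAlgebra.coeff_single] at e1 e2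
  have z1 : p1.1 + p1.2 = 0 := by
    by_contra hz
    rw [Finsupp.single_apply, if_neg (Ne.symm hz)] at e1
    exact n1 e1.symm
  have z2 : p2.1 + p2.2 = 0 := by
    by_contra hz
    rw [Finsupp.single_apply, if_neg (Ne.symm hz)] at e2
    exact n2 e2.symm
  have := hu1 h2.1 h2.2 (z2.trans z1.symm)
  exact hne (Prod.ext this.1.symm this.2.symm)

theorem exists_single_of_mul_eq_one {f g : AddMonoidAlgebra R M} (h : f * g = 1) :
    ∃ (e : M) (a b : R), f = AddMonoidAlgebra.single e a ∧ g = AddMonoidAlgebra.single (-e) b ∧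
      a * b = 1 := by
  classical
  have hc := card_support_le_one h
  have hf : f ≠ 0 := by
    rintro rfl
    rw [zero_mul] at h
    exact zero_ne_one h
  have hg : g ≠ 0 := by
    rintro rfl
    rw [mul_zero] at h
    exact zero_ne_one h
  have hf' : f.coeff ≠ 0 := fun h0 => hf (AddMonoidAlgebra.coeff_eq_zero.mp h0)
  have hg' : g.coeff ≠ 0 := fun h0 => hg (AddMonoidAlgebra.coeff_eq_zero.mp h0)
  have cf : 0 < #f.coeff.support := Finset.card_pos.mpr (Finsupp.support_nonempty_iff.mpr hf')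
  have cg : 0 < #g.coeff.support := Finset.card_pos.mpr (Finsupp.support_nonempty_iff.mpr hg')
  have cf1 : #f.coeff.support = 1 := by nlinarith
  have cg1 : #g.coeff.support = 1 := by nlinarith
  obtain ⟨e, a, ha, hfa⟩ := Finsupp.card_support_eq_one'.mp cf1
  obtain ⟨e', b, hb, hgb⟩ := Finsupp.card_support_eq_one'.mp cg1
  have hf2 : f = AddMonoidAlgebra.single e a := by
    apply AddMonoidAlgebra.coeff_injective
    rw [hfa, AddMonoidAlgebra.coeff_single]
  have hg2 : g = AddMonoidAlgebra.single e' b := by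
    apply AddMonoidAlgebra.coeff_injective
    rw [hgb, AddMonoidAlgebra.coeff_single]
  subst hf2 hg2
  rw [AddMonoidAlgebra.single_mul_single, AddMonoidAlgebra.one_def] at h
  have hab : a * b ≠ 0 := mul_ne_zero ha hb
  rcases AddMonoidAlgebra.single_inj.mp h with ⟨h1, h2⟩ | ⟨h1, _⟩
  · have : e' = -e := by
      rw [eq_neg_iff_add_eq_zero, add_comm]; exact h1
    subst this
    exact ⟨e, a, b, rfl, rfl, h2⟩
  · exact absurd h1 hab

theorem exists_single_of_isUnit {f : AddMonoidAlgebra R M} (hf : IsUnit f) :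
    ∃ (e : M) (a : R), IsUnit a ∧ f = AddMonoidAlgebra.single e a := by
  obtain ⟨g, hg⟩ := hf.exists_right_inv
  obtain ⟨e, a, b, h1, _, h3⟩ := exists_single_of_mul_eq_one hg
  exact ⟨e, a, IsUnit.of_mul_eq_one _ h3, h1⟩

example (n : ℕ) : TwoUniqueSums (Fin n → ℤ) := inferInstance

end Groth.Agent.Lib.Helper81.MonoidAlgUnits
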