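import Mathlib
import Groth.Prelude.Def_ChGrp
import Groth.Prelude.Def_AlgGrp
import Groth.Agent.Lib.Helper93.TorsorPts

/-!
# Points calculus for a quotient by a normal subgroup acting freely (helper81)

`G` acts on `X`, `N = ker (q : G ⟶ H)`, `φ : X ⟶ Y` is a pseudo-torsor under `N` and is equivariant
along `q` for an action of `H` on `Y`.
-/

set_option autoImplicit false
set_option linter.style.haveILetI false
set_option linter.unusedSectionVars false
universe u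

open CategoryTheory CategoryTheory.Limits MonoidalCategory CartesianMonoidalCategory MonObj GrpObj
  AlgebraicGeometry

namespace Groth.Agent.Lib.Helper81.NTors1

variable {S : Scheme.{u}} {G N H X Y : Over S} [GrpObj G] [GrpObj N] [GrpObj H]

section kernel

variable (iN : N ⟶ G) (q : G ⟶ H)

lemma exists_of_ker (hker : AlgGrp.IsKernel iN q) {T : Over S} (g : T ⟶ G) (hg : g ≫ q = 1) :
    ∃ n : T ⟶ N, n ≫ iN = g := by
  refine ⟨hker.lift g (toUnit T) (by rw [hg, Hom.one_def]), hker.lift_fst _ _ _⟩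

end kernel

section main

variable (iN : N ⟶ G) [IsMonHom iN] (q : G ⟶ H) [IsMonHom q]
  (a : AlgGrp.Action G X) (φ : X ⟶ Y) (aY : AlgGrp.Action H Y)

lemma equiv_pt (hequiv : (q ⊗ₘ φ) ≫ aY.act = a.act ≫ φ) {T : Over S} (g : T ⟶ G) (x : T ⟶ X) :
    (lift g x ≫ a.act) ≫ φ = lift (g ≫ q) (x ≫ φ) ≫ aY.act := by
  rw [Category.assoc, ← hequiv, lift_map_assoc]

lemma exists_tors (hcart : IsPullback (a.restrict iN).act (snd N X) φ φ) {T : Over S}
    (x' x : T ⟶ X) (h : x' ≫ φ = x ≫ φ) : ∃ n : T ⟶ N, lift (n ≫ iN) x ≫ a.act = x' := by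
  obtain ⟨n, hn⟩ := Groth.Agent.Lib.Helper93.TorsorPts.exists_of_isPullback (a.restrict iN) φ hcart
    x' x h
  exact ⟨n, by rw [← AlgGrp.Action.lift_restrict_act]; exact hn⟩

lemma eq_tors (hcart : IsPullback (a.restrict iN).act (snd N X) φ φ) {T : Over S}
    (n n' : T ⟶ N) (x : T ⟶ X)
    (h : lift (n ≫ iN) x ≫ a.act = lift (n' ≫ iN) x ≫ a.act) : n = n' := by
  apply Groth.Agent.Lib.Helper93.TorsorPts.eq_of_isPullback (a.restrict iN) φ hcart n n' x
  rw [AlgGrp.Action.lift_restrict_act, AlgGrp.Action.lift_restrict_act]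
  exact h

/-- K1: lifting a stabilising point of `H` to a stabilising point of `G`. -/
theorem exists_stab_lift (hker : AlgGrp.IsKernel iN q)
    (hcart : IsPullback (a.restrict iN).act (snd N X) φ φ)
    (hequiv : (q ⊗ₘ φ) ≫ aY.act = a.act ≫ φ) {T : Over S} (g : T ⟶ G) (x : T ⟶ X)
    (h : lift (g ≫ q) (x ≫ φ) ≫ aY.act = x ≫ φ) :
    ∃ g' : T ⟶ G, g' ≫ q = g ≫ q ∧ lift g' x ≫ a.act = x := by
  have h1 : x ≫ φ = (lift g x ≫ a.act) ≫ φ := by
    rw [equiv_pt q a φ aY hequiv, h]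
  obtain ⟨n, hn⟩ := exists_tors iN a φ hcart x (lift g x ≫ a.act) h1
  refine ⟨(n ≫ iN) * g, ?_, ?_⟩
  · rw [MonObj.mul_comp, Category.assoc, hker.w, ← Category.assoc]
    have : (n ≫ toUnit N) ≫ η[H] = (1 : T ⟶ H) := by
      rw [Hom.one_def, toUnit_unique (n ≫ toUnit N) (toUnit T)]
    rw [this, _root_.one_mul]
  · rw [AlgGrp.Action.lift_mul_act, hn]

/-- K3: orbit version. -/
theorem exists_orbit_lift
    (hcart : IsPullback (a.restrict iN).act (snd N X) φ φ)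
    (hequiv : (q ⊗ₘ φ) ≫ aY.act = a.act ≫ φ) {T : Over S} (g : T ⟶ G) (x z : T ⟶ X)
    (h : z ≫ φ = lift (g ≫ q) (x ≫ φ) ≫ aY.act) :
    ∃ g' : T ⟶ G, lift g' x ≫ a.act = z := by
  have h1 : z ≫ φ = (lift g x ≫ a.act) ≫ φ := by
    rw [equiv_pt q a φ aY hequiv, h]
  obtain ⟨n, hn⟩ := exists_tors iN a φ hcart z (lift g x ≫ a.act) h1
  exact ⟨(n ≫ iN) * g, by rw [AlgGrp.Action.lift_mul_act, hn]⟩

/-- K2: a stabilising point of `G` is determined by its image in `H`. -/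
theorem stab_inj (hker : AlgGrp.IsKernel iN q)
    (hcart : IsPullback (a.restrict iN).act (snd N X) φ φ) {T : Over S} (g₁ g₂ : T ⟶ G)
    (x : T ⟶ X) (hq : g₁ ≫ q = g₂ ≫ q) (h₁ : lift g₁ x ≫ a.act = x)
    (h₂ : lift g₂ x ≫ a.act = x) : g₁ = g₂ := by
  have hm : (g₁ * g₂⁻¹) ≫ q = 1 := by
    rw [MonObj.mul_comp, GrpObj.inv_comp, hq, _root_.mul_inv_cancel]
  obtain ⟨n, hn⟩ := exists_of_ker iN q hker (g₁ * g₂⁻¹) hm
  have h3 : lift (g₂⁻¹) x ≫ a.act = x := by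
    conv_lhs => rw [← h₂]
    rw [← AlgGrp.Action.lift_mul_act, _root_.inv_mul_cancel, AlgGrp.Action.lift_one_act]
  have h4 : lift (g₁ * g₂⁻¹) x ≫ a.act = x := by
    rw [AlgGrp.Action.lift_mul_act, h3, h₁]
  have h5 : n = 1 := by
    apply eq_tors iN a φ hcart n 1 x
    rw [hn, h4, MonObj.one_comp, AlgGrp.Action.lift_one_act]
  have h6 : g₁ * g₂⁻¹ = 1 := by
    rw [← hn, h5, MonObj.one_comp]
  exact _root_.mul_inv_eq_one.mp h6

end main

end Groth.Agent.Lib.Helper81.NTors1
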