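import Mathlib
import Groth.Prelude.Def_W4bk4git07Quot
import Groth.Prelude.Def_GLinSh
import Groth.Agent.Lib.Helper81.NTors1

/-!
# Stabilisers under a quotient by a freely acting normal subgroup: comparison map (helper81)
-/

set_option autoImplicit false
set_option linter.style.haveILetI false
set_option linter.unusedSectionVars false
universe u

open CategoryTheory CategoryTheory.Limits MonoidalCategory CartesianMonoidalCategory MonObj GrpObj
  AlgebraicGeometry

namespace Groth.Agent.Lib.Helper81.NTors2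

section one

variable {S : Scheme.{u}} {G X : Over S} [GrpObj G] (a : AlgGrp.Action G X) {P : Over S}
  (x : P ⟶ X)

lemma lift_psi {T : Over S} (g : T ⟶ G) (p : T ⟶ P) :
    lift g p ≫ GIT.psi a x = lift (lift g (p ≫ x) ≫ a.act) p := by
  unfold GIT.psi
  rw [comp_lift, lift_snd, lift_whiskerLeft_assoc]

lemma psi_snd : GIT.psi a x ≫ snd X P = snd G P := lift_snd _ _

/-- The projection of the stabiliser to `G ×_S P`. -/
noncomputable def sfst : GLinSh.stab a x ⟶ (G ⊗ P).left :=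
  pullback.fst (GIT.psi a x).left (lift x (𝟙 P)).left

lemma sfst_psi :
    sfst a x ≫ (GIT.psi a x).left = GLinSh.stabTo a x ≫ (lift x (𝟙 P)).left :=
  pullback.condition

lemma stab_hom_ext {T : Scheme.{u}} (α β : T ⟶ GLinSh.stab a x)
    (h1 : α ≫ sfst a x = β ≫ sfst a x)
    (h2 : α ≫ GLinSh.stabTo a x = β ≫ GLinSh.stabTo a x) : α = β :=
  pullback.hom_ext h1 h2

lemma sfst_snd : sfst a x ≫ (snd G P).left = GLinSh.stabTo a x := by
  have h := congrArg (· ≫ (snd X P).left) (sfst_psi a x)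
  simp only [Category.assoc] at h
  rw [← Over.comp_left, ← Over.comp_left, psi_snd, lift_snd] at h
  rw [h]
  simp

theorem stab_pts {T : Scheme.{u}} (t : T ⟶ GLinSh.stab a x) (hT : T ⟶ S)
    (h : t ≫ GLinSh.stabTo a x ≫ P.hom = hT) :
    ∃ (pO : Over.mk hT ⟶ P) (g : Over.mk hT ⟶ G), pO.left = t ≫ GLinSh.stabTo a x ∧
      (lift g pO).left = t ≫ sfst a x ∧
      g.left = t ≫ sfst a x ≫ pullback.fst G.hom P.hom ∧
      lift g (pO ≫ x) ≫ a.act = pO ≫ x := by
  let pO : Over.mk hT ⟶ P := Over.homMk (t ≫ GLinSh.stabTo a x) (by simpa using h)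
  let u : T ⟶ (G ⊗ P).left := t ≫ sfst a x
  have hu : u ≫ (G ⊗ P).hom = hT := by
    rw [← Over.w (snd G P), ← h]
    simp only [u, Category.assoc]
    rw [← Category.assoc (sfst a x), sfst_snd]
  let uO : Over.mk hT ⟶ G ⊗ P := Over.homMk u hu
  have e1 : uO ≫ snd G P = pO := by
    apply Over.OverMorphism.ext
    simp only [uO, pO, u, Over.comp_left, Over.homMk_left, Category.assoc]
    rw [sfst_snd]
  let g : Over.mk hT ⟶ G := uO ≫ fst G P
  have e2 : uO = lift g pO := by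
    apply CartesianMonoidalCategory.hom_ext
    · rw [lift_fst]
    · rw [lift_snd, e1]
  have e3 : uO ≫ GIT.psi a x = pO ≫ lift x (𝟙 P) := by
    apply Over.OverMorphism.ext
    simp only [uO, pO, u, Over.comp_left, Over.homMk_left, Category.assoc]
    rw [sfst_psi]
  refine ⟨pO, g, rfl, ?_, ?_, ?_⟩
  · rw [← e2]
    rfl
  · simp only [g, uO, u, Over.comp_left, Over.homMk_left, Category.assoc]
    rfl
  · rw [e2, lift_psi, comp_lift, Category.comp_id] at e3
    have := congrArg (· ≫ fst X P) e3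
    simpa using this

/-- A stabilising point gives a morphism to the stabiliser. -/
noncomputable def stabLift {T : Over S} (pO : T ⟶ P) (g : T ⟶ G)
    (h : lift g (pO ≫ x) ≫ a.act = pO ≫ x) : T.left ⟶ GLinSh.stab a x :=
  pullback.lift (lift g pO).left pO.left (by
    rw [← Over.comp_left, ← Over.comp_left, lift_psi, h, comp_lift, Category.comp_id])

lemma stabLift_fst {T : Over S} (pO : T ⟶ P) (g : T ⟶ G)
    (h : lift g (pO ≫ x) ≫ a.act = pO ≫ x) :
    stabLift a x pO g h ≫ sfst a x = (lift g pO).left := pullback.lift_fst _ _ _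

lemma stabLift_snd {T : Over S} (pO : T ⟶ P) (g : T ⟶ G)
    (h : lift g (pO ≫ x) ≫ a.act = pO ≫ x) :
    stabLift a x pO g h ≫ GLinSh.stabTo a x = pO.left := pullback.lift_snd _ _ _

end one

section two

variable {S : Scheme.{u}} {G N H X Y : Over S} [GrpObj G] [GrpObj N] [GrpObj H]
  (iN : N ⟶ G) [IsMonHom iN] (q : G ⟶ H) [IsMonHom q]
  (a : AlgGrp.Action G X) (φ : X ⟶ Y) (aY : AlgGrp.Action H Y) {P : Over S} (x : P ⟶ X)

lemma psi_comm (hequiv : (q ⊗ₘ φ) ≫ aY.act = a.act ≫ φ) :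
    GIT.psi a x ≫ (φ ▷ P) = (q ▷ P) ≫ GIT.psi aY (x ≫ φ) := by
  apply AlgGrp.Action.hom_ext_lift₂
  intro T g p
  calc lift g p ≫ GIT.psi a x ≫ (φ ▷ P)
      = lift (lift g (p ≫ x) ≫ a.act) p ≫ (φ ▷ P) := by rw [← Category.assoc, lift_psi]
    _ = lift ((lift g (p ≫ x) ≫ a.act) ≫ φ) p := lift_whiskerRight _ _ _
    _ = lift (lift (g ≫ q) ((p ≫ x) ≫ φ) ≫ aY.act) p := by
        rw [NTors1.equiv_pt q a φ aY hequiv]
    _ = lift (g ≫ q) p ≫ GIT.psi aY (x ≫ φ) := by rw [lift_psi, Category.assoc]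
    _ = lift g p ≫ (q ▷ P) ≫ GIT.psi aY (x ≫ φ) := by
        rw [← Category.assoc, lift_whiskerRight]

/-- The comparison morphism of stabilisers. -/
noncomputable def sigma (hequiv : (q ⊗ₘ φ) ≫ aY.act = a.act ≫ φ) :
    GLinSh.stab a x ⟶ GLinSh.stab aY (x ≫ φ) :=
  pullback.lift (sfst a x ≫ (q ▷ P).left) (GLinSh.stabTo a x) (by
    calc (sfst a x ≫ (q ▷ P).left) ≫ (GIT.psi aY (x ≫ φ)).left
        = sfst a x ≫ ((q ▷ P) ≫ GIT.psi aY (x ≫ φ)).left := by
          rw [Category.assoc, Over.comp_left]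
      _ = sfst a x ≫ (GIT.psi a x ≫ (φ ▷ P)).left := by rw [psi_comm q a φ aY x hequiv]
      _ = (sfst a x ≫ (GIT.psi a x).left) ≫ (φ ▷ P).left := by
          rw [Over.comp_left, Category.assoc]
      _ = (GLinSh.stabTo a x ≫ (lift x (𝟙 P)).left) ≫ (φ ▷ P).left := by rw [sfst_psi]
      _ = GLinSh.stabTo a x ≫ (lift x (𝟙 P) ≫ (φ ▷ P)).left := by
          rw [Over.comp_left, Category.assoc]
      _ = GLinSh.stabTo a x ≫ (lift (x ≫ φ) (𝟙 P)).left := by rw [lift_whiskerRight])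

lemma sigma_fst (hequiv : (q ⊗ₘ φ) ≫ aY.act = a.act ≫ φ) :
    sigma q a φ aY x hequiv ≫ sfst aY (x ≫ φ) = sfst a x ≫ (q ▷ P).left :=
  pullback.lift_fst _ _ _

lemma sigma_snd (hequiv : (q ⊗ₘ φ) ≫ aY.act = a.act ≫ φ) :
    sigma q a φ aY x hequiv ≫ GLinSh.stabTo aY (x ≫ φ) = GLinSh.stabTo a x :=
  pullback.lift_snd _ _ _

theorem sigma_mono (hker : AlgGrp.IsKernel iN q)
    (hcart : IsPullback (a.restrict iN).act (snd N X) φ φ)
    (hequiv : (q ⊗ₘ φ) ≫ aY.act = a.act ≫ φ) : Mono (sigma q a φ aY x hequiv) := by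
  refine ⟨fun {T} α β hαβ => ?_⟩
  have hs : α ≫ GLinSh.stabTo a x = β ≫ GLinSh.stabTo a x := by
    rw [← sigma_snd q a φ aY x hequiv, ← Category.assoc, hαβ, Category.assoc]
  obtain ⟨pO, g₁, hp1, hl1, e1, hs1⟩ := stab_pts a x α (α ≫ GLinSh.stabTo a x ≫ P.hom) rfl
  obtain ⟨pO', g₂, hp2, hl2, e2, hs2⟩ := stab_pts a x β (α ≫ GLinSh.stabTo a x ≫ P.hom)
    (by rw [← Category.assoc, ← hs, Category.assoc])
  have hpp : pO = pO' := Over.OverMorphism.ext (by rw [hp1, hp2, hs])
  subst hpp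
  have hq : g₁ ≫ q = g₂ ≫ q := by
    apply Over.OverMorphism.ext
    rw [Over.comp_left, Over.comp_left, e1, e2]
    have h1 := congrArg (· ≫ sfst aY (x ≫ φ) ≫ pullback.fst H.hom P.hom) hαβ
    simp only [Category.assoc] at h1
    rw [← Category.assoc (sigma q a φ aY x hequiv), sigma_fst] at h1
    simp only [Category.assoc] at h1
    rw [Over.whiskerRight_left_fst] at h1
    simpa only [Category.assoc] using h1
  have hg := NTors1.stab_inj iN q a φ hker hcart g₁ g₂ (pO ≫ x) hq hs1 hs2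
  apply stab_hom_ext
  · rw [← hl1, ← hl2, hg]
  · exact hs

theorem sigma_surjective (hqs : Surjective q.left) (hker : AlgGrp.IsKernel iN q)
    (hcart : IsPullback (a.restrict iN).act (snd N X) φ φ)
    (hequiv : (q ⊗ₘ φ) ≫ aY.act = a.act ≫ φ) :
    Function.Surjective (sigma q a φ aY x hequiv).base := by
  intro s
  have hqP : Surjective (q ▷ P).left := by
    rw [Over.whiskerRight_left]
    exact MorphismProperty.pullbackMap (P := @Surjective) hqs
      (inferInstance : Surjective (𝟙 P.left)) (Over.w q).symm (Category.id_comp _).symm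
  obtain ⟨w, hw⟩ := hqP.surj ((sfst aY (x ≫ φ)) s)
  obtain ⟨t, ht1, ht2⟩ := Scheme.Pullback.exists_preimage_pullback
    (f := sfst aY (x ≫ φ)) (g := (q ▷ P).left) s w hw.symm
  set tH := pullback.fst (sfst aY (x ≫ φ)) (q ▷ P).left with htH
  set tG := pullback.snd (sfst aY (x ≫ φ)) (q ▷ P).left with htG
  have hcond : tH ≫ sfst aY (x ≫ φ) = tG ≫ (q ▷ P).left := pullback.condition
  obtain ⟨pO, h, hp, hl, e1, hs⟩ := stab_pts aY (x ≫ φ) tH
    (tH ≫ GLinSh.stabTo aY (x ≫ φ) ≫ P.hom) rfl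
  have hGs : (tG ≫ pullback.fst G.hom P.hom) ≫ G.hom =
      tH ≫ GLinSh.stabTo aY (x ≫ φ) ≫ P.hom := by
    have e : pullback.fst G.hom P.hom ≫ G.hom = (q ▷ P).left ≫ (snd H P).left ≫ P.hom := by
      rw [Over.w (snd H P), Over.w (q ▷ P)]
      rfl
    rw [Category.assoc, e, ← Category.assoc tG, ← hcond, Category.assoc,
      ← Category.assoc (sfst _ _), sfst_snd]
  let gO : Over.mk (tH ≫ GLinSh.stabTo aY (x ≫ φ) ≫ P.hom) ⟶ G :=
    Over.homMk (tG ≫ pullback.fst G.hom P.hom) hGs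
  have hgq : gO ≫ q = h := by
    apply Over.OverMorphism.ext
    rw [Over.comp_left, e1]
    have e3 : tH ≫ sfst aY (x ≫ φ) ≫ pullback.fst H.hom P.hom =
        tG ≫ pullback.fst G.hom P.hom ≫ q.left := by
      rw [← Category.assoc, hcond, Category.assoc, Over.whiskerRight_left_fst]
    rw [e3]
    simp only [gO, Over.homMk_left, Category.assoc]
  obtain ⟨g', hg'q, hg's⟩ := NTors1.exists_stab_lift iN q a φ aY hker hcart hequiv gO (pO ≫ x)
    (by rw [hgq, Category.assoc]; exact hs)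
  have hτ : stabLift a x pO g' hg's ≫ sigma q a φ aY x hequiv = tH := by
    apply stab_hom_ext
    · calc (stabLift a x pO g' hg's ≫ sigma q a φ aY x hequiv) ≫ sfst aY (x ≫ φ)
          = stabLift a x pO g' hg's ≫ sfst a x ≫ (q ▷ P).left := by
            rw [Category.assoc, sigma_fst]
        _ = (lift g' pO).left ≫ (q ▷ P).left := by
            rw [← stabLift_fst a x pO g' hg's, Category.assoc]
        _ = (lift g' pO ≫ (q ▷ P)).left := rfl
        _ = (lift h pO).left := by rw [lift_whiskerRight, hg'q, hgq]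
        _ = tH ≫ sfst aY (x ≫ φ) := hl
    · rw [Category.assoc, sigma_snd, stabLift_snd]
      exact hp
  refine ⟨(stabLift a x pO g' hg's).base t, ?_⟩
  have := congrArg (fun f => f.base t) hτ
  simp only [Scheme.Hom.comp_base, TopCat.comp_app] at this
  rw [this]
  exact ht1

end two

end Groth.Agent.Lib.Helper81.NTors2
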