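import Mathlib
import Groth.Prelude.Def_W4bk4git07Quot
import Groth.Prelude.Def_GLinSh
import Groth.Prelude.Def_NonAbH2
import Groth.Agent.Lib.Helper81.NTors2
import Groth.Agent.Lib.Helper64.FpqcOpen

/-!
# Closed orbits and finite stabilisers under a quotient by a freely acting normal subgroup (helper81)
-/

set_option autoImplicit false
set_option linter.style.haveILetI false
set_option linter.unusedSectionVars false
universe u

open CategoryTheory CategoryTheory.Limits MonoidalCategory CartesianMonoidalCategory MonObj GrpObj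
  AlgebraicGeometry

namespace Groth.Agent.Lib.Helper81.NTors3

open Groth.Agent.Lib.Helper81.NTors2

/-- Over (a scheme isomorphic to) the spectrum of a field, a morphism locally of finite type is
finite iff its source is a finite set. -/
theorem isFinite_iff_finite {Z Q : Scheme.{u}} (f : Z ⟶ Q) [LocallyOfFiniteType f] (Ω : Type u)
    [Field Ω] (e : Q ≅ Spec (CommRingCat.of Ω)) : IsFinite f ↔ Finite Z := by
  have hsub : Subsingleton Q :=
    Function.Injective.subsingleton (f := e.hom.base) e.hom.isOpenEmbedding.injective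
  constructor
  · intro hf
    rcases isEmpty_or_nonempty Z with h | ⟨⟨z⟩⟩
    · infer_instance
    · have h1 := f.finite_preimage_singleton (f.base z)
      have hu : f.base ⁻¹' {f.base z} = Set.univ := by
        ext w
        simp only [Set.mem_preimage, Set.mem_singleton_iff, Set.mem_univ, iff_true]
        exact Subsingleton.elim _ _
      rw [hu] at h1
      exact Set.finite_univ_iff.mp h1
  · intro hZ
    have hc : CompactSpace Z := Finite.compactSpace
    have hqc : QuasiCompact (f ≫ e.hom) :=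
      (HasAffineProperty.iff_of_isAffine (P := @QuasiCompact)).mpr hc
    have hqf : LocallyQuasiFinite (f ≫ e.hom) :=
      .of_finite_preimage_singleton _ (fun _ => Set.toFinite _)
    have hart : IsLocallyArtinian (Spec (CommRingCat.of Ω)) :=
      Scheme.isLocallyArtinianScheme_Spec.mpr inferInstance
    have hfin : IsFinite (f ≫ e.hom) := IsFinite.of_locallyQuasiFinite _
    exact (MorphismProperty.cancel_right_of_respectsIso @IsFinite f e.hom).mp hfin

section two

variable {S : Scheme.{u}} {G N H X Y : Over S} [GrpObj G] [GrpObj N] [GrpObj H]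
  (iN : N ⟶ G) [IsMonHom iN] (q : G ⟶ H) [IsMonHom q]
  (a : AlgGrp.Action G X) (φ : X ⟶ Y) (aY : AlgGrp.Action H Y) {P : Over S} (x : P ⟶ X)

theorem range_psi_eq (hqs : Surjective q.left)
    (hcart : IsPullback (a.restrict iN).act (snd N X) φ φ)
    (hequiv : (q ⊗ₘ φ) ≫ aY.act = a.act ≫ φ) :
    Set.range (GIT.psi a x).left.base =
      (φ ▷ P).left.base ⁻¹' Set.range (GIT.psi aY (x ≫ φ)).left.base := by
  have hqP : Surjective (q ▷ P).left := by
    rw [Over.whiskerRight_left]
    exact MorphismProperty.pullbackMap (P := @Surjective) hqs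
      (inferInstance : Surjective (𝟙 P.left)) (Over.w q).symm (Category.id_comp _).symm
  apply Set.Subset.antisymm
  · rintro _ ⟨w, rfl⟩
    refine ⟨(q ▷ P).left.base w, ?_⟩
    have := congrArg (fun f => f.left.base w) (psi_comm q a φ aY x hequiv)
    simp only [Over.comp_left, Scheme.Hom.comp_base, TopCat.comp_app] at this
    exact this.symm
  · rintro z ⟨w, hw⟩
    obtain ⟨w', hw'⟩ := hqP.surj w
    have hzw : (φ ▷ P).left z = ((q ▷ P) ≫ GIT.psi aY (x ≫ φ)).left w' := by
      rw [Over.comp_left, Scheme.Hom.comp_apply, hw']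
      exact hw.symm
    obtain ⟨t, ht1, ht2⟩ := Scheme.Pullback.exists_preimage_pullback
      (f := (φ ▷ P).left) (g := ((q ▷ P) ≫ GIT.psi aY (x ≫ φ)).left) z w' hzw
    set tX := pullback.fst (φ ▷ P).left ((q ▷ P) ≫ GIT.psi aY (x ≫ φ)).left with htX
    set tG := pullback.snd (φ ▷ P).left ((q ▷ P) ≫ GIT.psi aY (x ≫ φ)).left with htG
    have hcond : tX ≫ (φ ▷ P).left = tG ≫ ((q ▷ P) ≫ GIT.psi aY (x ≫ φ)).left :=
      pullback.condition
    have hG : tG ≫ (G ⊗ P).hom = tX ≫ (X ⊗ P).hom := by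
      rw [← Over.w ((q ▷ P) ≫ GIT.psi aY (x ≫ φ)), ← Category.assoc, ← hcond, Category.assoc,
        Over.w (φ ▷ P)]
    let zO : Over.mk (tX ≫ (X ⊗ P).hom) ⟶ X ⊗ P := Over.homMk tX rfl
    let gO : Over.mk (tX ≫ (X ⊗ P).hom) ⟶ G ⊗ P := Over.homMk tG hG
    have hO : zO ≫ (φ ▷ P) = gO ≫ (q ▷ P) ≫ GIT.psi aY (x ≫ φ) := by
      apply Over.OverMorphism.ext
      exact hcond
    have hg : gO = lift (gO ≫ fst G P) (gO ≫ snd G P) := by
      apply CartesianMonoidalCategory.hom_ext <;> simp
    have hp : zO ≫ snd X P = gO ≫ snd G P := by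
      have := congrArg (· ≫ snd Y P) hO
      simp only [Category.assoc] at this
      rw [whiskerRight_snd, psi_snd, whiskerRight_snd] at this
      exact this
    have hz : (zO ≫ fst X P) ≫ φ =
        lift ((gO ≫ fst G P) ≫ q) (((gO ≫ snd G P) ≫ x) ≫ φ) ≫ aY.act := by
      calc (zO ≫ fst X P) ≫ φ = (zO ≫ (φ ▷ P)) ≫ fst Y P := by
            rw [Category.assoc, Category.assoc, whiskerRight_fst]
        _ = ((gO ≫ (q ▷ P)) ≫ GIT.psi aY (x ≫ φ)) ≫ fst Y P := by
            rw [hO]
            simp only [Category.assoc]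
        _ = ((lift (gO ≫ fst G P) (gO ≫ snd G P) ≫ (q ▷ P)) ≫ GIT.psi aY (x ≫ φ)) ≫
              fst Y P := by rw [← hg]
        _ = (lift ((gO ≫ fst G P) ≫ q) (gO ≫ snd G P) ≫ GIT.psi aY (x ≫ φ)) ≫ fst Y P := by
            rw [lift_whiskerRight]
        _ = lift ((gO ≫ fst G P) ≫ q) (((gO ≫ snd G P) ≫ x) ≫ φ) ≫ aY.act := by
            rw [lift_psi, lift_fst]
            simp only [Category.assoc]
    obtain ⟨g', hg'⟩ := NTors1.exists_orbit_lift iN q a φ aY hcart hequiv (gO ≫ fst G P)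
      ((gO ≫ snd G P) ≫ x) (zO ≫ fst X P) hz
    have hfin : lift g' (gO ≫ snd G P) ≫ GIT.psi a x = zO := by
      rw [lift_psi, hg', ← hp]
      apply CartesianMonoidalCategory.hom_ext <;> simp
    refine ⟨(lift g' (gO ≫ snd G P)).left.base t, ?_⟩
    have := congrArg (fun f => f.left.base t) hfin
    simp only [Over.comp_left, Scheme.Hom.comp_base, TopCat.comp_app] at this
    rw [this]
    exact ht1

theorem isOpen_of_preimage {X₀ Y₀ : Over S} (φ₀ : X₀ ⟶ Y₀)
    (hloc : NonAbH1.IsLocallyTrivialFor Scheme.fpqcPrecoverage (Over.mk φ₀.left : Over Y₀.left))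
    (V : Set (Y₀ ⊗ P).left) (hV : IsOpen ((φ₀ ▷ P).left.base ⁻¹' V)) : IsOpen V := by
  obtain ⟨R, hR, hsec⟩ := hloc
  refine Groth.Agent.Lib.Helper64.FpqcOpen.isOpen_of_fpqc (R.pullbackArrows (fst Y₀ P).left)
    (Precoverage.pullbackArrows_mem _ hR) V ?_
  rintro T g ⟨Z, u, hu⟩
  obtain ⟨s, hs⟩ := hsec u hu
  change s ≫ φ₀.left = u at hs
  have hc : pullback.fst u (fst Y₀ P).left ≫ u = pullback.snd u (fst Y₀ P).left ≫ (fst Y₀ P).left :=
    pullback.condition
  have h1 : (pullback.fst u (fst Y₀ P).left ≫ s) ≫ X₀.hom =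
      pullback.snd u (fst Y₀ P).left ≫ (Y₀ ⊗ P).hom := by
    rw [← Over.w φ₀, Category.assoc, ← Category.assoc s, hs, ← Category.assoc, hc, Category.assoc,
      Over.w (fst Y₀ P)]
  let tX : Over.mk (pullback.snd u (fst Y₀ P).left ≫ (Y₀ ⊗ P).hom) ⟶ X₀ :=
    Over.homMk (pullback.fst u (fst Y₀ P).left ≫ s) h1
  let tP : Over.mk (pullback.snd u (fst Y₀ P).left ≫ (Y₀ ⊗ P).hom) ⟶ P :=
    Over.homMk (pullback.snd u (fst Y₀ P).left ≫ (snd Y₀ P).left)
      (by rw [Category.assoc, Over.w (snd Y₀ P)]; rfl)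
  let gO : Over.mk (pullback.snd u (fst Y₀ P).left ≫ (Y₀ ⊗ P).hom) ⟶ Y₀ ⊗ P :=
    Over.homMk (pullback.snd u (fst Y₀ P).left) rfl
  have ht : lift tX tP ≫ (φ₀ ▷ P) = gO := by
    rw [lift_whiskerRight]
    apply CartesianMonoidalCategory.hom_ext
    · rw [lift_fst]
      apply Over.OverMorphism.ext
      simp only [tX, gO, Over.comp_left, Over.homMk_left, Category.assoc]
      rw [hs, hc]
    · rw [lift_snd]
      apply Over.OverMorphism.ext
      rfl
  have hgl : pullback.snd u (fst Y₀ P).left = (lift tX tP).left ≫ (φ₀ ▷ P).left := by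
    rw [← Over.comp_left, ht]
    rfl
  rw [hgl]
  exact hV.preimage (lift tX tP).left.continuous

end two

end Groth.Agent.Lib.Helper81.NTors3
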