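import Mathlib
import Groth.Prelude.Def_W4bk4git07Quot
import Groth.Prelude.Def_GLinSh
import Groth.Prelude.Def_NonAbH2
import Groth.Agent.Lib.Helper81.NTors3

/-!
# Closed orbit and finite stabiliser: comparison along a quotient by a normal subgroup (helper81)
-/

set_option autoImplicit false
set_option linter.style.haveILetI false
set_option linter.unusedSectionVars false
universe u

open CategoryTheory CategoryTheory.Limits MonoidalCategory CartesianMonoidalCategory MonObj GrpObj
  AlgebraicGeometry

namespace Groth.Agent.Lib.Helper81.NTors4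

open Groth.Agent.Lib.Helper81.NTors2 Groth.Agent.Lib.Helper81.NTors3

theorem loft_stabTo {S : Scheme.{u}} {G X : Over S} [GrpObj G] [LocallyOfFiniteType G.hom]
    (a : AlgGrp.Action G X) {P : Over S} (x : P ⟶ X) :
    LocallyOfFiniteType (GLinSh.stabTo a x) := by
  have h1 : LocallyOfFiniteType (snd G P).left :=
    inferInstanceAs (LocallyOfFiniteType (pullback.snd G.hom P.hom))
  have h2 : LocallyOfFiniteType ((GIT.psi a x).left ≫ (snd X P).left) := by
    rw [← Over.comp_left, psi_snd]
    exact h1
  have h3 : LocallyOfFiniteType (GIT.psi a x).left :=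
    locallyOfFiniteType_of_comp _ (snd X P).left
  exact inferInstanceAs
    (LocallyOfFiniteType (pullback.snd (GIT.psi a x).left (lift x (𝟙 P)).left))

theorem main {S : Scheme.{u}} {G N H X Y : Over S} [GrpObj G] [GrpObj N] [GrpObj H]
    [LocallyOfFiniteType G.hom] [LocallyOfFiniteType H.hom]
    (iN : N ⟶ G) [IsMonHom iN] (q : G ⟶ H) [IsMonHom q] (hqs : Surjective q.left)
    (hker : AlgGrp.IsKernel iN q) (a : AlgGrp.Action G X) (φ : X ⟶ Y)
    (hcart : IsPullback (a.restrict iN).act (snd N X) φ φ)
    (hloc : NonAbH1.IsLocallyTrivialFor Scheme.fpqcPrecoverage (Over.mk φ.left : Over Y.left))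
    (aY : AlgGrp.Action H Y) (hequiv : (q ⊗ₘ φ) ≫ aY.act = a.act ≫ φ)
    (Ω : Type u) [Field Ω] (P : Over S) (e : P.left ≅ Spec (CommRingCat.of Ω)) (x : P ⟶ X) :
    (IsClosed (Set.range (GIT.psi a x).left.base) ∧ IsFinite (GLinSh.stabTo a x)) ↔
      (IsClosed (Set.range (GIT.psi aY (x ≫ φ)).left.base) ∧
        IsFinite (GLinSh.stabTo aY (x ≫ φ))) := by
  have l1 : LocallyOfFiniteType (GLinSh.stabTo a x) := loft_stabTo a x
  have l2 : LocallyOfFiniteType (GLinSh.stabTo aY (x ≫ φ)) := loft_stabTo aY (x ≫ φ)
  have hfin : IsFinite (GLinSh.stabTo a x) ↔ IsFinite (GLinSh.stabTo aY (x ≫ φ)) := by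
    rw [isFinite_iff_finite _ Ω e, isFinite_iff_finite _ Ω e]
    have hm : Mono (sigma q a φ aY x hequiv) := sigma_mono iN q a φ aY x hker hcart hequiv
    have hinj : Function.Injective (sigma q a φ aY x hequiv).base :=
      (sigma q a φ aY x hequiv).injective
    have hsurj := sigma_surjective iN q a φ aY x hqs hker hcart hequiv
    exact ⟨fun h => Finite.of_surjective _ hsurj, fun h => Finite.of_injective _ hinj⟩
  have hcl : IsClosed (Set.range (GIT.psi a x).left.base) ↔
      IsClosed (Set.range (GIT.psi aY (x ≫ φ)).left.base) := by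
    rw [range_psi_eq iN q a φ aY x hqs hcart hequiv]
    constructor
    · intro h
      rw [← isOpen_compl_iff] at h ⊢
      exact isOpen_of_preimage φ hloc _ (by simpa using h)
    · intro h
      exact h.preimage (φ ▷ P).left.continuous
  rw [hcl, hfin]

end Groth.Agent.Lib.Helper81.NTors4
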