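import Mathlib
import Groth.Agent.Lib.Helper81.StableOpen
import Groth.Agent.Lib.Helper18.GenericFreeness

/-! The coordinate ring of a connected group is faithfully flat over the coordinate ring of a closed
orbit (Hopf-algebra / rational-point language): generic freeness plus homogeneity. -/

set_option autoImplicit false
set_option linter.style.haveILetI false
set_option linter.unusedSectionVars false

open TensorProduct WithConv Topology
universe u
namespace Groth.Agent.Lib.Helper81

namespace OrbitFlat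

open ClosedOrbit OrbitDimHopf StabOpen

section Transport
variable {O A : Type u} [CommRing O] [CommRing A] [Algebra O A]

/-- the localisation of `A` at the powers of an element of `O` -/
abbrev Loc (o : O) : Type u := Localization (Algebra.algebraMapSubmonoid A (Submonoid.powers o))

theorem flat_loc_of_free (f : O)
    (hfree : Module.Free (Localization.Away f) (LocalizedModule (Submonoid.powers f) A)) :
    Module.Flat O (Loc (A := A) f) := by
  have h1 : Module.Flat (Localization.Away f) (LocalizedModule (Submonoid.powers f) A) :=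
    inferInstance
  have h2 : Module.Flat O (LocalizedModule (Submonoid.powers f) A) :=
    (Module.flat_iff_of_isLocalization (Localization.Away f) (Submonoid.powers f) _).mp h1
  let e : LocalizedModule (Submonoid.powers f) A ≃ₗ[O] Loc (A := A) f :=
    IsLocalizedModule.iso (Submonoid.powers f)
      (IsScalarTower.toAlgHom O A (Loc (A := A) f)).toLinearMap
  exact Module.Flat.of_linearEquiv e.symm

/-- transport of flatness of a localisation along a compatible pair of automorphisms -/
theorem flat_loc_transport (τ : O →+* O) (hτ : Function.Bijective τ) (τA : A ≃+* A)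
    (hcomp : ∀ o : O, τA (algebraMap O A o) = algebraMap O A (τ o)) (f : O)
    (hf : Module.Flat O (Loc (A := A) f)) : Module.Flat O (Loc (A := A) (τ f)) := by
  have H : (Algebra.algebraMapSubmonoid A (Submonoid.powers f)).map τA.toMonoidHom =
      Algebra.algebraMapSubmonoid A (Submonoid.powers (τ f)) := by
    ext a
    constructor
    · rintro ⟨b, hb, rfl⟩
      obtain ⟨c, hc, rfl⟩ := hb
      obtain ⟨n, rfl⟩ := hc
      refine ⟨τ f ^ n, ⟨n, rfl⟩, ?_⟩
      rw [← map_pow]
      exact (hcomp (f ^ n)).symm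
    · rintro ⟨c, hc, rfl⟩
      obtain ⟨n, rfl⟩ := hc
      refine ⟨algebraMap O A (f ^ n), ⟨f ^ n, ⟨n, rfl⟩, rfl⟩, ?_⟩
      show τA (algebraMap O A (f ^ n)) = algebraMap O A (τ f ^ n)
      rw [← map_pow]
      exact hcomp (f ^ n)
  let Φ : Loc (A := A) f ≃+* Loc (A := A) (τ f) :=
    IsLocalization.ringEquivOfRingEquiv (Loc (A := A) f) (Loc (A := A) (τ f)) τA H
  have hΦ : ∀ a : A, Φ (algebraMap A (Loc (A := A) f) a) =
      algebraMap A (Loc (A := A) (τ f)) (τA a) :=
    fun a => IsLocalization.ringEquivOfRingEquiv_eq H a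
  rw [← RingHom.flat_algebraMap_iff] at hf ⊢
  have e1 : (algebraMap O (Loc (A := A) (τ f))).comp τ =
      Φ.toRingHom.comp (algebraMap O (Loc (A := A) f)) := by
    ext o
    simp only [RingHom.comp_apply, RingEquiv.toRingHom_eq_coe, RingHom.coe_coe]
    rw [IsScalarTower.algebraMap_apply O A (Loc (A := A) f), hΦ, hcomp,
      ← IsScalarTower.algebraMap_apply]
  have h3 : (Φ.toRingHom.comp (algebraMap O (Loc (A := A) f))).Flat :=
    (RingHom.Flat.comp_iff_of_bijective_left Φ.bijective).mpr hf
  rw [← e1] at h3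
  exact (RingHom.Flat.comp_iff_of_bijective_right hτ).mp h3

/-- flatness from flatness of a spanning family of localisations -/
theorem flat_of_span (s : Set O) (hs : Ideal.span s = ⊤)
    (h : ∀ r : s, Module.Flat O (Loc (A := A) r.1)) : Module.Flat O A :=
  Module.flat_of_isLocalized_span O A s hs (fun r => Loc (A := A) r.1)
    (fun r => (IsScalarTower.toAlgHom O A (Loc (A := A) r.1)).toLinearMap) h

end Transport

section Orbit
variable {k : Type u} [Field k] [IsAlgClosed k] {A : Type u} [CommRing A] [HopfAlgebra k A]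
  [Algebra.FiniteType k A] [IsDomain A]
variable {R : Type u} [CommRing R] [Algebra k R] [Algebra.FiniteType k R]
  [c : HopfRep.Comod k A R] [GLin.IsCoactAlg k A R]

/-- the coordinate ring of the orbit -/
abbrev Orb (x : R →ₐ[k] k) : Subalgebra k A := (GLin.orbitHom k A x).range

theorem rho_mem (x : R →ₐ[k] k) (g : A →ₐ[k] k) (o : A) (ho : o ∈ Orb (A := A) x) :
    rho (R := A) g o ∈ Orb (A := A) x := by
  obtain ⟨r, rfl⟩ := ho
  exact ⟨rho g r, orbitHom_rho x g r⟩

/-- translation on the coordinate ring of the orbit -/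
noncomputable def tau (x : R →ₐ[k] k) (g : A →ₐ[k] k) : Orb (A := A) x →ₐ[k] Orb (A := A) x :=
  ((rho (R := A) g).comp (Orb (A := A) x).val).codRestrict (Orb (A := A) x)
    (fun o => rho_mem x g o o.2)

theorem tau_coe (x : R →ₐ[k] k) (g : A →ₐ[k] k) (o : Orb (A := A) x) :
    ((tau x g o : Orb (A := A) x) : A) = rho (R := A) g (o : A) := rfl

theorem tau_tau_inv (x : R →ₐ[k] k) (g : A →ₐ[k] k) (o : Orb (A := A) x) :
    tau x g (tau x (ofConv (toConv g)⁻¹) o) = o := by
  apply Subtype.ext
  rw [tau_coe, tau_coe, rho_rho, mul_inv_cancel, rho_one]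

theorem tau_inv_tau (x : R →ₐ[k] k) (g : A →ₐ[k] k) (o : Orb (A := A) x) :
    tau x (ofConv (toConv g)⁻¹) (tau x g o) = o := by
  apply Subtype.ext
  rw [tau_coe, tau_coe, rho_rho, toConv_ofConv, inv_mul_cancel, rho_one]

theorem tau_bijective (x : R →ₐ[k] k) (g : A →ₐ[k] k) : Function.Bijective (tau (A := A) x g) :=
  ⟨fun o o' h => by rw [← tau_inv_tau x g o, h, tau_inv_tau],
    fun o => ⟨_, tau_tau_inv x g o⟩⟩

theorem apply_rho_regular (g h : A →ₐ[k] k) (a : A) :
    g (rho (R := A) h a) = ofConv (toConv g * toConv h) a := by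
  rw [← AlgHom.comp_apply, comp_rho, actPt_regular]

instance (x : R →ₐ[k] k) : Algebra.FiniteType k (Orb (A := A) x) :=
  Algebra.FiniteType.of_surjective (GLin.orbitHom k A x).rangeRestrict
    (GLin.orbitHom k A x).rangeRestrict_surjective

/-- for a closed orbit, maximal ideals of its coordinate ring come from rational points of the
group -/
theorem exists_pt_of_maximal (x : R →ₐ[k] k)
    (hcl : ∀ z : R →ₐ[k] k, K A x ≤ RingHom.ker z → ∃ g : A →ₐ[k] k, z = GLin.actPt k g x)
    (n : Ideal (Orb (A := A) x)) (hn : n.IsMaximal) :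
    ∃ g : A →ₐ[k] k, ∀ o : Orb (A := A) x, o ∈ n ↔ g (o : A) = 0 := by
  obtain ⟨w, hw⟩ := exists_algHom_ker_eq (k := k) n hn
  let z : R →ₐ[k] k := w.comp (GLin.orbitHom k A x).rangeRestrict
  have hz : K A x ≤ RingHom.ker z := by
    intro f hf
    have h0 : GLin.orbitHom k A x f = 0 := hf
    have h1 : (GLin.orbitHom k A x).rangeRestrict f = 0 := Subtype.ext h0
    rw [RingHom.mem_ker]
    show w ((GLin.orbitHom k A x).rangeRestrict f) = 0
    rw [h1, map_zero]
  obtain ⟨g, hg⟩ := hcl z hz
  refine ⟨g, ?_⟩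
  intro o
  obtain ⟨r, hr⟩ := o.2
  have ho : o = (GLin.orbitHom k A x).rangeRestrict r := Subtype.ext hr.symm
  have h2 : w o = g (o : A) := by
    rw [ho]
    show z r = g (GLin.orbitHom k A x r)
    rw [hg]
    rfl
  rw [← hw, RingHom.mem_ker, h2]

theorem span_tau (x : R →ₐ[k] k)
    (hcl : ∀ z : R →ₐ[k] k, K A x ≤ RingHom.ker z → ∃ g : A →ₐ[k] k, z = GLin.actPt k g x)
    (f : Orb (A := A) x) (hf : f ≠ 0) :
    Ideal.span (Set.range fun g : A →ₐ[k] k => tau x g f) = ⊤ := by
  by_contra hne
  obtain ⟨n, hn, hle⟩ := Ideal.exists_le_maximal _ hne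
  obtain ⟨g, hg⟩ := exists_pt_of_maximal x hcl n hn
  have hfA : (f : A) ≠ 0 := fun h => hf (Subtype.ext h)
  obtain ⟨g₀, hg₀⟩ : ∃ g₀ : A →ₐ[k] k, g₀ (f : A) ≠ 0 := by
    by_contra hno
    push Not at hno
    exact hfA (Lib.Helper96.OrbitSep.isNilpotent_of_forall_algHom (k := k) (f : A) hno).eq_zero
  let h : A →ₐ[k] k := ofConv ((toConv g)⁻¹ * toConv g₀)
  have hmem : tau x h f ∈ n := hle (Ideal.subset_span ⟨h, rfl⟩)
  rw [hg, tau_coe, apply_rho_regular, toConv_ofConv, mul_inv_cancel_left, ofConv_toConv] at hmem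
  exact hg₀ hmem

theorem flat (x : R →ₐ[k] k)
    (hcl : ∀ z : R →ₐ[k] k, K A x ≤ RingHom.ker z → ∃ g : A →ₐ[k] k, z = GLin.actPt k g x) :
    Module.Flat (Orb (A := A) x) A := by
  haveI : Algebra.FiniteType (Orb (A := A) x) A :=
    Algebra.FiniteType.of_restrictScalars_finiteType k (Orb (A := A) x) A
  obtain ⟨f, hf, hfree⟩ := Lib.Helper18.exists_free_localizedModule (R := Orb (A := A) x) A A
  have h0 := flat_loc_of_free (A := A) f hfree
  apply flat_of_span (Set.range fun g : A →ₐ[k] k => tau x g f) (span_tau x hcl f hf)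
  rintro ⟨_, g, rfl⟩
  exact flat_loc_transport (tau x g).toRingHom (tau_bijective x g)
    (rhoEquiv (R := A) g).toRingEquiv (fun o => rfl) f h0

theorem faithfullyFlat (x : R →ₐ[k] k)
    (hcl : ∀ z : R →ₐ[k] k, K A x ≤ RingHom.ker z → ∃ g : A →ₐ[k] k, z = GLin.actPt k g x) :
    Module.FaithfullyFlat (Orb (A := A) x) A := by
  haveI := flat x hcl
  refine ⟨?_⟩
  intro n hn htop
  obtain ⟨g, hg⟩ := exists_pt_of_maximal x hcl n hn
  have hle : n • (⊤ : Submodule (Orb (A := A) x) A) ≤
      (RingHom.ker g.toRingHom).restrictScalars (Orb (A := A) x) := by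
    rw [Submodule.smul_le]
    intro o ho a _
    show g (o • a) = 0
    rw [Algebra.smul_def, map_mul]
    have : g ((algebraMap (Orb (A := A) x) A) o) = 0 := (hg o).mp ho
    rw [this, zero_mul]
  have h1 : (1 : A) ∈ n • (⊤ : Submodule (Orb (A := A) x) A) := by rw [htop]; trivial
  have h2 := hle h1
  have h3 : g (1 : A) = 0 := h2
  rw [map_one] at h3
  exact one_ne_zero h3

end Orbit

end OrbitFlat

end Groth.Agent.Lib.Helper81
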