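import Mathlib

set_option autoImplicit false
set_option linter.unusedSectionVars false
universe u
open HomogeneousLocalization

namespace Groth.Agent.Lib.Helper81.ProjInv

variable {R A : Type u} [CommRing R] [CommRing A] [Algebra R A] (𝒜 : ℕ → Submodule R A)
  [GradedAlgebra 𝒜]
  {G : Type u} [Group G] [MulSemiringAction G A]
  (hGdeg : ∀ (σ : G) (i : ℕ) (a : A), a ∈ 𝒜 i → σ • a ∈ 𝒜 i)
  {C : Type u} [CommRing C] [Algebra R C] (𝒞 : ℕ → Submodule R C) [GradedAlgebra 𝒞]
  (ι : C →ₐ[R] A)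
  (hιdeg : ∀ (i : ℕ) (a : A), a ∈ (𝒞 i).map ι.toLinearMap ↔ (a ∈ 𝒜 i ∧ ∀ σ : G, σ • a = a))

def sg (σ : G) : 𝒜 →+*ᵍ 𝒜 where
  toRingHom := MulSemiringAction.toRingHom G A σ
  map_mem := fun {i} {x} hx => hGdeg σ i x hx

@[simp] theorem sg_apply (σ : G) (a : A) : sg 𝒜 hGdeg σ a = σ • a := rfl

include hιdeg in
theorem ι_mem {i : ℕ} {x : C} (hx : x ∈ 𝒞 i) : ι x ∈ 𝒜 i :=
  ((hιdeg i (ι x)).mp (Submodule.mem_map_of_mem hx)).1

include hιdeg in
theorem ι_inv {i : ℕ} {x : C} (hx : x ∈ 𝒞 i) (σ : G) : σ • ι x = ι x :=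
  ((hιdeg i (ι x)).mp (Submodule.mem_map_of_mem hx)).2 σ

def ig : 𝒞 →+*ᵍ 𝒜 where
  toRingHom := ι.toRingHom
  map_mem := fun {_} {_} hx => ι_mem 𝒜 𝒞 ι hιdeg hx

@[simp] theorem ig_apply (c : C) : ig 𝒜 𝒞 ι hιdeg c = ι c := rfl

theorem val_map {B : Type u} [CommRing B] [Algebra R B] {ℬ : ℕ → Submodule R B} [GradedAlgebra ℬ]
    {A' : Type u} [CommRing A'] [Algebra R A'] {𝒜' : ℕ → Submodule R A'} [GradedAlgebra 𝒜']
    {P : Submonoid B} {Q : Submonoid A'} (g : ℬ →+*ᵍ 𝒜')
    (hle : P ≤ Q.comap g) (x : HomogeneousLocalization ℬ P) :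
    (HomogeneousLocalization.map g hle x).val =
      IsLocalization.map (Localization Q) g.toRingHom hle x.val := by
  obtain ⟨c, rfl⟩ := mk_surjective x
  rw [map_mk, val_mk, val_mk]
  simp only [Localization.mk_eq_mk', IsLocalization.map_mk']
  rfl

def thetaS (σ : G) (f : A) : Away 𝒜 f →+* Away 𝒜 (σ • f) :=
  HomogeneousLocalization.map (sg 𝒜 hGdeg σ) (by
    rintro _ ⟨n, rfl⟩
    exact ⟨n, (smul_pow' σ f n).symm⟩)

def thetaI (c' : C) : Away 𝒞 c' →+* Away 𝒜 (ι c') :=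
  HomogeneousLocalization.map (ig 𝒜 𝒞 ι hιdeg) (by
    rintro _ ⟨n, rfl⟩
    exact ⟨n, (map_pow ι c' n).symm⟩)

theorem compat_sg (σ : G) (f : A) :
    (algebraMap (HomogeneousLocalization.Away 𝒜 (σ • f)) (Localization.Away (σ • f))).comp
        (thetaS 𝒜 hGdeg σ f) =
      (Localization.awayMap (MulSemiringAction.toRingHom G A σ) f).comp
        (algebraMap (HomogeneousLocalization.Away 𝒜 f) (Localization.Away f)) :=
  RingHom.ext fun x => val_map (sg 𝒜 hGdeg σ) _ x

theorem compat_ig (c' : C) :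
    (algebraMap (HomogeneousLocalization.Away 𝒜 (ι c')) (Localization.Away (ι c'))).comp
        (thetaI 𝒜 𝒞 ι hιdeg c') =
      (Localization.awayMap ι.toRingHom c').comp
        (algebraMap (HomogeneousLocalization.Away 𝒞 c') (Localization.Away c')) :=
  RingHom.ext fun x => val_map (ig 𝒜 𝒞 ι hιdeg) _ x

section Poly

open Polynomial

theorem coeff_prod_mem {κ : Type*} [DecidableEq κ] (s : Finset κ) (a : κ → A) (n : ℕ)
    (ha : ∀ i ∈ s, a i ∈ 𝒜 n) (k : ℕ) :
    (∏ i ∈ s, (X - Polynomial.C (a i))).coeff k ∈ 𝒜 ((s.card - k) * n) := by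
  induction s using Finset.induction_on generalizing k with
  | empty =>
    simp only [Finset.prod_empty, Finset.card_empty, Nat.zero_sub, zero_mul, coeff_one]
    split_ifs
    · exact SetLike.one_mem_graded 𝒜
    · exact zero_mem _
  | insert i s hi ih =>
    have hai : a i ∈ 𝒜 n := ha i (Finset.mem_insert_self i s)
    have ih' := ih (fun l hl => ha l (Finset.mem_insert_of_mem hl))
    rw [Finset.prod_insert hi, Finset.card_insert_of_notMem hi, sub_mul]
    cases k with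
    | zero =>
      rw [coeff_sub, coeff_X_mul_zero, coeff_C_mul, zero_sub]
      apply neg_mem
      have := SetLike.mul_mem_graded hai (ih' 0)
      rwa [show n + (s.card - 0) * n = (s.card + 1 - 0) * n by
        rw [Nat.sub_zero, Nat.sub_zero, add_mul, one_mul, add_comm]] at this
    | succ k =>
      rw [coeff_sub, coeff_X_mul, coeff_C_mul]
      apply sub_mem
      · have := ih' k
        rwa [show (s.card - k) * n = (s.card + 1 - (k + 1)) * n by
          rw [Nat.add_sub_add_right]] at this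
      · by_cases hk : k + 1 ≤ s.card
        · have := SetLike.mul_mem_graded hai (ih' (k + 1))
          rwa [show n + (s.card - (k + 1)) * n = (s.card + 1 - (k + 1)) * n by
            rw [Nat.add_sub_add_right, show s.card - k = (s.card - (k + 1)) + 1 by omega,
              add_mul, one_mul, add_comm]] at this
        · have h0 : (∏ l ∈ s, (X - Polynomial.C (a l))).coeff (k + 1) = 0 := by
            apply coeff_eq_zero_of_natDegree_lt
            have hdeg : (∏ l ∈ s, (X - Polynomial.C (a l))).natDegree ≤ s.card := by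
              refine (natDegree_prod_le _ _).trans ?_
              refine (Finset.sum_le_card_nsmul _ _ 1 (fun l _ => natDegree_X_sub_C_le _)).trans ?_
              simp
            omega
          rw [h0, mul_zero]
          exact zero_mem _

include hGdeg hιdeg in
theorem exists_inv_notMem [Finite G] (P : Ideal A) [P.IsPrime] (n : ℕ) (hn : 0 < n) (a : A)
    (ha : a ∈ 𝒜 n) (haP : a ∉ P) :
    ∃ (m : ℕ) (_ : 0 < m) (c : C), c ∈ 𝒞 m ∧ ι c ∉ P := by
  classical
  have := Fintype.ofFinite G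
  have : Nontrivial A := ⟨⟨0, 1, fun h =>
    (‹P.IsPrime›.ne_top) ((Ideal.eq_top_iff_one P).mpr (h ▸ P.zero_mem))⟩⟩
  by_contra hcon
  push Not at hcon
  obtain ⟨Q, hQ⟩ : ∃ Q : A[X], Q = ∏ σ : G, (X - Polynomial.C (σ • a)) := ⟨_, rfl⟩
  have hcoeff_mem : ∀ k, Q.coeff k ∈ 𝒜 ((Fintype.card G - k) * n) := fun k => by
    have := coeff_prod_mem 𝒜 Finset.univ (fun σ : G => σ • a) n (fun σ _ => hGdeg σ n a ha) k
    rw [Finset.card_univ] at this
    rw [hQ]; exact this
  have hQinv : ∀ σ : G, σ • Q = Q := fun σ => by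
    rw [hQ]
    refine Finset.smul_prod'.trans ?_
    refine Fintype.prod_bijective _ (MulAction.bijective σ) _ _ fun τ => ?_
    rw [smul_sub, Polynomial.smul_X, Polynomial.smul_C, smul_smul]
    rfl
  have hcoeff_inv : ∀ k (σ : G), σ • Q.coeff k = Q.coeff k := fun k σ => by
    rw [← Polynomial.coeff_smul, hQinv]
  have hcoeffP : ∀ k, k < Fintype.card G → Q.coeff k ∈ P := by
    intro k hk
    obtain ⟨c, hc, hce⟩ := (hιdeg ((Fintype.card G - k) * n) (Q.coeff k)).mpr
      ⟨hcoeff_mem k, hcoeff_inv k⟩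
    have := hcon ((Fintype.card G - k) * n) (Nat.mul_pos (by omega) hn) c hc
    rw [← hce]
    exact this
  have heval : Q.eval a = 0 := by
    rw [hQ, eval_prod]
    exact Finset.prod_eq_zero (Finset.mem_univ 1) (by simp)
  have hdeg : Q.natDegree = Fintype.card G := by
    rw [hQ, natDegree_finsetProd_X_sub_C_eq_card, Finset.card_univ]
  have hmonic : Q.Monic := by
    rw [hQ]
    exact monic_prod_of_monic _ _ (fun σ _ => monic_X_sub_C _)
  rw [eval_eq_sum_range, hdeg, Finset.sum_range_succ] at heval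
  have hlead : Q.coeff (Fintype.card G) = 1 := by
    rw [← hdeg]; exact hmonic.coeff_natDegree
  rw [hlead, one_mul] at heval
  have hpow : a ^ Fintype.card G ∈ P := by
    rw [eq_neg_of_add_eq_zero_right heval]
    apply neg_mem
    exact Ideal.sum_mem _ fun k hk => Ideal.mul_mem_right _ _ (hcoeffP k (Finset.mem_range.mp hk))
  exact haP (‹P.IsPrime›.mem_of_pow_mem _ hpow)

end Poly

section Action

variable (f : A) (hf : ∀ σ : G, σ • f = f)

include hf in
theorem powers_le (σ : G) :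
    Submonoid.powers f ≤ (Submonoid.powers f).comap (sg 𝒜 hGdeg σ) := by
  rintro _ ⟨n, rfl⟩
  refine ⟨n, ?_⟩
  change f ^ n = σ • (f ^ n)
  rw [smul_pow', hf σ]

def actHom (σ : G) : Away 𝒜 f →+* Away 𝒜 f :=
  HomogeneousLocalization.map (sg 𝒜 hGdeg σ) (powers_le 𝒜 hGdeg f hf σ)

theorem actHom_val (σ : G) (x : Away 𝒜 f) :
    (actHom 𝒜 hGdeg f hf σ x).val =
      IsLocalization.map (Localization.Away f) (MulSemiringAction.toRingHom G A σ)
        (powers_le 𝒜 hGdeg f hf σ) x.val :=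
  val_map (sg 𝒜 hGdeg σ) _ x

theorem actHom_mk (σ : G) {d : ℕ} (hfd : f ∈ 𝒜 d) (n : ℕ) (a : A) (ha : a ∈ 𝒜 (n • d)) :
    actHom 𝒜 hGdeg f hf σ (Away.mk 𝒜 hfd n a ha) =
      Away.mk 𝒜 hfd n (σ • a) (hGdeg σ _ a ha) := by
  apply val_injective
  rw [actHom_val, Away.val_mk, Away.val_mk]
  simp only [Localization.mk_eq_mk', IsLocalization.map_mk']
  congr 1
  apply Subtype.ext
  change σ • (f ^ n) = f ^ n
  rw [smul_pow', hf σ]

theorem actHom_one (x : Away 𝒜 f) : actHom 𝒜 hGdeg f hf 1 x = x := by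
  apply val_injective
  rw [actHom_val]
  have : (MulSemiringAction.toRingHom G A 1) = RingHom.id A := by
    ext a; simp
  simp only [this]
  exact IsLocalization.map_id (M := Submonoid.powers f) (S := Localization.Away f) x.val

theorem actHom_mul (σ τ : G) (x : Away 𝒜 f) :
    actHom 𝒜 hGdeg f hf (σ * τ) x = actHom 𝒜 hGdeg f hf σ (actHom 𝒜 hGdeg f hf τ x) := by
  apply val_injective
  rw [actHom_val, actHom_val, actHom_val, IsLocalization.map_map]
  congr 2
  ext a
  simp [mul_smul]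

@[instance_reducible]
def action : MulSemiringAction G (Away 𝒜 f) where
  smul σ x := actHom 𝒜 hGdeg f hf σ x
  one_smul x := actHom_one 𝒜 hGdeg f hf x
  mul_smul σ τ x := actHom_mul 𝒜 hGdeg f hf σ τ x
  smul_zero _ := map_zero _
  smul_add _ := map_add _
  smul_one _ := map_one _
  smul_mul _ := map_mul _

end Action

section Inv

variable {d : ℕ} (c : C) (hc : c ∈ 𝒞 d)

theorem thetaI_mk (n : ℕ) (b : C) (hb : b ∈ 𝒞 (n • d)) :
    thetaI 𝒜 𝒞 ι hιdeg c (Away.mk 𝒞 hc n b hb) =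
      Away.mk 𝒜 (ι_mem 𝒜 𝒞 ι hιdeg hc) n (ι b) (ι_mem 𝒜 𝒞 ι hιdeg hb) := by
  apply val_injective
  rw [thetaI, val_map, Away.val_mk, Away.val_mk]
  simp only [Localization.mk_eq_mk', IsLocalization.map_mk']
  congr 1
  apply Subtype.ext
  exact map_pow ι c n

theorem thetaI_injective (hι : Function.Injective ι) :
    Function.Injective (thetaI 𝒜 𝒞 ι hιdeg c) := by
  intro x y hxy
  apply val_injective
  have hinj : Function.Injective (Localization.awayMap ι.toRingHom c) := by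
    rw [Localization.awayMap_injective_iff]
    intro a ha
    refine ⟨0, ?_⟩
    have : a = 0 := hι (by rw [map_zero]; exact ha)
    rw [this, mul_zero]
  apply hinj
  have h1 := fun z => congrArg (fun φ => φ z) (compat_ig 𝒜 𝒞 ι hιdeg c)
  simp only [RingHom.comp_apply, HomogeneousLocalization.algebraMap_apply] at h1
  rw [← h1 x, ← h1 y, hxy]

include hc in
theorem exists_of_invariant [Finite G] (x : Away 𝒜 (ι c))
    (hx : ∀ σ, actHom 𝒜 hGdeg (ι c) (fun σ => ι_inv 𝒜 𝒞 ι hιdeg hc σ) σ x = x) :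
    ∃ y : Away 𝒞 c, thetaI 𝒜 𝒞 ι hιdeg c y = x := by
  have hfd := ι_mem 𝒜 𝒞 ι hιdeg hc
  have hfinv : ∀ σ : G, σ • ι c = ι c := fun σ => ι_inv 𝒜 𝒞 ι hιdeg hc σ
  obtain ⟨n, a, ha, rfl⟩ := Away.mk_surjective 𝒜 hfd x
  have h1 : ∀ σ : G, ∃ m : ℕ, (ι c) ^ m * ((ι c) ^ n * (σ • a)) = (ι c) ^ m * ((ι c) ^ n * a) := by
    intro σ
    have h2 := congrArg HomogeneousLocalization.val (hx σ)
    rw [actHom_mk 𝒜 hGdeg (ι c) hfinv σ hfd n a ha, Away.val_mk, Away.val_mk,
      Localization.mk_eq_mk_iff, Localization.r_iff_exists] at h2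
    obtain ⟨⟨_, m, rfl⟩, hm⟩ := h2
    exact ⟨m, hm⟩
  choose m hm using h1
  obtain ⟨M, hM⟩ := Finite.exists_le m
  obtain ⟨b, hb⟩ : ∃ b, b = (ι c) ^ (M + n) * a := ⟨_, rfl⟩
  have hbmem : b ∈ 𝒜 ((M + n + n) • d) := by
    rw [hb, add_smul (M + n) n d]
    exact SetLike.mul_mem_graded (SetLike.pow_mem_graded _ hfd) ha
  have hbinv : ∀ σ : G, σ • b = b := by
    intro σ
    rw [hb, smul_mul', smul_pow', hfinv σ]
    obtain ⟨r, hr⟩ := Nat.exists_eq_add_of_le (hM σ)
    rw [hr, show m σ + r + n = r + (m σ + n) by ring, pow_add, pow_add, mul_assoc, mul_assoc,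
      mul_assoc, mul_assoc, hm σ]
  obtain ⟨b', hb', hb'e⟩ := (hιdeg ((M + n + n) • d) b).mpr ⟨hbmem, hbinv⟩
  refine ⟨Away.mk 𝒞 hc (M + n + n) b' hb', ?_⟩
  rw [thetaI_mk]
  apply val_injective
  rw [Away.val_mk, Away.val_mk, Localization.mk_eq_mk_iff, Localization.r_iff_exists]
  refine ⟨1, ?_⟩
  change (1 : A) * (ι c ^ n * ι b') = 1 * (ι c ^ (M + n + n) * a)
  have : ι b' = b := hb'e
  rw [this, hb]
  ring

end Inv

end Groth.Agent.Lib.Helper81.ProjInv
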