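import Groth.Agent.Lib.Helper81.ProjInv
import Groth.Agent.Lib.Helper81.IsQuotChart
import Groth.Agent.S12059

set_option autoImplicit false
set_option linter.style.haveILetI false
set_option linter.unusedSectionVars false
universe u
open CategoryTheory CategoryTheory.Limits AlgebraicGeometry HomogeneousLocalization

namespace Groth.Agent.Lib.Helper81.ProjQuot

open Groth.Agent.Lib.Helper81.ProjInv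

variable {R A : Type u} [CommRing R] [CommRing A] [Algebra R A] (𝒜 : ℕ → Submodule R A)
  [GradedAlgebra 𝒜]
  {G : Type u} [Group G] [Finite G] [MulSemiringAction G A]
  (hGdeg : ∀ (σ : G) (i : ℕ) (a : A), a ∈ 𝒜 i → σ • a ∈ 𝒜 i)
  {C : Type u} [CommRing C] [Algebra R C] (𝒞 : ℕ → Submodule R C) [GradedAlgebra 𝒞]
  (ι : C →ₐ[R] A) (hι : Function.Injective ι)
  (hιdeg : ∀ (i : ℕ) (a : A), a ∈ (𝒞 i).map ι.toLinearMap ↔ (a ∈ 𝒜 i ∧ ∀ σ : G, σ • a = a))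
  (ρ : G →* Aut (Proj 𝒜))
  (hρ : ∀ (σ : G) (n : ℕ) (f : A) (hn : 0 < n) (hf : f ∈ 𝒜 n)
    (θ : CommRingCat.of (HomogeneousLocalization.Away 𝒜 f) ⟶
      CommRingCat.of (HomogeneousLocalization.Away 𝒜 (σ • f))),
    (algebraMap (HomogeneousLocalization.Away 𝒜 (σ • f)) (Localization.Away (σ • f))).comp θ.hom =
      (Localization.awayMap (MulSemiringAction.toRingHom G A σ) f).comp
        (algebraMap (HomogeneousLocalization.Away 𝒜 f) (Localization.Away f)) →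
    Proj.awayι 𝒜 (σ • f) (hGdeg σ n f hf) hn ≫ (ρ σ).inv = Spec.map θ ≫ Proj.awayι 𝒜 f hf hn)
  (π : Proj 𝒜 ⟶ Proj 𝒞)
  (hπ : ∀ (n : ℕ) (c : C) (hn : 0 < n) (hc : c ∈ 𝒞 n)
    (θ : CommRingCat.of (HomogeneousLocalization.Away 𝒞 c) ⟶
      CommRingCat.of (HomogeneousLocalization.Away 𝒜 (ι c))),
    (algebraMap (HomogeneousLocalization.Away 𝒜 (ι c)) (Localization.Away (ι c))).comp θ.hom =
      (Localization.awayMap ι.toRingHom c).comp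
        (algebraMap (HomogeneousLocalization.Away 𝒞 c) (Localization.Away c)) →
    Proj.awayι 𝒜 (ι c) ((hιdeg n (ι c)).mp (Submodule.mem_map_of_mem hc)).1 hn ≫ π =
      Spec.map θ ≫ Proj.awayι 𝒞 c hc hn)

include hπ in
theorem hπ' (n : ℕ) (c : C) (hn : 0 < n) (hc : c ∈ 𝒞 n) :
    Proj.awayι 𝒜 (ι c) (ι_mem 𝒜 𝒞 ι hιdeg hc) hn ≫ π =
      Spec.map (CommRingCat.ofHom (thetaI 𝒜 𝒞 ι hιdeg c)) ≫ Proj.awayι 𝒞 c hc hn :=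
  hπ n c hn hc (CommRingCat.ofHom (thetaI 𝒜 𝒞 ι hιdeg c)) (compat_ig 𝒜 𝒞 ι hιdeg c)

include hρ in
theorem hρ_gen (σ : G) (n : ℕ) (f : A) (hn : 0 < n) (hf : f ∈ 𝒜 n) (f' : A) (e : σ • f = f')
    (hf' : f' ∈ 𝒜 n) (θ : Away 𝒜 f →+* Away 𝒜 f')
    (hle : Submonoid.powers f ≤ (Submonoid.powers f').comap (MulSemiringAction.toRingHom G A σ))
    (hθ : ∀ x, (θ x).val = IsLocalization.map (Localization.Away f')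
      (MulSemiringAction.toRingHom G A σ) hle x.val) :
    Proj.awayι 𝒜 f' hf' hn ≫ (ρ σ).inv = Spec.map (CommRingCat.ofHom θ) ≫ Proj.awayι 𝒜 f hf hn := by
  subst e
  apply hρ σ n f hn hf (CommRingCat.ofHom θ)
  ext x
  exact hθ x

include hρ in
theorem hρ_inv (σ : G) (n : ℕ) (f : A) (hn : 0 < n) (hf : f ∈ 𝒜 n) (hfinv : ∀ σ : G, σ • f = f) :
    Proj.awayι 𝒜 f hf hn ≫ (ρ σ).inv =
      Spec.map (CommRingCat.ofHom (actHom 𝒜 hGdeg f hfinv σ)) ≫ Proj.awayι 𝒜 f hf hn :=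
  hρ_gen 𝒜 hGdeg ρ hρ σ n f hn hf f (hfinv σ) hf (actHom 𝒜 hGdeg f hfinv σ)
    (powers_le 𝒜 hGdeg f hfinv σ) (actHom_val 𝒜 hGdeg f hfinv σ)

include hρ in
theorem hρ_hom (σ : G) (n : ℕ) (f : A) (hn : 0 < n) (hf : f ∈ 𝒜 n) (hfinv : ∀ σ : G, σ • f = f) :
    Proj.awayι 𝒜 f hf hn ≫ (ρ σ).hom =
      Spec.map (CommRingCat.ofHom (actHom 𝒜 hGdeg f hfinv σ⁻¹)) ≫ Proj.awayι 𝒜 f hf hn := by
  rw [← hρ_inv 𝒜 hGdeg ρ hρ σ⁻¹ n f hn hf hfinv, map_inv]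
  rfl

include hGdeg hιdeg in
theorem exists_basicOpen (x : Proj 𝒜) :
    ∃ (n : ℕ) (_ : 0 < n) (c : C), c ∈ 𝒞 n ∧ x ∈ Proj.basicOpen 𝒜 (ι c) := by
  have h1 := (Proj.affineOpenCover 𝒜).covers x
  obtain ⟨i, hi⟩ : ∃ i : (Σ i : PNat, 𝒜 i), x ∈ Proj.basicOpen 𝒜 i.2.1 := by
    refine ⟨(Proj.affineOpenCover 𝒜).idx x, ?_⟩
    rw [← Proj.opensRange_awayι 𝒜 _ ((Proj.affineOpenCover 𝒜).idx x).2.2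
      ((Proj.affineOpenCover 𝒜).idx x).1.2]
    exact h1
  rw [Proj.mem_basicOpen] at hi
  haveI : (x.asHomogeneousIdeal.toIdeal).IsPrime := x.isPrime
  obtain ⟨m, hm, c, hc, hcx⟩ := exists_inv_notMem 𝒜 hGdeg 𝒞 ι hιdeg
    x.asHomogeneousIdeal.toIdeal i.1 i.1.2 i.2.1 i.2.2 hi
  exact ⟨m, hm, c, hc, (Proj.mem_basicOpen 𝒜 _ x).mpr hcx⟩

theorem thetaI_isLocalizationElem {d e : ℕ} (c' c : C) (hc' : c' ∈ 𝒞 d) (hc : c ∈ 𝒞 e) :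
    thetaI 𝒜 𝒞 ι hιdeg c' (Away.isLocalizationElem hc' hc) =
      Away.isLocalizationElem (ι_mem 𝒜 𝒞 ι hιdeg hc') (ι_mem 𝒜 𝒞 ι hιdeg hc) := by
  rw [Away.isLocalizationElem, thetaI_mk]
  apply val_injective
  rw [Away.val_mk, Away.val_mk]
  congr 1
  exact map_pow ι c d

include hπ hGdeg in
theorem preimage_basicOpen (n : ℕ) (c : C) (hn : 0 < n) (hc : c ∈ 𝒞 n) :
    π ⁻¹ᵁ Proj.basicOpen 𝒞 c = Proj.basicOpen 𝒜 (ι c) := by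
  ext x
  obtain ⟨n', hn', c', hc', hx⟩ := exists_basicOpen 𝒜 hGdeg 𝒞 ι hιdeg x
  rw [← Proj.opensRange_awayι 𝒜 (ι c') (ι_mem 𝒜 𝒞 ι hιdeg hc') hn'] at hx
  obtain ⟨w, rfl⟩ := hx
  have h1 : (Proj.awayι 𝒜 (ι c') (ι_mem 𝒜 𝒞 ι hιdeg hc') hn' ≫ π) ⁻¹ᵁ Proj.basicOpen 𝒞 c =
      Proj.awayι 𝒜 (ι c') (ι_mem 𝒜 𝒞 ι hιdeg hc') hn' ⁻¹ᵁ Proj.basicOpen 𝒜 (ι c) := by
    rw [hπ' 𝒜 𝒞 ι hιdeg π hπ n' c' hn' hc', Scheme.Hom.comp_preimage,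
      Proj.awayι_preimage_basicOpen 𝒞 hc' hn' hc hn,
      Proj.awayι_preimage_basicOpen 𝒜 (ι_mem 𝒜 𝒞 ι hιdeg hc') hn' (ι_mem 𝒜 𝒞 ι hιdeg hc) hn,
      ← thetaI_isLocalizationElem 𝒜 𝒞 ι hιdeg c' c hc' hc]
    rfl
  exact (SetLike.ext_iff.mp h1 w)

section ChartQuot

variable (n : ℕ) (c : C) (hn : 0 < n) (hc : c ∈ 𝒞 n)

theorem actHom_thetaI (σ : G) (b : Away 𝒞 c) :
    actHom 𝒜 hGdeg (ι c) (fun σ => ι_inv 𝒜 𝒞 ι hιdeg hc σ) σ (thetaI 𝒜 𝒞 ι hιdeg c b) =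
      thetaI 𝒜 𝒞 ι hιdeg c b := by
  obtain ⟨m, b0, hb0, rfl⟩ := Away.mk_surjective 𝒞 hc b
  rw [thetaI_mk 𝒜 𝒞 ι hιdeg c hc, actHom_mk]
  apply val_injective
  rw [Away.val_mk, Away.val_mk, ι_inv 𝒜 𝒞 ι hιdeg hb0 σ]

include hρ in
theorem hstab (σ : G) :
    Set.range (Proj.awayι 𝒜 (ι c) (ι_mem 𝒜 𝒞 ι hιdeg hc) hn ≫ (ρ σ).hom).base ⊆
      Set.range (Proj.awayι 𝒜 (ι c) (ι_mem 𝒜 𝒞 ι hιdeg hc) hn).base := by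
  rw [hρ_hom 𝒜 hGdeg ρ hρ σ n (ι c) hn (ι_mem 𝒜 𝒞 ι hιdeg hc)
    (fun σ => ι_inv 𝒜 𝒞 ι hιdeg hc σ)]
  simp only [Scheme.Hom.comp_base, TopCat.hom_comp, ContinuousMap.coe_comp]
  exact Set.range_comp_subset_range _ _

noncomputable def rhoC : G →* Aut (Spec (CommRingCat.of (Away 𝒜 (ι c)))) :=
  Groth.Agent.Lib.Helper81.Quot.liftAut ρ (Proj.awayι 𝒜 (ι c) (ι_mem 𝒜 𝒞 ι hιdeg hc) hn)
    (hstab 𝒜 hGdeg 𝒞 ι hιdeg ρ hρ n c hn hc)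

theorem rhoC_fac (σ : G) :
    (rhoC 𝒜 hGdeg 𝒞 ι hιdeg ρ hρ n c hn hc σ).hom ≫
        Proj.awayι 𝒜 (ι c) (ι_mem 𝒜 𝒞 ι hιdeg hc) hn =
      Proj.awayι 𝒜 (ι c) (ι_mem 𝒜 𝒞 ι hιdeg hc) hn ≫ (ρ σ).hom :=
  Groth.Agent.Lib.Helper81.Quot.liftAut_hom_fac ρ _ _ σ

theorem rhoC_hom (σ : G) :
    (rhoC 𝒜 hGdeg 𝒞 ι hιdeg ρ hρ n c hn hc σ).hom =
      Spec.map (CommRingCat.ofHom
        (actHom 𝒜 hGdeg (ι c) (fun σ => ι_inv 𝒜 𝒞 ι hιdeg hc σ) σ⁻¹)) := by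
  rw [← cancel_mono (Proj.awayι 𝒜 (ι c) (ι_mem 𝒜 𝒞 ι hιdeg hc) hn), rhoC_fac,
    hρ_hom 𝒜 hGdeg ρ hρ σ n (ι c) hn (ι_mem 𝒜 𝒞 ι hιdeg hc)]

include hι in
theorem isQuot_chart :
    SGA1.IsQuot (rhoC 𝒜 hGdeg 𝒞 ι hιdeg ρ hρ n c hn hc)
      (Spec.map (CommRingCat.ofHom (thetaI 𝒜 𝒞 ι hιdeg c))) := by
  letI := action 𝒜 hGdeg (ι c) (fun σ => ι_inv 𝒜 𝒞 ι hιdeg hc σ)
  letI : Algebra (Away 𝒞 c) (Away 𝒜 (ι c)) := (thetaI 𝒜 𝒞 ι hιdeg c).toAlgebra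
  haveI : SMulCommClass G (Away 𝒞 c) (Away 𝒜 (ι c)) := ⟨fun σ b a => by
    rw [Algebra.smul_def, Algebra.smul_def, smul_mul']
    congr 1
    exact actHom_thetaI 𝒜 hGdeg 𝒞 ι hιdeg n c hc σ b⟩
  haveI : Algebra.IsInvariant (Away 𝒞 c) (Away 𝒜 (ι c)) G :=
    ⟨fun a ha => exists_of_invariant 𝒜 hGdeg 𝒞 ι hιdeg c hc a ha⟩
  haveI : FaithfulSMul (Away 𝒞 c) (Away 𝒜 (ι c)) :=
    (faithfulSMul_iff_algebraMap_injective _ _).mpr (thetaI_injective 𝒜 𝒞 ι hιdeg c hι)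
  refine Groth.Agent.S12059.result G (Away 𝒜 (ι c)) (Away 𝒞 c)
    (rhoC 𝒜 hGdeg 𝒞 ι hιdeg ρ hρ n c hn hc) ?_
  ext φ
  constructor
  · rintro ⟨g, rfl⟩
    exact ⟨g⁻¹, (rhoC_hom 𝒜 hGdeg 𝒞 ι hιdeg ρ hρ n c hn hc g).symm⟩
  · rintro ⟨g, rfl⟩
    refine ⟨g⁻¹, ?_⟩
    change (rhoC 𝒜 hGdeg 𝒞 ι hιdeg ρ hρ n c hn hc g⁻¹).hom = _
    rw [rhoC_hom, inv_inv]
    rfl

end ChartQuot

section Final

include hGdeg hι hρ hπ in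
theorem isQuot : SGA1.IsQuot ρ π := by
  have hcovA : ∀ x : Proj 𝒜, ∃ (i : {p : ℕ × C // 0 < p.1 ∧ p.2 ∈ 𝒞 p.1})
      (y : Spec (CommRingCat.of (Away 𝒜 (ι i.1.2)))),
      (Proj.awayι 𝒜 (ι i.1.2) (ι_mem 𝒜 𝒞 ι hιdeg i.2.2) i.2.1) y = x := by
    intro x
    obtain ⟨n, hn, c, hc, hx⟩ := exists_basicOpen 𝒜 hGdeg 𝒞 ι hιdeg x
    rw [← Proj.opensRange_awayι 𝒜 (ι c) (ι_mem 𝒜 𝒞 ι hιdeg hc) hn] at hx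
    obtain ⟨y, hy⟩ := hx
    exact ⟨⟨(n, c), hn, hc⟩, y, hy⟩
  have hinv : ∀ g : G, (ρ g).hom ≫ π = π := by
    intro g
    refine (Scheme.Cover.mkOfCovers (P := @IsOpenImmersion)
      {p : ℕ × C // 0 < p.1 ∧ p.2 ∈ 𝒞 p.1}
      (fun i => Spec (CommRingCat.of (Away 𝒜 (ι i.1.2))))
      (fun i => Proj.awayι 𝒜 (ι i.1.2) (ι_mem 𝒜 𝒞 ι hιdeg i.2.2) i.2.1) hcovA).hom_ext _ _
      fun i => ?_
    change Proj.awayι 𝒜 (ι i.1.2) (ι_mem 𝒜 𝒞 ι hιdeg i.2.2) i.2.1 ≫ (ρ g).hom ≫ π =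
      Proj.awayι 𝒜 (ι i.1.2) (ι_mem 𝒜 𝒞 ι hιdeg i.2.2) i.2.1 ≫ π
    rw [← Category.assoc, ← rhoC_fac 𝒜 hGdeg 𝒞 ι hιdeg ρ hρ i.1.1 i.1.2 i.2.1 i.2.2 g,
      Category.assoc, hπ' 𝒜 𝒞 ι hιdeg π hπ i.1.1 i.1.2 i.2.1 i.2.2, ← Category.assoc,
      (isQuot_chart 𝒜 hGdeg 𝒞 ι hι hιdeg ρ hρ i.1.1 i.1.2 i.2.1 i.2.2).inv g]
  have hcovC : ∀ y : Proj 𝒞, ∃ i : {p : ℕ × C // 0 < p.1 ∧ p.2 ∈ 𝒞 p.1},
      y ∈ (Proj.awayι 𝒞 i.1.2 i.2.2 i.2.1).opensRange := by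
    intro y
    have h1 := (Proj.affineOpenCover 𝒞).covers y
    exact ⟨⟨(((Proj.affineOpenCover 𝒞).idx y).1, ((Proj.affineOpenCover 𝒞).idx y).2.1),
      ((Proj.affineOpenCover 𝒞).idx y).1.2, ((Proj.affineOpenCover 𝒞).idx y).2.2⟩, h1⟩
  haveI : IsAffineHom π := by
    apply isAffineHom_of_forall_exists_isAffineOpen
    intro y
    obtain ⟨i, hi⟩ := hcovC y
    rw [Proj.opensRange_awayι] at hi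
    refine ⟨Proj.basicOpen 𝒞 i.1.2, hi, Proj.isAffineOpen_basicOpen 𝒞 i.1.2 i.2.2 i.2.1, ?_⟩
    rw [preimage_basicOpen 𝒜 hGdeg 𝒞 ι hιdeg π hπ i.1.1 i.1.2 i.2.1 i.2.2]
    exact Proj.isAffineOpen_basicOpen 𝒜 (ι i.1.2) (ι_mem 𝒜 𝒞 ι hιdeg i.2.2) i.2.1
  refine Groth.Agent.Lib.Helper81.Quot.isQuot_of_charts ρ π hinv
    (I := {p : ℕ × C // 0 < p.1 ∧ p.2 ∈ 𝒞 p.1})
    (fun i => Spec (CommRingCat.of (Away 𝒜 (ι i.1.2))))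
    (fun i => Spec (CommRingCat.of (Away 𝒞 i.1.2)))
    (fun i => Proj.awayι 𝒜 (ι i.1.2) (ι_mem 𝒜 𝒞 ι hιdeg i.2.2) i.2.1)
    (fun i => Proj.awayι 𝒞 i.1.2 i.2.2 i.2.1)
    (fun i => Spec.map (CommRingCat.ofHom (thetaI 𝒜 𝒞 ι hιdeg i.1.2)))
    (fun i => hπ' 𝒜 𝒞 ι hιdeg π hπ i.1.1 i.1.2 i.2.1 i.2.2)
    (fun i => ?_)
    (fun i => rhoC 𝒜 hGdeg 𝒞 ι hιdeg ρ hρ i.1.1 i.1.2 i.2.1 i.2.2)
    (fun i g => rhoC_fac 𝒜 hGdeg 𝒞 ι hιdeg ρ hρ i.1.1 i.1.2 i.2.1 i.2.2 g)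
    (fun i => isQuot_chart 𝒜 hGdeg 𝒞 ι hι hιdeg ρ hρ i.1.1 i.1.2 i.2.1 i.2.2)
    hcovC
  rw [Proj.opensRange_awayι, Proj.opensRange_awayι,
    preimage_basicOpen 𝒜 hGdeg 𝒞 ι hιdeg π hπ i.1.1 i.1.2 i.2.1 i.2.2]

end Final

end Groth.Agent.Lib.Helper81.ProjQuot
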