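import Groth.Agent.Lib.Helper81.IsQuotChart
import Groth.Agent.Lib.Helper81.IsQuotAffine
import Groth.Agent.S12059
import Mathlib

set_option autoImplicit false
set_option linter.style.haveILetI false
set_option linter.unusedSectionVars false
universe u
open CategoryTheory CategoryTheory.Limits AlgebraicGeometry Opposite TopologicalSpace

namespace Groth.Agent.Lib.Helper81.QuotExists

open Groth.Agent.Lib.Helper81.Quot

variable {X : Scheme.{u}} {G : Type u} [Group G]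

theorem exists_basicOpen_finite [Finite G] {U : X.Opens} (hU : IsAffineOpen U) (Ω : X.Opens)
    (hΩU : Ω ≤ U) (x : G → X) (hx : ∀ g, x g ∈ Ω) :
    ∃ f : Γ(X, U), (∀ g, x g ∈ X.basicOpen f) ∧ X.basicOpen f ≤ Ω := by
  classical
  have : Fintype G := Fintype.ofFinite G
  obtain ⟨I, hI⟩ := (PrimeSpectrum.isClosed_iff_zeroLocus_ideal _).1
    (hU.fromSpec ⁻¹ᵁ Ω).isOpen.isClosed_compl
  have hPmem : ∀ g, hU.primeIdealOf ⟨x g, hΩU (hx g)⟩ ∈ hU.fromSpec ⁻¹ᵁ Ω := by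
    intro g
    change hU.fromSpec (hU.primeIdealOf ⟨x g, hΩU (hx g)⟩) ∈ Ω
    rw [hU.fromSpec_primeIdealOf]
    exact hx g
  have hnot : ∀ g, ¬ I ≤ (hU.primeIdealOf ⟨x g, hΩU (hx g)⟩).asIdeal := by
    intro g hle
    have h1 : hU.primeIdealOf ⟨x g, hΩU (hx g)⟩ ∈ PrimeSpectrum.zeroLocus (I : Set Γ(X, U)) := by
      rw [PrimeSpectrum.mem_zeroLocus]
      exact hle
    rw [← hI] at h1
    exact h1 (hPmem g)
  have hna : ¬ ((I : Set Γ(X, U)) ⊆ ⋃ g ∈ ((Finset.univ : Finset G) : Set G),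
      ((hU.primeIdealOf ⟨x g, hΩU (hx g)⟩).asIdeal : Set Γ(X, U))) := by
    rw [Ideal.subset_union_prime (1 : G) (1 : G) (fun g _ _ _ => (hU.primeIdealOf _).isPrime)]
    rintro ⟨g, -, hg⟩
    exact hnot g hg
  rw [Set.not_subset] at hna
  obtain ⟨f, hfI, hfn⟩ := hna
  refine ⟨f, fun g => ?_, fun y hy => ?_⟩
  · have h1 : hU.primeIdealOf ⟨x g, hΩU (hx g)⟩ ∈ PrimeSpectrum.basicOpen f := by
      rw [PrimeSpectrum.mem_basicOpen]
      intro hmem
      exact hfn (Set.mem_biUnion (Finset.mem_coe.2 (Finset.mem_univ g)) hmem)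
    rw [← hU.fromSpec_preimage_basicOpen] at h1
    have h2 : hU.fromSpec (hU.primeIdealOf ⟨x g, hΩU (hx g)⟩) ∈ X.basicOpen f := h1
    rwa [hU.fromSpec_primeIdealOf] at h2
  · have hyU : y ∈ U := X.basicOpen_le f hy
    have h1 : hU.fromSpec (hU.primeIdealOf ⟨y, hyU⟩) ∈ X.basicOpen f := by
      rw [hU.fromSpec_primeIdealOf]
      exact hy
    have h2 : hU.primeIdealOf ⟨y, hyU⟩ ∈ hU.fromSpec ⁻¹ᵁ X.basicOpen f := h1
    rw [hU.fromSpec_preimage_basicOpen] at h2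
    have h2' : f ∉ (hU.primeIdealOf ⟨y, hyU⟩).asIdeal := h2
    have h3 : hU.primeIdealOf ⟨y, hyU⟩ ∈ hU.fromSpec ⁻¹ᵁ Ω := by
      by_contra hcon
      have h4 : hU.primeIdealOf ⟨y, hyU⟩ ∈ ((hU.fromSpec ⁻¹ᵁ Ω : (Spec Γ(X, U)).Opens) :
          Set (Spec Γ(X, U)))ᶜ := hcon
      rw [hI] at h4
      have h4' : (I : Set Γ(X, U)) ⊆ (hU.primeIdealOf ⟨y, hyU⟩).asIdeal := h4
      exact h2' (h4' hfI)
    have h5 : hU.fromSpec (hU.primeIdealOf ⟨y, hyU⟩) ∈ Ω := h3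
    rwa [hU.fromSpec_primeIdealOf] at h5

theorem rho_mul_base (ρ : G →* Aut X) (g h : G) (y : X) :
    (ρ (g * h)).hom.base y = (ρ g).hom.base ((ρ h).hom.base y) := by
  have : (ρ (g * h)).hom = (ρ h).hom ≫ (ρ g).hom := by rw [map_mul]; rfl
  rw [this]
  rfl

theorem rho_one_base (ρ : G →* Aut X) (y : X) : (ρ 1).hom.base y = y := by
  have : (ρ 1).hom = 𝟙 X := by rw [map_one]; rfl
  rw [this]
  rfl

theorem exists_stable_affine [Finite G] (ρ : G →* Aut X) {U : X.Opens} (hU : IsAffineOpen U)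
    (Ω : X.Opens) (hΩ : ∀ g, Ω ≤ (ρ g).hom ⁻¹ᵁ Ω) (hΩU : Ω ≤ U) (x : X) (hx : x ∈ Ω) :
    ∃ W : X.Opens, IsAffineOpen W ∧ (∀ g, W ≤ (ρ g).hom ⁻¹ᵁ W) ∧ x ∈ W ∧ W ≤ Ω := by
  classical
  have : Fintype G := Fintype.ofFinite G
  obtain ⟨f, hf1, hf2⟩ := exists_basicOpen_finite hU Ω hΩU (fun g => (ρ g).hom.base x)
    (fun g => hΩ g hx)
  have hDle : ∀ g, X.basicOpen f ≤ (ρ g).hom ⁻¹ᵁ U := fun g y hy => hΩU (hΩ g (hf2 hy))
  obtain ⟨fg, hfgdef⟩ : ∃ fg : G → Γ(X, X.basicOpen f),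
      fg = fun g => ((ρ g).hom.appLE U (X.basicOpen f) (hDle g)).hom f := ⟨_, rfl⟩
  have hfg : ∀ g, X.basicOpen (fg g) = X.basicOpen f ⊓ (ρ g).hom ⁻¹ᵁ (X.basicOpen f) := by
    intro g
    rw [hfgdef]
    exact Scheme.basicOpen_appLE _ _ _ _ _
  have hprod : ∀ y, y ∈ X.basicOpen (∏ g, fg g) ↔ ∀ g, y ∈ X.basicOpen (fg g) := by
    intro y
    constructor
    · intro hy g
      have hyD : y ∈ X.basicOpen f := X.basicOpen_le _ hy
      rw [Scheme.mem_basicOpen X _ y hyD] at hy ⊢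
      rw [map_prod] at hy
      exact (IsUnit.prod_univ_iff.1 hy) g
    · intro h
      have hyD : y ∈ X.basicOpen f := X.basicOpen_le _ (h 1)
      rw [Scheme.mem_basicOpen X _ y hyD, map_prod]
      exact IsUnit.prod_univ_iff.2 (fun g => (Scheme.mem_basicOpen X _ y hyD).1 (h g))
  have hWmem : ∀ y, y ∈ X.basicOpen (∏ g, fg g) ↔ ∀ g, (ρ g).hom.base y ∈ X.basicOpen f := by
    intro y
    rw [hprod]
    constructor
    · intro h g
      have := h g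
      rw [hfg] at this
      exact this.2
    · intro h g
      rw [hfg]
      refine ⟨?_, h g⟩
      have := h 1
      rwa [rho_one_base] at this
  refine ⟨X.basicOpen (∏ g, fg g), (hU.basicOpen f).basicOpen _, fun h y hy => ?_, ?_, ?_⟩
  · change (ρ h).hom.base y ∈ X.basicOpen (∏ g, fg g)
    rw [hWmem] at hy ⊢
    intro g
    rw [← rho_mul_base]
    exact hy _
  · rw [hWmem]
    exact hf1
  · exact (X.basicOpen_le _).trans hf2

section Inv

variable (ρ : G →* Aut X) (W : X.Opens) (hW : ∀ g : G, W ≤ (ρ g).hom ⁻¹ᵁ W)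

noncomputable def inv : Subring Γ(X, W) := ⨅ g : G, RingHom.eqLocus (sec ρ W hW g).hom (RingHom.id _)

theorem mem_inv (s : Γ(X, W)) : s ∈ inv ρ W hW ↔ ∀ g, (sec ρ W hW g).hom s = s := by
  unfold inv
  rw [Subring.mem_iInf]
  rfl

variable {W} in
theorem res_mem_inv {W' : X.Opens} (hW' : ∀ g : G, W' ≤ (ρ g).hom ⁻¹ᵁ W') (hle : W' ≤ W)
    (s : Γ(X, W)) (hs : s ∈ inv ρ W hW) :
    (X.presheaf.map (homOfLE hle).op).hom s ∈ inv ρ W' hW' := by
  rw [mem_inv] at hs ⊢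
  intro g
  have := congrArg (fun φ => φ.hom s) (sec_map ρ W W' hW hW' hle g)
  simp only [CommRingCat.hom_comp, RingHom.coe_comp, Function.comp_apply] at this
  rw [← this, hs g]

noncomputable def resInv {W' : X.Opens} (hW' : ∀ g : G, W' ≤ (ρ g).hom ⁻¹ᵁ W') (hle : W' ≤ W) :
    inv ρ W hW →+* inv ρ W' hW' :=
  (X.presheaf.map (homOfLE hle).op).hom.restrict _ _ (res_mem_inv ρ hW hW' hle)

theorem resInv_coe {W' : X.Opens} (hW' : ∀ g : G, W' ≤ (ρ g).hom ⁻¹ᵁ W') (hle : W' ≤ W)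
    (s : inv ρ W hW) :
    ((resInv ρ W hW hW' hle s : inv ρ W' hW') : Γ(X, W')) =
      (X.presheaf.map (homOfLE hle).op).hom s := rfl

theorem fixed_of_mem_inv (s : inv ρ W hW) (g : G) :
    letI := action ρ W hW
    g • (s : Γ(X, W)) = s := by
  rw [action_smul_def]
  exact (mem_inv ρ W hW s).1 s.2 g⁻¹

end Inv

section Chart

variable (ρ : G →* Aut X) (W : X.Opens) (hW : ∀ g : G, W ≤ (ρ g).hom ⁻¹ᵁ W)
  (hWa : IsAffineOpen W)

include hW in
theorem hstab (g : G) :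
    Set.range (hWa.fromSpec ≫ (ρ g).hom).base ⊆ Set.range hWa.fromSpec.base := by
  rintro y ⟨z, rfl⟩
  have h1 : hWa.fromSpec.base z ∈ W := by
    have : hWa.fromSpec.base z ∈ Set.range hWa.fromSpec := ⟨z, rfl⟩
    rwa [hWa.range_fromSpec] at this
  have h2 : (ρ g).hom.base (hWa.fromSpec.base z) ∈ W := hW g h1
  have h3 : (ρ g).hom.base (hWa.fromSpec.base z) ∈ Set.range hWa.fromSpec := by
    rw [hWa.range_fromSpec]
    exact h2
  exact h3

noncomputable def sigma : G →* Aut (Spec Γ(X, W)) :=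
  liftAut ρ hWa.fromSpec (hstab ρ W hW hWa)

theorem sigma_fac (g : G) :
    ((sigma ρ W hW hWa) g).hom ≫ hWa.fromSpec = hWa.fromSpec ≫ (ρ g).hom :=
  liftAut_hom_fac ρ hWa.fromSpec (hstab ρ W hW hWa) g

theorem sigma_hom (g : G) : ((sigma ρ W hW hWa) g).hom = Spec.map (sec ρ W hW g) := by
  rw [← cancel_mono hWa.fromSpec, sigma_fac]
  exact (hWa.SpecMap_appLE_fromSpec (ρ g).hom hWa (hW g)).symm

noncomputable def quo : Spec Γ(X, W) ⟶ Spec (CommRingCat.of (inv ρ W hW)) :=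
  Spec.map (CommRingCat.ofHom (algebraMap (inv ρ W hW) Γ(X, W)))

theorem isQuot_quo [Finite G] : SGA1.IsQuot (sigma ρ W hW hWa) (quo ρ W hW) := by
  letI := action ρ W hW
  haveI : SMulCommClass G (inv ρ W hW) Γ(X, W) := ⟨fun g b a => by
    change g • ((b : Γ(X, W)) * a) = (b : Γ(X, W)) * g • a
    rw [smul_mul', fixed_of_mem_inv ρ W hW b g]⟩
  haveI : Algebra.IsInvariant (inv ρ W hW) Γ(X, W) G := ⟨fun a ha => ⟨⟨a, by
    rw [mem_inv]
    intro g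
    have := ha g⁻¹
    rw [action_smul_def, inv_inv] at this
    exact this⟩, rfl⟩⟩
  haveI : FaithfulSMul (inv ρ W hW) Γ(X, W) :=
    (faithfulSMul_iff_algebraMap_injective _ _).2 Subtype.val_injective
  refine Groth.Agent.S12059.result G Γ(X, W) (inv ρ W hW) (sigma ρ W hW hWa) ?_
  ext φ
  constructor
  · rintro ⟨g, rfl⟩
    refine ⟨g⁻¹, ?_⟩
    simp only
    rw [sigma_hom]
    congr 1
    ext s
    change (sec ρ W hW g⁻¹⁻¹).hom s = (sec ρ W hW g).hom s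
    rw [inv_inv]
  · rintro ⟨g, rfl⟩
    refine ⟨g⁻¹, ?_⟩
    simp only
    rw [sigma_hom]
    congr 1

end Chart

section Transport

variable {T₁ T₂ Y : Scheme.{u}}

theorem isQuot_of_iso (e : T₁ ≅ T₂) (σ₁ : G →* Aut T₁) (σ₂ : G →* Aut T₂)
    (he : ∀ g, (σ₁ g).hom ≫ e.hom = e.hom ≫ (σ₂ g).hom) (p₂ : T₂ ⟶ Y)
    (h₂ : SGA1.IsQuot σ₂ p₂) : SGA1.IsQuot σ₁ (e.hom ≫ p₂) := by
  haveI := h₂.affine
  have hinv : ∀ g : G, (σ₁ g).hom ≫ e.hom ≫ p₂ = e.hom ≫ p₂ := by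
    intro g
    rw [reassoc_of% (he g), h₂.inv g]
  refine isQuot_of_charts σ₁ (e.hom ≫ p₂) hinv (I := PUnit.{1}) (fun _ => T₂) (fun _ => Y)
    (fun _ => e.inv) (fun _ => 𝟙 Y) (fun _ => p₂) ?_ ?_ (fun _ => σ₂) ?_ (fun _ => h₂) ?_
  · intro _
    simp
  · intro _
    rw [Scheme.Hom.opensRange_of_isIso, Scheme.Hom.opensRange_of_isIso]
    rfl
  · intro _ g
    rw [← cancel_mono e.hom, Category.assoc, Category.assoc, e.inv_hom_id, Category.comp_id, he g,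
      e.inv_hom_id_assoc]
  · intro y
    exact ⟨PUnit.unit, by simp⟩

end Transport

section OpenImm

variable {T T' Y Y' : Scheme.{u}} [Finite G]

theorem isOpenImmersion_of_quot (σ : G →* Aut T) (σ' : G →* Aut T') (q : T ⟶ Y) (q' : T' ⟶ Y')
    (hq : SGA1.IsQuot σ q) (hq' : SGA1.IsQuot σ' q') (t : T ⟶ T') [IsOpenImmersion t]
    (ht : ∀ g, (σ g).hom ≫ t = t ≫ (σ' g).hom) (φ : Y ⟶ Y') (hφ : q ≫ φ = t ≫ q') :
    IsOpenImmersion φ := by
  have hsat : q'.base ⁻¹' (q'.base '' (Set.range t.base)) = Set.range t.base := by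
    ext x
    constructor
    · rintro ⟨_, ⟨y, rfl⟩, hy⟩
      obtain ⟨g, hg⟩ := exists_eq_of_base_eq hq' _ _ hy
      refine ⟨(σ g).hom.base y, ?_⟩
      rw [← hg]
      have := congrArg (fun ψ : T ⟶ T' => ψ.base y) (ht g)
      exact this
    · intro hx
      exact ⟨x, hx, rfl⟩
  have hopen : IsOpen (q'.base '' (Set.range t.base)) := by
    rw [← (isQuotientMap hq').isOpen_preimage, hsat]
    exact t.isOpenEmbedding.isOpen_range
  obtain ⟨V', hV'⟩ : ∃ V' : Y'.Opens, (V' : Set Y') = q'.base '' (Set.range t.base) :=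
    ⟨⟨_, hopen⟩, rfl⟩
  have hpre : Set.range t = Set.range (q' ⁻¹ᵁ V').ι := by
    rw [Scheme.Opens.range_ι]
    change Set.range t.base = q'.base ⁻¹' (V' : Set Y')
    rw [hV', hsat]
  have hR := restrictAut_isQuot hq' V'
  let e : T ≅ (q' ⁻¹ᵁ V').toScheme := IsOpenImmersion.isoOfRangeEq t (q' ⁻¹ᵁ V').ι hpre
  have he_fac : e.hom ≫ (q' ⁻¹ᵁ V').ι = t := IsOpenImmersion.isoOfRangeEq_hom_fac _ _ _
  have he : ∀ g, (σ g).hom ≫ e.hom =
      e.hom ≫ ((restrictAut σ' (q' ⁻¹ᵁ V') (stable hq' V')) g).hom := by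
    intro g
    rw [← cancel_mono (q' ⁻¹ᵁ V').ι, Category.assoc, Category.assoc, he_fac, restrictAut_hom_ι,
      reassoc_of% he_fac, ht g]
  have hr := isQuot_of_iso e σ _ he _ hR
  obtain ⟨θ, hθ, -⟩ := existsUnique_desc hq _ (e.hom ≫ (q' ∣_ V')) hr.inv
  obtain ⟨θ', hθ', -⟩ := existsUnique_desc hr _ q hq.inv
  have hepi : Epi q := epi hq
  have hepi' : Epi (e.hom ≫ (q' ∣_ V')) := epi hr
  have h1 : θ ≫ θ' = 𝟙 _ := by
    rw [← cancel_epi q, ← Category.assoc, hθ, hθ', Category.comp_id]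
  have h2 : θ' ≫ θ = 𝟙 _ := by
    rw [← cancel_epi (e.hom ≫ (q' ∣_ V')), ← Category.assoc, hθ', hθ, Category.comp_id]
  haveI : IsIso θ := ⟨θ', h1, h2⟩
  have h3 : φ = θ ≫ V'.ι := by
    rw [← cancel_epi q, ← Category.assoc, hθ, hφ, Category.assoc, morphismRestrict_ι,
      ← Category.assoc, he_fac]
  rw [h3]
  infer_instance

end OpenImm

section Glue

variable (ρ : G →* Aut X)

abbrev J := {W : X.Opens // IsAffineOpen W ∧ ∀ g : G, W ≤ (ρ g).hom ⁻¹ᵁ W}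

noncomputable def tr {W W' : J ρ} (hle : W.1 ≤ W'.1) : Spec Γ(X, W.1) ⟶ Spec Γ(X, W'.1) :=
  Spec.map (X.presheaf.map (homOfLE hle).op)

theorem tr_fromSpec {W W' : J ρ} (hle : W.1 ≤ W'.1) :
    tr ρ hle ≫ W'.2.1.fromSpec = W.2.1.fromSpec :=
  W'.2.1.map_fromSpec W.2.1 (homOfLE hle).op

instance {W W' : J ρ} (hle : W.1 ≤ W'.1) : IsOpenImmersion (tr ρ hle) := by
  have : IsOpenImmersion (tr ρ hle ≫ W'.2.1.fromSpec) := by
    rw [tr_fromSpec]
    infer_instance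
  exact IsOpenImmersion.of_comp _ W'.2.1.fromSpec

theorem tr_equivariant {W W' : J ρ} (hle : W.1 ≤ W'.1) (g : G) :
    ((sigma ρ W.1 W.2.2 W.2.1) g).hom ≫ tr ρ hle =
      tr ρ hle ≫ ((sigma ρ W'.1 W'.2.2 W'.2.1) g).hom := by
  rw [← cancel_mono W'.2.1.fromSpec, Category.assoc, Category.assoc, tr_fromSpec, sigma_fac,
    sigma_fac, reassoc_of% (tr_fromSpec ρ hle)]

noncomputable def F : J ρ ⥤ Scheme.{u} where
  obj W := Spec (CommRingCat.of (inv ρ W.1 W.2.2))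
  map {W W'} f := Spec.map (CommRingCat.ofHom (resInv ρ W'.1 W'.2.2 W.2.2 (leOfHom f)))
  map_id W := by
    rw [← Spec.map_id]
    congr 1
    ext s
    change (X.presheaf.map (𝟙 (op W.1))).hom s.1 = s.1
    rw [X.presheaf.map_id]
    rfl
  map_comp {W W' W''} f g := by
    rw [← Spec.map_comp]
    congr 1
    ext s
    change (X.presheaf.map (homOfLE _).op).hom s.1 =
      (X.presheaf.map (homOfLE _).op).hom ((X.presheaf.map (homOfLE _).op).hom s.1)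
    rw [← CommRingCat.comp_apply, ← X.presheaf.map_comp]
    rfl

theorem quo_F_map {W W' : J ρ} (f : W ⟶ W') :
    quo ρ W.1 W.2.2 ≫ (F ρ).map f = tr ρ (leOfHom f) ≫ quo ρ W'.1 W'.2.2 := by
  unfold quo tr F
  simp only
  rw [← Spec.map_comp, ← Spec.map_comp]
  congr 1

variable [Finite G]

instance {W W' : J ρ} (f : W ⟶ W') : IsOpenImmersion ((F ρ).map f) :=
  isOpenImmersion_of_quot (sigma ρ W.1 W.2.2 W.2.1) (sigma ρ W'.1 W'.2.2 W'.2.1)
    (quo ρ W.1 W.2.2) (quo ρ W'.1 W'.2.2) (isQuot_quo ρ W.1 W.2.2 W.2.1)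
    (isQuot_quo ρ W'.1 W'.2.2 W'.2.1) (tr ρ (leOfHom f)) (tr_equivariant ρ (leOfHom f))
    ((F ρ).map f) (quo_F_map ρ f)

end Glue

section Points

variable (ρ : G →* Aut X)

theorem fromSpec_mem (W : J ρ) (a : Spec Γ(X, W.1)) : W.2.1.fromSpec.base a ∈ W.1 := by
  have : W.2.1.fromSpec.base a ∈ Set.range W.2.1.fromSpec := ⟨a, rfl⟩
  rwa [W.2.1.range_fromSpec] at this

theorem exists_fromSpec_eq (W : J ρ) (y : X) (hy : y ∈ W.1) :
    ∃ a : Spec Γ(X, W.1), W.2.1.fromSpec.base a = y := by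
  have : y ∈ Set.range W.2.1.fromSpec := by
    rw [W.2.1.range_fromSpec]
    exact hy
  exact this

theorem fromSpec_injective (W : J ρ) : Function.Injective W.2.1.fromSpec.base :=
  W.2.1.fromSpec.isOpenEmbedding.injective

theorem tr_base {W W' : J ρ} (hle : W.1 ≤ W'.1) (a : Spec Γ(X, W.1)) :
    W'.2.1.fromSpec.base ((tr ρ hle).base a) = W.2.1.fromSpec.base a :=
  congrArg (fun ψ : Spec Γ(X, W.1) ⟶ X => ψ.base a) (tr_fromSpec ρ hle)

theorem sigma_base (W : J ρ) (g : G) (a : Spec Γ(X, W.1)) :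
    W.2.1.fromSpec.base (((sigma ρ W.1 W.2.2 W.2.1) g).hom.base a) =
      (ρ g).hom.base (W.2.1.fromSpec.base a) :=
  congrArg (fun ψ : Spec Γ(X, W.1) ⟶ X => ψ.base a) (sigma_fac ρ W.1 W.2.2 W.2.1 g)

variable [Finite G]

theorem quo_sigma (W : J ρ) (g : G) (a : Spec Γ(X, W.1)) :
    (quo ρ W.1 W.2.2).base (((sigma ρ W.1 W.2.2 W.2.1) g).hom.base a) =
      (quo ρ W.1 W.2.2).base a :=
  congrArg (fun ψ : Spec Γ(X, W.1) ⟶ _ => ψ.base a) ((isQuot_quo ρ W.1 W.2.2 W.2.1).inv g)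

theorem F_map_quo {W W' : J ρ} (f : W ⟶ W') (a : Spec Γ(X, W.1)) :
    ((F ρ).map f).base ((quo ρ W.1 W.2.2).base a) =
      (quo ρ W'.1 W'.2.2).base ((tr ρ (leOfHom f)).base a) :=
  congrArg (fun ψ : Spec Γ(X, W.1) ⟶ _ => ψ.base a) (quo_F_map ρ f)

theorem stable_inf (W W' : J ρ) (g : G) : W.1 ⊓ W'.1 ≤ (ρ g).hom ⁻¹ᵁ (W.1 ⊓ W'.1) :=
  fun _ hy => ⟨W.2.2 g hy.1, W'.2.2 g hy.2⟩

theorem directed_aux {Wi Wj Wk : J ρ} (fi : Wi ⟶ Wk) (fj : Wj ⟶ Wk)
    (xi : (F ρ).obj Wi) (xj : (F ρ).obj Wj)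
    (h : ((F ρ).map fi).base xi = ((F ρ).map fj).base xj) :
    ∃ (Wl : J ρ) (fli : Wl ⟶ Wi) (flj : Wl ⟶ Wj) (x : (F ρ).obj Wl),
      ((F ρ).map fli).base x = xi ∧ ((F ρ).map flj).base x = xj := by
  obtain ⟨ai, rfl⟩ := surjective (isQuot_quo ρ Wi.1 Wi.2.2 Wi.2.1) xi
  obtain ⟨aj, rfl⟩ := surjective (isQuot_quo ρ Wj.1 Wj.2.2 Wj.2.1) xj
  rw [F_map_quo, F_map_quo] at h
  obtain ⟨g, hg⟩ := exists_eq_of_base_eq (isQuot_quo ρ Wk.1 Wk.2.2 Wk.2.1) _ _ h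
  have hy : (ρ g).hom.base (Wi.2.1.fromSpec.base ai) = Wj.2.1.fromSpec.base aj := by
    have := congrArg Wk.2.1.fromSpec.base hg
    rw [sigma_base, tr_base, tr_base] at this
    exact this
  have hmem : Wj.2.1.fromSpec.base aj ∈ Wi.1 ⊓ Wj.1 := by
    refine ⟨?_, fromSpec_mem ρ Wj aj⟩
    rw [← hy]
    exact Wi.2.2 g (fromSpec_mem ρ Wi ai)
  obtain ⟨Wl, hWla, hWls, hyl, hle⟩ := exists_stable_affine ρ Wi.2.1 (Wi.1 ⊓ Wj.1)
    (stable_inf ρ Wi Wj) inf_le_left _ hmem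
  obtain ⟨al, hal⟩ := exists_fromSpec_eq ρ ⟨Wl, hWla, hWls⟩ _ hyl
  refine ⟨⟨Wl, hWla, hWls⟩, homOfLE (hle.trans inf_le_left), homOfLE (hle.trans inf_le_right),
    (quo ρ Wl hWls).base al, ?_, ?_⟩
  · rw [F_map_quo]
    have h1 : (tr ρ (leOfHom (homOfLE (hle.trans inf_le_left) :
        (⟨Wl, hWla, hWls⟩ : J ρ) ⟶ Wi))).base al =
        ((sigma ρ Wi.1 Wi.2.2 Wi.2.1) g).hom.base ai := by
      apply fromSpec_injective ρ Wi
      rw [tr_base, sigma_base, hy]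
      exact hal
    rw [h1, quo_sigma]
  · rw [F_map_quo]
    have h1 : (tr ρ (leOfHom (homOfLE (hle.trans inf_le_right) :
        (⟨Wl, hWla, hWls⟩ : J ρ) ⟶ Wj))).base al = aj := by
      apply fromSpec_injective ρ Wj
      rw [tr_base]
      exact hal
    rw [h1]

instance : ((F ρ) ⋙ Scheme.forget).IsLocallyDirected where
  cond {i j k} fi fj xi xj hxij := by
    simp only [Functor.comp_obj, Scheme.forget_obj, Functor.comp_map, Scheme.forget_map,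
      ConcreteCategory.hom_ofHom, TypeCat.Fun.coe_mk] at hxij
    obtain ⟨l, fli, flj, x, h1, h2⟩ := directed_aux ρ fi fj xi xj hxij
    refine ⟨l, fli, flj, x, ?_, ?_⟩
    · simp only [Functor.comp_obj, Scheme.forget_obj, Functor.comp_map, Scheme.forget_map,
        ConcreteCategory.hom_ofHom, TypeCat.Fun.coe_mk]
      exact h1
    · simp only [Functor.comp_obj, Scheme.forget_obj, Functor.comp_map, Scheme.forget_map,
        ConcreteCategory.hom_ofHom, TypeCat.Fun.coe_mk]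
      exact h2

end Points

section Final

variable (ρ : G →* Aut X) [Finite G] (hcov : ∀ x : X, ∃ W : J ρ, x ∈ W.1)

noncomputable def cover : Scheme.OpenCover.{u} X where
  I₀ := J ρ
  X W := Spec Γ(X, W.1)
  f W := W.2.1.fromSpec
  mem₀ := by
    rw [Scheme.presieve₀_mem_precoverage_iff]
    refine ⟨fun x => ?_, inferInstance⟩
    obtain ⟨W, hW⟩ := hcov x
    exact ⟨W, exists_fromSpec_eq ρ W x hW⟩

instance : Preorder (cover ρ hcov).I₀ := inferInstanceAs (Preorder (J ρ))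

theorem tr_id (W : J ρ) : tr ρ (le_refl W.1) = 𝟙 _ := by
  rw [← cancel_mono (W.2.1.fromSpec)]
  exact (tr_fromSpec ρ _).trans (Category.id_comp _).symm

theorem tr_comp {W W' W'' : J ρ} (h1 : W.1 ≤ W'.1) (h2 : W'.1 ≤ W''.1) :
    tr ρ (h1.trans h2) = tr ρ h1 ≫ tr ρ h2 := by
  rw [← cancel_mono (W''.2.1.fromSpec), Category.assoc, tr_fromSpec, tr_fromSpec, tr_fromSpec]

theorem directed_cover (W W' : J ρ) (x : ↑(pullback W.2.1.fromSpec W'.2.1.fromSpec)) :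
    ∃ (Wl : J ρ) (hi : Wl.1 ≤ W.1) (hj : Wl.1 ≤ W'.1) (al : Spec Γ(X, Wl.1)),
      (pullback.lift (tr ρ hi) (tr ρ hj) (by rw [tr_fromSpec, tr_fromSpec])).base al = x := by
  have hmem : (pullback.fst W.2.1.fromSpec W'.2.1.fromSpec ≫ W.2.1.fromSpec).base x ∈
      W.1 ⊓ W'.1 := by
    refine ⟨fromSpec_mem ρ W _, ?_⟩
    rw [pullback.condition]
    exact fromSpec_mem ρ W' _
  obtain ⟨Wl, hWla, hWls, hyl, hle⟩ := exists_stable_affine ρ W.2.1 (W.1 ⊓ W'.1)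
    (stable_inf ρ W W') inf_le_left _ hmem
  obtain ⟨al, hal⟩ := exists_fromSpec_eq ρ ⟨Wl, hWla, hWls⟩ _ hyl
  refine ⟨⟨Wl, hWla, hWls⟩, hle.trans inf_le_left, hle.trans inf_le_right, al, ?_⟩
  apply (pullback.fst W.2.1.fromSpec W'.2.1.fromSpec ≫
    W.2.1.fromSpec).isOpenEmbedding.injective
  have h1 : pullback.lift (tr ρ (hle.trans inf_le_left)) (tr ρ (hle.trans inf_le_right))
      (by rw [tr_fromSpec, tr_fromSpec]) ≫
      (pullback.fst W.2.1.fromSpec W'.2.1.fromSpec ≫ W.2.1.fromSpec) =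
      (⟨Wl, hWla, hWls⟩ : J ρ).2.1.fromSpec := by
    rw [pullback.lift_fst_assoc, tr_fromSpec]
  have h2 := congrArg (fun ψ : Spec Γ(X, Wl) ⟶ X => ψ.base al) h1
  exact h2.trans hal

noncomputable instance : Scheme.Cover.LocallyDirected (cover ρ hcov) where
  trans {W W'} f := tr ρ (leOfHom f)
  trans_id W := tr_id ρ W
  trans_comp {W W' W''} f g := tr_comp ρ (leOfHom f) (leOfHom g)
  w {W W'} f := tr_fromSpec ρ _
  property_trans {W W'} f := inferInstanceAs (IsOpenImmersion (tr ρ (leOfHom f)))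
  directed {W W'} x := by
    obtain ⟨Wl, hi, hj, al, h⟩ := directed_cover ρ W W' x
    exact ⟨Wl, homOfLE hi, homOfLE hj, al, h⟩

noncomputable def quotObj : Scheme.{u} := colimit (F ρ)

noncomputable def quoF (W : J ρ) : Spec Γ(X, W.1) ⟶ (F ρ).obj W := quo ρ W.1 W.2.2

theorem quoF_map {W W' : J ρ} (f : W ⟶ W') :
    quoF ρ W ≫ (F ρ).map f = tr ρ (leOfHom f) ≫ quoF ρ W' := quo_F_map ρ f

noncomputable def chartMap (W : J ρ) : Spec Γ(X, W.1) ⟶ quotObj ρ :=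
  quoF ρ W ≫ colimit.ι (F ρ) W

set_option backward.isDefEq.respectTransparency false in
theorem chartMap_compat {W W' : J ρ} (f : W ⟶ W') :
    tr ρ (leOfHom f) ≫ chartMap ρ W' = chartMap ρ W := by
  unfold chartMap
  rw [← Category.assoc, ← quoF_map ρ f, Category.assoc, colimit.w]

noncomputable def quotMap : X ⟶ quotObj ρ :=
  (cover ρ hcov).glueMorphismsOfLocallyDirected (chartMap ρ) (fun f => chartMap_compat ρ f)

theorem fromSpec_quotMap (W : J ρ) :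
    W.2.1.fromSpec ≫ quotMap ρ hcov = chartMap ρ W :=
  (cover ρ hcov).map_glueMorphismsOfLocallyDirected (chartMap ρ)
    (fun f => chartMap_compat ρ f) W

end Final

section Final2

variable (ρ : G →* Aut X) [Finite G] (hcov : ∀ x : X, ∃ W : J ρ, x ∈ W.1)

set_option backward.isDefEq.respectTransparency false in
theorem quotMap_inv (g : G) : (ρ g).hom ≫ quotMap ρ hcov = quotMap ρ hcov := by
  refine (cover ρ hcov).hom_ext _ _ (fun W => ?_)
  change W.2.1.fromSpec ≫ (ρ g).hom ≫ quotMap ρ hcov = W.2.1.fromSpec ≫ quotMap ρ hcov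
  rw [← Category.assoc, ← sigma_fac ρ W.1 W.2.2 W.2.1 g, Category.assoc, fromSpec_quotMap]
  unfold chartMap quoF
  rw [← Category.assoc, (isQuot_quo ρ W.1 W.2.2 W.2.1).inv g]

set_option backward.isDefEq.respectTransparency false in
theorem quotMap_base_fromSpec (W : J ρ) (a : Spec Γ(X, W.1)) :
    (quotMap ρ hcov).base (W.2.1.fromSpec.base a) =
      (colimit.ι (F ρ) W).base ((quoF ρ W).base a) :=
  congrArg (fun ψ : Spec Γ(X, W.1) ⟶ quotObj ρ => ψ.base a) (fromSpec_quotMap ρ hcov W)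

set_option backward.isDefEq.respectTransparency false in
theorem quotMap_preimage (W : J ρ) :
    W.2.1.fromSpec.opensRange = quotMap ρ hcov ⁻¹ᵁ (colimit.ι (F ρ) W).opensRange := by
  rw [W.2.1.opensRange_fromSpec]
  ext x
  constructor
  · intro hx
    obtain ⟨a, rfl⟩ := exists_fromSpec_eq ρ W x hx
    exact ⟨(quoF ρ W).base a, (quotMap_base_fromSpec ρ hcov W a).symm⟩
  · rintro ⟨y, hy⟩
    obtain ⟨W', hx'⟩ := hcov x
    obtain ⟨a', rfl⟩ := exists_fromSpec_eq ρ W' x hx'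
    have h1 : (colimit.ι (F ρ) W) y = (colimit.ι (F ρ) W') ((quoF ρ W').base a') :=
      hy.trans (quotMap_base_fromSpec ρ hcov W' a')
    obtain ⟨l, fj, fi, z, hzj, hzi⟩ := (Scheme.IsLocallyDirected.ι_eq_ι_iff (F ρ)).1 h1
    obtain ⟨al, rfl⟩ := surjective (isQuot_quo ρ l.1 l.2.2 l.2.1) z
    have h2 : (quo ρ W'.1 W'.2.2).base ((tr ρ (leOfHom fi)).base al) =
        (quo ρ W'.1 W'.2.2).base a' := (F_map_quo ρ fi al).symm.trans hzi
    obtain ⟨g, hg⟩ := exists_eq_of_base_eq (isQuot_quo ρ W'.1 W'.2.2 W'.2.1) _ _ h2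
    have h3 := congrArg W'.2.1.fromSpec.base hg
    rw [sigma_base, tr_base] at h3
    change W'.2.1.fromSpec.base a' ∈ W.1
    rw [← h3]
    exact leOfHom fj (l.2.2 g (fromSpec_mem ρ l al))

set_option backward.isDefEq.respectTransparency false in
theorem quotMap_isAffineHom : IsAffineHom (quotMap ρ hcov) := by
  apply isAffineHom_of_forall_exists_isAffineOpen
  intro y
  obtain ⟨W, z, rfl⟩ := Scheme.IsLocallyDirected.ι_jointly_surjective (F ρ) y
  refine ⟨(colimit.ι (F ρ) W).opensRange, ⟨z, rfl⟩, ?_, ?_⟩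
  · haveI : IsAffine ((F ρ).obj W) :=
      inferInstanceAs (IsAffine (Spec (CommRingCat.of (inv ρ W.1 W.2.2))))
    exact isAffineOpen_opensRange (colimit.ι (F ρ) W)
  · rw [← quotMap_preimage, W.2.1.opensRange_fromSpec]
    exact W.2.1

set_option backward.isDefEq.respectTransparency false in
theorem isQuot_quotMap : SGA1.IsQuot ρ (quotMap ρ hcov) := by
  haveI := quotMap_isAffineHom ρ hcov
  refine isQuot_of_charts ρ (quotMap ρ hcov) (quotMap_inv ρ hcov) (I := J ρ)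
    (fun W => Spec Γ(X, W.1)) (fun W => (F ρ).obj W) (fun W => W.2.1.fromSpec)
    (fun W => colimit.ι (F ρ) W) (fun W => quoF ρ W) ?_ ?_
    (fun W => sigma ρ W.1 W.2.2 W.2.1) ?_ ?_ ?_
  · intro W
    exact fromSpec_quotMap ρ hcov W
  · intro W
    exact quotMap_preimage ρ hcov W
  · intro W g
    exact sigma_fac ρ W.1 W.2.2 W.2.1 g
  · intro W
    exact isQuot_quo ρ W.1 W.2.2 W.2.1
  · intro y
    obtain ⟨W, z, rfl⟩ := Scheme.IsLocallyDirected.ι_jointly_surjective (F ρ) y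
    exact ⟨W, z, rfl⟩

end Final2

end Groth.Agent.Lib.Helper81.QuotExists







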