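import Groth.Agent.Lib.Helper81.KTrans
import Groth.Prelude.Def_Flat
import Mathlib.AlgebraicGeometry.Morphisms.Integral
import Mathlib.AlgebraicGeometry.Morphisms.Proper
import Mathlib.AlgebraicGeometry.Morphisms.SchemeTheoreticallyDominant
import Mathlib.AlgebraicGeometry.IdealSheaf.Subscheme

set_option autoImplicit false
set_option linter.style.haveILetI false
universe u
open CategoryTheory CategoryTheory.Limits AlgebraicGeometry Opposite TopologicalSpace

namespace Groth.Agent.Lib.Helper81.KTrans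

open Groth.Agent.Lib.Helper81

theorem isUnivHomeo_of {X Y : Scheme.{u}} (f : X ⟶ Y) (h1 : UniversallyInjective f)
    (h2 : Surjective f) (h3 : UniversallyClosed f) : FlatMor.IsUnivHomeo f := by
  intro X' Y' i₁ i₂ f' H
  change IsHomeomorph f'
  rw [isHomeomorph_iff_continuous_isClosedMap_bijective]
  have hs : Surjective f' := MorphismProperty.of_isPullback (P := @Surjective) H.flip h2
  exact ⟨f'.continuous, h3.universally_isClosedMap i₁ i₂ f' H,
    h1.universally_injective i₁ i₂ f' H, hs.surj⟩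

theorem isPullback_map {X Y S S' : Scheme.{u}} (q : X ⟶ Y) (h : Y ⟶ S) (g : S' ⟶ S)
 :
    IsPullback (pullback.fst (q ≫ h) g)
      (pullback.lift (pullback.fst (q ≫ h) g ≫ q) (pullback.snd (q ≫ h) g ≫ 𝟙 S')
        (by rw [Category.assoc, Category.assoc, Category.id_comp, pullback.condition]))
      q (pullback.fst h g) := by
  refine IsPullback.of_bot ?_ (by rw [pullback.lift_fst]) (IsPullback.of_hasPullback h g)
  rw [pullback.lift_snd, Category.comp_id]
  exact IsPullback.of_hasPullback (q ≫ h) g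

variable {X Y S S' : Scheme.{u}} {G : Type u} [Group G]

theorem kTrans_baseChange {ρ : G →* Aut X} {q : X ⟶ Y} (hT : KTrans ρ q) (f : X ⟶ S)
    (g : S' ⟶ S) {Z : Scheme.{u}} (mm : pullback f g ⟶ Z) (z1 : Z ⟶ Y) (z2 : Z ⟶ S')
    (h1 : mm ≫ z1 = pullback.fst f g ≫ q) (h2 : mm ≫ z2 = pullback.snd f g)
    (ρ' : G →* Aut (pullback f g))
    (hρ' : ∀ σ : G, (ρ' σ).hom ≫ pullback.fst f g = pullback.fst f g ≫ (ρ σ).hom ∧
      (ρ' σ).hom ≫ pullback.snd f g = pullback.snd f g) : KTrans ρ' mm := by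
  intro K _ ξ ξ' hξ
  have e1 : (ξ ≫ pullback.fst f g) ≫ q = (ξ' ≫ pullback.fst f g) ≫ q := by
    rw [Category.assoc, Category.assoc, ← h1, ← Category.assoc, hξ, Category.assoc]
  have e2 : ξ ≫ pullback.snd f g = ξ' ≫ pullback.snd f g := by
    rw [← h2, ← Category.assoc, hξ, Category.assoc]
  obtain ⟨σ, hσ⟩ := hT K _ _ e1
  refine ⟨σ, ?_⟩
  apply pullback.hom_ext
  · rw [hσ, Category.assoc, Category.assoc, (hρ' σ).1]
  · rw [Category.assoc, (hρ' σ).2, e2]

theorem kTrans_of_comp_eq {ρ : G →* Aut X} {p : X ⟶ Y} (hT : KTrans ρ p) {Y₀ : Scheme.{u}}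
    (p₀ : X ⟶ Y₀) (ι : Y₀ ⟶ Y) (h : p₀ ≫ ι = p) : KTrans ρ p₀ := by
  intro K _ ξ ξ' hξ
  refine hT K ξ ξ' ?_
  rw [← h, ← Category.assoc, hξ, Category.assoc]

theorem ker_toImage_eq_bot {X Y : Scheme.{u}} (f : X ⟶ Y) [QuasiCompact f] :
    f.toImage.ker = ⊥ := by
  refine Scheme.IdealSheafData.ext_of_iSup_eq_top
    (fun U : Y.affineOpens => ⟨f.imageι ⁻¹ᵁ U.1, U.2.preimage f.imageι⟩) ?_ ?_
  · show ⨆ U : Y.affineOpens, f.imageι ⁻¹ᵁ U.1 = ⊤
    rw [← Scheme.Hom.preimage_iSup, iSup_affineOpens_eq_top Y, Scheme.Hom.preimage_top]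
  · intro U
    rw [Scheme.Hom.ker_apply]
    have := RingHom.injective_iff_ker_eq_bot _ |>.mp (f.toImage_app_injective U)
    simpa using this

theorem surjective_toImage {X Y : Scheme.{u}} (f : X ⟶ Y) [QuasiCompact f]
    [UniversallyClosed f] : Surjective f.toImage := by
  constructor
  rw [← Set.range_eq_univ, ← f.toImage.isClosedMap.isClosed_range.closure_eq]
  exact f.toImage.denseRange.closure_eq

end Groth.Agent.Lib.Helper81.KTrans
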