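import Groth.Agent.Lib.Helper81.QuotInduce

set_option autoImplicit false
set_option linter.style.haveILetI false
set_option linter.unusedSectionVars false
universe u
open CategoryTheory CategoryTheory.Limits AlgebraicGeometry Opposite TopologicalSpace

namespace Groth.Agent.Lib.Helper81.QuotInduce

open Groth.Agent.Lib.Helper81.Quot

variable {X XG : Scheme.{u}} {G : Type u} [Group G] (ρ : G →* Aut X) (p : X ⟶ XG)
  (hP : SGA1.IsQuot ρ p) (H : Subgroup G) (Y : X.Opens)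
  (hcov : ∀ x : X, ∃ g : G, x ∈ (ρ g).hom.base '' (Y : Set X))
  (hdisj : ∀ g : G, g ∉ H → Disjoint ((ρ g).hom.base '' (Y : Set X)) (Y : Set X))
  (ρY : H →* Aut (Y : Scheme.{u})) (hρY : ∀ h : H, (ρY h).hom ≫ Y.ι = Y.ι ≫ (ρ (h : G)).hom)

include hρY in
theorem hstab_of (h : H) : Y ≤ (ρ (h : G)).hom ⁻¹ᵁ Y := by
  intro x hx
  have e := congrArg (fun f => f.base ⟨x, hx⟩) (hρY h)
  simp only [Scheme.Hom.comp_apply] at e
  show (ρ (h : G)).hom.base x ∈ Y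
  have e' : (ρ (h : G)).hom.base x = ((ρY h).hom.base ⟨x, hx⟩).1 := e.symm
  rw [e']
  exact ((ρY h).hom.base ⟨x, hx⟩).2

include hP hcov hdisj hρY in
theorem isAffineHom : IsAffineHom (Y.ι ≫ p) := by
  haveI := hP.affine
  have hcl : IsClosed (Set.range Y.ι.base) := by
    rw [Scheme.Opens.range_ι]
    exact isClosed ρ Y H (hstab_of ρ H Y ρY hρY) hdisj hcov
  haveI : IsClosedImmersion Y.ι := IsClosedImmersion.of_isPreimmersion _ hcl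
  infer_instance

include hP hρY in
theorem inv (h : H) : (ρY h).hom ≫ Y.ι ≫ p = Y.ι ≫ p := by
  rw [← Category.assoc, hρY h, Category.assoc, hP.inv]

section Sec

variable (U : XG.Opens)

theorem eps_le : Y.ι ''ᵁ ((Y.ι ≫ p) ⁻¹ᵁ U) = Y ⊓ p ⁻¹ᵁ U := by
  rw [Scheme.Hom.comp_preimage, Scheme.Hom.image_preimage_eq_opensRange_inf,
    Scheme.Opens.opensRange_ι]

theorem eps_le' : (Y.ι ≫ p) ⁻¹ᵁ U ≤ Y.ι ⁻¹ᵁ (Y ⊓ p ⁻¹ᵁ U) := by
  intro x hx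
  exact ⟨x.2, hx⟩

noncomputable def eps : Γ(X, Y ⊓ p ⁻¹ᵁ U) ⟶ Γ(Y, (Y.ι ≫ p) ⁻¹ᵁ U) :=
  Y.ι.appLE (Y ⊓ p ⁻¹ᵁ U) ((Y.ι ≫ p) ⁻¹ᵁ U) (eps_le' p Y U)

theorem eps_bijective : Function.Bijective (eps p Y U).hom := by
  have h1 : eps p Y U = X.presheaf.map (eqToHom (eps_le p Y U)).op := by
    unfold eps
    rw [Scheme.Opens.ι_appLE]
    congr 1
  rw [h1]
  haveI : IsIso (X.presheaf.map (eqToHom (eps_le p Y U)).op) := inferInstance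
  exact ConcreteCategory.bijective_of_isIso (X.presheaf.map (eqToHom (eps_le p Y U)).op)

theorem comp_app_eq (t : Γ(XG, U)) :
    ((Y.ι ≫ p).app U).hom t =
      (eps p Y U).hom ((X.presheaf.map (homOfLE (inf_le_right : Y ⊓ p ⁻¹ᵁ U ≤ p ⁻¹ᵁ U)).op).hom
        ((p.app U).hom t)) := by
  have e1 : (Y.ι ≫ p).app U =
      p.app U ≫ X.presheaf.map (homOfLE (inf_le_right : Y ⊓ p ⁻¹ᵁ U ≤ p ⁻¹ᵁ U)).op ≫
        eps p Y U := by
    unfold eps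
    rw [Scheme.Hom.map_appLE, ← Scheme.Hom.comp_appLE, Scheme.Hom.appLE_eq_app]
  have := congrArg (fun φ => φ.hom t) e1
  simp only [CommRingCat.hom_comp, RingHom.coe_comp, Function.comp_apply] at this
  exact this

include hP hρY in
theorem eps_sec (h : H) (hh : (ρ (h : G)).hom ⁻¹ᵁ Y = Y) (s₁ : Γ(X, Y ⊓ p ⁻¹ᵁ U)) :
    (eps p Y U).hom (((ρ (h : G)).hom.appLE (Y ⊓ p ⁻¹ᵁ U) (Y ⊓ p ⁻¹ᵁ U)
      (stab_le ρ Y (p ⁻¹ᵁ U) (stable hP U) h hh)).hom s₁) =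
      ((ρY h).hom.appLE ((Y.ι ≫ p) ⁻¹ᵁ U) ((Y.ι ≫ p) ⁻¹ᵁ U)
        (SGA1.preimage_le_of_inv ρY (Y.ι ≫ p) (inv ρ p hP H Y ρY hρY) h U)).hom
        ((eps p Y U).hom s₁) := by
  have e1 : (ρ (h : G)).hom.appLE (Y ⊓ p ⁻¹ᵁ U) (Y ⊓ p ⁻¹ᵁ U)
      (stab_le ρ Y (p ⁻¹ᵁ U) (stable hP U) h hh) ≫ eps p Y U =
      eps p Y U ≫ (ρY h).hom.appLE ((Y.ι ≫ p) ⁻¹ᵁ U) ((Y.ι ≫ p) ⁻¹ᵁ U)
        (SGA1.preimage_le_of_inv ρY (Y.ι ≫ p) (inv ρ p hP H Y ρY hρY) h U) := by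
    unfold eps
    rw [Scheme.Hom.appLE_comp_appLE, Scheme.Hom.appLE_comp_appLE]
    exact (appLE_congr_hom (hρY h) _ _ _).symm
  have := congrArg (fun φ => φ.hom s₁) e1
  simp only [CommRingCat.hom_comp, RingHom.coe_comp, Function.comp_apply] at this
  exact this

end Sec

end Groth.Agent.Lib.Helper81.QuotInduce
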