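import Groth.Agent.Lib.Helper81.QuotInduce2

set_option autoImplicit false
set_option linter.style.haveILetI false
set_option linter.unusedSectionVars false
universe u
open CategoryTheory CategoryTheory.Limits AlgebraicGeometry Opposite TopologicalSpace

namespace Groth.Agent.Lib.Helper81.QuotInduce

open Groth.Agent.Lib.Helper81.Quot

variable {X XG : Scheme.{u}} {G : Type u} [Group G] (ρ : G →* Aut X) (p : X ⟶ XG)
  (hP : SGA1.IsQuot ρ p) (H : Subgroup G) (Y : X.Opens)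
  (hcov : ∀ x : X, ∃ g : G, x ∈ (ρ g).hom.base '' (Y : Set X))
  (hdisj : ∀ g : G, g ∉ H → Disjoint ((ρ g).hom.base '' (Y : Set X)) (Y : Set X))
  (ρY : H →* Aut (Y : Scheme.{u})) (hρY : ∀ h : H, (ρY h).hom ≫ Y.ι = Y.ι ≫ (ρ (h : G)).hom)

include hcov in
theorem cover_le (U : XG.Opens) : p ⁻¹ᵁ U ≤ iSup (fun g : G => T ρ Y g ⊓ p ⁻¹ᵁ U) := by
  intro x hx
  obtain ⟨g, hg⟩ := cover ρ Y hcov x
  exact Opens.mem_iSup.mpr ⟨g, hg, hx⟩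

include hP hcov in
theorem injective (U : XG.Opens) : Function.Injective ((Y.ι ≫ p).app U).hom := by
  intro t t' htt'
  apply hP.injective U
  rw [comp_app_eq, comp_app_eq] at htt'
  have h1 := (eps_bijective p Y U).injective htt'
  have hs : ∀ g, (sec ρ (p ⁻¹ᵁ U) (stable hP U) g).hom ((p.app U).hom t) = (p.app U).hom t :=
    fun g => sec_app ρ p hP.inv U g t
  have hs' : ∀ g, (sec ρ (p ⁻¹ᵁ U) (stable hP U) g).hom ((p.app U).hom t') = (p.app U).hom t' :=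
    fun g => sec_app ρ p hP.inv U g t'
  refine X.sheaf.eq_of_locally_eq' (fun g : G => T ρ Y g ⊓ p ⁻¹ᵁ U) (p ⁻¹ᵁ U)
    (fun g => homOfLE inf_le_right) (cover_le ρ p Y hcov U) _ _ ?_
  intro g
  have e1 := tau_res ρ Y (p ⁻¹ᵁ U) (stable hP U) g _ (hs g⁻¹)
  have e2 := tau_res ρ Y (p ⁻¹ᵁ U) (stable hP U) g _ (hs' g⁻¹)
  exact e1.symm.trans ((congrArg _ h1).trans e2)

include hP hcov hdisj hρY in
theorem range_iff (U : XG.Opens) (s₀ : Γ(Y, (Y.ι ≫ p) ⁻¹ᵁ U)) :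
    s₀ ∈ Set.range ((Y.ι ≫ p).app U).hom ↔
      ∀ h : H, ((ρY h).hom.appLE ((Y.ι ≫ p) ⁻¹ᵁ U) ((Y.ι ≫ p) ⁻¹ᵁ U)
        (SGA1.preimage_le_of_inv ρY (Y.ι ≫ p) (inv ρ p hP H Y ρY hρY) h U)).hom s₀ = s₀ := by
  constructor
  · rintro ⟨t, rfl⟩ h
    exact sec_app ρY (Y.ι ≫ p) (inv ρ p hP H Y ρY hρY) U h t
  · intro hs₀
    obtain ⟨s₁, rfl⟩ := (eps_bijective p Y U).surjective s₀
    have hstab := hstab_of ρ H Y ρY hρY
    have hYh : ∀ h : G, h ∈ H → (ρ h).hom ⁻¹ᵁ Y = Y := preimage_eq_of_mem ρ Y H hstab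
    have hs₁ : ∀ (h : G) (hh : h ∈ H), ((ρ h).hom.appLE (Y ⊓ p ⁻¹ᵁ U) (Y ⊓ p ⁻¹ᵁ U)
        (stab_le ρ Y (p ⁻¹ᵁ U) (stable hP U) h (hYh h hh))).hom s₁ = s₁ := by
      intro h hh
      apply (eps_bijective p Y U).injective
      have := eps_sec ρ p hP H Y ρY hρY U ⟨h, hh⟩ (hYh h hh) s₁
      exact this.trans (hs₀ ⟨h, hh⟩)
    let sf : ∀ g : G, Γ(X, T ρ Y g ⊓ p ⁻¹ᵁ U) :=
      fun g => (tau ρ Y (p ⁻¹ᵁ U) (stable hP U) g).hom s₁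
    have hcompat : TopCat.Presheaf.IsCompatible X.presheaf
        (fun g : G => T ρ Y g ⊓ p ⁻¹ᵁ U) sf := by
      intro g g'
      by_cases hgg : g⁻¹ * g' ∈ H
      · obtain ⟨h, hh, rfl⟩ : ∃ h, h ∈ H ∧ g' = g * h := ⟨g⁻¹ * g', hgg, by group⟩
        exact tau_compat ρ Y (p ⁻¹ᵁ U) (stable hP U) g h (hYh h⁻¹ (H.inv_mem hh)) _
          inf_le_left inf_le_right s₁ (hs₁ h⁻¹ (H.inv_mem hh))
      · have hbot : (T ρ Y g ⊓ p ⁻¹ᵁ U) ⊓ (T ρ Y g' ⊓ p ⁻¹ᵁ U) = ⊥ := by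
          rw [eq_bot_iff]
          intro x hx
          exact (hgg (mem_of_inter ρ Y H hdisj g g' x hx.1.1 hx.2.1)).elim
        haveI : Subsingleton Γ(X, (T ρ Y g ⊓ p ⁻¹ᵁ U) ⊓ (T ρ Y g' ⊓ p ⁻¹ᵁ U)) := by
          rw [hbot]; infer_instance
        exact Subsingleton.elim _ _
    obtain ⟨s, hs, -⟩ := X.sheaf.existsUnique_gluing' (fun g : G => T ρ Y g ⊓ p ⁻¹ᵁ U) (p ⁻¹ᵁ U)
      (fun g => homOfLE inf_le_right) (cover_le ρ p Y hcov U) sf hcompat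
    have hs' : ∀ g, (X.presheaf.map (homOfLE
        (inf_le_right : T ρ Y g ⊓ p ⁻¹ᵁ U ≤ p ⁻¹ᵁ U)).op).hom s =
          (tau ρ Y (p ⁻¹ᵁ U) (stable hP U) g).hom s₁ := hs
    have hinv : ∀ a : G, (sec ρ (p ⁻¹ᵁ U) (stable hP U) a).hom s = s := by
      intro a
      refine X.sheaf.eq_of_locally_eq' (fun g : G => T ρ Y g ⊓ p ⁻¹ᵁ U) (p ⁻¹ᵁ U)
        (fun g => homOfLE inf_le_right) (cover_le ρ p Y hcov U) _ _ ?_
      intro g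
      have hle : T ρ Y g ⊓ p ⁻¹ᵁ U ≤ (ρ a).hom ⁻¹ᵁ (T ρ Y (a * g) ⊓ p ⁻¹ᵁ U) := by
        intro x hx
        refine ⟨?_, stable hP U a hx.2⟩
        have : x ∈ (ρ a).hom ⁻¹ᵁ (T ρ Y (a * g)) := by
          rw [preimage_T, inv_mul_cancel_left]; exact hx.1
        exact this
      have e1 : sec ρ (p ⁻¹ᵁ U) (stable hP U) a ≫ X.presheaf.map (homOfLE
          (inf_le_right : T ρ Y g ⊓ p ⁻¹ᵁ U ≤ p ⁻¹ᵁ U)).op =
          X.presheaf.map (homOfLE (inf_le_right : T ρ Y (a * g) ⊓ p ⁻¹ᵁ U ≤ p ⁻¹ᵁ U)).op ≫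
            (ρ a).hom.appLE (T ρ Y (a * g) ⊓ p ⁻¹ᵁ U) (T ρ Y g ⊓ p ⁻¹ᵁ U) hle := by
        unfold sec
        rw [Scheme.Hom.appLE_map, Scheme.Hom.map_appLE]
      have h1 := congrArg (fun φ => φ.hom s) e1
      simp only [CommRingCat.hom_comp, RingHom.coe_comp, Function.comp_apply] at h1
      have h2 := tau_translate ρ Y (p ⁻¹ᵁ U) (stable hP U) a g s₁ hle
      rw [← hs' (a * g), ← hs' g] at h2
      exact h1.trans h2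
    obtain ⟨t, ht⟩ := (hP.range_iff U s).mpr hinv
    refine ⟨t, ?_⟩
    rw [comp_app_eq, ht]
    congr 1
    have hle1 : Y ⊓ p ⁻¹ᵁ U ≤ T ρ Y 1 ⊓ p ⁻¹ᵁ U := by rw [T_one]
    have h3 := tau_one ρ Y (p ⁻¹ᵁ U) (stable hP U) s₁ hle1
    rw [← hs' 1] at h3
    exact (map_map_apply X.presheaf _ _ _ s).symm.trans h3

include hP hcov hdisj hρY in
theorem isQuot : SGA1.IsQuot ρY (Y.ι ≫ p) :=
  ⟨isAffineHom ρ p hP H Y hcov hdisj ρY hρY, inv ρ p hP H Y ρY hρY,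
    injective ρ p hP Y hcov, range_iff ρ p hP H Y hcov hdisj ρY hρY⟩

end Groth.Agent.Lib.Helper81.QuotInduce
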