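import Mathlib
import Groth.Agent.Lib.Helper81.QuotDesc

set_option autoImplicit false
universe u v
open CategoryTheory TopologicalSpace Opposite AlgebraicGeometry Topology

namespace Groth.Agent.Lib.Helper81.SheafedQuot

open Groth.Agent.Lib.Helper81

variable {X Y Z : SheafedSpace CommRingCat.{u}}

theorem hom_ext_of_inj (π : X ⟶ Y) (hsurj : Function.Surjective π.hom.base)
    (hinj : ∀ V : Opens Y, Function.Injective (π.hom.c.app (op V)))
    (a b : Y ⟶ Z) (h : π ≫ a = π ≫ b) : a = b := by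
  obtain ⟨⟨abase, ac⟩⟩ := a
  obtain ⟨⟨bbase, bc⟩⟩ := b
  have w : abase = bbase := by
    have h1 : π.hom.base ≫ abase = π.hom.base ≫ bbase := congrArg (fun φ => φ.hom.base) h
    ext y
    obtain ⟨x, rfl⟩ := hsurj y
    exact ConcreteCategory.congr_hom h1 x
  subst w
  have hc : ac = bc := by
    ext W : 2
    have h2 := SheafedSpace.congr_hom_app h (op W)
    ext s
    apply hinj ((Opens.map abase).obj W)
    have h2' : ac.app (op W) ≫ π.hom.c.app (op ((Opens.map abase).obj W)) =
        (bc.app (op W) ≫ π.hom.c.app (op ((Opens.map abase).obj W))) ≫ X.presheaf.map (𝟙 _) := h2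
    have h2'' : ac.app (op W) ≫ π.hom.c.app (op ((Opens.map abase).obj W)) =
        bc.app (op W) ≫ π.hom.c.app (op ((Opens.map abase).obj W)) :=
      h2'.trans (by rw [X.presheaf.map_id]; exact Category.comp_id _)
    exact ConcreteCategory.congr_hom h2'' s
  subst hc
  rfl

theorem exists_desc_core (π : X ⟶ Y)
    (hinj : ∀ V : Opens Y, Function.Injective (π.hom.c.app (op V)))
    (fb : (Y : TopCat) ⟶ (Z : TopCat)) (fc : Z.presheaf ⟶ (π.hom.base ≫ fb) _* X.presheaf)
    (hr : ∀ (W : Opens Z) (s : Z.presheaf.obj (op W)),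
      (fc.app (op W)).hom s ∈ Set.range (π.hom.c.app (op ((Opens.map fb).obj W))).hom) :
    ∃ fbar : Y ⟶ Z, π ≫ fbar = ({ hom := { base := π.hom.base ≫ fb, c := fc } } : X ⟶ Z) := by
  choose ψ hψ using fun W : Opens Z =>
    exists_ringHom_lift (π.hom.c.app (op ((Opens.map fb).obj W))) (hinj _) (fc.app (op W)) (hr W)
  have hnat : ∀ (W W' : Opens Z) (i : op W ⟶ op W'),
      Z.presheaf.map i ≫ ψ W' = ψ W ≫ (fb _* Y.presheaf).map i := by
    intro W W' i
    have : Mono (π.hom.c.app (op ((Opens.map fb).obj W'))) :=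
      ConcreteCategory.mono_of_injective _ (hinj _)
    rw [← cancel_mono (π.hom.c.app (op ((Opens.map fb).obj W')))]
    have e1 : (Z.presheaf.map i ≫ ψ W') ≫ π.hom.c.app (op ((Opens.map fb).obj W')) =
        Z.presheaf.map i ≫ fc.app (op W') :=
      (Category.assoc _ _ _).trans (congrArg (fun φ => Z.presheaf.map i ≫ φ) (hψ W'))
    have e2 : (ψ W ≫ (fb _* Y.presheaf).map i) ≫ π.hom.c.app (op ((Opens.map fb).obj W')) =
        (ψ W ≫ π.hom.c.app (op ((Opens.map fb).obj W))) ≫
          (π.hom.base _* X.presheaf).map ((Opens.map fb).op.map i) := by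
      rw [Category.assoc, Category.assoc]
      congr 1
      exact π.hom.c.naturality ((Opens.map fb).op.map i)
    refine e1.trans (Eq.trans ?_ e2.symm)
    refine (fc.naturality i).trans ?_
    exact (congrArg (fun φ => φ ≫ X.presheaf.map ((Opens.map (π.hom.base ≫ fb)).op.map i))
      (hψ W)).symm
  let c : Z.presheaf ⟶ fb _* Y.presheaf :=
    { app := fun W => ψ (unop W)
      naturality := fun W W' i => hnat (unop W) (unop W') i }
  refine ⟨({ hom := { base := fb, c := c } } : Y ⟶ Z), ?_⟩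
  refine SheafedSpace.ext _ _ rfl ?_
  refine NatTrans.ext (funext fun W => ?_)
  obtain ⟨W⟩ := W
  change (ψ W ≫ π.hom.c.app (op ((Opens.map fb).obj W))) ≫ X.presheaf.map (𝟙 _) = fc.app (op W)
  refine (congrArg (fun φ => φ ≫ X.presheaf.map (𝟙 _)) (hψ W)).trans ?_
  rw [X.presheaf.map_id]
  exact Category.comp_id _

theorem main (X Y : SheafedSpace CommRingCat.{u}) (Γ : Type v) [Group Γ]
    (τ : Γ →* Aut X) (π : X ⟶ Y) (hτ : ∀ g : Γ, (τ g).hom ≫ π = π)
    (h1 : IsQuotientMap π.hom.base)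
    (h2 : ∀ x x' : X, π.hom.base x = π.hom.base x' ↔ ∃ g : Γ, (τ g).hom.hom.base x = x')
    (h3 : ∀ V : Opens Y, Function.Injective (π.hom.c.app (op V)) ∧
      Set.range (π.hom.c.app (op V)) =
        {s | ∀ g : Γ, (τ g).hom.hom.c.app (op ((Opens.map π.hom.base).obj V)) s =
          X.presheaf.map (eqToHom (congrArg (fun f : X ⟶ Y => op ((Opens.map f.hom.base).obj V))
            (hτ g).symm)) s})
    (Z : SheafedSpace CommRingCat.{u}) (f : X ⟶ Z) (hf : ∀ g : Γ, (τ g).hom ≫ f = f) :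
    ∃! fbar : Y ⟶ Z, π ≫ fbar = f := by
  have hsurj : Function.Surjective π.hom.base := h1.surjective
  have hinj : ∀ V : Opens Y, Function.Injective (π.hom.c.app (op V)) := fun V => (h3 V).1
  suffices h : ∃ fbar : Y ⟶ Z, π ≫ fbar = f by
    obtain ⟨fbar, hfbar⟩ := h
    exact ⟨fbar, hfbar, fun b hb => hom_ext_of_inj π hsurj hinj b fbar (hb.trans hfbar.symm)⟩
  have hfib : ∀ x x' : X, π.hom.base x = π.hom.base x' → f.hom.base x = f.hom.base x' := by
    intro x x' hxx'
    obtain ⟨g, rfl⟩ := (h2 x x').mp hxx'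
    have h4 : (τ g).hom.hom.base ≫ f.hom.base = f.hom.base := congrArg (fun φ => φ.hom.base) (hf g)
    exact (ConcreteCategory.congr_hom h4 x).symm
  have h1' : IsQuotientMap (π.hom.base.hom : C(X, Y)) := h1
  obtain ⟨fb, hb⟩ : ∃ fb : (Y : TopCat) ⟶ (Z : TopCat), π.hom.base ≫ fb = f.hom.base := by
    refine ⟨TopCat.ofHom (h1'.lift f.hom.base.hom hfib), ?_⟩
    ext x
    exact congrFun (congrArg DFunLike.coe (h1'.lift_comp f.hom.base.hom hfib)) x
  obtain ⟨⟨fbase, fc⟩⟩ := f
  dsimp only at hb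
  subst hb
  apply exists_desc_core π hinj fb fc
  intro W s
  have h5 := (h3 ((Opens.map fb).obj W)).2
  have h6 : (fc.app (op W)).hom s ∈ Set.range (π.hom.c.app (op ((Opens.map fb).obj W))) := by
    rw [h5]
    intro g
    have h4 := SheafedSpace.congr_hom_app (hf g) (op W)
    exact ConcreteCategory.congr_hom h4 s
  exact h6

end Groth.Agent.Lib.Helper81.SheafedQuot
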