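import Groth.Prelude.Def_SpSeq
import Groth.Agent.Lib.Helper81.SubobjectImage
import Mathlib.Order.Interval.Finset.Basic
import Mathlib.Data.Int.Interval

set_option autoImplicit false
universe v u
open CategoryTheory CategoryTheory.Limits

namespace Groth.Agent.Lib.Helper81

open SpSeq SpSeq.FilCx

variable {A : Type u} [Category.{v} A] [Abelian A]

lemma pullback_bot_eq_kernel {X Y : A} (f : X ⟶ Y) :
    (Subobject.pullback f).obj ⊥ = kernelSubobject f := by
  apply le_antisymm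
  · rw [Subobject.pullback_obj]
    refine Subobject.mk_le_of_comm
      (kernel.lift f (pullback.snd _ _) (by rw [← pullback.condition, Subobject.bot_arrow, comp_zero]) ≫
        (kernelSubobjectIso f).inv) (by simp)
  · exact SpSeq.FilCx.kernelSubobject_le_pullback f ⊥

lemma imageSubobject_arrow_comp_of_eq_top {X Y : A} (S : Subobject X) (hS : S = ⊤) (f : X ⟶ Y) :
    imageSubobject (S.arrow ≫ f) = imageSubobject f := by
  subst hS
  exact imageSubobject_iso_comp _ f

lemma isZero_subquot_of_eq {X : A} (Z B : Subobject X) (h : B ≤ Z) (e : B = Z) :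
    IsZero (SpSeq.subquot Z B h) := by
  subst e
  unfold SpSeq.subquot
  haveI : IsIso (B.ofLE B h) := by
    rw [Subobject.ofLE_refl]
    infer_instance
  exact isZero_cokernel_of_epi _

section fil

variable (K : SpSeq.FilCx A)

lemma filX_eq_bot_of_le (n : ℤ) {b p : ℤ} (hb : K.filX b n = ⊥) (hp : b ≤ p) : K.filX p n = ⊥ := by
  rw [← le_bot_iff, ← hb]
  exact K.filX_anti n hp

lemma filX_eq_top_of_le (n : ℤ) {a p : ℤ} (ha : K.filX a n = ⊤) (hp : p ≤ a) : K.filX p n = ⊤ := by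
  rw [← top_le_iff, ← ha]
  exact K.filX_anti n hp

lemma isZero_E_of_filX_eq_bot (r : ℕ) (p n : ℤ) (h : K.filX p n = ⊥) : IsZero (K.E r p n) := by
  apply isZero_subquot_of_eq
  have h1 : K.filX (p + 1) n = ⊥ := filX_eq_bot_of_le K n h (by omega)
  have hZ : K.ZSub r p n = ⊥ := by
    unfold SpSeq.FilCx.ZSub
    rw [h, h1, bot_inf_eq, bot_sup_eq]
  rw [hZ, ← le_bot_iff, ← hZ]
  exact K.BSub_le_ZSub r p n

lemma isZero_E_of_filX_succ_eq_top (r : ℕ) (p n : ℤ) (h : K.filX (p + 1) n = ⊤) :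
    IsZero (K.E r p n) := by
  apply isZero_subquot_of_eq
  have hB : K.BSub r p n = ⊤ := by
    unfold SpSeq.FilCx.BSub
    rw [h, sup_top_eq]
  rw [hB, eq_comm, ← top_le_iff, ← hB]
  exact K.BSub_le_ZSub r p n

lemma isBounded_of_finite (r : ℕ) (hK : ∀ n : ℤ, (K.XFil n).IsFinite) : K.IsBounded r := by
  intro n
  obtain ⟨⟨a, ha⟩, ⟨b, hb⟩⟩ := hK n
  refine (Set.finite_Ico a b).subset ?_
  intro p hp
  rw [Set.mem_setOf_eq] at hp
  rw [Set.mem_Ico]
  by_contra hcon
  rw [not_and_or, not_le, not_lt] at hcon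
  apply hp
  rcases hcon with h | h
  · exact isZero_E_of_filX_succ_eq_top K r p n (filX_eq_top_of_le K n ha (by omega))
  · exact isZero_E_of_filX_eq_bot K r p n (filX_eq_bot_of_le K n hb h)

lemma ZSub_eq_ZTop_of_bot (r : ℕ) (p n : ℤ) (h : K.filX (p + r) (n + 1) = ⊥) :
    K.ZSub r p n = K.ZTop p n := by
  unfold SpSeq.FilCx.ZSub SpSeq.FilCx.ZTop
  rw [h, pullback_bot_eq_kernel]

lemma ZTop_le_ZSub (r : ℕ) (p n : ℤ) : K.ZTop p n ≤ K.ZSub r p n := by
  unfold SpSeq.FilCx.ZSub SpSeq.FilCx.ZTop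
  exact sup_le_sup_right (inf_le_inf_left _ (SpSeq.FilCx.kernelSubobject_le_pullback _ _)) _

lemma BSub_eq_BBot_of_top (r : ℕ) (p n : ℤ) (h : K.filX (p - r + 1) (n - 1) = ⊤) :
    K.BSub r p n = K.BBot p n := by
  unfold SpSeq.FilCx.BSub SpSeq.FilCx.BBot
  rw [imageSubobject_arrow_comp_of_eq_top _ h]

lemma BSub_le_BBot (r : ℕ) (p n : ℤ) : K.BSub r p n ≤ K.BBot p n := by
  unfold SpSeq.FilCx.BSub SpSeq.FilCx.BBot
  exact sup_le_sup_right (inf_le_inf_left _ (imageSubobject_comp_le _ _)) _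

lemma isRegular_of_finite (hK : ∀ n : ℤ, (K.XFil n).IsFinite) : K.IsRegular := by
  intro p n
  obtain ⟨-, ⟨b, hb⟩⟩ := hK (n + 1)
  refine ⟨(b - p).toNat, fun r hr => ?_⟩
  rw [ZSub_eq_ZTop_of_bot K r p n (filX_eq_bot_of_le K (n + 1) hb (by omega)),
    ZSub_eq_ZTop_of_bot K _ p n (filX_eq_bot_of_le K (n + 1) hb (by omega))]

lemma weaklyConverges_of_finite (hK : ∀ n : ℤ, (K.XFil n).IsFinite) : K.WeaklyConverges := by
  intro p n
  constructor
  · obtain ⟨-, ⟨b, hb⟩⟩ := hK (n + 1)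
    constructor
    · rintro _ ⟨r, rfl⟩
      exact ZTop_le_ZSub K r p n
    · intro S hS
      have := hS ⟨(b - p).toNat, rfl⟩
      dsimp only at this
      rwa [ZSub_eq_ZTop_of_bot K _ p n (filX_eq_bot_of_le K (n + 1) hb (by omega))] at this
  · obtain ⟨⟨a, ha⟩, -⟩ := hK (n - 1)
    constructor
    · rintro _ ⟨r, rfl⟩
      exact BSub_le_BBot K r p n
    · intro S hS
      have := hS ⟨(p + 1 - a).toNat, rfl⟩
      dsimp only at this
      rwa [BSub_eq_BBot_of_top K _ p n (filX_eq_top_of_le K (n - 1) ha (by omega))] at this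

end fil

section filobj

lemma isSeparated_of_isDiscrete (L : SpSeq.FilObj A) (h : L.IsDiscrete) : L.IsSeparated := by
  obtain ⟨b, hb⟩ := h
  constructor
  · rintro _ ⟨p, rfl⟩
    exact bot_le
  · intro S hS
    rw [← hb]
    exact hS ⟨b, rfl⟩

lemma isExhaustive_of_isCodiscrete (L : SpSeq.FilObj A) (h : L.IsCodiscrete) : L.IsExhaustive := by
  obtain ⟨a, ha⟩ := h
  constructor
  · rintro _ ⟨p, rfl⟩
    exact le_top
  · intro S hS
    rw [← ha]
    exact hS ⟨a, rfl⟩

lemma isIso_cokernel_π_of_eq_bot {X : A} (S : Subobject X) (h : S = ⊥) : IsIso (cokernel.π S.arrow) := by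
  subst h
  have : (⊥ : Subobject X).arrow = 0 := Subobject.bot_arrow
  have h2 : IsIso (cokernel.π (0 : ((⊥ : Subobject X) : A) ⟶ X)) := inferInstance
  convert h2

lemma π_quotMap (L : SpSeq.FilObj A) {p q : ℤ} (h : p ≤ q) :
    cokernel.π (L.fil q).arrow ≫ L.quotMap h = cokernel.π (L.fil p).arrow := by
  unfold SpSeq.FilObj.quotMap
  exact cokernel.π_desc _ _ _

lemma isComplete_of_isDiscrete (L : SpSeq.FilObj A) (h : L.IsDiscrete) : L.IsComplete := by
  obtain ⟨b, hb⟩ := h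
  intro T f hf
  haveI := isIso_cokernel_π_of_eq_bot (L.fil b) hb
  refine ⟨f b ≫ inv (cokernel.π (L.fil b).arrow), fun p => ?_⟩
  rcases le_total p b with hp | hp
  · rw [← π_quotMap L hp, Category.assoc, IsIso.inv_hom_id_assoc, hf p b hp]
  · have hp' : L.fil p = ⊥ := by
      rw [← le_bot_iff, ← hb]
      exact L.anti hp
    haveI := isIso_cokernel_π_of_eq_bot (L.fil p) hp'
    have hiso : IsIso (L.quotMap hp) := by
      have e := π_quotMap L hp
      have : L.quotMap hp = inv (cokernel.π (L.fil p).arrow) ≫ cokernel.π (L.fil b).arrow := by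
        rw [← e, IsIso.inv_hom_id_assoc]
      rw [this]
      infer_instance
    rw [← cancel_mono (L.quotMap hp), Category.assoc, π_quotMap L hp, Category.assoc,
      IsIso.inv_hom_id, Category.comp_id, hf b p hp]

end filobj

end Groth.Agent.Lib.Helper81
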