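import Mathlib
import Groth.Prelude.Def_SpSeq
import Groth.Agent.Lib.Helper81.SubElem
import Groth.Agent.Lib.Helper81.SpSeqFinite

set_option autoImplicit false
set_option linter.unusedSectionVars false
set_option linter.style.haveILetI false
universe v u
open CategoryTheory CategoryTheory.Limits

namespace Groth.Agent.Lib.Helper81.SpSeqChase

open SpSeq SpSeq.FilCx Groth.Agent.Lib.Helper81

variable {A : Type u} [Category.{v} A] [Abelian A] (K : SpSeq.FilCx A)

theorem filX_factors (p n : ℤ) {W : A} (a : W ⟶ K.obj.X n) :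
    (K.filX p n).Factors a ↔
      ∃ c : W ⟶ (K.fil p : CochainComplex A ℤ).X n, c ≫ (K.fil p).arrow.f n = a := by
  unfold SpSeq.FilCx.filX
  exact SubElem.mk_factors _ _

theorem ZSub_le_ZTop (r : ℕ) (hr : 1 ≤ r) (p n : ℤ)
    (hm : Mono (HomologicalComplex.homologyMap (K.fil (p + r)).arrow (n + 1))) :
    K.ZSub r p n ≤ K.ZTop p n := by
  rw [SubElem.le_iff]
  intro W a ha
  unfold SpSeq.FilCx.ZSub at ha
  unfold SpSeq.FilCx.ZTop
  obtain ⟨W₁, π₁, hπ₁, s, t, hs, ht, hst⟩ := (SubElem.sup_factors _ _ a).mp ha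
  rw [Subobject.inf_factors] at hs
  obtain ⟨hs1, hs2⟩ := hs
  rw [SubElem.pullback_factors] at hs2
  obtain ⟨c, hc⟩ := (filX_factors K (p + r) (n + 1) _).mp hs2
  have hcd : c ≫ (K.fil (p + r) : CochainComplex A ℤ).d (n + 1) (n + 1 + 1) = 0 := by
    rw [← cancel_mono ((K.fil (p + r)).arrow.f (n + 1 + 1)), Category.assoc,
      ← HomologicalComplex.Hom.comm, ← Category.assoc, hc, Category.assoc,
      HomologicalComplex.d_comp_d, comp_zero, zero_comp]
  obtain ⟨W₂, π₂, hπ₂, y, hy⟩ := (HomologicalComplex.mono_homologyMap_iff_up_to_refinements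
    (K.fil (p + r)).arrow n (n + 1) (n + 1 + 1) (by simp) (by simp)).mp hm c hcd s hc
  haveI : Epi (π₂ ≫ π₁) := epi_comp _ _
  refine SubElem.factors_of_epi_comp _ (π₂ ≫ π₁) a ?_
  have hsum : (π₂ ≫ π₁) ≫ a = (π₂ ≫ s - y ≫ (K.fil (p + r)).arrow.f n) +
      (y ≫ (K.fil (p + r)).arrow.f n + π₂ ≫ t) := by
    rw [Category.assoc, hst, Preadditive.comp_add]
    abel
  have hyF : (K.filX (p + r) n).Factors (y ≫ (K.fil (p + r)).arrow.f n) :=
    (filX_factors K (p + r) n _).mpr ⟨y, rfl⟩
  rw [hsum]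
  apply Subobject.factors_add
  · apply Subobject.factors_of_le _ le_sup_left
    rw [Subobject.inf_factors]
    constructor
    · apply SubElem.factors_sub
      · exact Subobject.factors_of_factors_right _ hs1
      · exact Subobject.factors_of_le _ (K.filX_anti n (by omega : p ≤ p + r)) hyF
    · rw [kernelSubobject_factors_iff, Preadditive.sub_comp, Category.assoc, Category.assoc,
        ← hc, HomologicalComplex.Hom.comm, ← Category.assoc, ← Category.assoc, hy, sub_self]
  · apply Subobject.factors_of_le _ le_sup_right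
    apply Subobject.factors_add
    · exact Subobject.factors_of_le _ (K.filX_anti n (by omega : p + 1 ≤ p + r)) hyF
    · exact Subobject.factors_of_factors_right _ ht

theorem BBot_le_BSub (r : ℕ) (hr : 1 ≤ r) (p n : ℤ)
    (hm : Mono (HomologicalComplex.homologyMap (K.fil (p - r + 1)).arrow n)) :
    K.BBot p n ≤ K.BSub r p n := by
  rw [SubElem.le_iff]
  intro W a ha
  unfold SpSeq.FilCx.BBot at ha
  unfold SpSeq.FilCx.BSub
  obtain ⟨W₁, π₁, hπ₁, s, t, hs, ht, hst⟩ := (SubElem.sup_factors _ _ a).mp ha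
  rw [Subobject.inf_factors] at hs
  obtain ⟨hs1, hs2⟩ := hs
  obtain ⟨W₂, π₂, hπ₂, w, hw⟩ := (SubElem.image_factors _ s).mp hs2
  have hsq : (K.filX (p - r + 1) n).Factors s :=
    Subobject.factors_of_le _ (K.filX_anti n (by omega)) hs1
  obtain ⟨c, hc⟩ := (filX_factors K _ n s).mp hsq
  have hcd : (π₂ ≫ c) ≫ (K.fil (p - r + 1) : CochainComplex A ℤ).d n (n + 1) = 0 := by
    rw [← cancel_mono ((K.fil (p - r + 1)).arrow.f (n + 1)), zero_comp, Category.assoc,
      Category.assoc, ← HomologicalComplex.Hom.comm, ← Category.assoc c, hc, ← Category.assoc,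
      hw, Category.assoc, HomologicalComplex.d_comp_d, comp_zero]
  obtain ⟨W₃, π₃, hπ₃, x₁, hx₁⟩ := (HomologicalComplex.mono_homologyMap_iff_up_to_refinements
    (K.fil (p - r + 1)).arrow (n - 1) n (n + 1) (by simp) (by simp)).mp hm (π₂ ≫ c) hcd w
      (by rw [Category.assoc, hc, hw])
  haveI : Epi (π₂ ≫ π₁) := epi_comp _ _
  haveI : Epi (π₃ ≫ π₂ ≫ π₁) := epi_comp _ _
  refine SubElem.factors_of_epi_comp _ (π₃ ≫ π₂ ≫ π₁) a ?_
  have hsum : (π₃ ≫ π₂ ≫ π₁) ≫ a = π₃ ≫ π₂ ≫ s + π₃ ≫ π₂ ≫ t := by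
    simp only [Category.assoc, hst, Preadditive.comp_add]
  rw [hsum]
  apply Subobject.factors_add
  · apply Subobject.factors_of_le _ le_sup_left
    rw [Subobject.inf_factors]
    refine ⟨Subobject.factors_of_factors_right _ (Subobject.factors_of_factors_right _ hs1), ?_⟩
    rw [SubElem.image_factors]
    have hfac : (K.filX (p - r + 1) (n - 1)).Factors
        (x₁ ≫ (K.fil (p - r + 1)).arrow.f (n - 1)) :=
      (filX_factors K _ (n - 1) _).mpr ⟨x₁, rfl⟩
    refine ⟨W₃, 𝟙 _, inferInstance, (K.filX _ (n - 1)).factorThru _ hfac, ?_⟩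
    rw [Category.id_comp, ← Category.assoc ((K.filX _ _).factorThru _ hfac),
      Subobject.factorThru_arrow, Category.assoc, HomologicalComplex.Hom.comm,
      ← Category.assoc x₁, ← hx₁]
    simp only [Category.assoc, hc]
  · exact Subobject.factors_of_le _ le_sup_right
      (Subobject.factors_of_factors_right _ (Subobject.factors_of_factors_right _ ht))

theorem ZTop_le_aux (p q n : ℤ) (hq : q = p)
    (he : Epi (HomologicalComplex.homologyMap (K.stepLE (show p ≤ p + 1 by omega)) n)) :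
    K.ZTop p n ≤ (K.filX p n ⊓ imageSubobject ((K.filX q (n - 1)).arrow ≫ K.obj.d (n - 1) n)) ⊔
      K.filX (p + 1) n := by
  subst hq
  rw [SubElem.le_iff]
  intro W a ha
  unfold SpSeq.FilCx.ZTop at ha
  obtain ⟨W₁, π₁, hπ₁, s, t, hs, ht, hst⟩ := (SubElem.sup_factors _ _ a).mp ha
  rw [Subobject.inf_factors] at hs
  obtain ⟨hs1, hs2⟩ := hs
  rw [kernelSubobject_factors_iff] at hs2
  obtain ⟨c, hc⟩ := (filX_factors K q n s).mp hs1
  have hcd : c ≫ (K.fil q : CochainComplex A ℤ).d n (n + 1) = 0 := by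
    rw [← cancel_mono ((K.fil q).arrow.f (n + 1)), zero_comp, Category.assoc,
      ← HomologicalComplex.Hom.comm, ← Category.assoc, hc, hs2]
  obtain ⟨W₂, π₂, hπ₂, x₂, hx₂, y₁, hxy⟩ :=
    (HomologicalComplex.epi_homologyMap_iff_up_to_refinements
      (K.stepLE (show q ≤ q + 1 by omega)) (n - 1) n (n + 1) (by simp) (by simp)).mp he c hcd
  haveI : Epi (π₂ ≫ π₁) := epi_comp _ _
  refine SubElem.factors_of_epi_comp _ (π₂ ≫ π₁) a ?_
  have hstep : (K.stepLE (show q ≤ q + 1 by omega)).f n ≫ (K.fil q).arrow.f n =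
      (K.fil (q + 1)).arrow.f n := by
    rw [← HomologicalComplex.comp_f, Subobject.ofLE_arrow]
  have hsum : (π₂ ≫ π₁) ≫ a = (y₁ ≫ (K.fil q).arrow.f (n - 1)) ≫ K.obj.d (n - 1) n +
      (x₂ ≫ (K.fil (q + 1)).arrow.f n + π₂ ≫ t) := by
    rw [Category.assoc, hst, Preadditive.comp_add, ← hc, ← Category.assoc π₂, hxy,
      Preadditive.add_comp, Category.assoc, hstep, Category.assoc, Category.assoc,
      HomologicalComplex.Hom.comm]
    abel
  rw [hsum]
  apply Subobject.factors_add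
  · apply Subobject.factors_of_le _ le_sup_left
    rw [Subobject.inf_factors]
    constructor
    · rw [Category.assoc, HomologicalComplex.Hom.comm, ← Category.assoc]
      exact (filX_factors K q n _).mpr ⟨_, rfl⟩
    · rw [SubElem.image_factors]
      have hfac : (K.filX q (n - 1)).Factors (y₁ ≫ (K.fil q).arrow.f (n - 1)) :=
        (filX_factors K _ (n - 1) _).mpr ⟨y₁, rfl⟩
      refine ⟨W₂, 𝟙 _, inferInstance, (K.filX _ (n - 1)).factorThru _ hfac, ?_⟩
      rw [Category.id_comp, ← Category.assoc ((K.filX _ _).factorThru _ hfac),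
        Subobject.factorThru_arrow]
  · apply Subobject.factors_of_le _ le_sup_right
    apply Subobject.factors_add
    · exact (filX_factors K (q + 1) n _).mpr ⟨x₂, rfl⟩
    · exact Subobject.factors_of_factors_right _ ht

theorem ZTop_le_BSub_one (p n : ℤ)
    (he : Epi (HomologicalComplex.homologyMap (K.stepLE (show p ≤ p + 1 by omega)) n)) :
    K.ZTop p n ≤ K.BSub 1 p n := by
  unfold SpSeq.FilCx.BSub
  exact ZTop_le_aux K p (p - ((1 : ℕ) : ℤ) + 1) n (by simp) he

end Groth.Agent.Lib.Helper81.SpSeqChase
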