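import Mathlib
import Groth.Prelude.Def_SpSeq
import Groth.Agent.Lib.Helper81.SubElem

set_option autoImplicit false
set_option linter.unusedSectionVars false
set_option linter.style.haveILetI false
universe v u
open CategoryTheory CategoryTheory.Limits

namespace Groth.Agent.Lib.Helper81.SubQuot

open Groth.Agent.Lib.Helper81.SubElem SpSeq

variable {A : Type u} [Category.{v} A] [Abelian A] {X : A}

section Basic

variable (Z B : Subobject X) (h : B ≤ Z)

noncomputable def proj : (Z : A) ⟶ subquot Z B h := cokernel.π (B.ofLE Z h)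

instance : Epi (proj Z B h) := inferInstanceAs (Epi (cokernel.π (B.ofLE Z h)))

theorem ofLE_proj : B.ofLE Z h ≫ proj Z B h = 0 := cokernel.condition (B.ofLE Z h)

noncomputable def desc {T : A} (g : (Z : A) ⟶ T) (hg : B.ofLE Z h ≫ g = 0) : subquot Z B h ⟶ T :=
  cokernel.desc (B.ofLE Z h) g hg

theorem proj_desc {T : A} (g : (Z : A) ⟶ T) (hg : B.ofLE Z h ≫ g = 0) :
    proj Z B h ≫ desc Z B h g hg = g := cokernel.π_desc (B.ofLE Z h) g hg

theorem proj_eq_zero_iff {W : A} (a : W ⟶ (Z : A)) :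
    a ≫ proj Z B h = 0 ↔ B.Factors (a ≫ Z.arrow) := by
  constructor
  · intro h0
    have hb := Abelian.monoLift_comp (B.ofLE Z h) a h0
    have : a ≫ Z.arrow = Abelian.monoLift (B.ofLE Z h) a h0 ≫ B.arrow := by
      rw [← Subobject.ofLE_arrow h, ← Category.assoc, hb]
    rw [this]
    exact Subobject.factors_comp_arrow _
  · intro hf
    have : a = B.factorThru _ hf ≫ B.ofLE Z h := by
      rw [← cancel_mono Z.arrow, Category.assoc, Subobject.ofLE_arrow, Subobject.factorThru_arrow]
    rw [this, Category.assoc, ofLE_proj, comp_zero]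

theorem exact_ofLE_proj :
    (ShortComplex.mk (B.ofLE Z h) (proj Z B h) (ofLE_proj Z B h)).Exact := by
  rw [ShortComplex.exact_iff_exact_up_to_refinements]
  intro W x₂ hx₂
  dsimp at x₂ hx₂ ⊢
  have hf := (proj_eq_zero_iff Z B h x₂).mp hx₂
  refine ⟨W, 𝟙 W, inferInstance, B.factorThru _ hf, ?_⟩
  rw [Category.id_comp, ← cancel_mono Z.arrow, Category.assoc, Subobject.ofLE_arrow,
    Subobject.factorThru_arrow]

variable (S : Subobject X) (hS : S ≤ Z)

noncomputable def toSubquot : (S : A) ⟶ subquot Z B h := S.ofLE Z hS ≫ proj Z B h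

theorem toSubquot_eq_zero_iff {W : A} (a : W ⟶ (S : A)) :
    a ≫ toSubquot Z B h S hS = 0 ↔ B.Factors (a ≫ S.arrow) := by
  unfold toSubquot
  rw [← Category.assoc, proj_eq_zero_iff, Category.assoc, Subobject.ofLE_arrow]

theorem epi_toSubquot (hZ : Z ≤ S ⊔ B) : Epi (toSubquot Z B h S hS) := by
  rw [epi_iff_surjective_up_to_refinements]
  intro W y
  obtain ⟨W₁, π₁, hπ₁, z, hz⟩ := surjective_up_to_refinements_of_epi (proj Z B h) y
  have hzf : (S ⊔ B).Factors (z ≫ Z.arrow) :=
    Subobject.factors_of_le _ hZ (Subobject.factors_comp_arrow z)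
  obtain ⟨W₂, π₂, hπ₂, s, b, hs, hb, hsb⟩ := (sup_factors _ _ _).mp hzf
  refine ⟨W₂, π₂ ≫ π₁, inferInstance, S.factorThru s hs, ?_⟩
  have hdecomp : π₂ ≫ z = S.factorThru s hs ≫ S.ofLE Z hS + B.factorThru b hb ≫ B.ofLE Z h := by
    rw [← cancel_mono Z.arrow]
    simp only [Preadditive.add_comp, Category.assoc, Subobject.ofLE_arrow,
      Subobject.factorThru_arrow]
    exact hsb
  have hB : (B.factorThru b hb ≫ B.ofLE Z h) ≫ proj Z B h = 0 := by
    rw [Category.assoc, ofLE_proj, comp_zero]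
  unfold toSubquot
  rw [Category.assoc, hz, ← Category.assoc π₂, hdecomp, Preadditive.add_comp, hB, add_zero,
    Category.assoc]

end Basic

theorem exists_iso_of_epi {S Q Q' : A} (φ : S ⟶ Q) (ψ : S ⟶ Q') [Epi φ] [Epi ψ]
    (hk : ∀ ⦃W : A⦄ (a : W ⟶ S), a ≫ φ = 0 ↔ a ≫ ψ = 0) : ∃ e : Q ≅ Q', φ ≫ e.hom = ψ := by
  have h1 : kernel.ι φ ≫ ψ = 0 := (hk _).mp (kernel.condition φ)
  have h2 : kernel.ι ψ ≫ φ = 0 := (hk _).mpr (kernel.condition ψ)
  refine ⟨⟨Abelian.epiDesc φ ψ h1, Abelian.epiDesc ψ φ h2, ?_, ?_⟩, Abelian.comp_epiDesc φ ψ h1⟩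
  · rw [← cancel_epi φ, ← Category.assoc, Abelian.comp_epiDesc, Abelian.comp_epiDesc,
      Category.comp_id]
  · rw [← cancel_epi ψ, ← Category.assoc, Abelian.comp_epiDesc, Abelian.comp_epiDesc,
      Category.comp_id]

section Third

variable (B M Z : Subobject X) (hBM : B ≤ M) (hMZ : M ≤ Z)

noncomputable def incl : subquot M B hBM ⟶ subquot Z B (hBM.trans hMZ) :=
  desc M B hBM (toSubquot Z B (hBM.trans hMZ) M hMZ) (by
    unfold toSubquot
    rw [← Category.assoc, Subobject.ofLE_comp_ofLE, ofLE_proj])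

theorem proj_incl : proj M B hBM ≫ incl B M Z hBM hMZ = toSubquot Z B (hBM.trans hMZ) M hMZ :=
  proj_desc _ _ _ _ _

noncomputable def quot : subquot Z B (hBM.trans hMZ) ⟶ subquot Z M hMZ :=
  desc Z B (hBM.trans hMZ) (proj Z M hMZ) (by
    rw [← Subobject.ofLE_comp_ofLE B M Z hBM hMZ, Category.assoc, ofLE_proj, comp_zero])

theorem proj_quot : proj Z B (hBM.trans hMZ) ≫ quot B M Z hBM hMZ = proj Z M hMZ :=
  proj_desc _ _ _ _ _

instance : Epi (quot B M Z hBM hMZ) :=
  epi_of_epi_fac (proj_quot B M Z hBM hMZ)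

theorem incl_quot : incl B M Z hBM hMZ ≫ quot B M Z hBM hMZ = 0 := by
  rw [← cancel_epi (proj M B hBM), ← Category.assoc, proj_incl, comp_zero]
  unfold toSubquot
  rw [Category.assoc, proj_quot, ofLE_proj]

instance : Mono (incl B M Z hBM hMZ) := by
  apply Preadditive.mono_of_cancel_zero
  intro W g hg
  obtain ⟨W₁, π₁, hπ₁, m, hm⟩ := surjective_up_to_refinements_of_epi (proj M B hBM) g
  have h1 : m ≫ toSubquot Z B (hBM.trans hMZ) M hMZ = 0 := by
    rw [← proj_incl B M Z hBM hMZ, ← Category.assoc, ← hm, Category.assoc, hg, comp_zero]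
  have h2 := (toSubquot_eq_zero_iff Z B _ M hMZ m).mp h1
  have h3 : m ≫ proj M B hBM = 0 := (proj_eq_zero_iff M B hBM m).mpr h2
  rw [← cancel_epi π₁, hm, h3, comp_zero]

theorem exact : (ShortComplex.mk (incl B M Z hBM hMZ) (quot B M Z hBM hMZ)
    (incl_quot B M Z hBM hMZ)).Exact := by
  rw [ShortComplex.exact_iff_exact_up_to_refinements]
  intro W x₂ hx₂
  dsimp at x₂ hx₂ ⊢
  obtain ⟨W₁, π₁, hπ₁, z, hz⟩ :=
    surjective_up_to_refinements_of_epi (proj Z B (hBM.trans hMZ)) x₂
  have h1 : z ≫ proj Z M hMZ = 0 := by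
    rw [← proj_quot B M Z hBM hMZ, ← Category.assoc, ← hz, Category.assoc, hx₂, comp_zero]
  have h2 := (proj_eq_zero_iff Z M hMZ z).mp h1
  refine ⟨W₁, π₁, hπ₁, M.factorThru _ h2 ≫ proj M B hBM, ?_⟩
  have h3 : M.factorThru _ h2 ≫ M.ofLE Z hMZ = z := by
    rw [← cancel_mono Z.arrow, Category.assoc, Subobject.ofLE_arrow, Subobject.factorThru_arrow]
  rw [Category.assoc, proj_incl, hz]
  unfold toSubquot
  rw [← Category.assoc, h3]

end Third

theorem subquot_iso_of_eq {Z Z' B B' : Subobject X} (h : B ≤ Z) (h' : B' ≤ Z') (hZ : Z = Z')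
    (hB : B = B') : Nonempty (subquot Z B h ≅ subquot Z' B' h') := by
  subst hZ hB
  exact ⟨Iso.refl _⟩

section Butterfly

variable {Y : A} (d : X ⟶ Y) (F F' : Subobject X) (G G' : Subobject Y)

noncomputable def bS : Subobject X := F ⊓ (Subobject.pullback d).obj G

noncomputable def bZ : Subobject X := (F ⊓ (Subobject.pullback d).obj G) ⊔ F'

noncomputable def bB : Subobject Y := (G ⊓ imageSubobject (F.arrow ≫ d)) ⊔ G'

theorem bZ_le (hG : G' ≤ G) : bZ d F F' G' ≤ bZ d F F' G :=
  sup_le_sup_right (inf_le_inf_left _ ((Subobject.pullback d).monotone hG)) _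

theorem image_le_of_le (hF : F' ≤ F) :
    imageSubobject (F'.arrow ≫ d) ≤ imageSubobject (F.arrow ≫ d) := by
  rw [← Subobject.ofLE_arrow hF, Category.assoc]
  exact imageSubobject_comp_le _ _

theorem bB_le (hF : F' ≤ F) : bB d F' G G' ≤ bB d F G G' :=
  sup_le_sup_right (inf_le_inf_left _ (image_le_of_le d F F' hF)) _

theorem bS_comp_factors : (bB d F G G').Factors ((bS d F G).arrow ≫ d) := by
  apply Subobject.factors_of_le _ le_sup_left
  rw [Subobject.inf_factors]
  constructor
  · rw [← SubElem.pullback_factors]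
    exact Subobject.factors_of_le _ inf_le_right (Subobject.factors_self _)
  · refine (image_factors _ _).mpr ⟨_, 𝟙 _, inferInstance, (bS d F G).ofLE F inf_le_left, ?_⟩
    rw [Category.id_comp, ← Category.assoc, Subobject.ofLE_arrow]

theorem kernel_iff (hF : F' ≤ F) (hG : G' ≤ G) {W : A} (z : W ⟶ X) (hz : (bS d F G).Factors z) :
    (bZ d F F' G').Factors z ↔ (bB d F' G G').Factors (z ≫ d) := by
  have hz1 : F.Factors z := Subobject.factors_of_le _ inf_le_left hz
  have hz2 : G.Factors (z ≫ d) :=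
    (SubElem.pullback_factors d G z).mp (Subobject.factors_of_le _ inf_le_right hz)
  constructor
  · intro hZ
    obtain ⟨W₁, π₁, hπ₁, s, t, hs, ht, hst⟩ := (sup_factors _ _ z).mp hZ
    have hs2 : G'.Factors (s ≫ d) :=
      (SubElem.pullback_factors d G' s).mp (Subobject.factors_of_le _ inf_le_right hs)
    apply factors_of_epi_comp _ π₁
    have e : π₁ ≫ z ≫ d = t ≫ d + s ≫ d := by
      rw [← Category.assoc, hst, Preadditive.add_comp, add_comm]
    rw [e]
    apply Subobject.factors_add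
    · apply Subobject.factors_of_le _ le_sup_left
      rw [Subobject.inf_factors]
      constructor
      · have : t ≫ d = (π₁ ≫ z) ≫ d - s ≫ d := by
          rw [hst, Preadditive.add_comp, add_sub_cancel_left]
        rw [this]
        apply factors_sub
        · rw [Category.assoc]
          exact Subobject.factors_of_factors_right _ hz2
        · exact Subobject.factors_of_le _ hG hs2
      · refine (image_factors _ _).mpr ⟨_, 𝟙 _, inferInstance, F'.factorThru t ht, ?_⟩
        rw [Category.id_comp, ← Category.assoc, Subobject.factorThru_arrow]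
    · exact Subobject.factors_of_le _ le_sup_right hs2
  · intro hB
    obtain ⟨W₁, π₁, hπ₁, y, g', hy, hg', hyg⟩ := (sup_factors _ _ _).mp hB
    have hy2 : (imageSubobject (F'.arrow ≫ d)).Factors y :=
      Subobject.factors_of_le _ inf_le_right hy
    obtain ⟨W₂, π₂, hπ₂, b, hb⟩ := (image_factors _ _).mp hy2
    apply factors_of_epi_comp _ (π₂ ≫ π₁)
    have e : (π₂ ≫ π₁) ≫ z = ((π₂ ≫ π₁) ≫ z - b ≫ F'.arrow) + b ≫ F'.arrow := by
      rw [sub_add_cancel]
    rw [e]
    apply Subobject.factors_add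
    · apply Subobject.factors_of_le _ le_sup_left
      rw [Subobject.inf_factors]
      constructor
      · apply factors_sub
        · exact Subobject.factors_of_factors_right _ hz1
        · exact Subobject.factors_of_le _ hF (Subobject.factors_comp_arrow b)
      · rw [SubElem.pullback_factors]
        have : ((π₂ ≫ π₁) ≫ z - b ≫ F'.arrow) ≫ d = π₂ ≫ g' := by
          have e1 : ((π₂ ≫ π₁) ≫ z) ≫ d = π₂ ≫ y + π₂ ≫ g' := by
            rw [Category.assoc, Category.assoc, hyg, Preadditive.comp_add]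
          rw [Preadditive.sub_comp, e1, hb, Category.assoc, add_sub_cancel_left]
        rw [this]
        exact Subobject.factors_of_factors_right _ hg'
    · exact Subobject.factors_of_le _ le_sup_right (Subobject.factors_comp_arrow b)

theorem butterfly (hF : F' ≤ F) (hG : G' ≤ G) : Nonempty (subquot (bZ d F F' G) (bZ d F F' G') (bZ_le d F F' G G' hG) ≅
    subquot (bB d F G G') (bB d F' G G') (bB_le d F F' G G' hF)) := by
  let ψ := toSubquot (bZ d F F' G) (bZ d F F' G') (bZ_le d F F' G G' hG) (bS d F G) le_sup_left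
  haveI : Epi ψ := by
    apply epi_toSubquot
    apply sup_le_sup_left
    exact le_sup_right
  let β := (bB d F G G').factorThru _ (bS_comp_factors d F G G')
  let φ := β ≫ proj (bB d F G G') (bB d F' G G') (bB_le d F F' G G' hF)
  have hβ : β ≫ (bB d F G G').arrow = (bS d F G).arrow ≫ d := Subobject.factorThru_arrow _ _ _
  haveI : Epi φ := by
    rw [epi_iff_surjective_up_to_refinements]
    intro W g
    obtain ⟨W₁, π₁, hπ₁, u, hu⟩ := surjective_up_to_refinements_of_epi
      (proj (bB d F G G') (bB d F' G G') (bB_le d F F' G G' hF)) g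
    obtain ⟨W₂, π₂, hπ₂, s, t, hs, ht, hst⟩ :=
      (sup_factors _ _ _).mp (Subobject.factors_comp_arrow u : (bB d F G G').Factors _)
    have hs1 : G.Factors s := Subobject.factors_of_le _ inf_le_left hs
    obtain ⟨W₃, π₃, hπ₃, x, hx⟩ :=
      (image_factors _ _).mp (Subobject.factors_of_le _ inf_le_right hs)
    have hσ : (bS d F G).Factors (x ≫ F.arrow) := by
      refine (Subobject.inf_factors _).mpr ⟨Subobject.factors_comp_arrow x, ?_⟩
      rw [SubElem.pullback_factors, Category.assoc, ← hx]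
      exact Subobject.factors_of_factors_right _ hs1
    refine ⟨W₃, π₃ ≫ π₂ ≫ π₁, inferInstance, (bS d F G).factorThru _ hσ, ?_⟩
    have htB : (bB d F' G G').Factors (π₃ ≫ t) :=
      Subobject.factors_of_factors_right _ (Subobject.factors_of_le _ le_sup_right ht)
    have hdecomp : π₃ ≫ π₂ ≫ u = (bS d F G).factorThru _ hσ ≫ β +
        (bB d F' G G').factorThru _ htB ≫ (bB d F' G G').ofLE (bB d F G G')
          (bB_le d F F' G G' hF) := by
      rw [← cancel_mono (bB d F G G').arrow]
      simp only [Preadditive.add_comp, Category.assoc, Subobject.ofLE_arrow,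
        Subobject.factorThru_arrow, hβ]
      rw [hst, Preadditive.comp_add, hx, ← Category.assoc ((bS d F G).factorThru _ hσ),
        Subobject.factorThru_arrow, Category.assoc]
    have hB0 : ((bB d F' G G').factorThru _ htB ≫ (bB d F' G G').ofLE (bB d F G G')
        (bB_le d F F' G G' hF)) ≫ proj (bB d F G G') (bB d F' G G') (bB_le d F F' G G' hF) = 0 := by
      rw [Category.assoc, ofLE_proj, comp_zero]
    have : (π₃ ≫ π₂ ≫ π₁) ≫ g = (π₃ ≫ π₂ ≫ u) ≫
        proj (bB d F G G') (bB d F' G G') (bB_le d F F' G G' hF) := by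
      simp only [Category.assoc, hu]
    rw [this, hdecomp, Preadditive.add_comp, hB0, add_zero, Category.assoc]
  obtain ⟨e, -⟩ := exists_iso_of_epi ψ φ (by
    intro W a
    rw [toSubquot_eq_zero_iff]
    change _ ↔ a ≫ β ≫ proj _ _ _ = 0
    rw [← Category.assoc, proj_eq_zero_iff, Category.assoc, hβ, ← Category.assoc]
    exact kernel_iff d F F' G G' hF hG _ (Subobject.factors_comp_arrow a))
  exact ⟨e⟩

end Butterfly

end Groth.Agent.Lib.Helper81.SubQuot
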