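import Mathlib
import Groth.Prelude.Def_SpSeq
import Groth.Agent.Lib.Helper81.SubElem
import Groth.Agent.Lib.Helper81.SubQuot
import Groth.Agent.Lib.Helper81.SpSeqChase

set_option autoImplicit false
set_option linter.unusedSectionVars false
set_option linter.style.haveILetI false
universe v u
open CategoryTheory CategoryTheory.Limits

namespace Groth.Agent.Lib.Helper81.SpSeqGr

open SpSeq SpSeq.FilCx Groth.Agent.Lib.Helper81 Groth.Agent.Lib.Helper81.SubElem
  Groth.Agent.Lib.Helper81.SubQuot Groth.Agent.Lib.Helper81.SpSeqChase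

variable {A : Type u} [Category.{v} A] [Abelian A]

theorem next_eq (n : ℤ) : (ComplexShape.up ℤ).next n = n + 1 := by simp

theorem prev_eq (n : ℤ) : (ComplexShape.up ℤ).prev n = n - 1 := by simp

section Cyc

variable (C : CochainComplex A ℤ) (n : ℤ)

noncomputable def cyc {W : A} (z : W ⟶ C.X n) (hz : z ≫ C.d n (n + 1) = 0) : W ⟶ C.homology n :=
  C.liftCycles z (n + 1) (next_eq n) hz ≫ C.homologyπ n

theorem comp_cyc {W W' : A} (α : W' ⟶ W) (z : W ⟶ C.X n) (hz : z ≫ C.d n (n + 1) = 0) :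
    α ≫ cyc C n z hz = cyc C n (α ≫ z) (by rw [Category.assoc, hz, comp_zero]) := by
  unfold cyc
  rw [← Category.assoc, HomologicalComplex.comp_liftCycles]

theorem cyc_congr {W : A} {z z' : W ⟶ C.X n} (h : z = z') (hz : z ≫ C.d n (n + 1) = 0) :
    cyc C n z hz = cyc C n z' (h ▸ hz) := by
  subst h
  rfl

theorem cyc_map {D : CochainComplex A ℤ} (φ : C ⟶ D) {W : A} (z : W ⟶ C.X n)
    (hz : z ≫ C.d n (n + 1) = 0) :
    cyc C n z hz ≫ HomologicalComplex.homologyMap φ n =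
      cyc D n (z ≫ φ.f n) (by rw [Category.assoc, φ.comm, ← Category.assoc, hz, zero_comp]) := by
  unfold cyc
  rw [Category.assoc, HomologicalComplex.homologyπ_naturality, ← Category.assoc,
    HomologicalComplex.liftCycles_comp_cyclesMap]

theorem cyc_eq_iff {W : A} (z z' : W ⟶ C.X n) (hz : z ≫ C.d n (n + 1) = 0)
    (hz' : z' ≫ C.d n (n + 1) = 0) :
    cyc C n z hz = cyc C n z' hz' ↔ ∃ (W' : A) (π : W' ⟶ W) (_ : Epi π) (x₁ : W' ⟶ C.X (n - 1)),
      π ≫ z = π ≫ z' + x₁ ≫ C.d (n - 1) n :=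
  C.liftCycles_comp_homologyπ_eq_iff_up_to_refinements (n - 1) n (n + 1) (prev_eq n) (next_eq n)
    z z' hz hz'

theorem exists_cyc {W : A} (γ : W ⟶ C.homology n) :
    ∃ (W' : A) (π : W' ⟶ W) (_ : Epi π) (z : W' ⟶ C.X n) (hz : z ≫ C.d n (n + 1) = 0),
      π ≫ γ = cyc C n z hz :=
  C.eq_liftCycles_homologyπ_up_to_refinements γ (n + 1) (next_eq n)

end Cyc

variable (K : SpSeq.FilCx A)

theorem arrow_d (q n : ℤ) {W : A} (c : W ⟶ (K.fil q : CochainComplex A ℤ).X n)
    (hc : (c ≫ (K.fil q).arrow.f n) ≫ K.obj.d n (n + 1) = 0) :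
    c ≫ (K.fil q : CochainComplex A ℤ).d n (n + 1) = 0 := by
  rw [← cancel_mono ((K.fil q).arrow.f (n + 1)), Category.assoc, ← HomologicalComplex.Hom.comm,
    ← Category.assoc, hc, zero_comp]

theorem filH_factors_iff (q n : ℤ) {W : A} (z : W ⟶ K.obj.X n) (hz : z ≫ K.obj.d n (n + 1) = 0) :
    (K.filH q n).Factors (cyc K.obj n z hz) ↔
      ∃ (W' : A) (π : W' ⟶ W) (_ : Epi π) (c : W' ⟶ (K.fil q : CochainComplex A ℤ).X n)
        (y : W' ⟶ K.obj.X (n - 1)),
        c ≫ (K.fil q : CochainComplex A ℤ).d n (n + 1) = 0 ∧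
          π ≫ z = c ≫ (K.fil q).arrow.f n + y ≫ K.obj.d (n - 1) n := by
  unfold SpSeq.FilCx.filH
  constructor
  · intro h
    obtain ⟨W₁, π₁, hπ₁, b, hb⟩ := (image_factors _ _).mp h
    obtain ⟨W₂, π₂, hπ₂, c, hc, hbc⟩ := exists_cyc (K.fil q : CochainComplex A ℤ) n b
    have e1 : cyc K.obj n ((π₂ ≫ π₁) ≫ z) (by rw [Category.assoc, hz, comp_zero]) =
        cyc K.obj n (c ≫ (K.fil q).arrow.f n)
          (by rw [Category.assoc, (K.fil q).arrow.comm, ← Category.assoc, hc, zero_comp]) := by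
      rw [← comp_cyc K.obj n (π₂ ≫ π₁) z hz, Category.assoc, hb, ← Category.assoc, hbc, cyc_map]
    obtain ⟨W₃, π₃, hπ₃, x₁, hx₁⟩ := (cyc_eq_iff K.obj n _ _ _ _).mp e1
    refine ⟨W₃, π₃ ≫ π₂ ≫ π₁, inferInstance, π₃ ≫ c, x₁, ?_, ?_⟩
    · rw [Category.assoc, hc, comp_zero]
    · simp only [Category.assoc] at hx₁ ⊢
      exact hx₁
  · rintro ⟨W', π, hπ, c, y, hc, hzc⟩
    refine (image_factors _ _).mpr ⟨W', π, hπ, cyc (K.fil q : CochainComplex A ℤ) n c hc, ?_⟩
    rw [cyc_map, comp_cyc, cyc_eq_iff]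
    exact ⟨W', 𝟙 _, inferInstance, y, by rw [Category.id_comp, Category.id_comp]; exact hzc⟩

theorem filH_factors_of_filX (q n : ℤ) {W : A} (z : W ⟶ K.obj.X n)
    (hz : z ≫ K.obj.d n (n + 1) = 0) (hq : (K.filX q n).Factors z) :
    (K.filH q n).Factors (cyc K.obj n z hz) := by
  rw [filH_factors_iff]
  obtain ⟨c, hc⟩ := (filX_factors K q n z).mp hq
  refine ⟨W, 𝟙 W, inferInstance, c, 0, ?_, ?_⟩
  · apply arrow_d
    rw [hc, hz]
  · rw [Category.id_comp, zero_comp, add_zero, hc]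

theorem BBot_factors_iff (p n : ℤ) {W : A} (z : W ⟶ K.obj.X n)
    (hz1 : (K.filX p n).Factors z) (hz2 : z ≫ K.obj.d n (n + 1) = 0) :
    (K.BBot p n).Factors z ↔
      ∃ (W' : A) (π : W' ⟶ W) (_ : Epi π) (c : W' ⟶ (K.fil (p + 1) : CochainComplex A ℤ).X n)
        (y : W' ⟶ K.obj.X (n - 1)),
        c ≫ (K.fil (p + 1) : CochainComplex A ℤ).d n (n + 1) = 0 ∧
          π ≫ z = c ≫ (K.fil (p + 1)).arrow.f n + y ≫ K.obj.d (n - 1) n := by
  unfold SpSeq.FilCx.BBot
  constructor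
  · intro h
    obtain ⟨W₁, π₁, hπ₁, s, t, hs, ht, hst⟩ := (sup_factors _ _ z).mp h
    obtain ⟨W₂, π₂, hπ₂, y, hy⟩ :=
      (image_factors _ _).mp (Subobject.factors_of_le _ inf_le_right hs)
    obtain ⟨c, hc⟩ := (filX_factors K (p + 1) n t).mp ht
    have hsd : (π₂ ≫ s) ≫ K.obj.d n (n + 1) = 0 := by
      rw [hy, Category.assoc, HomologicalComplex.d_comp_d, comp_zero]
    have htd : (π₂ ≫ t) ≫ K.obj.d n (n + 1) = 0 := by
      have : π₂ ≫ t = π₂ ≫ π₁ ≫ z - π₂ ≫ s := by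
        rw [hst, Preadditive.comp_add, add_sub_cancel_left]
      rw [this, Preadditive.sub_comp, hsd, sub_zero, Category.assoc, Category.assoc, hz2, comp_zero,
        comp_zero]
    refine ⟨W₂, π₂ ≫ π₁, inferInstance, π₂ ≫ c, y, ?_, ?_⟩
    · apply arrow_d
      have : (π₂ ≫ c) ≫ (K.fil (p + 1)).arrow.f n = π₂ ≫ t := by rw [Category.assoc, hc]
      rw [this]
      exact htd
    · rw [Category.assoc, hst, Preadditive.comp_add, hy, Category.assoc, hc, add_comm]
  · rintro ⟨W', π, hπ, c, y, -, hzc⟩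
    apply factors_of_epi_comp _ π
    rw [hzc, add_comm (c ≫ (K.fil (p + 1)).arrow.f n) (y ≫ K.obj.d (n - 1) n)]
    have hcF : (K.filX (p + 1) n).Factors (c ≫ (K.fil (p + 1)).arrow.f n) :=
      (filX_factors K (p + 1) n _).mpr ⟨c, rfl⟩
    apply Subobject.factors_add
    · apply Subobject.factors_of_le _ le_sup_left
      rw [Subobject.inf_factors]
      constructor
      · have : y ≫ K.obj.d (n - 1) n = π ≫ z - c ≫ (K.fil (p + 1)).arrow.f n := by
          rw [hzc, add_sub_cancel_left]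
        rw [this]
        apply factors_sub
        · exact Subobject.factors_of_factors_right _ hz1
        · exact Subobject.factors_of_le _ (K.filX_anti n (by omega : p ≤ p + 1)) hcF
      · exact (image_factors _ _).mpr ⟨W', 𝟙 _, inferInstance, y, by rw [Category.id_comp]⟩
    · exact Subobject.factors_of_le _ le_sup_right hcF

noncomputable def cS (p n : ℤ) : Subobject (K.obj.X n) :=
  K.filX p n ⊓ kernelSubobject (K.obj.d n (n + 1))

theorem cS_d (p n : ℤ) {W : A} (a : W ⟶ (cS K p n : A)) :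
    (a ≫ (cS K p n).arrow) ≫ K.obj.d n (n + 1) = 0 := by
  rw [← kernelSubobject_factors_iff]
  exact Subobject.factors_of_le _ inf_le_right (Subobject.factors_comp_arrow a)

theorem cS_fil (p n : ℤ) {W : A} (a : W ⟶ (cS K p n : A)) :
    (K.filX p n).Factors (a ≫ (cS K p n).arrow) :=
  Subobject.factors_of_le _ inf_le_left (Subobject.factors_comp_arrow a)

theorem BBot_le_ZTop (p n : ℤ) : K.BBot p n ≤ K.ZTop p n := by
  unfold SpSeq.FilCx.BBot SpSeq.FilCx.ZTop
  refine sup_le_sup_right (inf_le_inf_left _ ?_) _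
  exact image_le_kernel _ _ (HomologicalComplex.d_comp_d _ _ _ _)

theorem gr_iso (p n : ℤ) :
    Nonempty (subquot (K.filH p n) (K.filH (p + 1) n) (K.filH_anti n (by omega : p ≤ p + 1)) ≅
      subquot (K.ZTop p n) (K.BBot p n) (BBot_le_ZTop K p n)) := by
  have hle := K.filH_anti n (by omega : p ≤ p + 1)
  have hSZ : cS K p n ≤ K.ZTop p n := le_sup_left
  let ψ := toSubquot (K.ZTop p n) (K.BBot p n) (BBot_le_ZTop K p n) (cS K p n) hSZ
  haveI : Epi ψ := by
    apply epi_toSubquot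
    exact sup_le_sup_left le_sup_right _
  have hId := cS_d K p n (𝟙 _)
  rw [Category.id_comp] at hId
  let h : (cS K p n : A) ⟶ K.obj.homology n := cyc K.obj n (cS K p n).arrow hId
  have hfac : (K.filH p n).Factors h := by
    apply filH_factors_of_filX
    have := cS_fil K p n (𝟙 _)
    rwa [Category.id_comp] at this
  let β := (K.filH p n).factorThru h hfac
  have hβ : β ≫ (K.filH p n).arrow = h := Subobject.factorThru_arrow _ _ _
  let φ := β ≫ proj (K.filH p n) (K.filH (p + 1) n) hle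
  have hah : ∀ {W : A} (a : W ⟶ (cS K p n : A)),
      a ≫ h = cyc K.obj n (a ≫ (cS K p n).arrow) (cS_d K p n a) := fun a => comp_cyc _ _ _ _ _
  haveI : Epi φ := by
    rw [epi_iff_surjective_up_to_refinements]
    intro W g
    obtain ⟨W₁, π₁, hπ₁, u, hu⟩ := surjective_up_to_refinements_of_epi
      (proj (K.filH p n) (K.filH (p + 1) n) hle) g
    have hu' : (imageSubobject (HomologicalComplex.homologyMap (K.fil p).arrow n)).Factors
        (u ≫ (K.filH p n).arrow) := Subobject.factors_comp_arrow u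
    obtain ⟨W₂, π₂, hπ₂, b, hb⟩ := (image_factors _ _).mp hu'
    obtain ⟨W₃, π₃, hπ₃, c, hc, hbc⟩ := exists_cyc (K.fil p : CochainComplex A ℤ) n b
    have hz'd : (c ≫ (K.fil p).arrow.f n) ≫ K.obj.d n (n + 1) = 0 := by
      rw [Category.assoc, (K.fil p).arrow.comm, ← Category.assoc, hc, zero_comp]
    have hσ : (cS K p n).Factors (c ≫ (K.fil p).arrow.f n) := by
      refine (Subobject.inf_factors _).mpr ⟨(filX_factors K p n _).mpr ⟨c, rfl⟩, ?_⟩
      rw [kernelSubobject_factors_iff]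
      exact hz'd
    refine ⟨W₃, π₃ ≫ π₂ ≫ π₁, inferInstance, (cS K p n).factorThru _ hσ, ?_⟩
    have e1 : (cS K p n).factorThru _ hσ ≫ h = (π₃ ≫ π₂ ≫ u) ≫ (K.filH p n).arrow := by
      rw [hah, cyc_congr K.obj n (Subobject.factorThru_arrow _ _ hσ)]
      simp only [Category.assoc]
      rw [hb, ← Category.assoc, hbc, cyc_map]
    have e2 : (cS K p n).factorThru _ hσ ≫ β = π₃ ≫ π₂ ≫ u := by
      rw [← cancel_mono (K.filH p n).arrow, Category.assoc, hβ, e1]
    change _ = (cS K p n).factorThru _ hσ ≫ β ≫ proj _ _ _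
    rw [← Category.assoc ((cS K p n).factorThru _ hσ) β, e2]
    simp only [Category.assoc, hu]
  obtain ⟨e, -⟩ := exists_iso_of_epi φ ψ (by
    intro W a
    rw [toSubquot_eq_zero_iff]
    change a ≫ β ≫ proj _ _ _ = 0 ↔ _
    rw [← Category.assoc, proj_eq_zero_iff, Category.assoc, hβ, hah, filH_factors_iff,
      BBot_factors_iff K p n _ (cS_fil K p n a) (cS_d K p n a)])
  exact ⟨e⟩

end Groth.Agent.Lib.Helper81.SpSeqGr
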