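import Groth.Agent.Lib.Helper81.SpSeqFinite
import Mathlib.Algebra.Homology.ShortComplex.HomologicalComplex

set_option autoImplicit false
universe v u
open CategoryTheory CategoryTheory.Limits

namespace Groth.Agent.Lib.Helper81

open SpSeq SpSeq.FilCx

variable {A : Type u} [Category.{v} A] [Abelian A] (K : SpSeq.FilCx A)

lemma isZero_of_filX_eq_bot (p n : ℤ) (h : K.filX p n = ⊥) :
    IsZero ((K.fil p : CochainComplex A ℤ).X n) := by
  unfold SpSeq.FilCx.filX at h
  rw [Subobject.mk_eq_bot_iff_zero] at h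
  rw [IsZero.iff_id_eq_zero, ← cancel_mono ((K.fil p).arrow.f n), h, comp_zero, zero_comp]

lemma imageSubobject_eq_bot_of_isZero_src {X Y : A} (f : X ⟶ Y) (h : IsZero X) :
    imageSubobject f = ⊥ := by
  have : f = 0 := h.eq_of_src _ _
  subst this
  exact imageSubobject_zero

lemma filH_eq_bot_of_filX_eq_bot (p n : ℤ) (h : K.filX p n = ⊥) : K.filH p n = ⊥ := by
  unfold SpSeq.FilCx.filH
  have hz : IsZero ((K.fil p : CochainComplex A ℤ).homology n) :=
    (HomologicalComplex.ExactAt.of_isZero (isZero_of_filX_eq_bot K p n h)).isZero_homology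
  exact imageSubobject_eq_bot_of_isZero_src _ hz

lemma isIso_of_filX_eq_top (p n : ℤ) (h : K.filX p n = ⊤) : IsIso ((K.fil p).arrow.f n) := by
  unfold SpSeq.FilCx.filX at h
  exact (Subobject.isIso_iff_mk_eq_top _).2 h

lemma filH_eq_top_of_filX_eq_top (p n : ℤ) (h₁ : K.filX p (n - 1) = ⊤) (h₂ : K.filX p n = ⊤)
    (h₃ : K.filX p (n + 1) = ⊤) : K.filH p n = ⊤ := by
  unfold SpSeq.FilCx.filH
  haveI := isIso_of_filX_eq_top K p _ h₁
  haveI := isIso_of_filX_eq_top K p _ h₂
  haveI := isIso_of_filX_eq_top K p _ h₃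
  have hiso : IsIso (HomologicalComplex.homologyMap (K.fil p).arrow n) := by
    have e1 : (ComplexShape.up ℤ).prev n = n - 1 := by simp
    have e2 : (ComplexShape.up ℤ).next n = n + 1 := by simp
    haveI : IsIso ((HomologicalComplex.shortComplexFunctor A (ComplexShape.up ℤ) n).map (K.fil p).arrow).τ₁ := by
      show IsIso ((K.fil p).arrow.f ((ComplexShape.up ℤ).prev n))
      rw [e1]
      infer_instance
    haveI : IsIso ((HomologicalComplex.shortComplexFunctor A (ComplexShape.up ℤ) n).map (K.fil p).arrow).τ₂ := by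
      show IsIso ((K.fil p).arrow.f n)
      infer_instance
    haveI : IsIso ((HomologicalComplex.shortComplexFunctor A (ComplexShape.up ℤ) n).map (K.fil p).arrow).τ₃ := by
      show IsIso ((K.fil p).arrow.f ((ComplexShape.up ℤ).next n))
      rw [e2]
      infer_instance
    exact ShortComplex.isIso_homologyMap_of_epi_of_isIso_of_mono
      ((HomologicalComplex.shortComplexFunctor A (ComplexShape.up ℤ) n).map (K.fil p).arrow)
  exact imageSubobject_eq_top_of_epi _

lemma HFil_isFinite_of_finite (hK : ∀ n : ℤ, (K.XFil n).IsFinite) (n : ℤ) : (K.HFil n).IsFinite := by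
  obtain ⟨⟨a₁, ha₁⟩, -⟩ := hK (n - 1)
  obtain ⟨⟨a₂, ha₂⟩, ⟨b, hb⟩⟩ := hK n
  obtain ⟨⟨a₃, ha₃⟩, -⟩ := hK (n + 1)
  refine ⟨⟨min a₁ (min a₂ a₃), ?_⟩, ⟨b, ?_⟩⟩
  · exact filH_eq_top_of_filX_eq_top K _ n
      (filX_eq_top_of_le K _ ha₁ (min_le_left _ _))
      (filX_eq_top_of_le K _ ha₂ ((min_le_right _ _).trans (min_le_left _ _)))
      (filX_eq_top_of_le K _ ha₃ ((min_le_right _ _).trans (min_le_right _ _)))
  · exact filH_eq_bot_of_filX_eq_bot K b n hb

theorem converges_of_finite (hK : ∀ n : ℤ, (K.XFil n).IsFinite) :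
    K.IsBounded 0 ∧ (∀ n : ℤ, (K.HFil n).IsFinite) ∧ K.Converges := by
  have hH := HFil_isFinite_of_finite K hK
  refine ⟨isBounded_of_finite K 0 hK, hH, isRegular_of_finite K hK,
    ⟨weaklyConverges_of_finite K hK, fun n => ⟨?_, ?_⟩⟩, fun n => ?_⟩
  · exact isSeparated_of_isDiscrete _ (hH n).2
  · exact isExhaustive_of_isCodiscrete _ (hH n).1
  · exact isComplete_of_isDiscrete _ (hH n).2

end Groth.Agent.Lib.Helper81
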