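import Mathlib

set_option autoImplicit false
set_option linter.unusedSectionVars false
universe v u
open CategoryTheory CategoryTheory.Limits

namespace Groth.Agent.Lib.Helper81.WeakSerre

variable {A : Type u} [Category.{v} A] [Abelian A]

structure IsWS (P : ObjectProperty A) : Prop where
  iso : ∀ {X Y : A}, (X ≅ Y) → P X → P Y
  zero : ∃ Z : A, IsZero Z ∧ P Z
  mid : ∀ S : ComposableArrows A 4, S.Exact → P (S.obj 0) → P (S.obj 1) → P (S.obj 3) →
    P (S.obj 4) → P (S.obj 2)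

namespace IsWS

variable {P : ObjectProperty A} (hP : IsWS P)
include hP

theorem of_isZero {Z : A} (hZ : IsZero Z) : P Z := by
  obtain ⟨Z₀, hZ₀, hPZ₀⟩ := hP.zero
  exact hP.iso (hZ₀.iso hZ) hPZ₀

theorem ker {K X Y : A} (ι : K ⟶ X) (f : X ⟶ Y) [Mono ι] (w : ι ≫ f = 0)
    (hex : (ShortComplex.mk ι f w).Exact) (hX : P X) (hY : P Y) : P K := by
  obtain ⟨Z, hZ, hPZ⟩ := hP.zero
  have e1 : (ShortComplex.mk (0 : Z ⟶ Z) (0 : Z ⟶ K) zero_comp).Exact :=
    ShortComplex.exact_of_isZero_X₂ _ hZ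
  have e2 : (ShortComplex.mk (0 : Z ⟶ K) ι zero_comp).Exact := by
    rw [ShortComplex.exact_iff_mono _ rfl]
    dsimp
    infer_instance
  have hex' : (ComposableArrows.mk₄ (0 : Z ⟶ Z) (0 : Z ⟶ K) ι f).Exact :=
    ComposableArrows.exact_of_δ₀ e1.exact_toComposableArrows
      (ComposableArrows.exact_of_δ₀ e2.exact_toComposableArrows hex.exact_toComposableArrows)
  exact hP.mid _ hex' hPZ hPZ hX hY

theorem coker {X Y C : A} (f : X ⟶ Y) (q : Y ⟶ C) [Epi q] (w : f ≫ q = 0)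
    (hex : (ShortComplex.mk f q w).Exact) (hX : P X) (hY : P Y) : P C := by
  obtain ⟨Z, hZ, hPZ⟩ := hP.zero
  have e2 : (ShortComplex.mk q (0 : C ⟶ Z) comp_zero).Exact := by
    rw [ShortComplex.exact_iff_epi _ rfl]
    dsimp
    infer_instance
  have e3 : (ShortComplex.mk (0 : C ⟶ Z) (0 : Z ⟶ Z) comp_zero).Exact :=
    ShortComplex.exact_of_isZero_X₂ _ hZ
  have hex' : (ComposableArrows.mk₄ f q (0 : C ⟶ Z) (0 : Z ⟶ Z)).Exact :=
    ComposableArrows.exact_of_δ₀ hex.exact_toComposableArrows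
      (ComposableArrows.exact_of_δ₀ e2.exact_toComposableArrows e3.exact_toComposableArrows)
  exact hP.mid _ hex' hX hY hPZ hPZ

theorem ext {A' B' C' : A} (i : A' ⟶ B') (q : B' ⟶ C') [Mono i] [Epi q] (w : i ≫ q = 0)
    (hex : (ShortComplex.mk i q w).Exact) (hA : P A') (hC : P C') : P B' := by
  obtain ⟨Z, hZ, hPZ⟩ := hP.zero
  have e1 : (ShortComplex.mk (0 : Z ⟶ A') i zero_comp).Exact := by
    rw [ShortComplex.exact_iff_mono _ rfl]
    dsimp
    infer_instance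
  have e3 : (ShortComplex.mk q (0 : C' ⟶ Z) comp_zero).Exact := by
    rw [ShortComplex.exact_iff_epi _ rfl]
    dsimp
    infer_instance
  have hex' : (ComposableArrows.mk₄ (0 : Z ⟶ A') i q (0 : C' ⟶ Z)).Exact :=
    ComposableArrows.exact_of_δ₀ e1.exact_toComposableArrows
      (ComposableArrows.exact_of_δ₀ hex.exact_toComposableArrows e3.exact_toComposableArrows)
  exact hP.mid _ hex' hPZ hA hC hPZ

end IsWS

theorem exact_comp_mono {K X Y Y' : A} (ι : K ⟶ X) (q : X ⟶ Y) (m : Y ⟶ Y') [Mono m]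
    (w : ι ≫ q = 0) (hex : (ShortComplex.mk ι q w).Exact) :
    (ShortComplex.mk ι (q ≫ m)
      (show ι ≫ q ≫ m = 0 by rw [← Category.assoc, w, zero_comp])).Exact := by
  rw [ShortComplex.exact_iff_exact_up_to_refinements] at hex ⊢
  intro W x₂ hx₂
  dsimp at x₂ hx₂ ⊢
  have h0 : x₂ ≫ q = 0 := zero_of_comp_mono m (by rw [Category.assoc]; exact hx₂)
  exact hex x₂ h0

theorem exact_epi_comp {X' X Y C : A} (e : X' ⟶ X) [Epi e] (f : X ⟶ Y) (q : Y ⟶ C)
    (w : f ≫ q = 0) (hex : (ShortComplex.mk f q w).Exact) :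
    (ShortComplex.mk (e ≫ f) q
      (show (e ≫ f) ≫ q = 0 by rw [Category.assoc, w, comp_zero])).Exact := by
  rw [ShortComplex.exact_iff_exact_up_to_refinements] at hex ⊢
  intro W x₂ hx₂
  dsimp at x₂ hx₂ ⊢
  obtain ⟨W₁, π₁, hπ₁, x₁, hx₁⟩ := hex x₂ hx₂
  dsimp at x₁ hx₁
  obtain ⟨W₂, π₂, hπ₂, x₀, hx₀⟩ := surjective_up_to_refinements_of_epi e x₁
  refine ⟨W₂, π₂ ≫ π₁, inferInstance, x₀, ?_⟩
  rw [Category.assoc, hx₁, ← Category.assoc, hx₀, Category.assoc]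

end Groth.Agent.Lib.Helper81.WeakSerre
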