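import Mathlib
import Groth.Prelude.Def_SpSeq
import Groth.Agent.Lib.Helper81.SubElem
import Groth.Agent.Lib.Helper81.SubQuot
import Groth.Agent.Lib.Helper81.WeakSerre
import Groth.Agent.Lib.Helper81.SpSeqFinite

set_option autoImplicit false
set_option linter.unusedSectionVars false
set_option linter.style.haveILetI false
universe v u
open CategoryTheory CategoryTheory.Limits

namespace Groth.Agent.Lib.Helper81.SpSeqPages

open SpSeq SpSeq.FilCx Groth.Agent.Lib.Helper81 Groth.Agent.Lib.Helper81.SubQuot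
  Groth.Agent.Lib.Helper81.WeakSerre

variable {A : Type u} [Category.{v} A] [Abelian A] (K : SpSeq.FilCx A)

theorem BSub_le_ZSub' (r s : ℕ) (p n : ℤ) : K.BSub r p n ≤ K.ZSub s p n :=
  sup_le_sup_right (inf_le_inf_left _ (K.image_d_le_pullback n _ _)) _

theorem ZSub_succ_le (r : ℕ) (p n : ℤ) : K.ZSub (r + 1) p n ≤ K.ZSub r p n := by
  unfold SpSeq.FilCx.ZSub
  refine sup_le_sup_right (inf_le_inf_left _ ((Subobject.pullback _).monotone ?_)) _
  apply K.filX_anti (n + 1)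
  push_cast
  omega

theorem BSub_le_succ (r : ℕ) (p n : ℤ) : K.BSub r p n ≤ K.BSub (r + 1) p n := by
  unfold SpSeq.FilCx.BSub
  refine sup_le_sup_right (inf_le_inf_left _ ?_) _
  apply image_le_of_le
  apply K.filX_anti (n - 1)
  push_cast
  omega

theorem image_transport (n m q q' : ℤ) (hm : m = n) (hq : q' = q) :
    imageSubobject ((K.filX q' m).arrow ≫ K.obj.d m (n + 1)) =
      imageSubobject ((K.filX q n).arrow ≫ K.obj.d n (n + 1)) := by
  subst hm hq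
  rfl

theorem BSub_eq_bB (r : ℕ) (p n : ℤ) :
    K.BSub r (p + r) (n + 1) = bB (K.obj.d n (n + 1)) (K.filX (p + 1) n) (K.filX (p + r) (n + 1))
      (K.filX (p + ((r + 1 : ℕ) : ℤ)) (n + 1)) := by
  unfold SpSeq.FilCx.BSub bB
  rw [image_transport K n (n + 1 - 1) (p + 1) (p + r - r + 1) (by omega) (by omega)]
  have e : p + (r : ℤ) + 1 = p + ((r + 1 : ℕ) : ℤ) := by push_cast; ring
  rw [e]

theorem BSub_succ_eq_bB (r : ℕ) (p n : ℤ) :
    K.BSub (r + 1) (p + r) (n + 1) = bB (K.obj.d n (n + 1)) (K.filX p n) (K.filX (p + r) (n + 1))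
      (K.filX (p + ((r + 1 : ℕ) : ℤ)) (n + 1)) := by
  unfold SpSeq.FilCx.BSub bB
  rw [image_transport K n (n + 1 - 1) p (p + r - ((r + 1 : ℕ) : ℤ) + 1) (by omega)
    (by push_cast; omega)]
  have e : p + (r : ℤ) + 1 = p + ((r + 1 : ℕ) : ℤ) := by push_cast; ring
  rw [e]

theorem theta (r : ℕ) (p n : ℤ) :
    Nonempty (subquot (K.ZSub r p n) (K.ZSub (r + 1) p n) (ZSub_succ_le K r p n) ≅
      subquot (K.BSub (r + 1) (p + r) (n + 1)) (K.BSub r (p + r) (n + 1))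
        (BSub_le_succ K r (p + r) (n + 1))) := by
  have hF : K.filX (p + 1) n ≤ K.filX p n := K.filX_anti n (by omega)
  have hG : K.filX (p + ((r + 1 : ℕ) : ℤ)) (n + 1) ≤ K.filX (p + r) (n + 1) :=
    K.filX_anti (n + 1) (by push_cast; omega)
  obtain ⟨e⟩ := butterfly (K.obj.d n (n + 1)) (K.filX p n) (K.filX (p + 1) n)
    (K.filX (p + r) (n + 1)) (K.filX (p + ((r + 1 : ℕ) : ℤ)) (n + 1)) hF hG
  obtain ⟨e'⟩ := subquot_iso_of_eq (BSub_le_succ K r (p + r) (n + 1))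
    (bB_le (K.obj.d n (n + 1)) (K.filX p n) (K.filX (p + 1) n)
    (K.filX (p + r) (n + 1)) (K.filX (p + ((r + 1 : ℕ) : ℤ)) (n + 1)) hF)
    (BSub_succ_eq_bB K r p n) (BSub_eq_bB K r p n)
  exact ⟨e ≪≫ e'.symm⟩

theorem transport (P : ObjectProperty A) (r s : ℕ) {p p' n n' : ℤ} (hp : p' = p) (hn : n' = n)
    (h : P (subquot (K.ZSub r p' n') (K.BSub s p' n') (BSub_le_ZSub' K s r p' n'))) :
    P (subquot (K.ZSub r p n) (K.BSub s p n) (BSub_le_ZSub' K s r p n)) := by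
  subst hp hn
  exact h

variable {P : ObjectProperty A} (hP : IsWS P)
include hP

theorem claim2 (r : ℕ) (hr : ∀ p n : ℤ, P (K.E r p n)) (p n : ℤ) :
    P (subquot (K.ZSub r (p + r) (n + 1)) (K.BSub (r + 1) (p + r) (n + 1))
      (BSub_le_ZSub' K (r + 1) r (p + r) (n + 1))) := by
  obtain ⟨θ⟩ := theta K r p n
  let q₁ := quot (K.BSub r p n) (K.ZSub (r + 1) p n) (K.ZSub r p n)
    (BSub_le_ZSub' K r (r + 1) p n) (ZSub_succ_le K r p n)
  let ι₂ := incl (K.BSub r (p + r) (n + 1)) (K.BSub (r + 1) (p + r) (n + 1))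
    (K.ZSub r (p + r) (n + 1)) (BSub_le_succ K r (p + r) (n + 1))
    (BSub_le_ZSub' K (r + 1) r (p + r) (n + 1))
  let q₂ := quot (K.BSub r (p + r) (n + 1)) (K.BSub (r + 1) (p + r) (n + 1))
    (K.ZSub r (p + r) (n + 1)) (BSub_le_succ K r (p + r) (n + 1))
    (BSub_le_ZSub' K (r + 1) r (p + r) (n + 1))
  have hex := SubQuot.exact (K.BSub r (p + r) (n + 1)) (K.BSub (r + 1) (p + r) (n + 1))
    (K.ZSub r (p + r) (n + 1)) (BSub_le_succ K r (p + r) (n + 1))
    (BSub_le_ZSub' K (r + 1) r (p + r) (n + 1))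
  have hex' := exact_epi_comp (q₁ ≫ θ.hom) ι₂ q₂ _ hex
  exact hP.coker _ q₂ _ hex' (hr p n) (hr (p + r) (n + 1))

theorem claim2' (r : ℕ) (hr : ∀ p n : ℤ, P (K.E r p n)) (p n : ℤ) :
    P (subquot (K.ZSub r p n) (K.BSub (r + 1) p n) (BSub_le_ZSub' K (r + 1) r p n)) :=
  transport K P r (r + 1) (by omega : p - r + r = p) (by omega : n - 1 + 1 = n)
    (claim2 K hP r hr (p - r) (n - 1))

theorem claim3 (r : ℕ) (hr : ∀ p n : ℤ, P (K.E r p n)) (p n : ℤ) :
    P (subquot (K.BSub (r + 1) p n) (K.BSub r p n) (BSub_le_succ K r p n)) := by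
  have hex := SubQuot.exact (K.BSub r p n) (K.BSub (r + 1) p n) (K.ZSub r p n)
    (BSub_le_succ K r p n) (BSub_le_ZSub' K (r + 1) r p n)
  exact hP.ker _ _ _ hex (hr p n) (claim2' K hP r hr p n)

theorem claim4 (r : ℕ) (hr : ∀ p n : ℤ, P (K.E r p n)) (p n : ℤ) :
    P (subquot (K.ZSub r p n) (K.ZSub (r + 1) p n) (ZSub_succ_le K r p n)) := by
  obtain ⟨θ⟩ := theta K r p n
  exact hP.iso θ.symm (claim3 K hP r hr (p + r) (n + 1))

theorem step (r : ℕ) (hr : ∀ p n : ℤ, P (K.E r p n)) (p n : ℤ) : P (K.E (r + 1) p n) := by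
  have hex := SubQuot.exact (K.BSub (r + 1) p n) (K.ZSub (r + 1) p n) (K.ZSub r p n)
    (K.BSub_le_ZSub (r + 1) p n) (ZSub_succ_le K r p n)
  have h := hP.ker (incl (K.BSub (r + 1) p n) (K.ZSub (r + 1) p n) (K.ZSub r p n)
    (K.BSub_le_ZSub (r + 1) p n) (ZSub_succ_le K r p n)) _ _ hex (claim2' K hP r hr p n)
    (claim4 K hP r hr p n)
  exact h

theorem all_pages (r : ℕ) (hr : ∀ p n : ℤ, P (K.E r p n)) (k : ℕ) (p n : ℤ) :
    P (K.E (r + k) p n) := by
  induction k generalizing p n with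
  | zero => exact hr p n
  | succ k ih => exact step K hP (r + k) ih p n

end Groth.Agent.Lib.Helper81.SpSeqPages
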