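import Mathlib
import Groth.Prelude.Def_SpSeq
import Groth.Agent.Lib.Helper81.SubQuot
import Groth.Agent.Lib.Helper81.WeakSerre
import Groth.Agent.Lib.Helper81.SpSeqFinite
import Groth.Agent.Lib.Helper81.SpSeqHomology
import Groth.Agent.Lib.Helper81.SpSeqPages
import Groth.Agent.Lib.Helper81.SpSeqGr

set_option autoImplicit false
set_option linter.unusedSectionVars false
set_option linter.style.haveILetI false
universe v u
open CategoryTheory CategoryTheory.Limits

namespace Groth.Agent.Lib.Helper81.SpSeqSerre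

open SpSeq SpSeq.FilCx Groth.Agent.Lib.Helper81 Groth.Agent.Lib.Helper81.SubQuot
  Groth.Agent.Lib.Helper81.WeakSerre Groth.Agent.Lib.Helper81.SpSeqPages
  Groth.Agent.Lib.Helper81.SpSeqGr

variable {A : Type u} [Category.{v} A] [Abelian A]

variable {P : ObjectProperty A} (hP : IsWS P)
include hP

theorem P_of_bot {X : A} (S : Subobject X) (h : S = ⊥) : P (S : A) := by
  subst h
  exact hP.of_isZero (IsZero.of_iso (isZero_zero A) Subobject.botCoeIsoZero)

theorem P_of_gr (L : SpSeq.FilObj A) (hfin : L.IsFinite)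
    (hgr : ∀ p : ℤ, P (subquot (L.fil p) (L.fil (p + 1)) (L.anti (Int.le_add_one le_rfl)))) :
    P L.obj := by
  obtain ⟨⟨a, ha⟩, ⟨b, hb⟩⟩ := hfin
  have hstep : ∀ p : ℤ, P (L.fil (p + 1) : A) → P (L.fil p : A) := by
    intro p hp1
    have hle := L.anti (Int.le_add_one (le_refl p))
    exact hP.ext ((L.fil (p + 1)).ofLE (L.fil p) hle) (proj (L.fil p) (L.fil (p + 1)) hle)
      (ofLE_proj _ _ _) (exact_ofLE_proj _ _ _) hp1 (hgr p)
  have hdown : ∀ k : ℕ, ∀ p : ℤ, p + k = b → P (L.fil p : A) := by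
    intro k
    induction k with
    | zero =>
      intro p hp
      have : p = b := by simpa using hp
      subst this
      exact P_of_bot hP _ hb
    | succ k ih =>
      intro p hp
      exact hstep p (ih (p + 1) (by push_cast at hp; omega))
  have hall : ∀ p : ℤ, P (L.fil p : A) := by
    intro p
    by_cases hpb : p ≤ b
    · exact hdown (b - p).toNat p (by omega)
    · apply P_of_bot hP
      rw [← le_bot_iff, ← hb]
      exact L.anti (by omega)
  haveI : IsIso (L.fil a).arrow := (Subobject.isIso_arrow_iff_eq_top _).mpr ha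
  exact hP.iso (asIso (L.fil a).arrow) (hall a)

theorem P_Einfty (K : SpSeq.FilCx A) (hK : ∀ n : ℤ, (K.XFil n).IsFinite) (r : ℕ)
    (hr : ∀ p n : ℤ, P (K.E r p n)) (p n : ℤ) :
    P (subquot (K.ZTop p n) (K.BBot p n) (BBot_le_ZTop K p n)) := by
  obtain ⟨-, ⟨b, hb⟩⟩ := hK (n + 1)
  obtain ⟨⟨a, ha⟩, -⟩ := hK (n - 1)
  have hb' : K.filX b (n + 1) = ⊥ := hb
  have ha' : K.filX a (n - 1) = ⊤ := ha
  let k : ℕ := (b - p).toNat + (p + 1 - a).toNat
  have h1 : K.ZSub (r + k) p n = K.ZTop p n :=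
    ZSub_eq_ZTop_of_bot K (r + k) p n (filX_eq_bot_of_le K (n + 1) hb' (by push_cast; omega))
  have h2 : K.BSub (r + k) p n = K.BBot p n :=
    BSub_eq_BBot_of_top K (r + k) p n (filX_eq_top_of_le K (n - 1) ha' (by push_cast; omega))
  obtain ⟨e⟩ := subquot_iso_of_eq (K.BSub_le_ZSub (r + k) p n) (BBot_le_ZTop K p n) h1 h2
  exact hP.iso e (all_pages K hP r hr k p n)

theorem P_homology (K : SpSeq.FilCx A) (hK : ∀ n : ℤ, (K.XFil n).IsFinite) (r : ℕ)
    (hr : ∀ p n : ℤ, P (K.E r p n)) (n : ℤ) : P (K.obj.homology n) := by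
  have hfin := HFil_isFinite_of_finite K hK n
  refine P_of_gr hP (K.HFil n) hfin ?_
  intro p
  obtain ⟨e⟩ := gr_iso K p n
  exact hP.iso e.symm (P_Einfty hP K hK r hr p n)

end Groth.Agent.Lib.Helper81.SpSeqSerre
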