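import Mathlib
import Groth.Agent.Lib.Helper81.OrbitFlat
import Groth.Agent.Lib.Helper81.InvRational

/-! Characters trivial on the stabiliser of a point with closed orbit: the locus is cut out by
invariants (products of semi-invariants of opposite weights).  Faithfully flat descent along the
orbit map. -/

set_option autoImplicit false
set_option linter.style.haveILetI false
set_option linter.unusedSectionVars false

open TensorProduct WithConv Topology
universe u
namespace Groth.Agent.Lib.Helper81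

namespace StabChar

open ClosedOrbit OrbitDimHopf StabOpen OrbitFlat

section Can
variable {k : Type u} [Field k] {A : Type u} [CommRing A] [Algebra k A] (O : Subalgebra k A)

/-- the canonical map to the tensor product over a subalgebra -/
noncomputable def can : A ⊗[k] A →ₐ[k] A ⊗[O] A :=
  Algebra.TensorProduct.productMap
    (Algebra.TensorProduct.includeLeft (R := O) (S := k) (A := A) (B := A))
    ((Algebra.TensorProduct.includeRight (R := O) (A := A) (B := A)).restrictScalars k)

theorem can_tmul (a b : A) : can O (a ⊗ₜ[k] b) = a ⊗ₜ[O] b := by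
  simp [can]

theorem tmul_coe (o : O) (a : A) : a ⊗ₜ[O] (o : A) = ((o : A) * a) ⊗ₜ[O] (1 : A) := by
  have : (o : A) = o • (1 : A) := by rw [Algebra.smul_def, mul_one]; rfl
  conv_lhs => rw [this]
  rw [← TensorProduct.smul_tmul, Algebra.smul_def]
  rfl

end Can

section Lambda
variable {k : Type u} [Field k] {A : Type u} [CommRing A] [HopfAlgebra k A]
variable {R : Type u} [CommRing R] [Algebra k R]
  [c : HopfRep.Comod k A R] [GLin.IsCoactAlg k A R]

/-- the function `(g, h) ↦ b (h g⁻¹)` on the fibre product of the group with itself over the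
orbit -/
noncomputable def Lam (O : Subalgebra k A) : A →ₐ[k] A ⊗[O] A :=
  (can O).comp ((Algebra.TensorProduct.map (HopfAlgebra.antipodeAlgHom k A) (AlgHom.id k A)).comp
    ((Algebra.TensorProduct.comm k A A).toAlgHom.comp (Bialgebra.comulAlgHom k A)))

theorem Lam_apply (O : Subalgebra k A) (a : A) :
    Lam O a = can O (Algebra.TensorProduct.map (HopfAlgebra.antipodeAlgHom k A) (AlgHom.id k A)
      (Algebra.TensorProduct.comm k A A (Coalgebra.comul (R := k) a))) := rfl

theorem Lam_groupLike (O : Subalgebra k A) {χ : A} (hχ : IsGroupLikeElem k χ) :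
    Lam O χ = (HopfAlgebra.antipode k χ) ⊗ₜ[O] χ := by
  rw [Lam_apply, hχ.comul_eq_tmul_self]
  simp [can_tmul]

theorem can_aux (x : R →ₐ[k] k) (y : R ⊗[k] A) :
    can (Orb (A := A) x)
      (Algebra.TensorProduct.map (HopfAlgebra.antipodeAlgHom k A) (AlgHom.id k A)
        (Algebra.TensorProduct.comm k A A
          ((Lib.Helper96.OrbitSep.orbMap c x).rTensor A y))) =
      (LinearMap.mul' k A ((HopfAlgebra.antipode k (A := A)).lTensor A
        ((Lib.Helper96.OrbitSep.orbMap c x).rTensor A y))) ⊗ₜ[Orb (A := A) x] (1 : A) := by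
  induction y using TensorProduct.induction_on with
  | zero => simp
  | add y z hy hz => simp only [map_add, hy, hz, TensorProduct.add_tmul]
  | tmul r a =>
    have hmem : Lib.Helper96.OrbitSep.orbMap c x r ∈ Orb (A := A) x :=
      ⟨r, Lib.Helper96.GeomQuot.orbitHom_apply x r⟩
    have h1 := tmul_coe (Orb (A := A) x) ⟨_, hmem⟩ (HopfAlgebra.antipode k a)
    simp only [LinearMap.rTensor_tmul, Algebra.TensorProduct.comm_tmul,
      Algebra.TensorProduct.map_tmul, AlgHom.coe_id, id_eq, can_tmul, LinearMap.lTensor_tmul,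
      LinearMap.mul'_apply, HopfAlgebra.antipodeAlgHom_apply]
    exact h1

theorem Lam_orbitHom (x : R →ₐ[k] k) (r : R) :
    Lam (Orb (A := A) x) (GLin.orbitHom k A x r) =
      algebraMap k (A ⊗[Orb (A := A) x] A) (x r) := by
  rw [Lam_apply, Lib.Helper96.GeomQuot.orbitHom_apply, ← Lib.Helper96.OrbitSep.orbMap_comodHom,
    can_aux, Lib.Helper96.OrbitSep.orbMap_comodHom, HopfAlgebra.mul_antipode_lTensor_comul_apply,
    Lib.Helper96.OrbitSep.counit_orbMap, Algebra.TensorProduct.algebraMap_apply]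

theorem Lam_stabIdeal (x : R →ₐ[k] k) (a : A) (ha : a ∈ GLin.stabIdeal k A x) :
    Lam (Orb (A := A) x) a = 0 := by
  have hle : GLin.stabIdeal k A x ≤ RingHom.ker (Lam (Orb (A := A) x)).toRingHom := by
    unfold GLin.stabIdeal
    rw [Ideal.map_le_iff_le_comap]
    intro r hr
    rw [Ideal.mem_comap, RingHom.mem_ker]
    show Lam (Orb (A := A) x) (GLin.orbitHom k A x r) = 0
    rw [Lam_orbitHom, (RingHom.mem_ker).mp hr, map_zero]
  exact hle ha

theorem tmul_eq (x : R →ₐ[k] k) {χ : A} (hχ : IsGroupLikeElem k χ)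
    (hmem : χ - 1 ∈ GLin.stabIdeal k A x) :
    χ ⊗ₜ[Orb (A := A) x] (1 : A) = (1 : A) ⊗ₜ[Orb (A := A) x] χ := by
  have h0 := Lam_stabIdeal x _ hmem
  rw [map_sub, map_one, sub_eq_zero, Lam_groupLike _ hχ] at h0
  have h1 := congrArg (fun t => (χ ⊗ₜ[Orb (A := A) x] (1 : A)) * t) h0
  simp only [Algebra.TensorProduct.tmul_mul_tmul, one_mul, mul_one,
    hχ.mul_antipode_cancel] at h1
  exact h1.symm

end Lambda

section Twist
variable {k : Type u} [Field k] {A : Type u} [CommRing A] [HopfAlgebra k A]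
variable {R : Type u} [CommRing R] [Algebra k R]

theorem assoc_mul_aux (ψ : A) (t : R ⊗[k] A) (a : A) :
    TensorProduct.assoc k R A A ((t * ((1 : R) ⊗ₜ[k] ψ)) ⊗ₜ[k] (a * ψ)) =
      TensorProduct.assoc k R A A (t ⊗ₜ[k] a) * ((1 : R) ⊗ₜ[k] (ψ ⊗ₜ[k] ψ)) := by
  induction t using TensorProduct.induction_on with
  | zero => simp
  | add y z hy hz => simp only [add_mul, TensorProduct.add_tmul, map_add, hy, hz]
  | tmul s b =>
    simp only [Algebra.TensorProduct.tmul_mul_tmul, mul_one, TensorProduct.assoc_tmul]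

/-- the coaction twisted by a group-like element -/
noncomputable def tw (c : HopfRep.Comod k A R) (ψ : A) : R →ₗ[k] R ⊗[k] A :=
  LinearMap.mulRight k ((1 : R) ⊗ₜ[k] ψ) ∘ₗ c.coact

theorem tw_apply (c : HopfRep.Comod k A R) (ψ : A) (r : R) :
    tw c ψ r = c.coact r * ((1 : R) ⊗ₜ[k] ψ) := rfl

theorem tw_rTensor (c : HopfRep.Comod k A R) (ψ : A) (y : R ⊗[k] A) :
    TensorProduct.assoc k R A A ((tw c ψ).rTensor A (y * ((1 : R) ⊗ₜ[k] ψ))) =
      TensorProduct.assoc k R A A (c.coact.rTensor A y) * ((1 : R) ⊗ₜ[k] (ψ ⊗ₜ[k] ψ)) := by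
  induction y using TensorProduct.induction_on with
  | zero => simp
  | add y z hy hz => simp only [add_mul, map_add, hy, hz]
  | tmul s a =>
    rw [Algebra.TensorProduct.tmul_mul_tmul, mul_one, LinearMap.rTensor_tmul,
      LinearMap.rTensor_tmul, tw_apply, assoc_mul_aux]

theorem comul_lTensor_mul {ψ : A} (hψ : IsGroupLikeElem k ψ) (y : R ⊗[k] A) :
    (CoalgebraStruct.comul (R := k) (A := A)).lTensor R (y * ((1 : R) ⊗ₜ[k] ψ)) =
      (CoalgebraStruct.comul (R := k) (A := A)).lTensor R y * ((1 : R) ⊗ₜ[k] (ψ ⊗ₜ[k] ψ)) := by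
  induction y using TensorProduct.induction_on with
  | zero => simp
  | add y z hy hz => simp only [add_mul, map_add, hy, hz]
  | tmul s a =>
    rw [Algebra.TensorProduct.tmul_mul_tmul, mul_one, LinearMap.lTensor_tmul,
      LinearMap.lTensor_tmul, Bialgebra.comul_mul, hψ.comul_eq_tmul_self]
    generalize CoalgebraStruct.comul (R := k) a = w
    induction w using TensorProduct.induction_on with
    | zero => simp
    | add y z hy hz => simp only [add_mul, TensorProduct.tmul_add, hy, hz]
    | tmul b b' => simp only [Algebra.TensorProduct.tmul_mul_tmul, mul_one]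

theorem counit_lTensor_mul {ψ : A} (hψ : IsGroupLikeElem k ψ) (y : R ⊗[k] A) :
    (CoalgebraStruct.counit (R := k) (A := A)).lTensor R (y * ((1 : R) ⊗ₜ[k] ψ)) =
      (CoalgebraStruct.counit (R := k) (A := A)).lTensor R y := by
  induction y using TensorProduct.induction_on with
  | zero => simp
  | add y z hy hz => simp only [add_mul, map_add, hy, hz]
  | tmul s a =>
    rw [Algebra.TensorProduct.tmul_mul_tmul, mul_one, LinearMap.lTensor_tmul,
      LinearMap.lTensor_tmul, Bialgebra.counit_mul, hψ.counit_eq_one, mul_one]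

/-- the comodule twisted by a group-like element -/
noncomputable def twist (c : HopfRep.Comod k A R) {ψ : A} (hψ : IsGroupLikeElem k ψ) :
    HopfRep.Comod k A R where
  coact := tw c ψ
  coassoc := by
    apply LinearMap.ext
    intro r
    simp only [LinearMap.comp_apply, LinearEquiv.coe_coe]
    rw [tw_apply, tw_rTensor, comul_lTensor_mul hψ]
    have hco := LinearMap.congr_fun c.coassoc r
    simp only [LinearMap.comp_apply, LinearEquiv.coe_coe] at hco
    rw [hco]
  counit_comp := by
    apply LinearMap.ext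
    intro r
    simp only [LinearMap.comp_apply]
    rw [tw_apply, counit_lTensor_mul hψ]
    exact LinearMap.congr_fun c.counit_comp r

theorem twist_coact (c : HopfRep.Comod k A R) {ψ : A} (hψ : IsGroupLikeElem k ψ) (r : R) :
    (twist c hψ).coact r = c.coact r * ((1 : R) ⊗ₜ[k] ψ) := rfl

theorem lid_rTensor_mul (x : R →ₐ[k] k) (ψ : A) (y : R ⊗[k] A) :
    TensorProduct.lid k A (x.toLinearMap.rTensor A (y * ((1 : R) ⊗ₜ[k] ψ))) =
      TensorProduct.lid k A (x.toLinearMap.rTensor A y) * ψ := by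
  induction y using TensorProduct.induction_on with
  | zero => simp
  | add y z hy hz => simp only [add_mul, map_add, hy, hz]
  | tmul s a =>
    simp [Algebra.TensorProduct.tmul_mul_tmul]

end Twist

section Main
variable {k : Type u} [Field k] [IsAlgClosed k] {A : Type u} [CommRing A] [HopfAlgebra k A]
  [Algebra.FiniteType k A] [IsDomain A]
variable {R : Type u} [CommRing R] [Algebra k R] [Algebra.FiniteType k R]
  [c : HopfRep.Comod k A R] [GLin.IsCoactAlg k A R]

/-- faithfully flat descent: a character trivial on the stabiliser of a point with closed orbit is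
a function on the orbit -/
theorem mem_orb (x : R →ₐ[k] k)
    (hcl : ∀ z : R →ₐ[k] k, K A x ≤ RingHom.ker z → ∃ g : A →ₐ[k] k, z = GLin.actPt k g x)
    {χ : A} (hχ : IsGroupLikeElem k χ) (hmem : χ - 1 ∈ GLin.stabIdeal k A x) :
    χ ∈ Orb (A := A) x := by
  haveI := OrbitFlat.faithfullyFlat x hcl
  have heff : Algebra.IsEffective (Orb (A := A) x) A := Algebra.IsEffective.of_faithfullyFlat _ _
  have h0 : Algebra.TensorProduct.includeLeftSubRight (Orb (A := A) x) A χ = 0 := by
    rw [Algebra.TensorProduct.includeLeftSubRight_apply, tmul_eq x hχ hmem, sub_self]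
  obtain ⟨o, ho⟩ := (heff χ).mp h0
  rw [← ho]
  exact o.2

theorem mem_stabIdeal_of_semiinv (x : R →ₐ[k] k) {χ : A} (f : R)
    (hf : c.coact f = f ⊗ₜ[k] χ) (hx : x f ≠ 0) : χ - 1 ∈ GLin.stabIdeal k A x := by
  have h1 : GLin.orbitHom k A x f = x f • χ := by
    rw [Lib.Helper96.GeomQuot.orbitHom_apply, Lib.Helper96.OrbitSep.orbMap_apply, hf]
    simp
  have h2 : f - algebraMap k R (x f) ∈ RingHom.ker x := by
    rw [RingHom.mem_ker, map_sub, AlgHom.commutes, Algebra.algebraMap_self_apply, sub_self]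
  have h3 : GLin.orbitHom k A x (f - algebraMap k R (x f)) ∈ GLin.stabIdeal k A x :=
    Ideal.mem_map_of_mem _ h2
  rw [map_sub, h1, AlgHom.commutes, Algebra.algebraMap_eq_smul_one, ← smul_sub] at h3
  have h4 := (GLin.stabIdeal k A x).mul_mem_left (algebraMap k A (x f)⁻¹) h3
  rw [← Algebra.smul_def, smul_smul, inv_mul_cancel₀ hx, one_smul] at h4
  exact h4

variable (α : A →ₗ[k] k)
  (hα : @Hoch.IsComodHom k _ A _ _ _ A _ _ _ k _ _ (HopfRep.Comod.trivial k A k) α) (h1 : α 1 = 1)

include hα h1 in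
theorem exists_semiinv (x : R →ₐ[k] k)
    (hcl : ∀ z : R →ₐ[k] k, K A x ≤ RingHom.ker z → ∃ g : A →ₐ[k] k, z = GLin.actPt k g x)
    {χ : A} (hχ : IsGroupLikeElem k χ) (hmem : χ - 1 ∈ GLin.stabIdeal k A x) :
    ∃ f : R, c.coact f = f ⊗ₜ[k] χ ∧ x f = 1 := by
  obtain ⟨r₀, hr₀⟩ := mem_orb x hcl hχ hmem
  have hr₀' : GLin.orbitHom k A x r₀ = χ := hr₀
  have hSχ : IsGroupLikeElem k (HopfAlgebra.antipode k χ) := hχ.antipode
  refine ⟨Lib.Helper96.reyn (twist c hSχ) α r₀, ?_, ?_⟩
  · have h := Lib.Helper96.coact_reyn (twist c hSχ) α hα r₀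
    rw [twist_coact] at h
    have h' := congrArg (fun t => t * ((1 : R) ⊗ₜ[k] χ)) h
    simp only [mul_assoc, Algebra.TensorProduct.tmul_mul_tmul, mul_one, one_mul,
      hχ.antipode_mul_cancel] at h'
    rw [← Algebra.TensorProduct.one_def, mul_one] at h'
    exact h'
  · rw [Lib.Helper96.reyn_apply, ← dual_orbMap (c := c), twist_coact, lid_rTensor_mul]
    have : TensorProduct.lid k A (x.toLinearMap.rTensor A (c.coact r₀)) = χ := by
      rw [← hr₀', Lib.Helper96.GeomQuot.orbitHom_apply, Lib.Helper96.OrbitSep.orbMap_apply]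
    rw [this, hχ.mul_antipode_cancel, LinearMap.comp_apply, HopfAlgebra.antipode_one, h1]

include hα h1 in
/-- the locus of closed orbits on whose stabiliser a character is trivial is cut out by
invariants -/
theorem main {χ : A} (hχ : IsGroupLikeElem k χ) :
    ∃ E : Set R, E ⊆ (GLin.invariants k A R : Set R) ∧
      ∀ x : R →ₐ[k] k,
        (∀ z : R →ₐ[k] k, K A x ≤ RingHom.ker z → ∃ g : A →ₐ[k] k, z = GLin.actPt k g x) →
        (χ - 1 ∈ GLin.stabIdeal k A x ↔ ∃ f ∈ E, x f ≠ 0) := by
  refine ⟨{e | ∃ f h : R, c.coact f = f ⊗ₜ[k] χ ∧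
    c.coact h = h ⊗ₜ[k] (HopfAlgebra.antipode k χ) ∧ e = f * h}, ?_, ?_⟩
  · rintro e ⟨f, h, hf, hh, rfl⟩
    show c.coact (f * h) = (f * h) ⊗ₜ[k] (1 : A)
    rw [GLin.IsCoactAlg.coact_mul (k := k) (A := A), hf, hh, Algebra.TensorProduct.tmul_mul_tmul,
      hχ.mul_antipode_cancel]
  · intro x hcl
    constructor
    · intro hmem
      have hSχ : IsGroupLikeElem k (HopfAlgebra.antipode k χ) := hχ.antipode
      have hmem' : HopfAlgebra.antipode k χ - 1 ∈ GLin.stabIdeal k A x := by
        have := (GLin.stabIdeal k A x).mul_mem_left (-(HopfAlgebra.antipode k χ)) hmem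
        have e : -(HopfAlgebra.antipode k χ) * (χ - 1) = HopfAlgebra.antipode k χ - 1 := by
          rw [mul_sub, neg_mul, hχ.antipode_mul_cancel, mul_one]
          ring
        rwa [e] at this
      obtain ⟨f, hf, hxf⟩ := exists_semiinv α hα h1 x hcl hχ hmem
      obtain ⟨h, hh, hxh⟩ := exists_semiinv α hα h1 x hcl hSχ hmem'
      refine ⟨f * h, ⟨f, h, hf, hh, rfl⟩, ?_⟩
      rw [map_mul, hxf, hxh, mul_one]
      exact one_ne_zero
    · rintro ⟨e, ⟨f, h, hf, hh, rfl⟩, hx⟩
      rw [map_mul] at hx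
      exact mem_stabIdeal_of_semiinv x f hf (left_ne_zero_of_mul hx)

end Main

end StabChar

end Groth.Agent.Lib.Helper81
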