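import Mathlib
import Groth.Agent.Lib.Helper81.MonoidAlgUnits

set_option autoImplicit false
universe u

open CategoryTheory CategoryTheory.Limits

namespace Groth.Agent.Lib.Helper81.TorusPushout

open Groth.Agent.Lib.Helper81.MonoidAlgUnits

variable {Z₀ A T₀ B : CommRingCat.{u}} {φ : Z₀ ⟶ A} {ψ : Z₀ ⟶ T₀} {α : A ⟶ B} {β : T₀ ⟶ B}
  (n : ℕ) (θ : T₀ ≅ CommRingCat.of (ULift.{u} (AddMonoidAlgebra ℤ (Fin n → ℤ))))

noncomputable def mon (e : Fin n → ℤ) : T₀ :=
  θ.inv (ULift.up (AddMonoidAlgebra.single e 1))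

theorem mon_zero : mon n θ 0 = 1 := by
  unfold mon
  have : (ULift.up (AddMonoidAlgebra.single (0 : Fin n → ℤ) (1 : ℤ)) :
      ULift.{u} (AddMonoidAlgebra ℤ (Fin n → ℤ))) = 1 := rfl
  rw [this, map_one]

theorem mon_add (e e' : Fin n → ℤ) : mon n θ (e + e') = mon n θ e * mon n θ e' := by
  unfold mon
  rw [← map_mul]
  congr 1
  apply ULift.ext
  change AddMonoidAlgebra.single (e + e') (1 : ℤ) =
    AddMonoidAlgebra.single e 1 * AddMonoidAlgebra.single e' 1
  rw [AddMonoidAlgebra.single_mul_single, mul_one]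

noncomputable def tMap (A : CommRingCat.{u}) :
    ULift.{u} (AddMonoidAlgebra ℤ (Fin n → ℤ)) →+* AddMonoidAlgebra A (Fin n → ℤ) :=
  (AddMonoidAlgebra.mapRingHom (Fin n → ℤ) (Int.castRingHom A)).comp
    (ULift.ringEquiv : ULift.{u} (AddMonoidAlgebra ℤ (Fin n → ℤ)) ≃+* _).toRingHom

variable (h : IsPushout φ ψ α β) (hZ : IsInitial Z₀)

noncomputable def F : B ⟶ CommRingCat.of (AddMonoidAlgebra A (Fin n → ℤ)) :=
  h.desc (CommRingCat.ofHom AddMonoidAlgebra.singleZeroRingHom)
    (θ.hom ≫ CommRingCat.ofHom (tMap n A)) (hZ.hom_ext _ _)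

theorem F_α (a : A) : F n θ h hZ (α a) = AddMonoidAlgebra.single 0 a := by
  have := h.inl_desc (CommRingCat.ofHom AddMonoidAlgebra.singleZeroRingHom)
    (θ.hom ≫ CommRingCat.ofHom (tMap n A)) (hZ.hom_ext _ _)
  have := congrArg (fun f => f.hom a) this
  exact this

theorem F_β (e : Fin n → ℤ) : F n θ h hZ (β (mon n θ e)) = AddMonoidAlgebra.single e 1 := by
  have := h.inr_desc (CommRingCat.ofHom AddMonoidAlgebra.singleZeroRingHom)
    (θ.hom ≫ CommRingCat.ofHom (tMap n A)) (hZ.hom_ext _ _)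
  have := congrArg (fun f => f.hom (mon n θ e)) this
  refine this.trans ?_
  change tMap n A (θ.hom (θ.inv _)) = _
  have e1 : θ.hom (θ.inv (ULift.up (AddMonoidAlgebra.single e (1 : ℤ)))) =
      ULift.up (AddMonoidAlgebra.single e (1 : ℤ)) := by
    have := congrArg (fun f => f.hom (ULift.up (AddMonoidAlgebra.single e (1 : ℤ)))) θ.inv_hom_id
    exact this
  rw [e1]
  change AddMonoidAlgebra.mapRingHom (Fin n → ℤ) (Int.castRingHom A)
    (AddMonoidAlgebra.single e (1 : ℤ)) = _
  rw [AddMonoidAlgebra.mapRingHom_single, map_one]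

noncomputable def monHom : Multiplicative (Fin n → ℤ) →* B where
  toFun e := β (mon n θ e.toAdd)
  map_one' := by
    change β (mon n θ 0) = 1
    rw [mon_zero, map_one]
  map_mul' e e' := by
    change β (mon n θ (e.toAdd + e'.toAdd)) = _
    rw [mon_add, map_mul]

noncomputable def Gm : AddMonoidAlgebra A (Fin n → ℤ) →+* B :=
  AddMonoidAlgebra.liftNCRingHom α.hom (monHom (β := β) n θ) (fun _ _ => Commute.all _ _)

theorem Gm_single (e : Fin n → ℤ) (a : A) :
    Gm (α := α) (β := β) n θ (AddMonoidAlgebra.single e a) = α a * β (mon n θ e) := by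
  unfold Gm
  rw [AddMonoidAlgebra.liftNCRingHom_single]
  rfl

theorem Gm_tMap (x : ULift.{u} (AddMonoidAlgebra ℤ (Fin n → ℤ))) :
    Gm (α := α) (β := β) n θ (tMap n A x) = β (θ.inv x) := by
  obtain ⟨p⟩ := x
  let f1 : AddMonoidAlgebra ℤ (Fin n → ℤ) →+* B :=
    (Gm (α := α) (β := β) n θ).comp
      (AddMonoidAlgebra.mapRingHom (Fin n → ℤ) (Int.castRingHom A))
  let f2 : AddMonoidAlgebra ℤ (Fin n → ℤ) →+* B :=
    (β.hom.comp θ.inv.hom).comp
      (ULift.ringEquiv : ULift.{u} (AddMonoidAlgebra ℤ (Fin n → ℤ)) ≃+* _).symm.toRingHom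
  have : f1 = f2 := by
    apply AddMonoidAlgebra.ringHom_ext
    · intro r
      have e1 : (AddMonoidAlgebra.single (0 : Fin n → ℤ) r : AddMonoidAlgebra ℤ (Fin n → ℤ)) =
          (r : AddMonoidAlgebra ℤ (Fin n → ℤ)) := by
        rw [AddMonoidAlgebra.intCast_def, Int.cast_id]
      rw [e1, map_intCast, map_intCast]
    · intro m
      change Gm (α := α) (β := β) n θ (AddMonoidAlgebra.mapRingHom (Fin n → ℤ)
        (Int.castRingHom A) (AddMonoidAlgebra.single m 1)) = β (mon n θ m)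
      rw [AddMonoidAlgebra.mapRingHom_single, map_one, Gm_single, map_one, one_mul]
  exact congrArg (fun f => f p) this

include h hZ in
theorem Gm_F (w : B) : Gm (α := α) (β := β) n θ (F n θ h hZ w) = w := by
  have : F n θ h hZ ≫ CommRingCat.ofHom (Gm (α := α) (β := β) n θ) = 𝟙 B := by
    apply h.hom_ext
    · ext a
      change Gm (α := α) (β := β) n θ (F n θ h hZ (α a)) = α a
      rw [F_α, Gm_single, mon_zero, map_one, mul_one]
    · ext x
      change Gm (α := α) (β := β) n θ (F n θ h hZ (β x)) = β x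
      have hx : F n θ h hZ (β x) = tMap n A (θ.hom x) := by
        have := h.inr_desc (CommRingCat.ofHom AddMonoidAlgebra.singleZeroRingHom)
          (θ.hom ≫ CommRingCat.ofHom (tMap n A)) (hZ.hom_ext _ _)
        exact congrArg (fun f => f.hom x) this
      rw [hx, Gm_tMap]
      have := congrArg (fun f => f.hom x) θ.hom_inv_id
      exact congrArg β this
  exact congrArg (fun f => f.hom w) this

include h hZ in
theorem exists_of_isUnit [IsDomain A] (w : B) (hw : IsUnit w) :
    ∃ (e : Fin n → ℤ) (a : A), IsUnit a ∧ w = α a * β (mon n θ e) := by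
  have hu : IsUnit (F n θ h hZ w) := hw.map (F n θ h hZ).hom
  obtain ⟨e, a, ha, hFa⟩ := exists_single_of_isUnit (R := A) (M := Fin n → ℤ) hu
  refine ⟨e, a, ha, ?_⟩
  rw [← Gm_F n θ h hZ w, hFa, Gm_single]

include h hZ in
theorem eq_of_eq (a : A) (ha : a ≠ 0) (e e' : Fin n → ℤ)
    (heq : α a * β (mon n θ e) = α a * β (mon n θ e')) : e = e' := by
  have := congrArg (F n θ h hZ) heq
  rw [map_mul, map_mul, F_α, F_β, F_β, AddMonoidAlgebra.single_mul_single,
    AddMonoidAlgebra.single_mul_single, zero_add, zero_add, mul_one] at this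
  exact (AddMonoidAlgebra.single_left_inj ha).mp this

end Groth.Agent.Lib.Helper81.TorusPushout
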