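import Mathlib
import Groth.Agent.Lib.Helper81.TorusPushout

set_option autoImplicit false
universe u

open CategoryTheory CategoryTheory.Limits AlgebraicGeometry Opposite

namespace Groth.Agent.Lib.Helper81.TorusUnits

open Groth.Agent.Lib.Helper81.TorusPushout

variable (X : Scheme.{u}) (n : ℕ)

noncomputable abbrev R₀ : CommRingCat.{u} := CommRingCat.of (ULift.{u} (AddMonoidAlgebra ℤ (Fin n → ℤ)))

noncomputable abbrev TT : Scheme.{u} := Spec (R₀ n)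

noncomputable abbrev θ : Γ(TT n, ⊤) ≅ R₀ n := Scheme.ΓSpecIso (R₀ n)

theorem appLE_congr_hom {X Y : Scheme.{u}} {f f' : X ⟶ Y} (h : f = f') (U : Y.Opens) (V : X.Opens)
    (e : V ≤ f ⁻¹ᵁ U) : f.appLE U V e = f'.appLE U V (h ▸ e) := by
  subst h; rfl

theorem isPullback : IsPullback (prod.fst : X ⨯ TT n ⟶ X) prod.snd (terminal.from X)
    (terminal.from (TT n)) :=
  IsPullback.of_hasBinaryProduct' X (TT n)

noncomputable def hZ : IsInitial Γ(⊤_ Scheme.{u}, ⊤) :=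
  IsInitial.ofIso CommRingCat.isInitial
    ((Scheme.ΓSpecIso _).symm ≪≫
      Scheme.Γ.mapIso (terminalIsTerminal.uniqueUpToIso specULiftZIsTerminal.{u}).op)

noncomputable def PU (U : X.Opens) : (X ⨯ TT n).Opens :=
  (prod.fst : X ⨯ TT n ⟶ X) ⁻¹ᵁ U ⊓ (prod.snd : X ⨯ TT n ⟶ TT n) ⁻¹ᵁ ⊤

noncomputable abbrev αU (U : X.Opens) : Γ(X, U) ⟶ Γ(X ⨯ TT n, PU X n U) :=
  (prod.fst : X ⨯ TT n ⟶ X).appLE U (PU X n U) inf_le_left

noncomputable abbrev βU (U : X.Opens) : Γ(TT n, ⊤) ⟶ Γ(X ⨯ TT n, PU X n U) :=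
  (prod.snd : X ⨯ TT n ⟶ TT n).appLE ⊤ (PU X n U) inf_le_right

theorem isPushout (U : X.Opens) (hU : IsAffineOpen U) :
    IsPushout ((terminal.from X).appLE ⊤ U le_top) ((terminal.from (TT n)).appLE ⊤ ⊤ le_top)
      (αU X n U) (βU X n U) := by
  have h1 := isIso_pushoutSection_of_isAffineOpen (isPullback X n)
    (US := ⊤) (UT := ⊤) (UX := U) (UY := PU X n U) le_top le_top rfl
    (isAffineOpen_top _) (isAffineOpen_top _) hU
  exact (isIso_pushoutSection_iff (isPullback X n) le_top le_top rfl).mp h1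

noncomputable abbrev res (V : (X ⨯ TT n).Opens) : Γ(X ⨯ TT n, ⊤) ⟶ Γ(X ⨯ TT n, V) :=
  (X ⨯ TT n).presheaf.map (homOfLE le_top).op

noncomputable def m (e : Fin n → ℤ) : Γ(X ⨯ TT n, ⊤) :=
  (prod.snd : X ⨯ TT n ⟶ TT n).appTop (mon n (θ n) e)

theorem βU_mon (U : X.Opens) (e : Fin n → ℤ) :
    βU X n U (mon n (θ n) e) = res X n (PU X n U) (m X n e) := rfl

theorem αU_res (U : X.Opens) (a : Γ(X, ⊤)) :
    αU X n U (X.presheaf.map (homOfLE le_top).op a) =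
      res X n (PU X n U) ((prod.fst : X ⨯ TT n ⟶ X).appTop a) := by
  change (X.presheaf.map (homOfLE le_top).op ≫ αU X n U) a = _
  rw [Scheme.Hom.map_appLE]
  rfl

theorem local_form [IsIntegral X] (U : X.Opens) (hU : IsAffineOpen U) [Nonempty U]
    (w : Γ(X ⨯ TT n, ⊤)) (hw : IsUnit w) :
    ∃ (e : Fin n → ℤ) (a : Γ(X, U)), IsUnit a ∧
      res X n (PU X n U) w = αU X n U a * res X n (PU X n U) (m X n e) :=
  exists_of_isUnit n (θ n) (isPushout X n U hU) hZ _ (hw.map (res X n (PU X n U)).hom)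

theorem local_unique [IsIntegral X] (U : X.Opens) (hU : IsAffineOpen U) [Nonempty U]
    (a : Γ(X, U)) (ha : a ≠ 0) (e e' : Fin n → ℤ)
    (heq : αU X n U a * res X n (PU X n U) (m X n e) =
      αU X n U a * res X n (PU X n U) (m X n e')) : e = e' :=
  eq_of_eq n (θ n) (isPushout X n U hU) hZ a ha e e' heq

noncomputable def augHom : ULift.{u} (AddMonoidAlgebra ℤ (Fin n → ℤ)) →+* Γ(X, ⊤) :=
  (AddMonoidAlgebra.liftNCRingHom (Int.castRingHom Γ(X, ⊤))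
    (1 : Multiplicative (Fin n → ℤ) →* Γ(X, ⊤)) (fun _ _ => Commute.all _ _)).comp
    (ULift.ringEquiv : ULift.{u} (AddMonoidAlgebra ℤ (Fin n → ℤ)) ≃+* _).toRingHom

noncomputable def τ : X ⟶ TT n := X.toSpecΓ ≫ Spec.map (CommRingCat.ofHom (augHom X n))

theorem τ_mon (e : Fin n → ℤ) : (τ X n).appTop (mon n (θ n) e) = 1 := by
  unfold τ mon
  rw [Scheme.Hom.comp_appTop, CommRingCat.comp_apply, ← CommRingCat.comp_apply _ (Spec.map _).appTop,
    ← Scheme.ΓSpecIso_inv_naturality, CommRingCat.comp_apply, Scheme.toSpecΓ_appTop]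
  have : (Scheme.ΓSpecIso Γ(X, ⊤)).hom ((Scheme.ΓSpecIso Γ(X, ⊤)).inv
      ((CommRingCat.ofHom (augHom X n)).hom (ULift.up (AddMonoidAlgebra.single e 1)))) =
      (CommRingCat.ofHom (augHom X n)).hom (ULift.up (AddMonoidAlgebra.single e 1)) := by
    have := congrArg (fun f => f.hom ((CommRingCat.ofHom (augHom X n)).hom
      (ULift.up (AddMonoidAlgebra.single e 1)))) (Scheme.ΓSpecIso Γ(X, ⊤)).inv_hom_id
    exact this
  rw [this]
  change AddMonoidAlgebra.liftNCRingHom (Int.castRingHom Γ(X, ⊤))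
    (1 : Multiplicative (Fin n → ℤ) →* Γ(X, ⊤)) (fun _ _ => Commute.all _ _)
    (AddMonoidAlgebra.single e 1) = 1
  rw [AddMonoidAlgebra.liftNCRingHom_single, map_one, one_mul]
  rfl

noncomputable def σ : X ⟶ X ⨯ TT n := prod.lift (𝟙 X) (τ X n)

theorem σ_fst : σ X n ≫ prod.fst = 𝟙 X := prod.lift_fst _ _

theorem σ_snd : σ X n ≫ prod.snd = τ X n := prod.lift_snd _ _

theorem le_σ_preimage (U : X.Opens) : U ≤ σ X n ⁻¹ᵁ PU X n U := by
  intro x hx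
  refine ⟨?_, trivial⟩
  change (prod.fst : X ⨯ TT n ⟶ X) (σ X n x) ∈ U
  rw [← Scheme.Hom.comp_apply, σ_fst]
  exact hx

noncomputable def sU (U : X.Opens) : Γ(X ⨯ TT n, PU X n U) ⟶ Γ(X, U) :=
  (σ X n).appLE (PU X n U) U (le_σ_preimage X n U)

theorem sU_α (U : X.Opens) (a : Γ(X, U)) : sU X n U (αU X n U a) = a := by
  change (αU X n U ≫ sU X n U) a = a
  unfold sU αU
  rw [Scheme.Hom.appLE_comp_appLE, appLE_congr_hom (σ_fst X n)]
  have : ∀ (hh : U ≤ (𝟙 X : X ⟶ X) ⁻¹ᵁ U), (𝟙 X : X ⟶ X).appLE U U hh = 𝟙 _ := by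
    intro hh
    rw [Scheme.Hom.appLE, Scheme.Hom.id_app]
    exact X.presheaf.map_id _
  rw [this]
  rfl

theorem sU_res (U : X.Opens) (w : Γ(X ⨯ TT n, ⊤)) :
    sU X n U (res X n (PU X n U) w) = X.presheaf.map (homOfLE le_top).op ((σ X n).appTop w) := by
  change (res X n (PU X n U) ≫ sU X n U) w = _
  unfold sU res
  rw [Scheme.Hom.map_appLE]
  rfl

theorem sU_m (U : X.Opens) (e : Fin n → ℤ) :
    sU X n U (res X n (PU X n U) (m X n e)) = 1 := by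
  rw [sU_res]
  have : (σ X n).appTop (m X n e) = 1 := by
    unfold m
    change ((prod.snd : X ⨯ TT n ⟶ TT n).appTop ≫ (σ X n).appTop) (mon n (θ n) e) = 1
    rw [← Scheme.Hom.comp_appTop, σ_snd, τ_mon]
  rw [this, map_one]

theorem local_eq_m [IsIntegral X] (U : X.Opens) (hU : IsAffineOpen U) [Nonempty U]
    (w : Γ(X ⨯ TT n, ⊤)) (hw : IsUnit w) (hσ : (σ X n).appTop w = 1) :
    ∃ e : Fin n → ℤ, res X n (PU X n U) w = res X n (PU X n U) (m X n e) := by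
  obtain ⟨e, a, ha, h⟩ := local_form X n U hU w hw
  have h2 := congrArg (sU X n U) h
  rw [sU_res, hσ, map_one, map_mul, sU_α, sU_m, mul_one] at h2
  refine ⟨e, ?_⟩
  rw [h, ← h2, map_one, one_mul]

theorem PU_mono {W U : X.Opens} (h : W ≤ U) : PU X n W ≤ PU X n U :=
  fun _ hx => ⟨h hx.1, hx.2⟩

theorem res_res {W U : X.Opens} (h : W ≤ U) (w : Γ(X ⨯ TT n, ⊤)) :
    (X ⨯ TT n).presheaf.map (homOfLE (PU_mono X n h)).op (res X n (PU X n U) w) =
      res X n (PU X n W) w := by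
  change ((X ⨯ TT n).presheaf.map _ ≫ (X ⨯ TT n).presheaf.map _) w = _
  rw [← Functor.map_comp]
  rfl

open TopologicalSpace in
theorem e_unique [IsIntegral X] (U U' : X.Opens) (hU : IsAffineOpen U) (hU' : IsAffineOpen U')
    [hne : Nonempty U] [hne' : Nonempty U'] (w : Γ(X ⨯ TT n, ⊤)) (e e' : Fin n → ℤ)
    (h : res X n (PU X n U) w = res X n (PU X n U) (m X n e))
    (h' : res X n (PU X n U') w = res X n (PU X n U') (m X n e')) : e = e' := by
  obtain ⟨⟨y, hy⟩⟩ := hne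
  obtain ⟨⟨y', hy'⟩⟩ := hne'
  obtain ⟨x, hx⟩ : ((U : Set X) ∩ U').Nonempty :=
    nonempty_preirreducible_inter U.2 U'.2 ⟨y, hy⟩ ⟨y', hy'⟩
  obtain ⟨W, hW, hxW, hle⟩ := Opens.isBasis_iff_nbhd.mp X.isBasis_affineOpens
    (show x ∈ U ⊓ U' from hx)
  have : Nonempty W := ⟨⟨x, hxW⟩⟩
  have h1 : res X n (PU X n W) (m X n e) = res X n (PU X n W) (m X n e') := by
    rw [← res_res X n (hle.trans inf_le_left) (m X n e), ← h, res_res X n (hle.trans inf_le_left) w,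
      ← res_res X n (hle.trans inf_le_right) (m X n e'), ← h',
      res_res X n (hle.trans inf_le_right) w]
  apply local_unique X n W hW 1 one_ne_zero e e'
  rw [map_one, one_mul, one_mul]
  exact h1

open TopologicalSpace in
theorem exists_affine_nonempty [IsIntegral X] :
    ∃ U : X.Opens, IsAffineOpen U ∧ Nonempty U := by
  obtain ⟨x₀⟩ := (inferInstance : Nonempty X)
  obtain ⟨U₀, hU₀, hx₀, -⟩ := Opens.isBasis_iff_nbhd.mp X.isBasis_affineOpens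
    (show x₀ ∈ (⊤ : X.Opens) from trivial)
  exact ⟨U₀, hU₀, ⟨⟨x₀, hx₀⟩⟩⟩

open TopologicalSpace in
theorem global_eq [IsIntegral X] (w : Γ(X ⨯ TT n, ⊤)) (hw : IsUnit w)
    (hσ : (σ X n).appTop w = 1) : ∃ e : Fin n → ℤ, w = m X n e := by
  obtain ⟨U₀, hU₀, hne₀⟩ := exists_affine_nonempty X
  obtain ⟨e, he⟩ := local_eq_m X n U₀ hU₀ w hw hσ
  refine ⟨e, ?_⟩
  let ι := {U : X.Opens // IsAffineOpen U ∧ Nonempty U}
  have hcov : (⊤ : (X ⨯ TT n).Opens) ≤ iSup (fun i : ι => PU X n i.1) := by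
    intro x _
    obtain ⟨U, hU, hxU, -⟩ := Opens.isBasis_iff_nbhd.mp X.isBasis_affineOpens
      (show (prod.fst : X ⨯ TT n ⟶ X) x ∈ (⊤ : X.Opens) from trivial)
    exact Opens.mem_iSup.mpr ⟨⟨U, hU, ⟨⟨_, hxU⟩⟩⟩, ⟨hxU, trivial⟩⟩
  refine (X ⨯ TT n).sheaf.eq_of_locally_eq' (fun i : ι => PU X n i.1) ⊤
    (fun i => homOfLE le_top) hcov w (m X n e) ?_
  intro i
  have := i.2.2
  obtain ⟨e', he'⟩ := local_eq_m X n i.1 i.2.1 w hw hσ
  have := e_unique X n U₀ i.1 hU₀ i.2.1 w e e' he he'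
  subst this
  exact he'

theorem σ_m (e : Fin n → ℤ) : (σ X n).appTop (m X n e) = 1 := by
  unfold m
  change ((prod.snd : X ⨯ TT n ⟶ TT n).appTop ≫ (σ X n).appTop) (mon n (θ n) e) = 1
  rw [← Scheme.Hom.comp_appTop, σ_snd, τ_mon]

theorem σ_fst_app (a : Γ(X, ⊤)) :
    (σ X n).appTop ((prod.fst : X ⨯ TT n ⟶ X).appTop a) = a := by
  change ((prod.fst : X ⨯ TT n ⟶ X).appTop ≫ (σ X n).appTop) a = a
  rw [← Scheme.Hom.comp_appTop, σ_fst]
  simp

theorem main [IsIntegral X] (v : Γ(X ⨯ TT n, ⊤)) (hv : IsUnit v) :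
    ∃! p : (Γ(X, ⊤))ˣ × (Fin n → ℤ),
      v = (prod.fst : X ⨯ TT n ⟶ X).appTop (p.1 : Γ(X, ⊤)) * m X n p.2 := by
  let au : (Γ(X, ⊤))ˣ := (hv.map (σ X n).appTop.hom).unit
  have hau : (au : Γ(X, ⊤)) = (σ X n).appTop v := rfl
  let w : Γ(X ⨯ TT n, ⊤) := v * (prod.fst : X ⨯ TT n ⟶ X).appTop ((au⁻¹ : (Γ(X, ⊤))ˣ) : Γ(X, ⊤))
  have hw : IsUnit w :=
    hv.mul ((au⁻¹).isUnit.map (prod.fst : X ⨯ TT n ⟶ X).appTop.hom)
  have hσw : (σ X n).appTop w = 1 := by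
    change (σ X n).appTop (v * _) = 1
    rw [map_mul, σ_fst_app, ← hau]
    exact Units.mul_inv au
  obtain ⟨e, he⟩ := global_eq X n w hw hσw
  have hv_eq : v = (prod.fst : X ⨯ TT n ⟶ X).appTop (au : Γ(X, ⊤)) * m X n e := by
    rw [← he]
    change v = _ * (v * _)
    rw [mul_comm v, ← mul_assoc, ← map_mul, Units.mul_inv, map_one, one_mul]
  refine ⟨(au, e), hv_eq, ?_⟩
  rintro ⟨a', e'⟩ hp
  change v = (prod.fst : X ⨯ TT n ⟶ X).appTop (a' : Γ(X, ⊤)) * m X n e' at hp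
  have ha' : a' = au := by
    apply Units.ext
    have := congrArg (σ X n).appTop hp
    rw [map_mul, σ_fst_app, σ_m, mul_one] at this
    rw [hau, this]
  rw [ha'] at hp
  obtain ⟨U₀, hU₀, hne₀⟩ := exists_affine_nonempty X
  have h3 : e' = e := by
    apply local_unique X n U₀ hU₀ (X.presheaf.map (homOfLE le_top).op (au : Γ(X, ⊤)))
      ((au.isUnit.map (X.presheaf.map (homOfLE le_top).op).hom).ne_zero) e' e
    rw [αU_res, ← map_mul, ← map_mul, ← hp, ← hv_eq]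
  rw [ha', h3]

end Groth.Agent.Lib.Helper81.TorusUnits
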