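import Groth.Agent.Lib.Helper99.TotalIntegral
import Mathlib.RingTheory.Flat.Basic
import Mathlib.RingTheory.Spectrum.Prime.Topology

set_option autoImplicit false
set_option linter.style.haveILetI false
set_option linter.unusedSectionVars false
universe u v w

open TensorProduct

namespace Groth.Agent.Lib.Helper81.TotalIntQuot

open Groth.Agent.Lib.Helper99

variable {k : Type u} [CommRing k] {A : Type v} [CommRing A] [HopfAlgebra k A]
  {B : Type w} [CommRing B] [Algebra k B] [HopfRep.Comod k A B] [GLin.IsCoactAlg k A B]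

variable (k A) in
/-- the coaction followed by reduction modulo `I` -/
noncomputable def theta (I : Ideal B) : B →ₐ[k] (B ⧸ I) ⊗[k] A :=
  (Algebra.TensorProduct.map (Ideal.Quotient.mkₐ k I) (AlgHom.id k A)).comp
    (GLin.coactAlgHom k A B)

theorem theta_apply (I : Ideal B) (b : B) :
    theta k A I b = (Ideal.Quotient.mkₐ k I).toLinearMap.rTensor A (rho k A B b) := rfl

variable (k A) in
/-- the largest subcomodule ideal inside `I` -/
noncomputable def J (I : Ideal B) : Ideal B := RingHom.ker (theta k A I).toRingHom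

theorem mem_J (I : Ideal B) (b : B) : b ∈ J k A I ↔ theta k A I b = 0 := Iff.rfl

theorem counit_rho (b : B) :
    TensorProduct.rid k B ((Coalgebra.counit (R := k) (A := A)).lTensor B (rho k A B b)) = b := by
  have h := LinearMap.congr_fun (HopfRep.Comod.counit_comp (k := k) (A := A) (V := B)) b
  simp only [LinearMap.comp_apply, LinearMap.flip_apply, TensorProduct.mk_apply] at h
  rw [h]
  simp

theorem J_le (I : Ideal B) : J k A I ≤ I := by
  intro b hb
  rw [mem_J, theta_apply] at hb
  have h1 : ∀ y : B ⊗[k] A, TensorProduct.rid k (B ⧸ I)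
      ((Coalgebra.counit (R := k) (A := A)).lTensor (B ⧸ I)
        ((Ideal.Quotient.mkₐ k I).toLinearMap.rTensor A y)) =
      Ideal.Quotient.mk I (TensorProduct.rid k B
        ((Coalgebra.counit (R := k) (A := A)).lTensor B y)) := by
    intro y
    induction y using TensorProduct.induction_on with
    | zero => simp
    | tmul b' a =>
      simp only [LinearMap.rTensor_tmul, LinearMap.lTensor_tmul, TensorProduct.rid_tmul,
        AlgHom.toLinearMap_apply, Ideal.Quotient.mkₐ_eq_mk]
      rw [Algebra.smul_def, Algebra.smul_def, map_mul]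
      rfl
    | add y₁ y₂ e₁ e₂ => simp only [map_add, e₁, e₂]
  have h2 := h1 (rho k A B b)
  rw [hb, counit_rho] at h2
  simp only [map_zero] at h2
  exact Ideal.Quotient.eq_zero_iff_mem.mp h2.symm

theorem rTensor_theta_rho (I : Ideal B) (b : B) :
    (theta k A I).toLinearMap.rTensor A (rho k A B b) =
      (TensorProduct.assoc k (B ⧸ I) A A).symm
        ((Coalgebra.comul (R := k) (A := A)).lTensor (B ⧸ I) (theta k A I b)) := by
  have hco := LinearMap.congr_fun (HopfRep.Comod.coassoc (k := k) (A := A) (V := B)) b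
  simp only [LinearMap.comp_apply, LinearEquiv.coe_coe] at hco
  have hθ : (theta k A I).toLinearMap =
      (Ideal.Quotient.mkₐ k I).toLinearMap.rTensor A ∘ₗ rho k A B := rfl
  rw [hθ, LinearMap.rTensor_comp, LinearMap.comp_apply]
  have h2 : (rho k A B).rTensor A (rho k A B b) = (TensorProduct.assoc k B A A).symm
      ((Coalgebra.comul (R := k) (A := A)).lTensor B (rho k A B b)) := by
    rw [← hco, LinearEquiv.symm_apply_apply]
  rw [h2, theta_apply]
  generalize rho k A B b = y
  induction y using TensorProduct.induction_on with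
  | zero => simp
  | tmul b' a =>
    simp only [LinearMap.lTensor_tmul, LinearMap.rTensor_tmul]
    generalize Coalgebra.comul (R := k) a = z
    induction z using TensorProduct.induction_on with
    | zero => simp
    | tmul a₁ a₂ => simp
    | add z₁ z₂ e₁ e₂ => simp only [TensorProduct.tmul_add, map_add, e₁, e₂]
  | add y₁ y₂ e₁ e₂ => simp only [map_add, e₁, e₂]

theorem isSubcomod_J [Module.Flat k A] (I : Ideal B) :
    HopfRep.IsSubcomod (k := k) (A := A) ((J k A I).restrictScalars k) := by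
  intro w hw
  have hw' : theta k A I w = 0 := hw
  have hex : Function.Exact ((J k A I).restrictScalars k).subtype (theta k A I).toLinearMap := by
    intro y
    constructor
    · intro hy
      exact ⟨⟨y, hy⟩, rfl⟩
    · rintro ⟨z, rfl⟩
      exact z.2
  have hex' := Module.Flat.rTensor_exact A hex
  refine (hex' _).mp ?_
  change (theta k A I).toLinearMap.rTensor A (rho k A B w) = 0
  rw [rTensor_theta_rho, hw']
  simp

open PrimeSpectrum in
theorem zeroLocus_J_subset (V : Set (PrimeSpectrum B)) (hV : IsOpen V)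
    (hinv : ∀ t : PrimeSpectrum (B ⊗[k] A),
      comap (GLin.coactAlgHom k A B).toRingHom t ∈ V ↔
        comap (Algebra.TensorProduct.includeLeftRingHom : B →+* B ⊗[k] A) t ∈ V) :
    zeroLocus (J k A (vanishingIdeal Vᶜ) : Set B) ⊆ Vᶜ := by
  set I := vanishingIdeal Vᶜ with hI
  have hcl : IsClosed Vᶜ := hV.isClosed_compl
  have h1 : zeroLocus (J k A I : Set B) = closure (Set.range (comap (theta k A I).toRingHom)) :=
    (closure_range_comap _).symm
  rw [h1]
  refine closure_minimal ?_ hcl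
  rintro _ ⟨t', rfl⟩
  let qA : B ⊗[k] A →+* (B ⧸ I) ⊗[k] A :=
    (Algebra.TensorProduct.map (Ideal.Quotient.mkₐ k I) (AlgHom.id k A)).toRingHom
  have e1 : comap (theta k A I).toRingHom t' =
      comap (GLin.coactAlgHom k A B).toRingHom (comap qA t') := rfl
  rw [e1]
  intro hmem
  have h2 := (hinv (comap qA t')).mp hmem
  have e2 : comap (Algebra.TensorProduct.includeLeftRingHom : B →+* B ⊗[k] A) (comap qA t') =
      comap (Ideal.Quotient.mk I)
        (comap (Algebra.TensorProduct.includeLeftRingHom : B ⧸ I →+* (B ⧸ I) ⊗[k] A) t') := by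
    rw [← comap_comp_apply, ← comap_comp_apply]
    congr 1
  rw [e2] at h2
  have h3 : comap (Ideal.Quotient.mk I)
      (comap (Algebra.TensorProduct.includeLeftRingHom : B ⧸ I →+* (B ⧸ I) ⊗[k] A) t') ∈
        zeroLocus (I : Set B) := by
    intro b hb
    change Ideal.Quotient.mk I b ∈
      (comap (Algebra.TensorProduct.includeLeftRingHom : B ⧸ I →+* (B ⧸ I) ⊗[k] A) t').asIdeal
    rw [Ideal.Quotient.eq_zero_iff_mem.mpr hb]
    exact Ideal.zero_mem _
  have h4 : zeroLocus (I : Set B) = Vᶜ := by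
    rw [hI, zeroLocus_vanishingIdeal_eq_closure, hcl.closure_eq]
  rw [h4] at h3
  exact h3 h2

open PrimeSpectrum in
theorem exists_invariant_basicOpen [Module.Flat k A] (α : A →ₗ[k] B) (hα : Hoch.IsComodHom A α)
    (h1 : α 1 = 1) (𝒱 : Set (Set (PrimeSpectrum B))) (hopen : ∀ V ∈ 𝒱, IsOpen V)
    (hinv : ∀ V ∈ 𝒱, ∀ t : PrimeSpectrum (B ⊗[k] A),
      comap (GLin.coactAlgHom k A B).toRingHom t ∈ V ↔
        comap (Algebra.TensorProduct.includeLeftRingHom : B →+* B ⊗[k] A) t ∈ V)
    (hcov : ∀ x : PrimeSpectrum B, ∃ V ∈ 𝒱, x ∈ V)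
    (y : PrimeSpectrum (GLin.invariants k A B)) :
    ∃ c : GLin.invariants k A B, c ∉ y.asIdeal ∧ ∃ V ∈ 𝒱, ∀ x : PrimeSpectrum B,
      (c : B) ∉ x.asIdeal → x ∈ V := by
  let 𝔍 : Ideal B := ⨆ i : 𝒱, J k A (vanishingIdeal (i.1)ᶜ)
  have htop : 𝔍 = ⊤ := by
    by_contra hne
    obtain ⟨𝔪, hmax, hle⟩ := Ideal.exists_le_maximal 𝔍 hne
    let x : PrimeSpectrum B := ⟨𝔪, hmax.isPrime⟩
    obtain ⟨V, hV𝒱, hxV⟩ := hcov x
    have hx : x ∈ zeroLocus (J k A (vanishingIdeal Vᶜ) : Set B) := by
      intro b hb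
      exact hle ((le_iSup (fun i : 𝒱 => J k A (vanishingIdeal (i.1)ᶜ)) ⟨V, hV𝒱⟩) hb)
    exact zeroLocus_J_subset V (hopen V hV𝒱) (hinv V hV𝒱) hx hxV
  let S : Set (GLin.invariants k A B) :=
    {c | ∃ V ∈ 𝒱, (c : B) ∈ J k A (vanishingIdeal Vᶜ)}
  have hE : ∀ b ∈ 𝔍, (⟨reynolds α b, reynolds_mem α hα b⟩ : GLin.invariants k A B) ∈
      Ideal.span S := by
    intro b hb
    refine Submodule.iSup_induction (fun i : 𝒱 => J k A (vanishingIdeal (i.1)ᶜ))
      (motive := fun b => (⟨reynolds α b, reynolds_mem α hα b⟩ : GLin.invariants k A B) ∈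
        Ideal.span S) hb ?_ ?_ ?_
    · intro i b hb
      refine Ideal.subset_span ⟨i.1, i.2, ?_⟩
      exact reynolds_mem_of_isSubcomod α _ (isSubcomod_J _) b hb
    · have : (⟨reynolds α 0, reynolds_mem α hα 0⟩ : GLin.invariants k A B) = 0 :=
        Subtype.ext (map_zero _)
      rw [this]
      exact Ideal.zero_mem _
    · intro b₁ b₂ hb₁ hb₂
      have : (⟨reynolds α (b₁ + b₂), reynolds_mem α hα (b₁ + b₂)⟩ : GLin.invariants k A B) =
          ⟨reynolds α b₁, reynolds_mem α hα b₁⟩ + ⟨reynolds α b₂, reynolds_mem α hα b₂⟩ :=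
        Subtype.ext (map_add _ _ _)
      rw [this]
      exact Ideal.add_mem _ hb₁ hb₂
  have hone : (1 : GLin.invariants k A B) ∈ Ideal.span S := by
    have := hE 1 (htop ▸ Submodule.mem_top)
    have e : (⟨reynolds α 1, reynolds_mem α hα 1⟩ : GLin.invariants k A B) = 1 :=
      Subtype.ext (reynolds_apply_of_mem α h1 1 (GLin.invariants k A B).one_mem)
    rwa [e] at this
  have hnot : ¬ S ⊆ y.asIdeal := by
    intro hsub
    have := Ideal.span_le.mpr hsub hone
    exact y.isPrime.ne_top ((Ideal.eq_top_iff_one _).mpr this)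
  obtain ⟨c, hcS, hcy⟩ := Set.not_subset.mp hnot
  obtain ⟨V, hV𝒱, hcJ⟩ := hcS
  refine ⟨c, hcy, V, hV𝒱, fun x hcx => ?_⟩
  by_contra hxV
  apply hcx
  have : (c : B) ∈ vanishingIdeal Vᶜ := J_le _ hcJ
  rw [mem_vanishingIdeal] at this
  exact this x hxV

end Groth.Agent.Lib.Helper81.TotalIntQuot
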