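import Groth.Agent.Lib.Helper81.TotalIntQuot
import Groth.Agent.Lib.Helper81.EqualizerQuot

set_option autoImplicit false
set_option linter.style.haveILetI false
set_option linter.unusedSectionVars false
universe u

open CategoryTheory AlgebraicGeometry TensorProduct

namespace Groth.Agent.Lib.Helper81.TotalIntQuot

open Groth.Agent.Lib.Helper99 Groth.Agent.Lib.Helper81.EqQuot

theorem appTop_injective {R S : CommRingCat.{u}} (f : R ⟶ S) (hf : Function.Injective f.hom) :
    Function.Injective ((Spec.map f).app ⊤).hom := by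
  intro s s' h
  have hnat := Scheme.ΓSpecIso_naturality f
  have e : ∀ t, f.hom ((Scheme.ΓSpecIso R).hom.hom t) =
      (Scheme.ΓSpecIso S).hom.hom (((Spec.map f).app ⊤).hom t) :=
    fun t => (congrArg (fun g => g.hom t) hnat).symm
  have := hf ((e s).trans ((congrArg _ h).trans (e s').symm))
  exact (ConcreteCategory.bijective_of_isIso (Scheme.ΓSpecIso R).hom).injective this

theorem mem_range_appTop {R S T : CommRingCat.{u}} (f : R ⟶ S) (u v : S ⟶ T)
    (heq : ∀ b : S, u.hom b = v.hom b → b ∈ Set.range f.hom)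
    (s : Γ(Spec S, ⊤)) (hs : ((Spec.map u).app ⊤).hom s = ((Spec.map v).app ⊤).hom s) :
    s ∈ Set.range ((Spec.map f).app ⊤).hom := by
  have eu : ∀ t, u.hom ((Scheme.ΓSpecIso S).hom.hom t) =
      (Scheme.ΓSpecIso T).hom.hom (((Spec.map u).app ⊤).hom t) :=
    fun t => (congrArg (fun g => g.hom t) (Scheme.ΓSpecIso_naturality u)).symm
  have ev : ∀ t, v.hom ((Scheme.ΓSpecIso S).hom.hom t) =
      (Scheme.ΓSpecIso T).hom.hom (((Spec.map v).app ⊤).hom t) :=
    fun t => (congrArg (fun g => g.hom t) (Scheme.ΓSpecIso_naturality v)).symm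
  obtain ⟨c, hc⟩ := heq _ ((eu s).trans ((congrArg _ hs).trans (ev s).symm))
  refine ⟨(Scheme.ΓSpecIso R).inv.hom c, ?_⟩
  have h1 := congrArg (fun g => g.hom c) (Scheme.ΓSpecIso_inv_naturality f)
  simp only [CommRingCat.hom_comp, RingHom.coe_comp, Function.comp_apply] at h1
  refine h1.symm.trans ?_
  rw [hc]
  exact congrArg (fun g => g.hom s) (Scheme.ΓSpecIso S).hom_inv_id

theorem main (k : Type u) [CommRing k] (A : Type u) [CommRing A] [HopfAlgebra k A] [Module.Flat k A]
    (B : Type u) [CommRing B] [Algebra k B] [HopfRep.Comod k A B] [GLin.IsCoactAlg k A B]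
    (htame : ∃ α : A →ₗ[k] B, Hoch.IsComodHom A α ∧ α 1 = 1)
    (Z : Scheme.{u}) (ψ : Spec (CommRingCat.of B) ⟶ Z)
    (hψ : Spec.map (CommRingCat.ofHom (GLin.coactAlgHom k A B).toRingHom) ≫ ψ =
      Spec.map (CommRingCat.ofHom
        (Algebra.TensorProduct.includeLeftRingHom : B →+* TensorProduct k B A)) ≫ ψ) :
    ∃! χ : Spec (CommRingCat.of (GLin.invariants k A B)) ⟶ Z,
      Spec.map (CommRingCat.ofHom (algebraMap (GLin.invariants k A B) B)) ≫ χ = ψ := by
  obtain ⟨α, hα, h1⟩ := htame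
  have hab : Spec.map (CommRingCat.ofHom (GLin.coactAlgHom k A B).toRingHom) ≫
      Spec.map (CommRingCat.ofHom (algebraMap (GLin.invariants k A B) B)) =
      Spec.map (CommRingCat.ofHom
        (Algebra.TensorProduct.includeLeftRingHom : B →+* TensorProduct k B A)) ≫
      Spec.map (CommRingCat.ofHom (algebraMap (GLin.invariants k A B) B)) := by
    rw [← Spec.map_comp, ← Spec.map_comp]
    congr 1
    ext c
    exact c.2
  refine existsUnique_desc _ _ _ hab ?_ ?_ ?_ ψ hψ ?_
  · intro y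
    obtain ⟨x, hx⟩ := (PrimeSpectrum.mem_range_comap_iff
      (f := algebraMap (GLin.invariants k A B) B)).mpr (comap_map_invariants α hα h1 y.asIdeal)
    exact ⟨x, hx⟩
  · exact appTop_injective _ (fun c c' h => Subtype.ext h)
  · intro s hs
    refine mem_range_appTop _ (CommRingCat.ofHom (GLin.coactAlgHom k A B).toRingHom)
      (CommRingCat.ofHom (Algebra.TensorProduct.includeLeftRingHom : B →+* TensorProduct k B A))
      ?_ s ?_
    · intro b hb
      exact ⟨⟨b, hb⟩, rfl⟩
    · refine hs.trans ?_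
      rw [← Scheme.Hom.appLE_eq_app]
      rfl
  · intro y
    let 𝒱 : Set (Set (PrimeSpectrum B)) :=
      {V | ∃ W : Z.Opens, IsAffineOpen W ∧
        V = {x : PrimeSpectrum B | ψ.base x ∈ W}}
    have hopen : ∀ V ∈ 𝒱, IsOpen V := ?_
    have hinv : ∀ V ∈ 𝒱, ∀ t : PrimeSpectrum (B ⊗[k] A),
      PrimeSpectrum.comap (GLin.coactAlgHom k A B).toRingHom t ∈ V ↔
        PrimeSpectrum.comap (Algebra.TensorProduct.includeLeftRingHom : B →+* B ⊗[k] A) t ∈ V := ?_
    have hcov : ∀ x : PrimeSpectrum B, ∃ V ∈ 𝒱, x ∈ V := ?_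
    obtain ⟨c, hcy, V, ⟨W, hW, rfl⟩, hc⟩ := exists_invariant_basicOpen α hα h1 𝒱 hopen hinv hcov y
    · refine ⟨(Scheme.ΓSpecIso (CommRingCat.of (GLin.invariants k A B))).inv c, ?_, W, hW, ?_⟩
      · rw [basicOpen_eq_of_affine]
        exact hcy
      · intro x hx
        apply hc
        have hx' : (Spec.map (CommRingCat.ofHom (algebraMap (GLin.invariants k A B) B))).base x ∈
            (Spec (CommRingCat.of (GLin.invariants k A B))).basicOpen
              ((Scheme.ΓSpecIso (CommRingCat.of (GLin.invariants k A B))).inv c) := hx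
        rw [basicOpen_eq_of_affine] at hx'
        exact hx'
    · intro x
      obtain ⟨W, hW, hxW, -⟩ := TopologicalSpace.Opens.isBasis_iff_nbhd.mp Z.isBasis_affineOpens
        (TopologicalSpace.Opens.mem_top (ψ.base x))
      exact ⟨_, ⟨W, hW, rfl⟩, hxW⟩
    · rintro V ⟨W, hW, rfl⟩ t
      have h2 := congrArg (fun g => g.base t) hψ
      exact iff_of_eq (congrArg (fun z => z ∈ W) h2)
    · rintro V ⟨W, hW, rfl⟩
      exact (ψ ⁻¹ᵁ W).2

end Groth.Agent.Lib.Helper81.TotalIntQuot
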