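import Mathlib.Algebra.Homology.HomologicalComplexLimits
import Mathlib.Algebra.Category.Grp.Limits
import Mathlib.Algebra.Category.Grp.Abelian
import Mathlib.Order.WellFounded
import Mathlib.Algebra.Homology.ShortComplex.HomologicalComplex
import Mathlib.Algebra.Homology.ShortComplex.Ab
import Mathlib.Algebra.Homology.QuasiIso

set_option autoImplicit false
universe w
open CategoryTheory CategoryTheory.Limits Opposite

namespace Groth.Agent.Lib.Helper81.TransML

variable {I : Type w} [LinearOrder I] (K : Iᵒᵖ ⥤ CochainComplex AddCommGrpCat.{w} ℤ)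

abbrev X (β : I) (n : ℤ) : Type w := (K.obj (op β)).X n

def r {γ β : I} (h : γ ≤ β) (n : ℤ) : X K β n →+ X K γ n := ((K.map (homOfLE h).op).f n).hom

def dd (β : I) (i j : ℤ) : X K β i →+ X K β j := ((K.obj (op β)).d i j).hom

theorem r_refl (β : I) (n : ℤ) (x : X K β n) : r K (le_refl β) n x = x := by
  have h : (homOfLE (le_refl β)).op = 𝟙 (op β) := rfl
  simp [r]

theorem r_trans {γ β α : I} (h₁ : γ ≤ β) (h₂ : β ≤ α) (n : ℤ) (x : X K α n) :
    r K h₁ n (r K h₂ n x) = r K (h₁.trans h₂) n x := by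
  have h : (homOfLE (h₁.trans h₂)).op = (homOfLE h₂).op ≫ (homOfLE h₁).op := rfl
  simp [r, h]

theorem r_dd {γ β : I} (h : γ ≤ β) (i j : ℤ) (x : X K β i) :
    r K h j (dd K β i j x) = dd K γ i j (r K h i x) := by
  have h1 := (K.map (homOfLE h).op).comm i j
  have h2 : ((K.obj (op β)).d i j ≫ (K.map (homOfLE h).op).f j).hom x =
      ((K.map (homOfLE h).op).f i ≫ (K.obj (op γ)).d i j).hom x := by rw [h1]
  exact h2

theorem dd_dd (β : I) (i j k : ℤ) (x : X K β i) : dd K β j k (dd K β i j x) = 0 := by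
  have h1 := (K.obj (op β)).d_comp_d i j k
  have h2 : ((K.obj (op β)).d i j ≫ (K.obj (op β)).d j k).hom x =
      (0 : (K.obj (op β)).X i ⟶ (K.obj (op β)).X k).hom x := by rw [h1]
  exact h2

theorem exact_elem (β : I) (i j k : ℤ) (hij : i + 1 = j) (hjk : j + 1 = k)
    (hac : (K.obj (op β)).ExactAt j) (x : X K β j) (hx : dd K β j k x = 0) :
    ∃ y : X K β i, dd K β i j y = x := by
  rw [HomologicalComplex.exactAt_iff' _ i j k (by simp [← hij]) (by simp [hjk]),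
    ShortComplex.ab_exact_iff] at hac
  exact hac x hx

def Surj : Prop := ∀ (β : I) (n : ℤ) (x : ∀ γ : {γ : I // γ < β}, X K γ.1 n),
  (∀ (γ γ' : {γ : I // γ < β}) (h : γ.1 ≤ γ'.1), r K h n (x γ') = x γ) →
  ∃ y : X K β n, ∀ γ : {γ : I // γ < β}, r K γ.2.le n y = x γ

def P (S : Set I) : Prop := ∀ (i j k : ℤ), i + 1 = j → j + 1 = k → ∀ z : ∀ γ : I, X K γ j,
  (∀ γ ∈ S, dd K γ j k (z γ) = 0) →
  (∀ γ γ' (h : γ ≤ γ'), γ' ∈ S → r K h j (z γ') = z γ) →
  ∃ y : ∀ γ : I, X K γ i, (∀ γ ∈ S, dd K γ i j (y γ) = z γ) ∧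
    (∀ γ γ' (h : γ ≤ γ'), γ' ∈ S → r K h i (y γ') = y γ)

theorem ext_step (hac : ∀ (β : I) (n : ℤ), (K.obj (op β)).ExactAt n) (hs : Surj K) (β : I)
    (hP : P K (Set.Iio β)) (i j k : ℤ) (hij : i + 1 = j) (hjk : j + 1 = k) (zβ : X K β j)
    (hz : dd K β j k zβ = 0) (y : ∀ γ : I, γ < β → X K γ i)
    (hy1 : ∀ γ (h : γ < β), dd K γ i j (y γ h) = r K h.le j zβ)
    (hy2 : ∀ γ γ' (h : γ ≤ γ') (h' : γ' < β), r K h i (y γ' h') = y γ (h.trans_lt h')) :
    ∃ yβ : X K β i, dd K β i j yβ = zβ ∧ ∀ γ (h : γ < β), r K h.le i yβ = y γ h := by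
  obtain ⟨y', hy'⟩ := hs β i (fun γ => y γ.1 γ.2) (fun γ γ' h => hy2 γ.1 γ'.1 h γ'.2)
  obtain ⟨e, he⟩ : ∃ e : X K β j, e = zβ - dd K β i j y' := ⟨_, rfl⟩
  have he1 : dd K β j k e = 0 := by rw [he, map_sub, hz, dd_dd, sub_zero]
  have he2 : ∀ γ (h : γ < β), r K h.le j e = 0 := by
    intro γ h
    rw [he, map_sub, r_dd, hy' ⟨γ, h⟩, hy1 γ h, sub_self]
  obtain ⟨u, hu⟩ := exact_elem K β i j k hij hjk (hac β j) e he1
  obtain ⟨ub, hub⟩ : ∃ ub : ∀ γ : I, X K γ i, ub = fun γ => if h : γ ≤ β then r K h i u else 0 :=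
    ⟨_, rfl⟩
  have hub' : ∀ γ (h : γ ≤ β), ub γ = r K h i u := by
    intro γ h; rw [hub]; exact dif_pos h
  have h1 : ∀ γ ∈ Set.Iio β, dd K γ i j (ub γ) = 0 := by
    intro γ hγ
    rw [hub' γ (le_of_lt hγ), ← r_dd, hu, he2 γ hγ]
  have h2 : ∀ γ γ' (h : γ ≤ γ'), γ' ∈ Set.Iio β → r K h i (ub γ') = ub γ := by
    intro γ γ' h hγ'
    rw [hub' γ' (le_of_lt hγ'), hub' γ (h.trans (le_of_lt hγ')), r_trans]
  obtain ⟨vb, hvb1, hvb2⟩ := hP (i - 1) i j (by ring) hij ub h1 h2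
  obtain ⟨v, hv⟩ := hs β (i - 1) (fun γ => vb γ.1) (fun γ γ' h => hvb2 γ.1 γ'.1 h γ'.2)
  refine ⟨y' + u - dd K β (i - 1) i v, ?_, ?_⟩
  · rw [map_sub, map_add, dd_dd, hu, he, sub_zero]; abel
  · intro γ h
    rw [map_sub, map_add, r_dd, hv ⟨γ, h⟩, hvb1 γ h, hy' ⟨γ, h⟩, hub' γ (le_of_lt h)]
    abel

section Rec

variable [WellFoundedLT I]

open Classical in
noncomputable def step {i j : ℤ} (z : ∀ γ : I, X K γ j) (β : I)
    (rec : ∀ γ : I, γ < β → X K γ i) : X K β i :=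
  if h : ∃ yβ : X K β i, dd K β i j yβ = z β ∧ ∀ γ (h : γ < β), r K h.le i yβ = rec γ h then
    Classical.choose h else 0

noncomputable def sol {i j : ℤ} (z : ∀ γ : I, X K γ j) : ∀ β : I, X K β i :=
  WellFounded.fix (wellFounded_lt (α := I)) (step K z)

theorem sol_eq {i j : ℤ} (z : ∀ γ : I, X K γ j) (β : I) :
    sol K (i := i) z β = step K z β (fun γ _ => sol K z γ) :=
  WellFounded.fix_eq _ _ _

theorem sol_spec {i j : ℤ} (z : ∀ γ : I, X K γ j) (β : I)
    (h : ∃ yβ : X K β i, dd K β i j yβ = z β ∧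
      ∀ γ (_ : γ < β), r K (le_of_lt ‹γ < β›) i yβ = sol K z γ) :
    dd K β i j (sol K (i := i) z β) = z β ∧
      ∀ γ (h : γ < β), r K h.le i (sol K (i := i) z β) = sol K z γ := by
  rw [sol_eq, step, dif_pos h]
  exact Classical.choose_spec h

theorem P_of_forall (hac : ∀ (β : I) (n : ℤ), (K.obj (op β)).ExactAt n) (hs : Surj K)
    (S : Set I) (hS : ∀ β ∈ S, ∀ γ, γ ≤ β → γ ∈ S) (hP : ∀ β ∈ S, P K (Set.Iio β)) : P K S := by
  intro i j k hij hjk z hz1 hz2
  have key : ∀ β, β ∈ S → dd K β i j (sol K (i := i) z β) = z β ∧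
      ∀ γ (h : γ < β), r K h.le i (sol K (i := i) z β) = sol K z γ := by
    intro β
    induction β using WellFounded.induction (wellFounded_lt (α := I)) with
    | _ β ih =>
      intro hβ
      apply sol_spec
      refine ext_step K hac hs β (hP β hβ) i j k hij hjk (z β) (hz1 β hβ)
        (fun γ _ => sol K z γ) ?_ ?_
      · intro γ h
        rw [(ih γ h (hS β hβ γ h.le)).1, hz2 γ β h.le hβ]
      · intro γ γ' h h'
        rcases h.lt_or_eq with h1 | h1
        · exact (ih γ' h' (hS β hβ γ' h'.le)).2 γ h1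
        · subst h1
          exact r_refl K γ i _
  refine ⟨sol K z, fun γ hγ => (key γ hγ).1, ?_⟩
  intro γ γ' h hγ'
  rcases h.lt_or_eq with h1 | h1
  · exact (key γ' hγ').2 γ h1
  · subst h1
    exact r_refl K γ i _

theorem P_Iio (hac : ∀ (β : I) (n : ℤ), (K.obj (op β)).ExactAt n) (hs : Surj K) (β : I) :
    P K (Set.Iio β) := by
  induction β using WellFounded.induction (wellFounded_lt (α := I)) with
  | _ β ih =>
    exact P_of_forall K hac hs (Set.Iio β) (fun β' hβ' γ hγ => lt_of_le_of_lt hγ hβ')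
      (fun γ hγ => ih γ hγ)

theorem P_univ (hac : ∀ (β : I) (n : ℤ), (K.obj (op β)).ExactAt n) (hs : Surj K) :
    P K Set.univ :=
  P_of_forall K hac hs Set.univ (fun _ _ _ _ => Set.mem_univ _) (fun β _ => P_Iio K hac hs β)

end Rec

section Lim

noncomputable def limX (m : ℤ) : IsLimit ((forget AddCommGrpCat.{w}).mapCone
    ((HomologicalComplex.eval AddCommGrpCat.{w} (ComplexShape.up ℤ) m).mapCone (limit.cone K))) :=
  isLimitOfPreserves (forget AddCommGrpCat.{w})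
    (isLimitOfPreserves (HomologicalComplex.eval AddCommGrpCat.{w} (ComplexShape.up ℤ) m)
      (limit.isLimit K))

noncomputable def pr (β : I) (m : ℤ) : ((limit K).X m : Type w) →+ X K β m := ((limit.π K (op β)).f m).hom

theorem pr_dd (β : I) (i j : ℤ) (x : ((limit K).X i : Type w)) :
    pr K β j (((limit K).d i j).hom x) = dd K β i j (pr K β i x) := by
  have h1 := (limit.π K (op β)).comm i j
  have h2 : ((limit K).d i j ≫ (limit.π K (op β)).f j).hom x =
      ((limit.π K (op β)).f i ≫ (K.obj (op β)).d i j).hom x := by rw [h1]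
  exact h2

theorem r_pr {γ β : I} (h : γ ≤ β) (m : ℤ) (x : ((limit K).X m : Type w)) :
    r K h m (pr K β m x) = pr K γ m x := by
  have h1 := limit.w K (homOfLE h).op
  have h2 : ((limit.π K (op β)).f m ≫ (K.map (homOfLE h).op).f m).hom x =
      ((limit.π K (op γ)).f m).hom x := by
    rw [← HomologicalComplex.comp_f, h1]
  exact h2

theorem lim_ext (m : ℤ) (x y : ((limit K).X m : Type w)) (h : ∀ β, pr K β m x = pr K β m y) :
    x = y := by
  apply (Types.isLimitEquivSections (limX K m)).injective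
  apply Subtype.ext
  funext j
  exact h j.unop

theorem lim_exists (m : ℤ) (s : ∀ β, X K β m) (hs : ∀ γ β (h : γ ≤ β), r K h m (s β) = s γ) :
    ∃ x : ((limit K).X m : Type w), ∀ β, pr K β m x = s β := by
  obtain ⟨sec, hsec⟩ : ∃ sec : (((K ⋙ HomologicalComplex.eval AddCommGrpCat.{w}
      (ComplexShape.up ℤ) m) ⋙ forget AddCommGrpCat.{w})).sections,
      ∀ j, sec.1 j = s j.unop := by
    refine ⟨⟨fun j => s j.unop, ?_⟩, fun _ => rfl⟩
    intro j j' f
    exact hs j'.unop j.unop (leOfHom f.unop)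
  refine ⟨(Types.isLimitEquivSections (limX K m)).symm sec, fun β => ?_⟩
  exact (Types.isLimitEquivSections_symm_apply (limX K m) sec (op β)).trans (hsec (op β))

theorem exactAt_limit [WellFoundedLT I] (hac : ∀ (β : I) (n : ℤ), (K.obj (op β)).ExactAt n)
    (hs : Surj K) (n : ℤ) : (limit K).ExactAt n := by
  rw [HomologicalComplex.exactAt_iff' _ (n - 1) n (n + 1) (by simp) (by simp),
    ShortComplex.ab_exact_iff]
  intro x₂ hx₂
  have hx₂' : ((limit K).d n (n + 1)).hom x₂ = 0 := hx₂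
  obtain ⟨y, hy1, hy2⟩ := P_univ K hac hs (n - 1) n (n + 1) (by ring) rfl
    (fun β => pr K β n x₂)
    (fun β _ => by rw [← pr_dd, hx₂', map_zero])
    (fun γ γ' h _ => r_pr K h n x₂)
  obtain ⟨x₁, hx₁⟩ := lim_exists K (n - 1) y (fun γ β h => hy2 γ β h (Set.mem_univ _))
  refine ⟨x₁, ?_⟩
  change ((limit K).d (n - 1) n).hom x₁ = x₂
  apply lim_ext
  intro β
  rw [pr_dd, hx₁, hy1 β (Set.mem_univ _)]

end Lim

end Groth.Agent.Lib.Helper81.TransML
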