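import Mathlib

set_option autoImplicit false
open CategoryTheory CategoryTheory.Limits AlgebraicGeometry Opposite
universe u

namespace Groth.Agent.Lib.Helper81.UnivEffEpi

theorem fam_congr {Y W : Scheme.{u}} {R : Presieve Y}
    (x : Presieve.FamilyOfElements (yoneda.obj W) R) {Z : Scheme.{u}} {f f' : Z ⟶ Y} (e : f = f')
    (hf : R f) (hf' : R f') : x f hf = x f' hf' := by
  subst e
  rfl

theorem main {X : Scheme.{u}} (S : Sieve X)
    (h : ∀ (Y : Scheme.{u}) (g : Y ⟶ X), IsAffine Y → (S.pullback g).EffectiveEpimorphic)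
    {Y : Scheme.{u}} (g : Y ⟶ X) : (S.pullback g).EffectiveEpimorphic := by
  rw [Sieve.EffectiveEpimorphic.iff_forall_isSheafFor_yoneda]
  intro W
  have hA : ∀ (V : Scheme.{u}) (e : V ⟶ Y), IsAffine V →
      Presieve.IsSheafFor (yoneda.obj W) ((S.pullback g).pullback e).arrows := by
    intro V e hV
    have := (Sieve.EffectiveEpimorphic.iff_forall_isSheafFor_yoneda _).mp (h V (e ≫ g) hV) W
    rwa [Sieve.pullback_comp] at this
  intro x hx
  have hsc := (Presieve.compatible_iff_sieveCompatible x).mp hx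
  have hτ : ∀ (V : Scheme.{u}) (e : V ⟶ Y), IsAffine V →
      ∃! t : V ⟶ W, (x.pullback e).IsAmalgamation t :=
    fun V e hV => hA V e hV (x.pullback e) (hx.pullback e)
  let 𝒰 := Y.affineCover
  have haffU : ∀ a, IsAffine (𝒰.X a) := fun a => inferInstance
  let ta : ∀ a, 𝒰.X a ⟶ W := fun a => (hτ (𝒰.X a) (𝒰.f a) (haffU a)).exists.choose
  have hta : ∀ a, (x.pullback (𝒰.f a)).IsAmalgamation (ta a) :=
    fun a => (hτ (𝒰.X a) (𝒰.f a) (haffU a)).exists.choose_spec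
  have hamal : ∀ (a : 𝒰.I₀) (V : Scheme.{u}) (ea : V ⟶ 𝒰.X a) (e : V ⟶ Y)
      (he : ea ≫ 𝒰.f a = e), (x.pullback e).IsAmalgamation (ea ≫ ta a) := by
    intro a V ea e he Z h' hh'
    show h' ≫ ea ≫ ta a = x (h' ≫ e) hh'
    have hmem : ((S.pullback g).pullback (𝒰.f a)) (h' ≫ ea) := by
      show (S.pullback g) ((h' ≫ ea) ≫ 𝒰.f a)
      rw [Category.assoc, he]
      exact hh'
    have h1 := hta a (h' ≫ ea) hmem
    have h2 : (h' ≫ ea) ≫ ta a = x ((h' ≫ ea) ≫ 𝒰.f a) hmem := h1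
    rw [← Category.assoc, h2]
    exact fam_congr x (by rw [Category.assoc, he]) _ _
  have hL : ∀ (a b : 𝒰.I₀) (V : Scheme.{u}) (ea : V ⟶ 𝒰.X a) (eb : V ⟶ 𝒰.X b), IsAffine V →
      ea ≫ 𝒰.f a = eb ≫ 𝒰.f b → ea ≫ ta a = eb ≫ ta b := by
    intro a b V ea eb hV hab
    exact (hτ V (ea ≫ 𝒰.f a) hV).unique (hamal a V ea _ rfl) (hamal b V eb _ hab.symm)
  have hglue : ∀ a b, pullback.fst (𝒰.f a) (𝒰.f b) ≫ ta a = pullback.snd _ _ ≫ ta b := by
    intro a b
    refine Scheme.Cover.hom_ext (pullback (𝒰.f a) (𝒰.f b)).affineCover _ _ fun c => ?_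
    rw [← Category.assoc, ← Category.assoc]
    refine hL a b _ _ _ inferInstance ?_
    rw [Category.assoc, Category.assoc, pullback.condition]
  refine ⟨𝒰.glueMorphisms ta hglue, ?_, ?_⟩
  · intro Z hh hR
    show hh ≫ 𝒰.glueMorphisms ta hglue = x hh hR
    refine Scheme.Cover.hom_ext (𝒰.pullback₁ hh) _ _ fun a => ?_
    have hcond : pullback.fst hh (𝒰.f a) ≫ hh = pullback.snd hh (𝒰.f a) ≫ 𝒰.f a :=
      pullback.condition
    show pullback.fst hh (𝒰.f a) ≫ hh ≫ 𝒰.glueMorphisms ta hglue =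
      pullback.fst hh (𝒰.f a) ≫ x hh hR
    rw [← Category.assoc, hcond, Category.assoc, Scheme.Cover.ι_glueMorphisms]
    have hmem : ((S.pullback g).pullback (𝒰.f a)) (pullback.snd hh (𝒰.f a)) := by
      show (S.pullback g) (pullback.snd hh (𝒰.f a) ≫ 𝒰.f a)
      rw [← hcond]
      exact (S.pullback g).downward_closed hR _
    have h1 : pullback.snd hh (𝒰.f a) ≫ ta a = x (pullback.snd hh (𝒰.f a) ≫ 𝒰.f a) hmem :=
      hta a _ hmem
    rw [h1]
    have h2 := hsc hh (pullback.fst hh (𝒰.f a)) hR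
    have h3 : x (pullback.fst hh (𝒰.f a) ≫ hh) ((S.pullback g).downward_closed hR _) =
        pullback.fst hh (𝒰.f a) ≫ x hh hR := h2
    rw [← h3]
    exact fam_congr x hcond.symm _ _
  · intro t' ht'
    refine Scheme.Cover.hom_ext 𝒰 _ _ fun a => ?_
    rw [Scheme.Cover.ι_glueMorphisms]
    refine (hτ (𝒰.X a) (𝒰.f a) (haffU a)).unique ?_ (hta a)
    intro Z h' hh'
    show h' ≫ 𝒰.f a ≫ t' = x (h' ≫ 𝒰.f a) hh'
    rw [← Category.assoc]
    exact ht' (h' ≫ 𝒰.f a) hh'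

end Groth.Agent.Lib.Helper81.UnivEffEpi
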