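import Groth.Agent.Lib.Helper81.VeroneseAlg

set_option autoImplicit false
set_option linter.unusedSectionVars false
universe u
open CategoryTheory CategoryTheory.Limits AlgebraicGeometry HomogeneousLocalization

namespace Groth.Agent.Lib.Helper81.Veronese

variable {R A : Type u} [CommRing R] [CommRing A] [Algebra R A] (𝒜 : ℕ → Submodule R A)
  [GradedAlgebra 𝒜]
  {B : Type u} [CommRing B] [Algebra R B] (ℬ : ℕ → Submodule R B) [GradedAlgebra ℬ]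
  (d : ℕ) (hd : 0 < d) (φ : B →ₐ[R] A) (hφ : Function.Injective φ)
  (hdeg : ∀ n : ℕ, Submodule.map φ.toLinearMap (ℬ n) = 𝒜 (n * d))

abbrev Idx : Type u := {p : ℕ × B // 0 < p.1 ∧ p.2 ∈ ℬ p.1}

include hdeg in
theorem exists_chart (x : Proj 𝒜) : ∃ i : Idx ℬ, x ∈ Proj.basicOpen 𝒜 (φ i.1.2) := by
  have h1 := (Proj.affineOpenCover 𝒜).covers x
  obtain ⟨i, hi⟩ : ∃ i : (Σ i : PNat, 𝒜 i), x ∈ Proj.basicOpen 𝒜 i.2.1 := by
    refine ⟨(Proj.affineOpenCover 𝒜).idx x, ?_⟩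
    rw [← Proj.opensRange_awayι 𝒜 _ ((Proj.affineOpenCover 𝒜).idx x).2.2
      ((Proj.affineOpenCover 𝒜).idx x).1.2]
    exact h1
  have hpow : (i.2.1 : A) ^ d ∈ 𝒜 ((i.1 : ℕ) * d) := by
    have := SetLike.pow_mem_graded d i.2.2
    rwa [smul_eq_mul, mul_comm] at this
  obtain ⟨b, hb, hbe⟩ := exists_of_mem 𝒜 ℬ d φ hdeg hpow
  refine ⟨⟨((i.1 : ℕ), b), i.1.2, hb⟩, ?_⟩
  rw [Proj.mem_basicOpen] at hi ⊢
  change φ b ∉ _
  rw [hbe]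
  intro hmem
  exact hi (x.isPrime.mem_of_pow_mem _ hmem)

include hdeg in
theorem covers (x : Proj 𝒜) : ∃ (i : Idx ℬ) (y : Spec (CommRingCat.of (Away 𝒜 (φ i.1.2)))),
    (Proj.awayι 𝒜 (φ i.1.2) (φ_mem 𝒜 ℬ d φ hdeg i.2.2) (Nat.mul_pos i.2.1 hd)) y = x := by
  obtain ⟨i, hi⟩ := exists_chart 𝒜 ℬ d φ hdeg x
  rw [← Proj.opensRange_awayι 𝒜 (φ i.1.2) (φ_mem 𝒜 ℬ d φ hdeg i.2.2) (Nat.mul_pos i.2.1 hd)] at hi
  obtain ⟨y, hy⟩ := hi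
  exact ⟨i, y, hy⟩

noncomputable def cover : (Proj 𝒜).OpenCover :=
  Scheme.Cover.mkOfCovers (P := @IsOpenImmersion) (Idx ℬ)
    (fun i => Spec (CommRingCat.of (Away 𝒜 (φ i.1.2))))
    (fun i => Proj.awayι 𝒜 (φ i.1.2) (φ_mem 𝒜 ℬ d φ hdeg i.2.2) (Nat.mul_pos i.2.1 hd))
    (covers 𝒜 ℬ d hd φ hdeg)

noncomputable def chartMap (i : Idx ℬ) : Spec (CommRingCat.of (Away 𝒜 (φ i.1.2))) ⟶ Proj ℬ :=
  Spec.map (CommRingCat.ofHom (theta 𝒜 ℬ d φ hdeg i.1.2 i.2.2)) ≫ Proj.awayι ℬ i.1.2 i.2.2 i.2.1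

theorem chartMap_compat (i j : Idx ℬ) :
    pullback.fst (Proj.awayι 𝒜 (φ i.1.2) (φ_mem 𝒜 ℬ d φ hdeg i.2.2) (Nat.mul_pos i.2.1 hd))
        (Proj.awayι 𝒜 (φ j.1.2) (φ_mem 𝒜 ℬ d φ hdeg j.2.2) (Nat.mul_pos j.2.1 hd)) ≫
      chartMap 𝒜 ℬ d φ hdeg i =
    pullback.snd (Proj.awayι 𝒜 (φ i.1.2) (φ_mem 𝒜 ℬ d φ hdeg i.2.2) (Nat.mul_pos i.2.1 hd))
        (Proj.awayι 𝒜 (φ j.1.2) (φ_mem 𝒜 ℬ d φ hdeg j.2.2) (Nat.mul_pos j.2.1 hd)) ≫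
      chartMap 𝒜 ℬ d φ hdeg j := by
  have hx' : φ (i.1.2 * j.1.2) = φ i.1.2 * φ j.1.2 := map_mul φ _ _
  rw [← cancel_epi (Proj.pullbackAwayιIso 𝒜 (φ_mem 𝒜 ℬ d φ hdeg i.2.2) (Nat.mul_pos i.2.1 hd)
    (φ_mem 𝒜 ℬ d φ hdeg j.2.2) (Nat.mul_pos j.2.1 hd) hx').inv,
    Proj.pullbackAwayιIso_inv_fst_assoc, Proj.pullbackAwayιIso_inv_snd_assoc]
  unfold chartMap
  rw [← Spec.map_comp_assoc, ← Spec.map_comp_assoc, ← CommRingCat.ofHom_comp,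
    ← CommRingCat.ofHom_comp,
    theta_awayMap 𝒜 ℬ d φ hdeg i.1.2 j.1.2 i.2.2 j.2.2 (i.1.2 * j.1.2) rfl hx',
    theta_awayMap 𝒜 ℬ d φ hdeg j.1.2 i.1.2 j.2.2 i.2.2 (i.1.2 * j.1.2) (mul_comm _ _)
      (hx'.trans (mul_comm _ _)),
    CommRingCat.ofHom_comp, CommRingCat.ofHom_comp, Spec.map_comp_assoc, Spec.map_comp_assoc,
    Proj.SpecMap_awayMap_awayι, Proj.SpecMap_awayMap_awayι]
  rfl

noncomputable def vmap : Proj 𝒜 ⟶ Proj ℬ :=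
  (cover 𝒜 ℬ d hd φ hdeg).glueMorphisms (chartMap 𝒜 ℬ d φ hdeg)
    (fun i j => chartMap_compat 𝒜 ℬ d hd φ hdeg i j)

theorem awayι_vmap (i : Idx ℬ) :
    Proj.awayι 𝒜 (φ i.1.2) (φ_mem 𝒜 ℬ d φ hdeg i.2.2) (Nat.mul_pos i.2.1 hd) ≫
        vmap 𝒜 ℬ d hd φ hdeg =
      Spec.map (CommRingCat.ofHom (theta 𝒜 ℬ d φ hdeg i.1.2 i.2.2)) ≫
        Proj.awayι ℬ i.1.2 i.2.2 i.2.1 :=
  (cover 𝒜 ℬ d hd φ hdeg).ι_glueMorphisms _ _ i

theorem theta_isLocalizationElem {n m : ℕ} (g b : B) (hg : g ∈ ℬ n) (hb : b ∈ ℬ m) :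
    (theta 𝒜 ℬ d φ hdeg g hg (Away.isLocalizationElem hg hb)) ^ d =
      Away.isLocalizationElem (φ_mem 𝒜 ℬ d φ hdeg hg) (φ_mem 𝒜 ℬ d φ hdeg hb) := by
  apply val_injective
  rw [val_pow, theta_val, Away.isLocalizationElem, Away.isLocalizationElem, Away.val_mk,
    Away.val_mk]
  simp only [Localization.awayMap, IsLocalization.Away.map, Localization.mk_eq_mk',
    IsLocalization.map_mk']
  simp only [AlgHom.toRingHom_eq_coe, RingHom.coe_coe, map_pow]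
  rw [← IsLocalization.mk'_pow]
  congr 1
  · rw [← pow_mul]
  · apply Subtype.ext
    simp only [SubmonoidClass.coe_pow, ← pow_mul]

theorem preimage_basicOpen {m : ℕ} (b : B) (hm : 0 < m) (hb : b ∈ ℬ m) :
    vmap 𝒜 ℬ d hd φ hdeg ⁻¹ᵁ Proj.basicOpen ℬ b = Proj.basicOpen 𝒜 (φ b) := by
  ext x
  obtain ⟨i, hx⟩ := exists_chart 𝒜 ℬ d φ hdeg x
  rw [← Proj.opensRange_awayι 𝒜 (φ i.1.2) (φ_mem 𝒜 ℬ d φ hdeg i.2.2) (Nat.mul_pos i.2.1 hd)] at hx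
  obtain ⟨w, rfl⟩ := hx
  have h1 : (Proj.awayι 𝒜 (φ i.1.2) (φ_mem 𝒜 ℬ d φ hdeg i.2.2) (Nat.mul_pos i.2.1 hd) ≫
      vmap 𝒜 ℬ d hd φ hdeg) ⁻¹ᵁ Proj.basicOpen ℬ b =
      Proj.awayι 𝒜 (φ i.1.2) (φ_mem 𝒜 ℬ d φ hdeg i.2.2) (Nat.mul_pos i.2.1 hd) ⁻¹ᵁ
        Proj.basicOpen 𝒜 (φ b) := by
    rw [awayι_vmap, Scheme.Hom.comp_preimage,
      Proj.awayι_preimage_basicOpen ℬ i.2.2 i.2.1 hb hm,
      Proj.awayι_preimage_basicOpen 𝒜 (φ_mem 𝒜 ℬ d φ hdeg i.2.2) (Nat.mul_pos i.2.1 hd)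
        (φ_mem 𝒜 ℬ d φ hdeg hb) (Nat.mul_pos hm hd),
      ← theta_isLocalizationElem 𝒜 ℬ d φ hdeg i.1.2 b i.2.2 hb,
      PrimeSpectrum.basicOpen_pow _ _ hd]
    rfl
  exact (SetLike.ext_iff.mp h1 w)

theorem coversB (y : Proj ℬ) : ∃ (i : Idx ℬ) (z : Spec (CommRingCat.of (Away ℬ i.1.2))),
    (Proj.awayι ℬ i.1.2 i.2.2 i.2.1) z = y := by
  have h1 := (Proj.affineOpenCover ℬ).covers y
  obtain ⟨z, hz⟩ := h1
  exact ⟨⟨(((Proj.affineOpenCover ℬ).idx y).1, ((Proj.affineOpenCover ℬ).idx y).2.1),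
    ((Proj.affineOpenCover ℬ).idx y).1.2, ((Proj.affineOpenCover ℬ).idx y).2.2⟩, z, hz⟩

include hφ in
theorem isIso_vmap : IsIso (vmap 𝒜 ℬ d hd φ hdeg) := by
  change MorphismProperty.isomorphisms Scheme _
  apply IsZariskiLocalAtTarget.of_openCover (Scheme.Cover.mkOfCovers (P := @IsOpenImmersion) (Idx ℬ)
    (fun i => Spec (CommRingCat.of (Away ℬ i.1.2)))
    (fun i => Proj.awayι ℬ i.1.2 i.2.2 i.2.1) (coversB ℬ))
  intro i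
  have hpb : IsPullback (Spec.map (CommRingCat.ofHom (theta 𝒜 ℬ d φ hdeg i.1.2 i.2.2)))
      (Proj.awayι 𝒜 (φ i.1.2) (φ_mem 𝒜 ℬ d φ hdeg i.2.2) (Nat.mul_pos i.2.1 hd))
      (Proj.awayι ℬ i.1.2 i.2.2 i.2.1) (vmap 𝒜 ℬ d hd φ hdeg) :=
    IsOpenImmersion.isPullback _ _ _ _ (awayι_vmap 𝒜 ℬ d hd φ hdeg i) (by
      rw [Proj.opensRange_awayι, Proj.opensRange_awayι,
        preimage_basicOpen 𝒜 ℬ d hd φ hdeg i.1.2 i.2.1 i.2.2])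
  have hiso : IsIso (Spec.map (CommRingCat.ofHom (theta 𝒜 ℬ d φ hdeg i.1.2 i.2.2))) :=
    isIso_SpecMap_iff.mpr ⟨theta_injective 𝒜 ℬ d φ hdeg i.1.2 i.2.2 hφ,
      theta_surjective 𝒜 ℬ d φ hdeg i.1.2 i.2.2⟩
  have h2 : pullback.snd (vmap 𝒜 ℬ d hd φ hdeg) (Proj.awayι ℬ i.1.2 i.2.2 i.2.1) =
      hpb.flip.isoPullback.inv ≫
        Spec.map (CommRingCat.ofHom (theta 𝒜 ℬ d φ hdeg i.1.2 i.2.2)) :=
    (IsPullback.isoPullback_inv_snd _).symm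
  change IsIso (pullback.snd (vmap 𝒜 ℬ d hd φ hdeg) (Proj.awayι ℬ i.1.2 i.2.2 i.2.1))
  rw [h2]
  infer_instance

section Points

theorem mem_iff_forall_decompose (K : Ideal B) (hK : K.IsHomogeneous ℬ) (x : B) :
    x ∈ K ↔ ∀ i, (DirectSum.decompose ℬ x i : B) ∈ K := by
  classical
  constructor
  · intro hx i
    exact hK i hx
  · intro h
    rw [← DirectSum.sum_support_decompose ℬ x]
    exact Ideal.sum_mem _ fun i _ => h i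

include hd hdeg in
theorem comap_isHomogeneous (P : Ideal A) (hP : P.IsHomogeneous 𝒜) :
    (Ideal.comap φ P).IsHomogeneous ℬ := by
  classical
  intro i r hr
  rw [Ideal.mem_comap] at hr ⊢
  have h1 : (DirectSum.decompose 𝒜 (φ r) (i * d) : A) = φ (DirectSum.decompose ℬ r i : B) := by
    conv_lhs => rw [← DirectSum.sum_support_decompose ℬ r, map_sum, DirectSum.decompose_sum]
    rw [DFinsupp.finsetSum_apply, AddSubmonoidClass.coe_finsetSum]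
    rw [Finset.sum_eq_single i]
    · exact DirectSum.decompose_of_mem_same 𝒜
        (φ_mem 𝒜 ℬ d φ hdeg (SetLike.coe_mem (DirectSum.decompose ℬ r i)))
    · intro j _ hji
      have hne : j * d ≠ i * d := fun h => hji (Nat.eq_of_mul_eq_mul_right hd h)
      exact DirectSum.decompose_of_mem_ne 𝒜
        (φ_mem 𝒜 ℬ d φ hdeg (SetLike.coe_mem (DirectSum.decompose ℬ r j))) hne
    · intro hi
      have : (DirectSum.decompose ℬ r i : B) = 0 := by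
        simpa [DFinsupp.mem_support_iff] using hi
      rw [this, map_zero, DirectSum.decompose_zero]
      rfl
  rw [← h1]
  exact hP (i * d) hr

include hd hdeg in
theorem vmap_asIdeal (p : Proj 𝒜) :
    ((vmap 𝒜 ℬ d hd φ hdeg).base p).asHomogeneousIdeal.toIdeal =
      Ideal.comap φ p.asHomogeneousIdeal.toIdeal := by
  have hpos : ∀ (m : ℕ) (b : B), 0 < m → b ∈ ℬ m →
      (b ∈ ((vmap 𝒜 ℬ d hd φ hdeg).base p).asHomogeneousIdeal.toIdeal ↔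
        φ b ∈ p.asHomogeneousIdeal.toIdeal) := by
    intro m b hm hb
    have h1 := SetLike.ext_iff.mp (preimage_basicOpen 𝒜 ℬ d hd φ hdeg b hm hb) p
    change ((vmap 𝒜 ℬ d hd φ hdeg).base p ∈ Proj.basicOpen ℬ b) ↔ _ at h1
    rw [Proj.mem_basicOpen, Proj.mem_basicOpen] at h1
    exact not_iff_not.mp h1
  obtain ⟨i, hi⟩ := exists_chart 𝒜 ℬ d φ hdeg p
  rw [Proj.mem_basicOpen] at hi
  have hgI : i.1.2 ∉ ((vmap 𝒜 ℬ d hd φ hdeg).base p).asHomogeneousIdeal.toIdeal :=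
    fun h => hi ((hpos i.1.1 i.1.2 i.2.1 i.2.2).mp h)
  have hall : ∀ (m : ℕ) (b : B), b ∈ ℬ m →
      (b ∈ ((vmap 𝒜 ℬ d hd φ hdeg).base p).asHomogeneousIdeal.toIdeal ↔
        φ b ∈ p.asHomogeneousIdeal.toIdeal) := by
    intro m b hb
    have hbg : b * i.1.2 ∈ ℬ (m + i.1.1) := SetLike.mul_mem_graded hb i.2.2
    have h1 := hpos (m + i.1.1) (b * i.1.2) (Nat.add_pos_right m i.2.1) hbg
    rw [map_mul] at h1
    constructor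
    · intro h
      have := h1.mp (Ideal.mul_mem_right _ _ h)
      exact (p.isPrime.mem_or_mem this).resolve_right hi
    · intro h
      have := h1.mpr (Ideal.mul_mem_right _ _ h)
      exact (((vmap 𝒜 ℬ d hd φ hdeg).base p).isPrime.mem_or_mem this).resolve_right hgI
  ext x
  rw [mem_iff_forall_decompose ℬ _
      ((vmap 𝒜 ℬ d hd φ hdeg).base p).asHomogeneousIdeal.isHomogeneous x,
    mem_iff_forall_decompose ℬ _
      (comap_isHomogeneous 𝒜 ℬ d hd φ hdeg _ p.asHomogeneousIdeal.isHomogeneous) x]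
  refine forall_congr' fun j => ?_
  rw [Ideal.mem_comap]
  exact hall j _ (SetLike.coe_mem (DirectSum.decompose ℬ x j))

end Points

end Groth.Agent.Lib.Helper81.Veronese
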