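import Mathlib

set_option autoImplicit false
set_option linter.unusedSectionVars false
universe u
open HomogeneousLocalization

namespace Groth.Agent.Lib.Helper81.Veronese

variable {R A : Type u} [CommRing R] [CommRing A] [Algebra R A] (𝒜 : ℕ → Submodule R A)
  [GradedAlgebra 𝒜]
  {B : Type u} [CommRing B] [Algebra R B] (ℬ : ℕ → Submodule R B) [GradedAlgebra ℬ]
  (d : ℕ) (φ : B →ₐ[R] A)
  (hdeg : ∀ n : ℕ, Submodule.map φ.toLinearMap (ℬ n) = 𝒜 (n * d))

include hdeg in
theorem φ_mem {n : ℕ} {b : B} (hb : b ∈ ℬ n) : φ b ∈ 𝒜 (n * d) :=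
  (hdeg n).le (Submodule.mem_map_of_mem hb)

include hdeg in
theorem exists_of_mem {n : ℕ} {a : A} (ha : a ∈ 𝒜 (n * d)) : ∃ b ∈ ℬ n, φ b = a := by
  rw [← hdeg n] at ha
  exact ha

section Theta

variable {n : ℕ} (g : B) (hg : g ∈ ℬ n)

include hdeg hg in
theorem exists_val (x : Away ℬ g) :
    ∃ y : Away 𝒜 (φ g), y.val = Localization.awayMap φ.toRingHom g x.val := by
  obtain ⟨k, b, hb, rfl⟩ := Away.mk_surjective ℬ hg x
  have hφb : φ b ∈ 𝒜 (k • (n * d)) := by
    have := φ_mem 𝒜 ℬ d φ hdeg hb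
    rwa [show k • n * d = k • (n * d) by simp [mul_assoc]] at this
  refine ⟨Away.mk 𝒜 (φ_mem 𝒜 ℬ d φ hdeg hg) k (φ b) hφb, ?_⟩
  rw [Away.val_mk, Away.val_mk]
  simp only [Localization.awayMap, IsLocalization.Away.map, Localization.mk_eq_mk',
    IsLocalization.map_mk']
  congr 1
  apply Subtype.ext
  exact (map_pow φ g k).symm

noncomputable def theta : Away ℬ g →+* Away 𝒜 (φ g) where
  toFun x := (exists_val 𝒜 ℬ d φ hdeg g hg x).choose
  map_one' := val_injective _ (by
    rw [(exists_val 𝒜 ℬ d φ hdeg g hg 1).choose_spec, val_one, val_one, map_one])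
  map_mul' x y := val_injective _ (by
    rw [(exists_val 𝒜 ℬ d φ hdeg g hg (x * y)).choose_spec, val_mul, val_mul, map_mul,
      (exists_val 𝒜 ℬ d φ hdeg g hg x).choose_spec, (exists_val 𝒜 ℬ d φ hdeg g hg y).choose_spec])
  map_zero' := val_injective _ (by
    rw [(exists_val 𝒜 ℬ d φ hdeg g hg 0).choose_spec, val_zero, val_zero, map_zero])
  map_add' x y := val_injective _ (by
    rw [(exists_val 𝒜 ℬ d φ hdeg g hg (x + y)).choose_spec, val_add, val_add, map_add,
      (exists_val 𝒜 ℬ d φ hdeg g hg x).choose_spec, (exists_val 𝒜 ℬ d φ hdeg g hg y).choose_spec])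

theorem theta_val (x : Away ℬ g) :
    (theta 𝒜 ℬ d φ hdeg g hg x).val = Localization.awayMap φ.toRingHom g x.val :=
  (exists_val 𝒜 ℬ d φ hdeg g hg x).choose_spec

theorem theta_compat :
    (algebraMap (Away 𝒜 (φ g)) (Localization.Away (φ g))).comp (theta 𝒜 ℬ d φ hdeg g hg) =
      (Localization.awayMap φ.toRingHom g).comp (algebraMap (Away ℬ g) (Localization.Away g)) :=
  RingHom.ext fun x => theta_val 𝒜 ℬ d φ hdeg g hg x

theorem theta_unique (θ : Away ℬ g →+* Away 𝒜 (φ g))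
    (hθ : (algebraMap (Away 𝒜 (φ g)) (Localization.Away (φ g))).comp θ =
      (Localization.awayMap φ.toRingHom g).comp (algebraMap (Away ℬ g) (Localization.Away g))) :
    θ = theta 𝒜 ℬ d φ hdeg g hg := by
  ext x
  have h1 := congrArg (fun ψ => ψ x) hθ
  simp only [RingHom.comp_apply, HomogeneousLocalization.algebraMap_apply] at h1
  rw [h1, theta_val]

theorem theta_mk (k : ℕ) (b : B) (hb : b ∈ ℬ (k • n)) (hφb : φ b ∈ 𝒜 (k • (n * d))) :
    theta 𝒜 ℬ d φ hdeg g hg (Away.mk ℬ hg k b hb) =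
      Away.mk 𝒜 (φ_mem 𝒜 ℬ d φ hdeg hg) k (φ b) hφb := by
  apply val_injective
  rw [theta_val, Away.val_mk, Away.val_mk]
  simp only [Localization.awayMap, IsLocalization.Away.map, Localization.mk_eq_mk',
    IsLocalization.map_mk']
  congr 1
  apply Subtype.ext
  exact map_pow φ g k

theorem theta_injective (hφ : Function.Injective φ) :
    Function.Injective (theta 𝒜 ℬ d φ hdeg g hg) := by
  intro x y hxy
  apply val_injective
  have hinj : Function.Injective (Localization.awayMap φ.toRingHom g) := by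
    rw [Localization.awayMap_injective_iff]
    intro a ha
    refine ⟨0, ?_⟩
    have : a = 0 := hφ (by rw [map_zero]; exact ha)
    rw [this, mul_zero]
  apply hinj
  rw [← theta_val 𝒜 ℬ d φ hdeg g hg, ← theta_val 𝒜 ℬ d φ hdeg g hg, hxy]

theorem theta_surjective : Function.Surjective (theta 𝒜 ℬ d φ hdeg g hg) := by
  intro y
  obtain ⟨k, a, ha, rfl⟩ := Away.mk_surjective 𝒜 (φ_mem 𝒜 ℬ d φ hdeg hg) y
  have ha' : a ∈ 𝒜 ((k • n) * d) := by
    rwa [show k • n * d = k • (n * d) by simp [mul_assoc]]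
  obtain ⟨b, hb, rfl⟩ := exists_of_mem 𝒜 ℬ d φ hdeg ha'
  exact ⟨Away.mk ℬ hg k b hb, theta_mk 𝒜 ℬ d φ hdeg g hg k b hb ha⟩

end Theta

section Nat

variable {n n' : ℕ} (g g' : B) (hg : g ∈ ℬ n) (hg' : g' ∈ ℬ n') (x : B) (hx : x = g * g')
  (hx' : φ x = φ g * φ g')

theorem theta_awayMap :
    (awayMap 𝒜 (φ_mem 𝒜 ℬ d φ hdeg hg') hx').comp (theta 𝒜 ℬ d φ hdeg g hg) =
      (theta 𝒜 ℬ d φ hdeg x (hx ▸ SetLike.mul_mem_graded hg hg')).comp (awayMap ℬ hg' hx) := by
  ext a
  simp only [RingHom.comp_apply]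
  rw [val_awayMap, theta_val, theta_val, val_awayMap]
  simp only [← RingHom.comp_apply]
  congr 1
  apply IsLocalization.ringHom_ext (M := Submonoid.powers g)
  ext b
  simp [Localization.awayMap, IsLocalization.Away.map, Localization.awayLift,
    IsLocalization.Away.lift]

end Nat

end Groth.Agent.Lib.Helper81.Veronese
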